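import Cfsg.Agent.BGSigma.KappaPartner

/-!
BG 14.7: the statements on partners.
-/

set_option autoImplicit false

namespace Cfsg.Agent.BGSigma

open Cfsg Subgroup
open scoped commutatorElement Pointwise

universe u

variable {G : Type u} [Group G] [Finite G]

local notation:max "K⋆[" M ", " K "]" => sigmaCore M ⊓ centralizer (SetLike.coe K)
/-- `Z` without `K ∪ K*`. -/
abbrev zhat (M K : Subgroup G) : Set G :=
  ((K ⊔ (sigmaCore M ⊓ centralizer (K : Set G)) : Subgroup G) : Set G) \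
    ((K : Set G) ∪ ↑(sigmaCore M ⊓ centralizer (K : Set G)))

local notation:max "Ẑ[" M ", " K "]" => zhat M K

theorem hat_mem_iff {M K : Subgroup G} {z : G} :
    z ∈ Ẑ[M, K] ↔ z ∈ K ⊔ K⋆[M, K] ∧ z ∉ K ∧ z ∉ K⋆[M, K] := by
  simp [zhat, Set.mem_sdiff, Set.mem_union, not_or]

variable (hG : IsMinSimpleOddOrder G)
include hG

/-- `S1351`. -/
theorem kappa_hall_cyclic_stmt (M : Subgroup G) (hM : IsCoatom M) :
    (∃ K : Subgroup G, IsPiHallOf (kappa M) K M) ∧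
      ∀ K : Subgroup G, IsPiHallOf (kappa M) K M → IsCyclic K := by
  refine ⟨exists_kappa_hall hG hM, fun K hK => ?_⟩
  by_cases hK1 : K = ⊥
  · subst hK1; infer_instance
  · obtain ⟨L, p⟩ := exists_partners hG hM hK hK1
    exact p.cycK

/-- A given partner is the partner. -/
theorem partners_of {M K L : Subgroup G} (hM : IsCoatom M) (hK : IsPiHallOf (kappa M) K M)
    (hK1 : K ≠ ⊥) (hL : IsCoatom L) (hKst : K = K⋆[L, K⋆[M, K]]) : Partners M K L := by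
  obtain ⟨N, p⟩ := exists_partners hG hM hK hK1
  exact (p.unique hG hL hKst).symm ▸ p

/-- `S1366`. -/
theorem partner_unique_stmt (M : Subgroup G) (hM : IsCoatom M) (K : Subgroup G)
    (hK : IsPiHallOf (kappa M) K M) (hK1 : K ≠ ⊥) :
    ∃! L : Subgroup G, IsCoatom L ∧ K = K⋆[L, K⋆[M, K]] ∧ IsPiHallOf (kappa L) (K⋆[M, K]) L := by
  obtain ⟨L, p⟩ := exists_partners hG hM hK hK1
  exact ⟨L, ⟨p.hL, p.eq, p.hallY⟩, fun N h => p.unique hG h.1 h.2.1⟩

variable {M K L : Subgroup G} (p : Partners M K L)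
include p

/-- `S1367`. -/
theorem Partners.lines :
    (∀ X : Subgroup G, X ≤ K⋆[M, K] → (Nat.card X).Prime →
        centralizer (X : Set G) ≤ M ∧
          ∀ H : Subgroup G, IsCoatom H → centralizer (X : Set G) ≤ H → H = M) ∧
      (∀ X : Subgroup G, X ≤ K → (Nat.card X).Prime →
        centralizer (X : Set G) ≤ L ∧
          ∀ H : Subgroup G, IsCoatom H → centralizer (X : Set G) ≤ H → H = L) :=
  ⟨fun _ hX hXp => (p.symm hG).line_uniq hG hX hXp, fun _ hX hXp => p.line_uniq hG hX hXp⟩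

theorem Partners.coprime : (Nat.card K).Coprime (Nat.card ↥(K⋆[M, K])) := by
  obtain ⟨E, U, s⟩ := exists_kappaShape_of_hall hG p.hM p.hallK p.ne_bot
  exact s.coprime_star hG p.hM

theorem Partners.cyclic_sup : IsCyclic ↥(K ⊔ K⋆[M, K]) := by
  haveI := p.cycK
  haveI := p.cycY
  exact isCyclic_sup_of_coprime inf_le_right (p.coprime hG)

theorem Partners.ti {t g : G} (ht : t ∈ Ẑ[M, K]) (hg : g * t * g⁻¹ ∈ K ⊔ K⋆[M, K]) :
    g ∈ K ⊔ K⋆[M, K] := by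
  obtain ⟨E, U, s⟩ := exists_kappaShape_of_hall hG p.hM p.hallK p.ne_bot
  rw [hat_mem_iff] at ht
  exact s.ti hG p.hM p.ne_bot ht.1 ht.2.1 ht.2.2 hg

/-- An element of `Ẑ` is a product of nontrivial parts, and powers of it give them. -/
theorem Partners.exists_mul {t : G} (ht : t ∈ Ẑ[M, K]) :
    ∃ k ∈ K, ∃ w ∈ K⋆[M, K], t = k * w ∧ k ≠ 1 ∧ w ≠ 1 ∧ w ∈ zpowers t ∧ k ∈ zpowers t := by
  obtain ⟨E, U, s⟩ := exists_kappaShape_of_hall hG p.hM p.hallK p.ne_bot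
  rw [hat_mem_iff] at ht
  obtain ⟨k, hk, w, hw, rfl, hc⟩ := exists_star_mul ht.1
  obtain ⟨a, b, ha, hb, hab, haσ, hbσ⟩ := exists_parts (sigma M) (k * w)
  have hcab : Commute a b := by
    obtain ⟨i, rfl⟩ := ha
    obtain ⟨j, rfl⟩ := hb
    exact Commute.zpow_zpow_self _ i j
  obtain ⟨e1, e2⟩ := part_unique (π := sigma M) (x := a) (r := b) (y := w) (s := k)
    (by rw [← hab, hc.eq]) hcab hc.symm haσ (fun q h1 h2 => mem_sigma_of_star hw h1 h2) hbσ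
    (fun q h1 h2 => s.not_mem_sigma hG p.hM hk h1 h2)
  refine ⟨k, hk, w, hw, rfl, fun h0 => ht.2.2 (by rw [h0, one_mul]; exact hw),
    fun h0 => ht.2.1 (by rw [h0, mul_one]; exact hk), e1 ▸ ha, e2 ▸ hb⟩

theorem Partners.one_lt : 1 < Nat.card K ∧ 1 < Nat.card ↥(K⋆[M, K]) :=
  ⟨(Subgroup.one_lt_card_iff_ne_bot _).2 p.ne_bot, (Subgroup.one_lt_card_iff_ne_bot _).2 p.ne_bot'⟩

/-- The number of elements of `Ẑ`. -/
theorem Partners.card_hat :
    Nat.card ↥(Ẑ[M, K]) = (Nat.card K - 1) * (Nat.card ↥(K⋆[M, K]) - 1) := by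
  obtain ⟨E, U, s⟩ := exists_kappaShape_of_hall hG p.hM p.hallK p.ne_bot
  have hinf := s.inf_star hG p.hM
  have hc1 : ∀ H : Subgroup G, Nat.card ↥((H : Set G) \ {1}) = Nat.card H - 1 := fun H => by
    rw [Nat.card_coe_set_eq, Set.ncard_sdiff_singleton_of_mem (one_mem _), ← Nat.card_coe_set_eq]
    rfl
  rw [← hc1, ← hc1, ← Nat.card_prod]
  symm
  refine Nat.card_eq_of_bijective
    (fun x : ↥((K : Set G) \ {1}) × ↥((K⋆[M, K] : Set G) \ {1}) =>
      (⟨(x.1 : G) * x.2, ?_⟩ : ↥(Ẑ[M, K]))) ⟨fun x y he => ?_, fun ⟨t, ht⟩ => ?_⟩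
  · obtain ⟨⟨a, ha, ha1⟩, ⟨b, hb, hb1⟩⟩ := x
    refine hat_mem_iff.2 ⟨mul_mem_sup ha hb, fun h0 => hb1 ?_, fun h0 => ha1 ?_⟩
    · exact Subgroup.mem_bot.1 (hinf ▸ ⟨by simpa using K.mul_mem (K.inv_mem ha) h0, hb⟩)
    · exact Subgroup.mem_bot.1 (hinf ▸ ⟨ha, by
        have h1 := (K⋆[M, K]).mul_mem h0 ((K⋆[M, K]).inv_mem hb)
        rwa [mul_inv_cancel_right] at h1⟩)
  · obtain ⟨h1, h2⟩ := eq_of_mul_eq_mul_of_inf hinf x.1.2.1 y.1.2.1 x.2.2.1 y.2.2.1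
      (congrArg Subtype.val he)
    exact Prod.ext (Subtype.ext h1) (Subtype.ext h2)
  · obtain ⟨k, hk, w, hw, rfl, hk1, hw1, -, -⟩ := p.exists_mul hG ht
    exact ⟨(⟨k, hk, hk1⟩, ⟨w, hw, hw1⟩), rfl⟩

/-- The number of elements of `⋃ Ẑ^g`. -/
theorem Partners.card_saturation :
    Nat.card K * Nat.card ↥(K⋆[M, K]) *
        Set.ncard {a : G | ∃ g : G, ∃ z ∈ Ẑ[M, K], a = g * z * g⁻¹} =
      (Nat.card K * Nat.card ↥(K⋆[M, K]) - Nat.card K - Nat.card ↥(K⋆[M, K]) + 1) * Nat.card G := by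
  obtain ⟨E, U, s⟩ := exists_kappaShape_of_hall hG p.hM p.hallK p.ne_bot
  haveI := p.cyclic_sup hG
  set Z := K ⊔ K⋆[M, K] with hZ
  have hcard : Nat.card ((G ⧸ Z) × ↥(Ẑ[M, K])) =
      Nat.card ↥{a : G | ∃ g : G, ∃ z ∈ Ẑ[M, K], a = g * z * g⁻¹} := by
    refine Nat.card_eq_of_bijective (fun x => ⟨x.1.out * x.2 * x.1.out⁻¹, x.1.out, x.2, x.2.2, rfl⟩)
      ⟨fun x y he => ?_, fun w => ?_⟩
    · have he' : x.1.out * (x.2 : G) * x.1.out⁻¹ = y.1.out * (y.2 : G) * y.1.out⁻¹ :=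
        congrArg Subtype.val he
      have hmem : y.1.out⁻¹ * x.1.out ∈ Z := p.ti hG x.2.2 (by
        rw [show y.1.out⁻¹ * x.1.out * x.2 * (y.1.out⁻¹ * x.1.out)⁻¹ =
          y.1.out⁻¹ * (x.1.out * x.2 * x.1.out⁻¹) * y.1.out by group, he']
        simpa [mul_assoc] using (hat_mem_iff.1 y.2.2).1)
      have hq : x.1 = y.1 := by
        rw [← x.1.out_eq, ← y.1.out_eq]
        exact (QuotientGroup.eq.2 hmem).symm
      rw [hq] at he'
      exact Prod.ext hq (Subtype.ext (mul_left_cancel (mul_right_cancel he')))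
    · obtain ⟨a, g, z, hz, rfl⟩ := w
      obtain ⟨⟨c, hc⟩, hout⟩ := QuotientGroup.mk_out_eq_mul Z g
      refine ⟨(QuotientGroup.mk g, ⟨z, hz⟩), Subtype.ext ?_⟩
      show (QuotientGroup.mk g : G ⧸ Z).out * z * (QuotientGroup.mk g : G ⧸ Z).out⁻¹ = g * z * g⁻¹
      rw [hout]
      have hcz : c * z = z * c :=
        congrArg Subtype.val (mul_comm' (⟨c, hc⟩ : Z) ⟨z, (hat_mem_iff.1 hz).1⟩)
      calc g * c * z * (g * c)⁻¹ = g * (c * z) * c⁻¹ * g⁻¹ := by group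
        _ = g * z * g⁻¹ := by rw [hcz]; group
  rw [Nat.card_prod, Nat.card_coe_set_eq {a : G | ∃ g : G, ∃ z ∈ Ẑ[M, K], a = g * z * g⁻¹}] at hcard
  obtain ⟨hk, hy⟩ := p.one_lt hG
  have e : Nat.card K * Nat.card ↥(K⋆[M, K]) - Nat.card K - Nat.card ↥(K⋆[M, K]) + 1 =
      (Nat.card K - 1) * (Nat.card ↥(K⋆[M, K]) - 1) := by
    generalize Nat.card K = k, Nat.card ↥(K⋆[M, K]) = y at hk hy ⊢
    obtain ⟨a, rfl⟩ : ∃ a, k = a + 2 := ⟨k - 2, by omega⟩
    obtain ⟨b, rfl⟩ : ∃ b, y = b + 2 := ⟨y - 2, by omega⟩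
    have e1 : (a + 2) * (b + 2) = a * b + 2 * a + 2 * b + 4 := by ring
    have e2 : (a + 2 - 1) * (b + 2 - 1) = a * b + a + b + 1 := by
      rw [show a + 2 - 1 = a + 1 by omega, show b + 2 - 1 = b + 1 by omega]; ring
    rw [e1, e2]
    omega
  rw [← hcard, e, ← p.card_hat hG, ← s.card_sup_star hG p.hM, ← Z.card_mul_index]
  show Nat.card Z * (Z.index * Nat.card ↥(Ẑ[M, K])) = Nat.card ↥(Ẑ[M, K]) * (Nat.card Z * Z.index)
  ring

/-- More than half the elements of `G` are conjugate into `Ẑ`. -/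
theorem Partners.half_lt :
    Nat.card G < 2 * Set.ncard {a : G | ∃ g : G, ∃ z ∈ Ẑ[M, K], a = g * z * g⁻¹} := by
  have h := p.card_saturation hG
  obtain ⟨hk, hy⟩ := p.one_lt hG
  have hko := odd_card_subgroup hG K
  have hyo := odd_card_subgroup hG (K⋆[M, K])
  have hco := p.coprime hG
  have hg := Nat.card_pos (α := G)
  generalize Set.ncard {a : G | ∃ g : G, ∃ z ∈ Ẑ[M, K], a = g * z * g⁻¹} = S at *
  generalize Nat.card K = k, Nat.card ↥(K⋆[M, K]) = y at *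
  obtain ⟨a, rfl⟩ := hko
  obtain ⟨b, rfl⟩ := hyo
  have hne : a ≠ b := fun h0 => by
    subst h0
    rw [Nat.coprime_self] at hco
    omega
  have ha : 1 ≤ a := by omega
  have hb : 1 ≤ b := by omega
  have h1 : (2 * a + 1) * (2 * b + 1) < 2 *
      ((2 * a + 1) * (2 * b + 1) - (2 * a + 1) - (2 * b + 1) + 1) := by
    have e : (2 * a + 1) * (2 * b + 1) = 4 * a * b + 2 * a + 2 * b + 1 := by ring
    rw [e, show 4 * a * b + 2 * a + 2 * b + 1 - (2 * a + 1) - (2 * b + 1) + 1 =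
      4 * a * b by
        have : 1 ≤ 4 * a * b := by nlinarith
        omega]
    rcases Nat.lt_or_gt_of_ne hne with h2 | h2 <;> nlinarith
  have h2 := (Nat.mul_lt_mul_right hg).2 h1
  rw [mul_assoc 2, ← h] at h2
  exact Nat.lt_of_mul_lt_mul_left
    (a := (2 * a + 1) * (2 * b + 1)) (by linarith)

/-- `S1434`. -/
theorem Partners.structure_stmt :
    kappa M = tau1 M ∧ IsPiHallOf (sigma M) (K⋆[M, K]) L ∧
      (∀ x ∈ K, x ≠ 1 → ∀ y ∈ K⋆[M, K], y ≠ 1 →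
        M ⊓ centralizer ({x} : Set G) = K ⊔ K⋆[M, K] ∧
        L ⊓ centralizer ({y} : Set G) = K ⊔ K⋆[M, K] ∧
        centralizer ({x * y} : Set G) = K ⊔ K⋆[M, K]) ∧
      (∀ g : G, g ∉ M → ∀ z ∈ Ẑ[M, K], z ∉ M.map (MulAut.conj g).toMonoidHom) := by
  obtain ⟨E, U, s⟩ := exists_kappaShape_of_hall hG p.hM p.hallK p.ne_bot
  obtain ⟨E', U', s'⟩ := exists_kappaShape_of_hall hG p.hL p.hallY p.ne_bot'
  refine ⟨p.tauM, ⟨p.hallY.1,
    fun q hq hd => isPiSub_sigmaCore M q hq (hd.trans (card_dvd_of_le inf_le_left)),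
    fun q hq hqM hd => p.hallY.2.2 q hq (p.kappa_of_sigma hG hq
      (hd.trans (relIndex_dvd_card _ _)) hqM) hd⟩, fun x hx hx1 y hy hy1 => ?_, fun g hg z hz hzM => ?_⟩
  · haveI := p.cycK
    haveI := p.cycY
    refine ⟨s.inf_centralizer inferInstance hx hx1, ?_, ?_⟩
    · rw [s'.inf_centralizer inferInstance hy hy1, ← p.eq, sup_comm]
    · have hmem : x * y ∈ Ẑ[M, K] := by
        have hinf := s.inf_star hG p.hM
        refine hat_mem_iff.2 ⟨mul_mem_sup hx hy, fun h0 => hy1 ?_, fun h0 => hx1 ?_⟩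
        · exact Subgroup.mem_bot.1 (hinf ▸ ⟨by simpa using K.mul_mem (K.inv_mem hx) h0, hy⟩)
        · exact Subgroup.mem_bot.1 (hinf ▸ ⟨hx, by
            have h1 := (K⋆[M, K]).mul_mem h0 ((K⋆[M, K]).inv_mem hy)
            rwa [mul_inv_cancel_right] at h1⟩)
      refine le_antisymm (fun c hc => p.ti hG hmem ?_) fun c hc => ?_
      · rw [show c * (x * y) * c⁻¹ = x * y from
          mul_inv_eq_iff_eq_mul.2 (mem_centralizer_singleton_iff.1 hc)]
        exact mul_mem_sup hx hy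
      · haveI := p.cyclic_sup hG
        exact mem_centralizer_singleton_iff.2
          (congrArg Subtype.val (mul_comm' (⟨c, hc⟩ : ↥(K ⊔ K⋆[M, K])) ⟨x * y, mul_mem_sup hx hy⟩))
  · obtain ⟨k, -, w, hw, -, -, hw1, hwz, -⟩ := p.exists_mul hG hz
    obtain ⟨l, X, hl, hX, hXc⟩ := exists_line_of_ne_one hw1
    haveI := Fact.mk hl
    exact hg (s.mem_of_star_meet hG p.hM p.ne_bot (hX.trans (zpowers_le.2 hw)) hXc
      (hX.trans (zpowers_le.2 (zpowers_le.2 hzM hwz))))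

/-- The other maximal subgroups with nonempty `κ` are conjugate to `M` or to `L`. -/
theorem Partners.two_classes {H : Subgroup G} (hH : IsCoatom H) (hκ : (kappa H).Nonempty) :
    ∃ g : G, H = M.map (MulAut.conj g).toMonoidHom ∨ H = L.map (MulAut.conj g).toMonoidHom := by
  obtain ⟨K', hK'⟩ := exists_kappa_hall hG hH
  have hK'1 : K' ≠ ⊥ := fun h0 => hκ.ne_empty ((kappa_hall_bot_iff hG hK').1 h0)
  obtain ⟨L', p'⟩ := exists_partners hG hH hK' hK'1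
  set S := {a : G | ∃ g : G, ∃ z ∈ Ẑ[M, K], a = g * z * g⁻¹}
  set S' := {a : G | ∃ g : G, ∃ z ∈ Ẑ[H, K'], a = g * z * g⁻¹}
  obtain ⟨_, ⟨g, z, hz, rfl⟩, g', z', hz', he⟩ : (S ∩ S').Nonempty := by
    by_contra h0
    rw [Set.not_nonempty_iff_eq_empty] at h0
    have h1 : Nat.card G < 2 * S.ncard := p.half_lt hG
    have h2 : Nat.card G < 2 * S'.ncard := p'.half_lt hG
    have h3 := Set.ncard_union_add_ncard_inter S S'
    rw [h0, Set.ncard_empty, add_zero] at h3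
    have h4 : (S ∪ S').ncard ≤ Nat.card G := by
      rw [← Set.ncard_univ]; exact Set.ncard_le_ncard (Set.subset_univ _)
    omega
  obtain ⟨k, -, w, hw, -, -, hw1, hwz, -⟩ := p'.exists_mul hG hz'
  obtain ⟨u, hu, hud⟩ := Nat.exists_prime_and_dvd (fun h0 => hw1 (orderOf_eq_one_iff.1 h0))
  have hoz : orderOf z' = orderOf z := by
    rw [← MulEquiv.orderOf_eq (MulAut.conj g) z, ← MulEquiv.orderOf_eq (MulAut.conj g') z']
    exact (congrArg orderOf he).symm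
  obtain ⟨E, U, s⟩ := exists_kappaShape_of_hall hG p.hM p.hallK p.ne_bot
  have hd : u ∣ Nat.card K * Nat.card ↥(K⋆[M, K]) := by
    rw [← s.card_sup_star hG p.hM]
    refine (hud.trans ?_).trans (Subgroup.orderOf_dvd_natCard _ (hat_mem_iff.1 hz).1)
    rw [← hoz]
    obtain ⟨i, rfl⟩ := mem_zpowers_iff.1 hwz
    exact orderOf_dvd_of_mem_zpowers ⟨i, rfl⟩
  have huH : u ∈ sigma H := mem_sigma_of_star hw hu hud
  rcases hu.dvd_mul.1 hd with h1 | h1
  · obtain ⟨c, hc⟩ := conj_of_sigma hG (localInputs hG) (twelveInputs hG) p.hL hH (p.sigmaL u hu h1) huH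
    exact ⟨c, Or.inr hc⟩
  · obtain ⟨c, hc⟩ := conj_of_sigma hG (localInputs hG) (twelveInputs hG) p.hM hH
      (isPiSub_sigmaCore M u hu (h1.trans (card_dvd_of_le inf_le_left))) huH
    exact ⟨c, Or.inl hc⟩

omit p

/-- `U = 1` makes every prime outside `σ(M)` a `κ`-prime. -/
theorem kappa_of_decomposition_bot {M K : Subgroup G} (hM : IsCoatom M)
    (hKU : IsSigmaDecomposition M K (⊥ : Subgroup G)) :
    ∀ q : ℕ, q.Prime → q ∣ Nat.card M → q ∉ sigma M → q ∈ kappa M := by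
  intro q hq hd hqs
  by_contra hqk
  refine (decomposition_hallU hG hM hKU).2.2 q hq ⟨hq, hqk, hqs⟩ ?_
  rwa [relIndex_bot_left]

/-- `S1369`. -/
theorem classes_stmt {M K U L : Subgroup G} (hM : IsCoatom M) (hKU : IsSigmaDecomposition M K U)
    (p : Partners M K L) :
    (U ≠ ⊥ ∨ ∀ Ustar : Subgroup G, IsSigmaDecomposition L (K⋆[M, K]) Ustar → Ustar ≠ ⊥) ∧
      ∀ H : Subgroup G, IsCoatom H → (kappa H).Nonempty →
        ∃ g : G, H = M.map (MulAut.conj g).toMonoidHom ∨ H = L.map (MulAut.conj g).toMonoidHom := by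
  refine ⟨?_, fun H hH hκ => p.two_classes hG hH hκ⟩
  rcases p.nontriv with h | h
  · left
    rintro rfl
    exact h (kappa_of_decomposition_bot hG hM hKU)
  · right
    rintro _ hKU' rfl
    exact h (kappa_of_decomposition_bot hG p.hL hKU')

/-- `S1370`. -/
theorem zhat_ti_stmt (M : Subgroup G) (hM : IsCoatom M) (K : Subgroup G)
    (hK : IsPiHallOf (kappa M) K M) (hK1 : K ≠ ⊥) :
    IsTISubset (Ẑ[M, K]) ∧ Subgroup.normalizer (Ẑ[M, K]) = K ⊔ K⋆[M, K] := by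
  obtain ⟨L, p⟩ := exists_partners hG hM hK hK1
  haveI := p.cyclic_sup hG
  have hle : K ⊔ K⋆[M, K] ≤ Subgroup.normalizer (Ẑ[M, K]) := by
    intro c hc
    rw [Subgroup.mem_set_normalizer_iff]
    intro x
    have key : ∀ a ∈ K ⊔ K⋆[M, K], c * a * c⁻¹ = a := fun a ha => mul_inv_eq_iff_eq_mul.2
      (congrArg Subtype.val (mul_comm' (⟨c, hc⟩ : ↥(K ⊔ K⋆[M, K])) ⟨a, ha⟩))
    constructor
    · intro hx
      rwa [key x (hat_mem_iff.1 hx).1]
    · intro hx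
      have h1 := key (c * x * c⁻¹) (hat_mem_iff.1 hx).1
      have h2 : c * x * c⁻¹ = x := mul_left_cancel (mul_right_cancel h1)
      rwa [h2] at hx
  refine ⟨fun g hg x hx hgx => absurd (hle (p.ti hG hx (hat_mem_iff.1 hgx).1)) hg,
    le_antisymm (fun g hg => ?_) hle⟩
  obtain ⟨x, hx, hx1⟩ := (K.bot_or_exists_ne_one).resolve_left hK1
  obtain ⟨y, hy, hy1⟩ := (bot_or_exists_ne_one _).resolve_left p.ne_bot'
  obtain ⟨E, U, s⟩ := exists_kappaShape_of_hall hG p.hM p.hallK p.ne_bot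
  have hinf := s.inf_star hG p.hM
  have hmem : x * y ∈ Ẑ[M, K] := hat_mem_iff.2 ⟨mul_mem_sup hx hy,
    fun h0 => hy1 (Subgroup.mem_bot.1 (hinf ▸ ⟨by simpa using K.mul_mem (K.inv_mem hx) h0, hy⟩)),
    fun h0 => hx1 (Subgroup.mem_bot.1 (hinf ▸ ⟨hx, by
      have h1 := (K⋆[M, K]).mul_mem h0 ((K⋆[M, K]).inv_mem hy)
      rwa [mul_inv_cancel_right] at h1⟩))⟩
  exact p.ti hG hmem (hat_mem_iff.1 ((Subgroup.mem_set_normalizer_iff.1 hg (x * y)).1 hmem)).1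

/-- `S1371`. -/
theorem zhat_conjugates_stmt (M : Subgroup G) (hM : IsCoatom M) (K U : Subgroup G)
    (hKU : IsSigmaDecomposition M K U) (hK1 : K ≠ ⊥) :
    {a : G | ∃ m ∈ M, ∃ z ∈ Ẑ[M, K], a = m * z * m⁻¹} = sigmaA0 M K \ sigmaA M U ∧
      IsTISubset (sigmaA0 M K \ sigmaA M U) := by
  obtain ⟨L, p⟩ := exists_partners hG hM hKU.hall hK1
  obtain ⟨E, U', s⟩ := exists_kappaShape_of_hall hG hM hKU.hall hK1
  have hW := hall_kappa' hG hM hKU
  have hWn := (decomposition_stmt hG M hM K hKU.cyclic hKU.hall).2 U hKU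
  have hKprime : ∀ k ∈ K, ∀ q : ℕ, q.Prime → q ∣ orderOf k → q ∈ kappa M := fun k hk q hq hd =>
    hKU.hall.2.1 q hq (hd.trans (Subgroup.orderOf_dvd_natCard K hk))
  have heq : {a : G | ∃ m ∈ M, ∃ z ∈ Ẑ[M, K], a = m * z * m⁻¹} = sigmaA0 M K \ sigmaA M U := by
    ext a
    constructor
    · rintro ⟨m, hm, z, hz, rfl⟩
      obtain ⟨k, hk, w, hw, hzk, hk1, hw1, hwz, hkz⟩ := p.exists_mul hG hz
      have hzM : z ∈ M := sup_le hKU.hall.1 (inf_le_left.trans (sigmaCore_le M)) (hat_mem_iff.1 hz).1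
      have ho : orderOf (m * z * m⁻¹) = orderOf z := MulEquiv.orderOf_eq (MulAut.conj m) z
      refine ⟨⟨⟨M.mul_mem (M.mul_mem hm hzM) (M.inv_mem hm), m * w * m⁻¹,
        (mem_normalizer_iff.1 (le_normalizer_sigmaCore M hm) w).1 hw.1,
        fun h0 => hw1 (conj_eq_one_iff.1 h0), ?_⟩, ?_⟩, ?_⟩
      · obtain ⟨i, rfl⟩ := mem_zpowers_iff.1 hwz
        exact (((Commute.refl z).zpow_right i).map (MulAut.conj m)).eq
      · rintro ⟨k', hk', -, m', -, he⟩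
        obtain ⟨q, hq, hqd⟩ := Nat.exists_prime_and_dvd (fun h0 => hw1 (orderOf_eq_one_iff.1 h0))
        have h1 : q ∣ orderOf k' := by
          rw [← MulEquiv.orderOf_eq (MulAut.conj m') k']
          refine hqd.trans ?_
          rw [MulAut.conj_apply, ← he, ho]
          exact orderOf_dvd_of_mem_zpowers hwz
        exact s.not_mem_sigma hG hM hk' hq h1 (mem_sigma_of_star hw hq hqd)
      · rintro ⟨-, hmW⟩
        obtain ⟨q, hq, hqd⟩ := Nat.exists_prime_and_dvd (fun h0 => hk1 (orderOf_eq_one_iff.1 h0))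
        refine (hW.2.1 q hq ?_).2 (hKprime k hk q hq hqd)
        refine (hqd.trans (orderOf_dvd_of_mem_zpowers hkz)).trans ?_
        rw [← ho]
        exact Subgroup.orderOf_dvd_natCard _ hmW
    · rintro ⟨⟨⟨haM, y, hy, hy1, hay⟩, hnK⟩, hnA⟩
      have haW : a ∉ U ⊔ sigmaCore M := fun h0 => hnA ⟨⟨haM, y, hy, hy1, hay⟩, h0⟩
      obtain ⟨aσ, a', haσ, ha', hmul, hπ, hπ'⟩ := exists_parts (sigma M) a
      have haσM : aσ ∈ sigmaCore M := le_of_normal_hall (BGSummary.Loc.hall hG hM)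
        (le_normalizer_sigmaCore M) (zpowers_le.2 (zpowers_le.2 haM haσ))
        (fun q hq hd => hπ q hq (Nat.card_zpowers aσ ▸ hd)) (mem_zpowers aσ)
      have ha'M : a' ∈ M := zpowers_le.2 haM ha'
      have ha'1 : a' ≠ 1 := fun h0 => haW (mem_sup_right (by rw [hmul, h0, mul_one]; exact haσM))
      have ha'C : a' ∈ centralizer ({y} : Set G) := by
        obtain ⟨i, rfl⟩ := mem_zpowers_iff.1 ha'
        exact mem_centralizer_singleton_iff.2 (Commute.zpow_left (hay : Commute a y) i).eq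
      rcases dichotomy_stmt hG M hM y hy hy1 a' ⟨ha'M, ha'C⟩ ha'1 hπ' with ⟨hk, -⟩ | ⟨h2, -, -⟩
      swap
      · refine absurd (hmul ▸ (U ⊔ sigmaCore M).mul_mem (mem_sup_right haσM) ?_) haW
        refine le_of_normal_hall hW hWn (zpowers_le.2 ha'M) (fun q hq hd => ⟨hq, fun hqk => ?_⟩)
          (mem_zpowers a')
        exact (h2 q hq (Nat.card_zpowers a' ▸ hd)).2.2.2 ((mem_kappa_iff hG hM).1 hqk).2.2.1
      obtain ⟨m, hm, hmK⟩ := exists_conj_le_hall (coatom_isSolvable hG hM) hKU.hall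
        (zpowers_le.2 ha'M) fun q hq hd => hk q hq (Nat.card_zpowers a' ▸ hd)
      set k := m * a' * m⁻¹ with hkdef
      have hkK : k ∈ K := hmK ⟨a', mem_zpowers a', rfl⟩
      have hk1 : k ≠ 1 := fun h0 => ha'1 (conj_eq_one_iff.1 h0)
      set w := m * aσ * m⁻¹ with hwdef
      have hwY : w ∈ K⋆[M, K] := by
        rw [← s.prime k hkK hk1]
        refine ⟨(mem_normalizer_iff.1 (le_normalizer_sigmaCore M hm) aσ).1 haσM,
          mem_centralizer_singleton_iff.2 ?_⟩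
        obtain ⟨i, rfl⟩ := mem_zpowers_iff.1 haσ
        obtain ⟨j, rfl⟩ := mem_zpowers_iff.1 ha'
        exact ((Commute.zpow_zpow_self a i j).map (MulAut.conj m)).eq
      have hw1 : w ≠ 1 := fun h0 => hnK ⟨k, hkK, hk1, m⁻¹, M.inv_mem hm, by
        rw [hmul, conj_eq_one_iff.1 h0, hkdef]; group⟩
      have hinf := s.inf_star hG hM
      refine ⟨m⁻¹, M.inv_mem hm, k * w, hat_mem_iff.2 ⟨mul_mem_sup hkK hwY,
        fun h0 => hw1 (Subgroup.mem_bot.1 (hinf ▸ ⟨by simpa using K.mul_mem (K.inv_mem hkK) h0, hwY⟩)),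
        fun h0 => hk1 (Subgroup.mem_bot.1 (hinf ▸ ⟨hkK, by
          have h1 := (K⋆[M, K]).mul_mem h0 ((K⋆[M, K]).inv_mem hwY)
          rwa [mul_inv_cancel_right] at h1⟩))⟩, ?_⟩
      rw [(mem_centralizer_iff.1 hwY.2 k hkK : k * w = w * k), hkdef, hwdef, hmul]
      group
  refine ⟨heq, heq ▸ fun g hg x hx hgx => absurd ?_ hg⟩
  obtain ⟨m, hm, z, hz, rfl⟩ := hx
  obtain ⟨m', hm', z', hz', he⟩ := hgx
  have h1 : m'⁻¹ * g * m ∈ K ⊔ K⋆[M, K] := p.ti hG hz (by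
    rw [show m'⁻¹ * g * m * z * (m'⁻¹ * g * m)⁻¹ = m'⁻¹ * (g * (m * z * m⁻¹) * g⁻¹) * m' by group, he]
    simpa [mul_assoc] using (hat_mem_iff.1 hz').1)
  have h2 : g ∈ M := by
    have h3 := M.mul_mem (M.mul_mem hm' (sup_le hKU.hall.1 (inf_le_left.trans (sigmaCore_le M)) h1))
      (M.inv_mem hm)
    simpa [mul_assoc] using h3
  rw [Subgroup.mem_set_normalizer_iff]
  intro x
  constructor
  · rintro ⟨n, hn, v, hv, rfl⟩
    exact ⟨g * n, M.mul_mem h2 hn, v, hv, by group⟩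
  · rintro ⟨n, hn, v, hv, hxe⟩
    refine ⟨g⁻¹ * n, M.mul_mem (M.inv_mem h2) hn, v, hv, ?_⟩
    calc x = g⁻¹ * (g * x * g⁻¹) * g := by group
      _ = g⁻¹ * (n * v * n⁻¹) * g := by rw [hxe]
      _ = g⁻¹ * n * v * (g⁻¹ * n)⁻¹ := by group

end Cfsg.Agent.BGSigma
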