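import Cfsg.Agent.BGSigma.KappaShape
import Cfsg.Agent.Lib.Frobenius.Nilpotent

/-!
BG 14.1/14.2: the standard factorisation.
-/

set_option autoImplicit false

namespace Cfsg.Agent.BGSigma

open Cfsg Subgroup
open scoped commutatorElement Pointwise

universe u

variable {G : Type u} [Group G] [Finite G]

theorem eq_of_mul_eq_mul_of_inf {A B : Subgroup G} (hAB : A ⊓ B = ⊥) {a a' b b' : G}
    (ha : a ∈ A) (ha' : a' ∈ A) (hb : b ∈ B) (hb' : b' ∈ B) (h : a * b = a' * b') :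
    a = a' ∧ b = b' := by
  have h1 : a'⁻¹ * a = b' * b⁻¹ := by
    rw [eq_mul_inv_iff_mul_eq, mul_assoc, h, inv_mul_cancel_left]
  have h2 : a'⁻¹ * a ∈ A ⊓ B :=
    ⟨A.mul_mem (A.inv_mem ha') ha, h1 ▸ B.mul_mem hb' (B.inv_mem hb)⟩
  rw [hAB, Subgroup.mem_bot] at h2
  obtain rfl : a' = a := inv_mul_eq_one.1 h2
  exact ⟨rfl, mul_left_cancel h⟩

/-- The order of a factorised subgroup. -/
theorem card_mul_of_complIn {A B M : Subgroup G} (h : IsComplIn A B M) :
    Nat.card A * Nat.card B = Nat.card M := by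
  rw [← Nat.card_prod]
  refine Nat.card_congr (Equiv.ofBijective
    (fun x : A × B => (⟨x.1 * x.2, M.mul_mem (h.1 x.1.2) (h.2.1 x.2.2)⟩ : M)) ⟨?_, ?_⟩)
  · rintro ⟨a, b⟩ ⟨a', b'⟩ he
    obtain ⟨h1, h2⟩ := eq_of_mul_eq_mul_of_inf h.2.2.1 a.2 a'.2 b.2 b'.2 (congrArg Subtype.val he)
    exact Prod.ext (Subtype.ext h1) (Subtype.ext h2)
  · rintro ⟨m, hm⟩
    obtain ⟨a, ha, b, hb, rfl⟩ := h.2.2.2 m hm
    exact ⟨(⟨a, ha⟩, ⟨b, hb⟩), rfl⟩

theorem centralizer_le_of_line {x : G} {X : Subgroup G} (hX : X ≤ zpowers x) :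
    centralizer ({x} : Set G) ≤ centralizer (X : Set G) :=
  BGTwelve.centralizer_zpowers_eq x ▸ centralizer_anti hX

variable (hG : IsMinSimpleOddOrder G)
include hG

theorem exists_kappa_hall {M : Subgroup G} (hM : IsCoatom M) :
    ∃ K : Subgroup G, IsPiHallOf (kappa M) K M := by
  haveI := coatom_isSolvable hG hM
  obtain ⟨H, hH⟩ := Solvable.exists_isPiHall (G := M) (kappa M)
  exact ⟨_, Coprime.isPiHallOf_map_subtype hH⟩

theorem kappa_hall_bot_iff {M K : Subgroup G} (hK : IsPiHallOf (kappa M) K M) :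
    K = ⊥ ↔ kappa M = ∅ := by
  constructor
  · rintro rfl
    refine Set.eq_empty_iff_forall_notMem.2 fun l hl => ?_
    have := hK.2.2 l hl.1 hl
    rw [relIndex_bot_left] at this
    exact this hl.2.1
  · intro h0
    refine eq_bot_of_card_eq _ (Nat.eq_one_iff_not_exists_prime_dvd.2 fun l hl hd => ?_)
    have := hK.2.1 l hl hd
    rw [h0] at this
    exact this

omit hG in
theorem KappaShape.inf_eq_bot {M E K U : Subgroup G} (s : KappaShape M E K U) : U ⊓ K = ⊥ := by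
  refine (Subgroup.eq_bot_iff_forall _).2 fun x hx => by_contra fun h1 => ?_
  exact h1 (Subgroup.mem_bot.1 (s.fpf x hx.2 h1 ▸ ⟨hx.1, mem_centralizer_singleton_iff.2 rfl⟩))

omit hG in
theorem KappaShape.isComplIn {M E K U : Subgroup G} (s : KappaShape M E K U) :
    IsComplIn U (K ⊔ sigmaCore M) M := by
  have hn : K ≤ normalizer (sigmaCore M : Set G) :=
    (s.le_E.trans s.compl.1).trans (le_normalizer_sigmaCore M)
  refine ⟨s.hallU.1, sup_le s.hallK.1 (sigmaCore_le M), ?_, fun m hm => ?_⟩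
  · refine (Subgroup.eq_bot_iff_forall _).2 fun u hu => ?_
    obtain ⟨hu1, hu2⟩ := hu
    rw [sup_comm] at hu2
    obtain ⟨x, hx, k, hk, rfl⟩ := Coprime.exists_mul_of_mem_sup hn hu2
    have hxE : x ∈ E := by
      have := E.mul_mem (s.U_le hu1) (E.inv_mem (s.le_E hk))
      rwa [mul_inv_cancel_right] at this
    have hx1 : x = 1 := Subgroup.mem_bot.1 (s.compl.2.2.1 ▸ ⟨hxE, hx⟩)
    rw [hx1, one_mul] at hu1 ⊢
    exact Subgroup.mem_bot.1 (s.inf_eq_bot ▸ ⟨hu1, hk⟩)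
  · obtain ⟨e, he, x, hx, rfl⟩ := s.compl.2.2.2 m hm
    obtain ⟨u, hu, k, hk, rfl⟩ := s.decomp e he
    exact ⟨u, hu, k * x, mul_mem_sup hk hx, mul_assoc _ _ _⟩

theorem exists_decomposition {M K : Subgroup G} (hM : IsCoatom M) (hKc : IsCyclic K)
    (hK : IsPiHallOf (kappa M) K M) : ∃ U : Subgroup G, IsSigmaDecomposition M K U := by
  by_cases hK1 : K = ⊥
  · obtain ⟨E, hE, -⟩ := exists_compl_ge hG hM (bot_le : (⊥ : Subgroup G) ≤ M)
      (fun l hl hd => absurd (Nat.dvd_one.1 (card_bot (G := G) ▸ hd)) hl.ne_one)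
    subst hK1
    exact ⟨E, hKc, hK, by rw [bot_sup_eq]; exact hE, bot_le⟩
  · obtain ⟨E, U, s⟩ := exists_kappaShape_of_hall hG hM hK hK1
    exact ⟨U, hKc, hK, s.isComplIn, s.le_E.trans s.norm⟩

theorem decomposition_hallU {M K U : Subgroup G} (hM : IsCoatom M)
    (hKU : IsSigmaDecomposition M K U) :
    IsPiHallOf {q | q.Prime ∧ q ∉ kappa M ∧ q ∉ sigma M} U M := by
  obtain ⟨-, hK, hc, -⟩ := hKU
  obtain ⟨hS, -, -⟩ :=
    sigmaCore_hall hG (localInputs hG).uniq smallRankFrattini fittingRankTwoDerived hM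
  have hcard := card_mul_of_complIn hc
  have h1 : (K ⊔ sigmaCore M).relIndex M = Nat.card U := by
    refine Nat.eq_of_mul_eq_mul_right (Nat.card_pos (α := ↥(K ⊔ sigmaCore M))) ?_
    rw [relIndex_mul_card hc.2.1, hcard]
  have h2 : U.relIndex M = Nat.card ↥(K ⊔ sigmaCore M) := by
    refine Nat.eq_of_mul_eq_mul_right (Nat.card_pos (α := U)) ?_
    rw [relIndex_mul_card hc.1, ← hcard, mul_comm]
  refine ⟨hc.1, fun l hl hd => ⟨hl, fun hk => ?_, fun hs => ?_⟩, fun l hl hlπ hd => ?_⟩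
  · exact hK.2.2 l hl hk ((h1 ▸ hd).trans ⟨_, (relIndex_mul_relIndex K _ M le_sup_left hc.2.1).symm.trans
      (mul_comm _ _)⟩)
  · exact hS.2.2 l hl hs ((h1 ▸ hd).trans ⟨_,
      (relIndex_mul_relIndex (sigmaCore M) _ M le_sup_right hc.2.1).symm.trans (mul_comm _ _)⟩)
  · rw [h2, sup_comm] at hd
    rcases prime_dvd_sup (hK.1.trans (le_normalizer_sigmaCore M)) hl hd with h3 | h3
    · exact hlπ.2.2 (isPiSub_sigmaCore M l hl h3)
    · exact hlπ.2.1 (hK.2.1 l hl h3)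

/-- `U M_σ` is normal in `M` for every factorisation. -/
theorem le_normalizer_sup_sigma {M K U : Subgroup G} (hM : IsCoatom M)
    (hKU : IsSigmaDecomposition M K U) :
    M ≤ normalizer ((U ⊔ sigmaCore M : Subgroup G) : Set G) := by
  have hH := decomposition_hallU hG hM hKU
  obtain ⟨E, U₀, hEU, hU₀, hUn, hc⟩ : ∃ E U₀ : Subgroup G, IsComplIn E (sigmaCore M) M ∧
      U₀ ≤ E ∧ E ≤ normalizer (U₀ : Set G) ∧
      IsPiHallOf {q | q.Prime ∧ q ∉ kappa M ∧ q ∉ sigma M} U₀ M := by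
    by_cases hK1 : K = ⊥
    · obtain ⟨-, hK, hc, -⟩ := hKU
      rw [hK1, bot_sup_eq] at hc
      exact ⟨U, U, hc, le_rfl, le_normalizer, hH⟩
    · obtain ⟨E, U₀, s⟩ := exists_kappaShape_of_hall hG hM hKU.hall hK1
      exact ⟨E, U₀, s.compl, s.U_le, s.norm, s.hallU⟩
  set N := U₀ ⊔ sigmaCore M with hN
  have hNM : N ≤ M := sup_le hc.1 (sigmaCore_le M)
  have hn : M ≤ normalizer (N : Set G) := by
    refine le_trans (BGTwelve.compl_sup_eq hEU).ge (sup_le ?_ ?_)
    · exact BGTwelve.normalizes_sup hUn (BGTwelve.compl_le_normalizer hEU)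
    · exact le_sup_right.trans le_normalizer
  obtain ⟨hS, -, -⟩ :=
    sigmaCore_hall hG (localInputs hG).uniq smallRankFrattini fittingRankTwoDerived hM
  have hπN : IsPiHallOf ({q | q.Prime ∧ q ∉ kappa M ∧ q ∉ sigma M} ∪ sigma M) N M := by
    refine ⟨hNM, fun l hl hd => ?_, fun l hl hlπ hd => ?_⟩
    · rw [hN, sup_comm] at hd
      exact (prime_dvd_sup ((hU₀.trans hEU.1).trans (le_normalizer_sigmaCore M)) hl hd).elim
        (fun h => Or.inr (isPiSub_sigmaCore M l hl h)) fun h => Or.inl (hc.2.1 l hl h)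
    · rcases hlπ with h | h
      · exact hc.2.2 l hl h (hd.trans ⟨_, (relIndex_mul_relIndex U₀ _ M le_sup_left hNM).symm.trans
          (mul_comm _ _)⟩)
      · exact hS.2.2 l hl h (hd.trans ⟨_, (relIndex_mul_relIndex (sigmaCore M) _ M le_sup_right
          hNM).symm.trans (mul_comm _ _)⟩)
  have hle : U ⊔ sigmaCore M ≤ N := sup_le
    (le_of_normal_hall hπN hn hH.1 fun l hl hd => Or.inl (hH.2.1 l hl hd)) le_sup_right
  have heq : U ⊔ sigmaCore M = N := by
    refine le_antisymm hle (relIndex_eq_one.1 (Nat.eq_one_iff_not_exists_prime_dvd.2 fun l hl hd => ?_))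
    have hdM : l ∣ (U ⊔ sigmaCore M).relIndex M :=
      hd.trans ⟨_, (relIndex_mul_relIndex _ N M hle hNM).symm⟩
    obtain ⟨h1, h2⟩ := dvd_relIndex_of_le_sup hH.1 (sigmaCore_le M) hdM
    rcases hπN.2.1 l hl (hd.trans (relIndex_dvd_card _ _)) with h | h
    · exact hH.2.2 l hl h h1
    · exact hS.2.2 l hl h h2
  rw [heq]
  exact hn

/-- `S1352`. -/
theorem decomposition_stmt (M : Subgroup G) (hM : IsCoatom M) (K : Subgroup G) (hKc : IsCyclic K)
    (hK : IsPiHallOf (kappa M) K M) :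
    (∃ U : Subgroup G, IsSigmaDecomposition M K U) ∧
      ∀ U : Subgroup G, IsSigmaDecomposition M K U →
        M ≤ normalizer ((U ⊔ sigmaCore M : Subgroup G) : Set G) :=
  ⟨exists_decomposition hG hM hKc hK, fun _ hKU => le_normalizer_sup_sigma hG hM hKU⟩

omit hG in
/-- Centralizers in `M` of nontrivial elements of `K`. -/
theorem KappaShape.inf_centralizer {M E K U : Subgroup G} (s : KappaShape M E K U)
    (hKa : IsMulCommutative K) {k : G} (hk : k ∈ K) (hk1 : k ≠ 1) :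
    M ⊓ centralizer ({k} : Set G) = K ⊔ (sigmaCore M ⊓ centralizer (K : Set G)) := by
  refine le_antisymm ?_ (sup_le (le_inf s.hallK.1 ?_) (le_inf (inf_le_left.trans (sigmaCore_le M)) ?_))
  · rintro m ⟨hm, hmk⟩
    obtain ⟨e, he, x, hx, rfl⟩ := s.compl.2.2.2 m hm
    have hkM := s.hallK.1 hk
    have hkex : k * (e * x) * k⁻¹ = e * x := by
      rw [← mem_centralizer_singleton_iff.1 hmk, mul_inv_cancel_right]
    obtain ⟨h1, h2⟩ := eq_of_mul_eq_mul_of_inf s.compl.2.2.1 (a := k * e * k⁻¹) (a' := e)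
      (b := k * x * k⁻¹) (b' := x) (E.mul_mem (E.mul_mem (s.le_E hk) he) (E.inv_mem (s.le_E hk))) he
      ((mem_normalizer_iff.1 (le_normalizer_sigmaCore M hkM) x).1 hx) hx
      (by conv_rhs => rw [← hkex]
          group)
    rw [mul_inv_eq_iff_eq_mul] at h1 h2
    have hxY : x ∈ sigmaCore M ⊓ centralizer (K : Set G) :=
      s.prime k hk hk1 ▸ ⟨hx, mem_centralizer_singleton_iff.2 h2.symm⟩
    refine mul_mem_sup ?_ hxY
    obtain ⟨u, hu, k', hk', rfl⟩ := s.decomp e he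
    have hkk : k' * k = k * k' := congrArg Subtype.val (mul_comm' (⟨k', hk'⟩ : K) ⟨k, hk⟩)
    have hu1 : u = 1 := Subgroup.mem_bot.1 (s.fpf k hk hk1 ▸ ⟨hu, mem_centralizer_singleton_iff.2 (by
      have := h1.symm
      calc u * k = u * k' * k * k'⁻¹ := by rw [mul_assoc u k' k, hkk]; group
        _ = k * (u * k') * k'⁻¹ := by rw [this]
        _ = k * u := by group)⟩)
    rw [hu1, one_mul]
    exact hk'
  · exact fun a ha => mem_centralizer_singleton_iff.2
      (congrArg Subtype.val (mul_comm' (⟨a, ha⟩ : K) ⟨k, hk⟩))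
  · rw [← BGTwelve.centralizer_zpowers_eq k]
    exact inf_le_right.trans (centralizer_anti (zpowers_le.2 hk))

/-- `S1354`. -/
theorem kappa_star_stmt (M : Subgroup G) (hM : IsCoatom M) (K : Subgroup G) (hKc : IsCyclic K)
    (hK : IsPiHallOf (kappa M) K M) :
    sigmaCore M ⊓ centralizer (K : Set G) ≠ ⊥ ∧
      (K ≠ ⊥ → ∀ k ∈ K, k ≠ 1 →
        M ⊓ centralizer ({k} : Set G) = K ⊔ (sigmaCore M ⊓ centralizer (K : Set G))) := by
  refine ⟨?_, fun hK1 k hk hk1 => ?_⟩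
  · by_cases hK1 : K = ⊥
    · rw [hK1, inf_eq_left.2 (le_centralizer_iff.1 bot_le)]
      exact sigmaCore_ne_bot hG (localInputs hG).uniq smallRankFrattini fittingRankTwoDerived
        rankTwoLargestPrime hM
    · obtain ⟨E, U, s⟩ := exists_kappaShape_of_hall hG hM hK hK1
      exact s.fixed_ne
  · obtain ⟨E, U, s⟩ := exists_kappaShape_of_hall hG hM hK hK1
    haveI := hKc
    exact s.inf_centralizer inferInstance hk hk1

/-- `S1353`. -/
theorem fpf_stmt (M : Subgroup G) (hM : IsCoatom M) (K U : Subgroup G)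
    (hKU : IsSigmaDecomposition M K U) :
    ∀ k ∈ K, k ≠ 1 → U ⊓ centralizer ({k} : Set G) = ⊥ := by
  intro k hk hk1
  obtain ⟨hKc, hK, hc, -⟩ := id hKU
  have hK1 : K ≠ ⊥ := fun h0 => hk1 (Subgroup.mem_bot.1 (h0 ▸ hk))
  refine le_bot_iff.1 ((le_inf inf_le_left ?_).trans hc.2.2.1.le)
  refine le_trans (le_inf (inf_le_left.trans hc.1) inf_le_right)
    (((kappa_star_stmt hG M hM K hKc hK).2 hK1 k hk hk1).le.trans ?_)
  exact sup_le le_sup_left (inf_le_left.trans le_sup_right)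

/-- `S1430`. -/
theorem shape_stmt (M : Subgroup G) (hM : IsCoatom M) (K : Subgroup G)
    (hK : IsPiHallOf (kappa M) K M) (hK1 : K ≠ ⊥) :
    (∀ k ∈ K, k ≠ 1 → sigmaCore M ⊓ centralizer ({k} : Set G) =
        (sigmaCore M ⊓ centralizer (K : Set G))) ∧
      (∃ U : Subgroup G, IsMulCommutative U ∧
        IsPiHallOf {q | q.Prime ∧ q ∉ kappa M ∧ q ∉ sigma M} U M ∧
        K ≤ normalizer (U : Set G) ∧ ∀ k ∈ K, k ≠ 1 → U ⊓ centralizer ({k} : Set G) = ⊥) ∧
      ∀ X : Subgroup G, X ≤ K → (Nat.card X).Prime →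
        M ⊓ normalizer (X : Set G) = K ⊔ (sigmaCore M ⊓ centralizer (K : Set G)) ∧
        M ⊓ normalizer (K : Set G) = K ⊔ (sigmaCore M ⊓ centralizer (K : Set G)) ∧
        ∀ Mstar : Subgroup G, IsCoatom Mstar → normalizer (X : Set G) ≤ Mstar →
          X ≤ sigmaCore Mstar := by
  obtain ⟨E, U, s⟩ := exists_kappaShape_of_hall hG hM hK hK1
  refine ⟨s.prime, ⟨U, s.comm, s.hallU, s.le_E.trans s.norm, s.fpf⟩, fun X hX hXp => ?_⟩
  haveI := Fact.mk hXp
  set Y := sigmaCore M ⊓ centralizer (K : Set G) with hY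
  have hXE : X ≤ E := hX.trans s.le_E
  have hXn : K ⊔ Y ≤ normalizer (X : Set G) := sup_le
    ((s.lines X hX hXp).ge.trans inf_le_right)
    ((inf_le_right.trans (centralizer_anti hX)).trans (centralizer_le_normalizer _))
  have hxfix : ∀ x ∈ sigmaCore M, x ∈ normalizer (X : Set G) → x ∈ Y := by
    intro x hx hxn
    obtain ⟨a, ha, ha1⟩ :=
      (X.bot_or_exists_ne_one).resolve_left (fun h0 => hXp.ne_one (by rw [h0, card_bot]))
    rw [hY, ← s.prime a (hX ha) ha1]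
    refine ⟨hx, mem_centralizer_singleton_iff.2 ?_⟩
    have h1 : x * a * x⁻¹ * a⁻¹ ∈ E ⊓ sigmaCore M := by
      refine ⟨E.mul_mem (hXE ((mem_normalizer_iff.1 hxn a).1 ha)) (E.inv_mem (hXE ha)), ?_⟩
      rw [show x * a * x⁻¹ * a⁻¹ = x * (a * x⁻¹ * a⁻¹) by group]
      exact (sigmaCore M).mul_mem hx ((mem_normalizer_iff.1
        (le_normalizer_sigmaCore M (s.compl.1 (hXE ha))) _).1 ((sigmaCore M).inv_mem hx))
    rw [s.compl.2.2.1, Subgroup.mem_bot, mul_inv_eq_one, mul_inv_eq_iff_eq_mul] at h1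
    exact h1
  have hNX : M ⊓ normalizer (X : Set G) = K ⊔ Y := by
    refine le_antisymm ?_ (le_inf (sup_le hK.1 (inf_le_left.trans (sigmaCore_le M))) hXn)
    rintro m ⟨hm, hmX⟩
    obtain ⟨e, he, x, hx, rfl⟩ := s.compl.2.2.2 m hm
    -- `e` normalises `X`
    have heX : e ∈ normalizer (X : Set G) := by
      refine mem_normalizer_iff_map_conj_eq.2 (eq_of_le_of_card_ge ?_ (card_map_conj X e).ge)
      rintro _ ⟨a, ha, rfl⟩
      show e * a * e⁻¹ ∈ X
      have h0 : x * a * x⁻¹ * a⁻¹ ∈ sigmaCore M := by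
        rw [show x * a * x⁻¹ * a⁻¹ = x * (a * x⁻¹ * a⁻¹) by group]
        exact (sigmaCore M).mul_mem hx ((mem_normalizer_iff.1
          (le_normalizer_sigmaCore M (s.compl.1 (hXE ha))) _).1 ((sigmaCore M).inv_mem hx))
      have h1 : (e * x * a * (e * x)⁻¹) * (e * a * e⁻¹)⁻¹ ∈ E ⊓ sigmaCore M := by
        refine ⟨E.mul_mem (hXE ((mem_normalizer_iff.1 hmX a).1 ha))
          (E.inv_mem (E.mul_mem (E.mul_mem he (hXE ha)) (E.inv_mem he))), ?_⟩
        rw [show e * x * a * (e * x)⁻¹ * (e * a * e⁻¹)⁻¹ = e * (x * a * x⁻¹ * a⁻¹) * e⁻¹ by group]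
        exact (mem_normalizer_iff.1 (le_normalizer_sigmaCore M (s.compl.1 he)) _).1 h0
      rw [s.compl.2.2.1, Subgroup.mem_bot, mul_inv_eq_one] at h1
      rw [← h1]
      exact (mem_normalizer_iff.1 hmX a).1 ha
    refine mul_mem_sup (s.lines X hX hXp ▸ ⟨he, heX⟩) (hxfix x hx ?_)
    have := (normalizer (X : Set G)).mul_mem ((normalizer (X : Set G)).inv_mem heX) hmX
    rwa [inv_mul_cancel_left] at this
  refine ⟨hNX, le_antisymm ?_ (le_inf (sup_le hK.1 (inf_le_left.trans (sigmaCore_le M)))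
    (sup_le le_normalizer (inf_le_right.trans (centralizer_le_normalizer _)))), fun L hL hNL => ?_⟩
  · rintro m ⟨hm, hmK⟩
    obtain ⟨e, he, x, hx, rfl⟩ := s.compl.2.2.2 m hm
    -- `x` fixes `K`
    have hmul : ∀ k ∈ K, e * x * k * (e * x)⁻¹ = e * k * e⁻¹ := by
      intro k hk
      have h0 : x * k * x⁻¹ * k⁻¹ ∈ sigmaCore M := by
        rw [show x * k * x⁻¹ * k⁻¹ = x * (k * x⁻¹ * k⁻¹) by group]
        exact (sigmaCore M).mul_mem hx ((mem_normalizer_iff.1
          (le_normalizer_sigmaCore M (hK.1 hk)) _).1 ((sigmaCore M).inv_mem hx))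
      have h1 : (e * x * k * (e * x)⁻¹) * (e * k * e⁻¹)⁻¹ ∈ E ⊓ sigmaCore M := by
        refine ⟨E.mul_mem (s.le_E ((mem_normalizer_iff.1 hmK k).1 hk))
          (E.inv_mem (E.mul_mem (E.mul_mem he (s.le_E hk)) (E.inv_mem he))), ?_⟩
        rw [show e * x * k * (e * x)⁻¹ * (e * k * e⁻¹)⁻¹ = e * (x * k * x⁻¹ * k⁻¹) * e⁻¹ by group]
        exact (mem_normalizer_iff.1 (le_normalizer_sigmaCore M (s.compl.1 he)) _).1 h0
      rwa [s.compl.2.2.1, Subgroup.mem_bot, mul_inv_eq_one] at h1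
    have hxY : x ∈ Y := ⟨hx, mem_centralizer_iff.2 fun k hk => by
      have h2 := congrArg (fun g => e⁻¹ * g * e) (hmul k hk)
      simp only [← mul_assoc, mul_inv_rev, inv_mul_cancel, one_mul, inv_mul_cancel_right] at h2
      rw [mul_inv_eq_iff_eq_mul] at h2
      exact h2.symm⟩
    refine mul_mem_sup ?_ hxY
    obtain ⟨u, hu, k', hk', rfl⟩ := s.decomp e he
    refine (?_ : u = 1) ▸ (one_mul k').symm ▸ hk'
    obtain ⟨a, ha, ha1⟩ :=
      (X.bot_or_exists_ne_one).resolve_left (fun h0 => hXp.ne_one (by rw [h0, card_bot]))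
    have hak : k' * a * k'⁻¹ ∈ K := K.mul_mem (K.mul_mem hk' (hX ha)) (K.inv_mem hk')
    have h1 : u * (k' * a * k'⁻¹) * u⁻¹ ∈ K := by
      have := (mem_normalizer_iff.1 hmK a).1 (hX ha)
      rw [hmul a (hX ha)] at this
      rwa [show u * (k' * a * k'⁻¹) * u⁻¹ = u * k' * a * (u * k')⁻¹ by group]
    have h2 : u * (k' * a * k'⁻¹) * u⁻¹ * (k' * a * k'⁻¹)⁻¹ ∈ U ⊓ K := by
      refine ⟨?_, K.mul_mem h1 (K.inv_mem hak)⟩
      rw [mul_assoc u, mul_assoc u]
      exact U.mul_mem hu ((mem_normalizer_iff.1 (s.norm (s.le_E hak)) _).1 (U.inv_mem hu))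
    rw [s.inf_eq_bot, Subgroup.mem_bot, mul_inv_eq_one, mul_inv_eq_iff_eq_mul] at h2
    exact Subgroup.mem_bot.1 (s.fpf _ hak (fun h0 => ha1 (by
      rwa [mul_inv_eq_one, mul_eq_left] at h0)) ▸ ⟨hu, mem_centralizer_singleton_iff.2 h2⟩)
  · have hk : Nat.card X ∈ kappa M := hK.2.1 _ hXp (card_dvd_of_le hX)
    obtain ⟨-, hps, hr, -⟩ := (mem_kappa_iff hG hM).1 hk
    exact le_sigmaCore_of_pgroup hG hL (mem_sigma_of_nonregular hG hM hps hr (hX.trans hK.1) rfl
      (nonregular_of_kappa hG hM hk (hX.trans hK.1) rfl) hL hNL) (isPGroup_of_prime_card rfl)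
      (le_normalizer.trans hNL)

/-- A regular line outside `M_σ` makes `M_σ` nilpotent. -/
theorem isNilpotent_of_regular {M W : Subgroup G} {p : ℕ} (hp : p.Prime) (hWM : W ≤ M)
    (hWc : Nat.card W = p) (hW : sigmaCore M ⊓ centralizer (W : Set G) = ⊥) :
    Group.IsNilpotent (sigmaCore M) := by
  obtain ⟨w, hw, hw1⟩ := (W.bot_or_exists_ne_one).resolve_left (ne_bot_of_prime_card hp hWc)
  haveI := Fact.mk hp
  have hWz : zpowers w = W := eq_of_le_of_card_ge (zpowers_le.2 hw) (by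
    rw [hWc, Nat.card_zpowers, orderOf_eq_prime (pow_eq_one_of_card hWc hw) hw1])
  have hwn : w ∈ normalizer (sigmaCore M : Set G) := le_normalizer_sigmaCore M (hWM hw)
  refine Frobenius.isNilpotent_of_fixedPointFree _ ((sigmaCore M).normalizerMonoidHom ⟨w, hwn⟩)
    (fun g hg => ?_) hp ?_
  · have hg' : w * (g : G) * w⁻¹ = g := congrArg Subtype.val hg
    rw [← hWz, BGTwelve.centralizer_zpowers_eq] at hW
    refine Subtype.ext (Subgroup.mem_bot.1 (hW ▸ ⟨g.2, mem_centralizer_singleton_iff.2 ?_⟩))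
    exact (mul_inv_eq_iff_eq_mul.1 hg').symm
  · rw [← map_pow]
    refine (congrArg _ (Subtype.ext ?_)).trans (map_one _)
    simpa using pow_eq_one_of_card hWc hw

/-- `S1429`. -/
theorem not_P1_stmt (M : Subgroup G) (hM : IsCoatom M)
    (hP1 : ¬ (∀ q : ℕ, q.Prime → q ∣ Nat.card M → q ∉ sigma M → q ∈ kappa M))
    (p : ℕ) [Fact p.Prime] (hpM : p ∣ Nat.card M) (hp : p ∉ sigma M ∪ kappa M) (S : Sylow p M) :
    Nat.card ↥(Subgroup.closure {x : G | x ∈ (S : Subgroup M).map M.subtype ∧ x ^ p = 1}) ≤ p ^ 2 ∧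
      sigmaCore M ⊓ centralizer ((Subgroup.closure {x : G | x ∈ (S : Subgroup M).map M.subtype ∧
        x ^ p = 1} : Subgroup G) : Set G) = ⊥ ∧
      Group.IsNilpotent (sigmaCore M) := by
  have h := localInputs hG
  have hpp : p.Prime := Fact.out
  rw [Set.mem_union, not_or] at hp
  set T := (S : Subgroup M).map M.subtype with hT
  have hTM : T ≤ M := map_subtype_le _
  have hTp : IsPGroup p T := S.isPGroup'.map _
  set A := Subgroup.closure {x : G | x ∈ T ∧ x ^ p = 1} with hA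
  have hAT : A ≤ T := (closure_le _).2 fun x hx => hx.1
  have hnil : Group.IsNilpotent (sigmaCore M) := by
    push Not at hP1
    obtain ⟨q, hq, hqM, hqs, hqk⟩ := hP1
    haveI := Fact.mk hq
    by_cases hq1 : PRankLE q 1 M
    · obtain ⟨W, hW, hWc⟩ := exists_order_prime_line hq hqM
      exact isNilpotent_of_regular hG hq hW hWc (by_contra fun h0 =>
        hqk ((mem_kappa_iff hG hM).2 ⟨hq, hqs, hq1, W, hW, hWc, h0⟩))
    · obtain ⟨B, hBM, hBe, hBc⟩ := exists_elemAbelian_sq_le hq1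
      exact (tau_two_stmt hG h M hM ⟨hq, hqs, not_sigma_rank_two hG h.uniq hM hq hqs, hq1⟩ B
        ⟨hBM, hBe, hBc⟩).1
  refine ⟨?_, ?_, hnil⟩
  all_goals by_cases hr : PRankLE p 1 M
  · haveI := isCyclic_of_prankLE_one hG hr hTp hTM
    haveI : IsCyclic A := isCyclic_of_le hAT
    refine le_trans (Nat.le_of_dvd hpp.pos ?_) (Nat.le_self_pow two_ne_zero p)
    rw [← IsCyclic.exponent_eq_card]
    refine Monoid.exponent_dvd_of_forall_pow_eq_one fun a => Subtype.ext ?_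
    have hle : A ≤ ({ carrier := {x | x ∈ T ∧ x ^ p = 1}
                      one_mem' := ⟨one_mem _, one_pow p⟩
                      mul_mem' := fun {a b} ha hb => ⟨mul_mem ha.1 hb.1, by
                        have : Commute a b :=
                          congrArg Subtype.val (mul_comm' (⟨a, ha.1⟩ : T) ⟨b, hb.1⟩)
                        rw [this.mul_pow, ha.2, hb.2, one_mul]⟩
                      inv_mem' := fun {a} ha => ⟨inv_mem ha.1, by rw [inv_pow, ha.2, inv_one]⟩ } :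
                      Subgroup G) := (closure_le _).2 fun x hx => hx
    exact (hle a.2).2
  · obtain ⟨B, hBM, hBe, hBc⟩ := exists_elemAbelian_sq_le hr
    obtain ⟨P, hBP⟩ := ((isPGroup_of_pow_eq_one hpp hBe.2).comap_subtype (K := M)).exists_le_sylow
    obtain ⟨m, hm⟩ := MulAction.exists_smul_eq M P S
    set B' := B.map (MulAut.conj (m : G)).toMonoidHom with hB'
    have hB'T : B' ≤ T := by
      rintro _ ⟨b, hb, rfl⟩
      refine ⟨m * ⟨b, hBM hb⟩ * m⁻¹, ?_, by simp⟩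
      show _ ∈ (S : Subgroup M)
      rw [← hm, Sylow.coe_subgroup_smul]
      exact smul_mem_pointwise_smul _ (MulAut.conj m) _ (hBP hb)
    have hB'e : IsElementaryAbelian p B' := by
      refine ⟨?_, ?_⟩
      · haveI := hBe.1
        exact isMulCommutative_of_le_centralizer (by
          rw [hB', map_conj_centralizer]; exact map_mono (le_centralizer_self_of_comm hBe.1))
      · rintro _ ⟨b, hb, rfl⟩
        rw [← map_pow, hBe.2 b hb, map_one]
    have hp2 : p ∈ tau2 M := ⟨hpp, hp.1, not_sigma_rank_two hG h.uniq hM hpp hp.1, hr⟩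
    have hAB : A ≤ B' := (closure_le _).2 fun x hx =>
      (((tau_two_stmt hG h M hM hp2 B' ⟨hB'T.trans hTM, hB'e, (card_map_conj B _).trans hBc⟩).2.1
        S).2 hB'T).1 x hx.1 |>.1 hx.2
    exact (Nat.le_of_dvd Nat.card_pos (card_dvd_of_le hAB)).trans ((card_map_conj B _).trans hBc).le
  · by_contra h0
    obtain ⟨W, hW, hWc⟩ := exists_order_prime_line hpp
      (show p ∣ Nat.card T by
        rw [hT, card_map_of_injective M.subtype_injective]; exact Sylow.dvd_card_of_dvd_card S hpM)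
    refine hp.2 ((mem_kappa_iff hG hM).2 ⟨hpp, hp.1, hr, W, hW.trans hTM, hWc, fun h1 => h0 ?_⟩)
    refine le_bot_iff.1 ((inf_le_inf_left _ (centralizer_anti ?_)).trans h1.le)
    exact fun x hx => subset_closure ⟨hW hx, pow_eq_one_of_card hWc hx⟩
  · obtain ⟨B, hBM, hBe, hBc⟩ := exists_elemAbelian_sq_le hr
    obtain ⟨P, hBP⟩ := ((isPGroup_of_pow_eq_one hpp hBe.2).comap_subtype (K := M)).exists_le_sylow
    obtain ⟨m, hm⟩ := MulAction.exists_smul_eq M P S
    set B' := B.map (MulAut.conj (m : G)).toMonoidHom with hB'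
    have hB'T : B' ≤ T := by
      rintro _ ⟨b, hb, rfl⟩
      refine ⟨m * ⟨b, hBM hb⟩ * m⁻¹, ?_, by simp⟩
      show _ ∈ (S : Subgroup M)
      rw [← hm, Sylow.coe_subgroup_smul]
      exact smul_mem_pointwise_smul _ (MulAut.conj m) _ (hBP hb)
    have hB'e : IsElementaryAbelian p B' := by
      refine ⟨?_, ?_⟩
      · haveI := hBe.1
        exact isMulCommutative_of_le_centralizer (by
          rw [hB', map_conj_centralizer]; exact map_mono (le_centralizer_self_of_comm hBe.1))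
      · rintro _ ⟨b, hb, rfl⟩
        rw [← map_pow, hBe.2 b hb, map_one]
    have hp2 : p ∈ tau2 M := ⟨hpp, hp.1, not_sigma_rank_two hG h.uniq hM hpp hp.1, hr⟩
    obtain ⟨-, -, -, hC, -⟩ :=
      tau_two_stmt hG h M hM hp2 B' ⟨hB'T.trans hTM, hB'e, (card_map_conj B _).trans hBc⟩
    refine le_bot_iff.1 ((inf_le_inf_left _ (centralizer_anti ?_)).trans hC.le)
    exact fun x hx => subset_closure ⟨hB'T hx, hB'e.2 x hx⟩

end Cfsg.Agent.BGSigma
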