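import Cfsg.Agent.BGSigma.Signalizer

/-!
BG 14.4: the statements on `C(x)` for `x ∈ M_σ`.
-/

set_option autoImplicit false

namespace Cfsg.Agent.BGSigma

open Cfsg Subgroup
open scoped commutatorElement Pointwise

universe u

variable {G : Type u} [Group G] [Finite G]

theorem relIndex_of_complIn {A B C : Subgroup G} (h : IsComplIn A B C) :
    A.relIndex C = Nat.card B :=
  Nat.eq_of_mul_eq_mul_right Nat.card_pos
    ((relIndex_mul_card h.1).trans ((card_mul_of_complIn h).symm.trans (mul_comm _ _)))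

variable (hG : IsMinSimpleOddOrder G)
include hG

/-- The complement pair in `C(x)`. -/
theorem compl_centralizer {M L E : Subgroup G} {x : G} (hE : IsComplIn E (sigmaCore L) L)
    (heq : M ⊓ L = E) (hLM : sigmaCore L ⊓ M = ⊥) (hCL : centralizer ({x} : Set G) ≤ L)
    (hxE : x ∈ E) :
    IsComplIn (M ⊓ centralizer ({x} : Set G)) (sigmaCore L ⊓ centralizer ({x} : Set G))
      (centralizer ({x} : Set G)) := by
  refine ⟨inf_le_right, inf_le_right, ?_, fun c hc => ?_⟩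
  · exact le_bot_iff.1 ((le_inf (inf_le_right.trans inf_le_left) (inf_le_left.trans inf_le_left)).trans
      hLM.le)
  · obtain ⟨e, he, n, hn, rfl⟩ := hE.2.2.2 c (hCL hc)
    obtain ⟨h1, h2⟩ := mem_centralizer_components hE (BGTwelve.compl_le_normalizer hE) hxE he hn
      (mem_centralizer_singleton_iff.1 hc).symm
    exact ⟨e, ⟨(heq ▸ he : e ∈ M ⊓ L).1, mem_centralizer_singleton_iff.2 h1.symm⟩, n,
      ⟨hn, mem_centralizer_singleton_iff.2 h2.symm⟩, rfl⟩

/-- A conjugate of `M` through `x ∈ M_σ` is the conjugate by an element of `M_σ`'s partner. -/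
theorem exists_conj_rep {M : Subgroup G} (hM : IsCoatom M) {x : G} (hx : x ∈ sigmaCore M)
    (hx1 : x ≠ 1) {g : G} (hg : x ∈ M.map (MulAut.conj g).toMonoidHom) :
    ∃ r : G, r ∈ centralizer ({x} : Set G) ∧
      M.map (MulAut.conj r).toMonoidHom = M.map (MulAut.conj g).toMonoidHom := by
  obtain ⟨s, X, hs, hX, hXc⟩ := exists_line_of_ne_one hx1
  haveI := Fact.mk hs
  have hXσ : X ≤ sigmaCore M := hX.trans (zpowers_le.2 hx)
  have hXg : X ≤ M.map (MulAut.conj g).toMonoidHom := hX.trans (zpowers_le.2 hg)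
  have hsM : s ∈ sigma M := isPiSub_sigmaCore M s hs (hXc ▸ card_dvd_of_le hXσ)
  by_cases hCX : centralizer (X : Set G) ≤ M
  · refine ⟨1, one_mem _, ?_⟩
    rw [map_conj_one, eq_of_sigma_line hG hM (isCoatom_map_conj hM g) hsM (sigma_conj_iff.2 hsM)
      hXc hCX hXg]
  obtain ⟨L, E, d⟩ := exists_lineSupport hG hM hXσ hXc hCX
  obtain ⟨m, hm, c, hc, hmc⟩ := (fusion_stmt hG (localInputs hG).uniq M hM s hsM X
    (isPGroup_of_prime_card hXc) (ne_bot_of_prime_card hs hXc) (hXσ.trans (sigmaCore_le M))).1 g⁻¹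
    (map_conj_le_iff.2 fun a ha => by simpa using mem_map_conj.1 (hXg ha))
  obtain ⟨e, he, n, hn, hce⟩ := d.compl.2.2.2 c⁻¹ (d.le_L (inv_mem hc))
  have heM : e ∈ M := (d.eq_inf ▸ he : e ∈ M ⊓ L).1
  set r := e * n * e⁻¹ with hr
  have hrσ : r ∈ sigmaCore L :=
    (mem_normalizer_iff.1 (le_normalizer_sigmaCore L (d.compl.1 he)) n).1 hn
  have hgr : M.map (MulAut.conj r).toMonoidHom = M.map (MulAut.conj g).toMonoidHom := by
    have hge : g = r * (e * m⁻¹) := by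
      rw [← inv_inv g, hmc, mul_inv_rev, hce, hr]
      group
    rw [hge, ← map_conj_comp M r (e * m⁻¹),
      map_conj_eq_self (le_normalizer (M.mul_mem heM (M.inv_mem hm)))]
  refine ⟨r, ?_, hgr⟩
  have hxL : x ∈ L := d.le_L (centralizer_le_of_line hX (mem_centralizer_singleton_iff.2 rfl))
  have hxE : x ∈ E := d.eq_inf ▸ ⟨sigmaCore_le M hx, hxL⟩
  have h1 : r⁻¹ * x * r ∈ E := d.eq_inf ▸
    ⟨mem_map_conj.1 (hgr ▸ hg), L.mul_mem (L.mul_mem (L.inv_mem (sigmaCore_le L hrσ)) hxL)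
      (sigmaCore_le L hrσ)⟩
  have h2 : x⁻¹ * (r⁻¹ * x * r) ∈ E ⊓ sigmaCore L := by
    refine ⟨E.mul_mem (E.inv_mem hxE) h1, ?_⟩
    rw [show x⁻¹ * (r⁻¹ * x * r) = x⁻¹ * r⁻¹ * x * r by group]
    exact (sigmaCore L).mul_mem (by
      simpa using (mem_normalizer_iff.1 (le_normalizer_sigmaCore L (L.inv_mem hxL)) r⁻¹).1
        (inv_mem hrσ)) hrσ
  rw [d.compl.2.2.1, Subgroup.mem_bot, inv_mul_eq_one] at h2
  rw [mem_centralizer_singleton_iff]
  conv_lhs => rw [h2]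
  group

/-- `S1374`. -/
theorem centralizer_complement_stmt (M : Subgroup G) (hM : IsCoatom M) (x : G)
    (hx : x ∈ sigmaCore M) (hx1 : x ≠ 1) :
    (Nat.card ↥(M ⊓ centralizer ({x} : Set G))).Coprime
        ((M ⊓ centralizer ({x} : Set G)).relIndex (centralizer ({x} : Set G))) ∧
      ∃ R : Subgroup G, centralizer ({x} : Set G) ≤ normalizer (R : Set G) ∧
        IsComplIn (M ⊓ centralizer ({x} : Set G)) R (centralizer ({x} : Set G)) ∧
        ∀ g : G, x ∈ M.map (MulAut.conj g).toMonoidHom → ∃! r : G, r ∈ R ∧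
          M.map (MulAut.conj r).toMonoidHom = M.map (MulAut.conj g).toMonoidHom := by
  set C := centralizer ({x} : Set G) with hC
  by_cases hCM : C ≤ M
  · rw [inf_eq_right.2 hCM, relIndex_self]
    refine ⟨Nat.coprime_one_right _, ⊥, fun c _ => ?_,
      ⟨le_rfl, bot_le, inf_bot_eq _, fun c hc => ⟨c, hc, 1, one_mem _, (mul_one c).symm⟩⟩, fun g hg => ?_⟩
    · rw [normalizer_eq_top_iff.2 inferInstance]; trivial
    · obtain ⟨r, hr, hre⟩ := exists_conj_rep hG hM hx hx1 hg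
      have hM' : M.map (MulAut.conj g).toMonoidHom = M :=
        hre ▸ map_conj_eq_self (le_normalizer (hCM hr))
      exact ⟨1, ⟨one_mem _, by rw [map_conj_one, hM']⟩, fun r' hr' => Subgroup.mem_bot.1 hr'.1⟩
  · obtain ⟨L, E, hL, hE, heq, hLM, hCL, -, hxE, -, -, -⟩ := exists_support hG hM hx hx1 hCM
    have hc := compl_centralizer hG hE heq hLM hCL hxE
    refine ⟨?_, sigmaCore L ⊓ C, ?_, hc, fun g hg => ?_⟩
    · rw [relIndex_of_complIn hc]
      refine ((card_compl_coprime hG hL hE).coprime_dvd_left (card_dvd_of_le ?_)).coprime_dvd_right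
        (card_dvd_of_le inf_le_left)
      exact heq ▸ le_inf inf_le_left (inf_le_right.trans hCL)
    · exact Coprime.le_normalizer_inf (hCL.trans (le_normalizer_sigmaCore L)) le_normalizer
    · obtain ⟨r₀, hr₀, hre⟩ := exists_conj_rep hG hM hx hx1 hg
      obtain ⟨e, he, r, hr, rfl⟩ := hc.2.2.2 r₀ hr₀
      have hr' : e * r * e⁻¹ ∈ sigmaCore L ⊓ C :=
        ⟨(mem_normalizer_iff.1 (le_normalizer_sigmaCore L (hCL he.2)) r).1 hr.1,
          C.mul_mem (C.mul_mem he.2 hr.2) (C.inv_mem he.2)⟩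
      have hre' : M.map (MulAut.conj (e * r * e⁻¹)).toMonoidHom =
          M.map (MulAut.conj g).toMonoidHom := by
        rw [← hre, ← map_conj_comp M (e * r) e⁻¹,
          map_conj_eq_self (le_normalizer (M.inv_mem he.1))]
      refine ⟨_, ⟨hr', hre'⟩, fun r₂ hr₂ => ?_⟩
      have hmem : r₂⁻¹ * (e * r * e⁻¹) ∈ sigmaCore L ⊓ M := by
        refine ⟨(sigmaCore L).mul_mem ((sigmaCore L).inv_mem hr₂.1.1) hr'.1, ?_⟩
        refine mem_of_map_conj_eq hG hM ?_
        rw [← map_conj_comp M r₂⁻¹, hre', ← hr₂.2, map_conj_comp, inv_mul_cancel, map_conj_one]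
      rw [hLM, Subgroup.mem_bot, inv_mul_eq_one] at hmem
      exact hmem

/-- The normal subgroup `U ⊔ L_σ` is the Hall `κ(L)'`-subgroup. -/
theorem hall_kappa' {L K U : Subgroup G} (hL : IsCoatom L) (hKU : IsSigmaDecomposition L K U) :
    IsPiHallOf {q | q.Prime ∧ q ∉ kappa L} (U ⊔ sigmaCore L) L := by
  have hU := decomposition_hallU hG hL hKU
  obtain ⟨hH, -, -⟩ :=
    sigmaCore_hall hG (localInputs hG).uniq smallRankFrattini fittingRankTwoDerived hL
  refine ⟨sup_le hU.1 (sigmaCore_le L), fun q hq hd => ?_, fun q hq hqπ hd => ?_⟩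
  · rw [sup_comm] at hd
    rcases prime_dvd_sup (hU.1.trans (le_normalizer_sigmaCore L)) hq hd with h1 | h1
    · exact ⟨hq, fun hk => hk.2.2.1 (isPiSub_sigmaCore L q hq h1)⟩
    · exact ⟨hq, (hU.2.1 q hq h1).2.1⟩
  · by_cases hqs : q ∈ sigma L
    · exact hH.2.2 q hq hqs (hd.trans ⟨_, (mul_comm _ _).trans
        (relIndex_mul_relIndex (sigmaCore L) _ L le_sup_right (sup_le hU.1 (sigmaCore_le L)))
        |>.symm⟩)
    · exact hU.2.2 q hq ⟨hq, hqπ.2, hqs⟩ (hd.trans ⟨_, (mul_comm _ _).trans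
        (relIndex_mul_relIndex U _ L le_sup_left (sup_le hU.1 (sigmaCore_le L))) |>.symm⟩)

/-- `S1375`. -/
theorem centralizer_not_le_stmt (M : Subgroup G) (hM : IsCoatom M) (x : G) (hx : x ∈ sigmaCore M)
    (hx1 : x ≠ 1) (hxM : ¬ centralizer ({x} : Set G) ≤ M) :
    ∃ N : Subgroup G, (IsCoatom N ∧ centralizer ({x} : Set G) ≤ N) ∧
      (∀ L : Subgroup G, IsCoatom L → centralizer ({x} : Set G) ≤ L → L = N) ∧
      sigmaCore N = fittingHallOf N ∧
      centralizer ({x} : Set G) ≤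
        normalizer ((sigmaCore N ⊓ centralizer ({x} : Set G) : Subgroup G) : Set G) ∧
      IsComplIn (M ⊓ centralizer ({x} : Set G)) (sigmaCore N ⊓ centralizer ({x} : Set G))
        (centralizer ({x} : Set G)) ∧
      IsComplIn (M ⊓ N) (sigmaCore N) N ∧
      ∀ K' U' : Subgroup G, IsSigmaDecomposition N K' U' →
        U' ≠ ⊥ ∧ x ∈ sigmaA N U' ∧ x ∉ sigmaCore N := by
  obtain ⟨L, E, hL, hE, heq, hLM, hCL, hu, hxE, hnil, h2, hne⟩ := exists_support hG hM hx hx1 hxM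
  refine ⟨L, ⟨hL, hCL⟩, hu, (fittingHallOf_eq_of_nilpotent hG hL hnil).symm,
    Coprime.le_normalizer_inf (hCL.trans (le_normalizer_sigmaCore L)) le_normalizer,
    compl_centralizer hG hE heq hLM hCL hxE, heq.symm ▸ hE, fun K' U' hKU => ?_⟩
  obtain ⟨y, hy, hy1⟩ := (bot_or_exists_ne_one _).resolve_left hne
  have hxL : x ∈ L := hE.1 hxE
  obtain ⟨q, hq, hqd⟩ := Nat.exists_prime_and_dvd (fun h0 => hx1 (orderOf_eq_one_iff.1 h0))
  have hτ : ∀ p : ℕ, p.Prime → p ∣ orderOf x → p ∉ kappa L := fun p hp hd hk =>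
    (h2 p hp hd).2.2.2 ((mem_kappa_iff hG hL).1 hk).2.2.1
  refine ⟨?_, ⟨⟨hxL, y, hy.1, hy1, (mem_centralizer_singleton_iff.1 hy.2).symm⟩, ?_⟩, fun h0 => ?_⟩
  · rintro rfl
    refine (decomposition_hallU hG hL hKU).2.2 q hq ⟨hq, hτ q hq hqd, (h2 q hq hqd).2.1⟩ ?_
    rw [relIndex_bot_left]
    exact hqd.trans (Subgroup.orderOf_dvd_natCard L hxL)
  · refine le_of_normal_hall (hall_kappa' hG hL hKU) ((decomposition_stmt hG L hL K' hKU.cyclic
      hKU.hall).2 U' hKU) (zpowers_le.2 hxL) (fun p hp hd => ?_) (mem_zpowers x)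
    rw [Nat.card_zpowers] at hd
    exact ⟨hp, hτ p hp hd⟩
  · exact hx1 (Subgroup.mem_bot.1 (hE.2.2.1 ▸ ⟨hxE, h0⟩))

end Cfsg.Agent.BGSigma
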