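import Cfsg.Agent.BGSigma.SylowFusion
import Cfsg.Agent.Lib.Transfer.Residual
import Cfsg.Agent.Lib.Solvable.HallPi
import Cfsg.Agent.CharDeep.FpfCyclic

/-!
BG 10.14: `M_β`.
-/

set_option autoImplicit false

namespace Cfsg.Agent.BGSigma

open Cfsg

universe u

/-- BG 5.2, in the form of the statement `S1453`. -/
def NarrowStructure : Prop :=
  ∀ (R : Type u) [Group R] [Finite R] (p : ℕ) [Fact p.Prime], p ≠ 2 → IsPGroup p R →
    ¬ PRankLE p 2 R → ∀ E : Subgroup R, IsElementaryAbelian p E → Nat.card E = p ^ 2 →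
    (∀ B : Subgroup R, IsElementaryAbelian p B → E ≤ B → B = E) →
    ¬ E ≤ Subgroup.centralizer ((Subgroup.closure {x : R | x ∈ Subgroup.upperCentralSeries R 2 ∧ x ^ p = 1} : Subgroup R) : Set R) ∧
      Nat.card ↥(Subgroup.closure {x : R | x ∈ Subgroup.center R ∧ x ^ p = 1}) = p ∧
      (IsElementaryAbelian p (Subgroup.closure {x : R | x ∈ Subgroup.upperCentralSeries R 2 ∧ x ^ p = 1}) ∧
        Nat.card ↥(Subgroup.closure {x : R | x ∈ Subgroup.upperCentralSeries R 2 ∧ x ^ p = 1}) = p ^ 2) ∧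
      (Subgroup.centralizer ((Subgroup.closure {x : R | x ∈ Subgroup.upperCentralSeries R 2 ∧ x ^ p = 1} : Subgroup R) : Set R)).Characteristic ∧
      (Subgroup.centralizer ((Subgroup.closure {x : R | x ∈ Subgroup.upperCentralSeries R 2 ∧ x ^ p = 1} : Subgroup R) : Set R)).index = p

/-- BG 5.5, in the form of the statement `S1455`. -/
def NarrowSylowTheorem : Prop :=
  ∀ (G : Type u) [Group G] [Finite G] [Group.IsSolvable G], Odd (Nat.card G) →
    ∀ (p : ℕ) [Fact p.Prime], p ∣ Nat.card G → ∀ S : Sylow p G, IsNarrow p ↥(S : Subgroup G) →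
    (¬ PRankLE p 2 ↥(S : Subgroup G) → PLengthLE p 1 G) →
    (∀ q : ℕ, q.Prime → q ∣ (pPrimeCore p G).index → q ≤ p) ∧
      ((p = 3 ∨ ∀ q : ℕ, q.Prime → q ∣ Nat.card G → p ≤ q) → HasNormalPComplement p G) ∧
      HasNormalPComplement p ↥(commutator G) ∧
      (∀ L : Subgroup ↥(commutator G), (Nat.card L).Coprime p → L ≤ pPrimeCore p ↥(commutator G)) ∧
      commutator G ≤ pPrimePCore p G ∧ ((pPrimePCore p G).index).Coprime p

/-- A maximal elementary abelian subgroup of order `p²` makes a `p`-group narrow. -/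
theorem isNarrow_of_maximal_sq {R : Type u} [Group R] [Finite R] {p : ℕ} [hp : Fact p.Prime]
    (hN : NarrowStructure.{u}) (hp2 : p ≠ 2) (hR : IsPGroup p R) (E : Subgroup R)
    (hE : IsElementaryAbelian p E) (hE2 : Nat.card E = p ^ 2)
    (hmax : ∀ B : Subgroup R, IsElementaryAbelian p B → E ≤ B → B = E) : IsNarrow p R := by
  by_cases hr : PRankLE p 2 R
  · exact Or.inl hr
  obtain ⟨hET, hZc, -, hTc, hTi⟩ := hN R p hp2 hR hr E hE hE2 hmax
  haveI := hTc
  set T := Subgroup.centralizer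
    ((Subgroup.closure {x : R | x ∈ Subgroup.upperCentralSeries R 2 ∧ x ^ p = 1} : Subgroup R) : Set R)
  set Z := Subgroup.closure {x : R | x ∈ Subgroup.center R ∧ x ^ p = 1} with hZ
  have hZcen : Z ≤ Subgroup.center R := (Subgroup.closure_le _).2 fun z hz => hz.1
  haveI hZmc : IsMulCommutative Z := isMulCommutative_iff.2 fun a b =>
    Subtype.ext (Subgroup.mem_center_iff.1 (hZcen b.2) a.1)
  have hZe : IsElementaryAbelian p Z := by
    refine ⟨hZmc, fun z hz => ?_⟩
    have := congrArg Subtype.val (pow_card_eq_one' (G := Z) (x := ⟨z, hz⟩))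
    simpa [hZc] using this
  have hcen : ∀ z ∈ Z, ∀ y : R, y * z = z * y := fun z hz y =>
    Subgroup.mem_center_iff.1 (hZcen hz) y
  have hZE : Z ≤ E := by
    have := hmax (E ⊔ Z) (elemAbelian_sup hE hZe fun z hz =>
      Subgroup.mem_centralizer_iff.2 fun y _ => hcen z hz y) le_sup_left
    exact this ▸ le_sup_right
  have hZT : Z ≤ T := fun z hz => Subgroup.mem_centralizer_iff.2 fun y _ => hcen z hz y
  obtain ⟨x, hxE, hxT⟩ := SetLike.not_le_iff_exists.1 hET
  have hx1 : x ≠ 1 := fun h => hxT (h ▸ T.one_mem)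
  have hxo : orderOf x = p := orderOf_eq_prime (hE.2 x hxE) hx1
  have hxZ : Subgroup.zpowers x ⊓ T = ⊥ := by
    rcases (Nat.dvd_prime hp.out).1 (hxo ▸ Nat.card_zpowers x ▸
      Subgroup.card_dvd_of_le (inf_le_left : Subgroup.zpowers x ⊓ T ≤ Subgroup.zpowers x)) with h | h
    · exact Subgroup.eq_bot_of_card_eq _ h
    · exact absurd ((Subgroup.eq_of_le_of_card_ge inf_le_left
        (by rw [Nat.card_zpowers, hxo, h])).ge.trans inf_le_right (Subgroup.mem_zpowers x)) hxT
  set C := Subgroup.centralizer (Subgroup.zpowers x : Set R) with hC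
  have hcx : ∀ y ∈ C, x * y = y * x := fun y hy =>
    Subgroup.mem_centralizer_iff.1 hy x (Subgroup.mem_zpowers x)
  -- elements of order `p` of `C_T(x)` lie in `Z`
  have hsmall : ∀ y ∈ T ⊓ C, y ^ p = 1 → y ∈ Z := by
    intro y hy hyp
    have hxz : E = Z ⊔ Subgroup.zpowers x := by
      refine (Subgroup.eq_of_le_of_card_ge (sup_le hZE (Subgroup.zpowers_le.2 hxE)) ?_).symm
      have hlt : Z < Z ⊔ Subgroup.zpowers x := lt_of_le_of_ne le_sup_left fun h =>
        hxT (hZT (h.symm ▸ Subgroup.mem_sup_right (Subgroup.mem_zpowers x)))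
      obtain ⟨j, hj⟩ := (hR.to_subgroup (Z ⊔ Subgroup.zpowers x)).exists_card_eq
      rw [hj, hE2]
      refine Nat.pow_le_pow_right hp.out.pos ?_
      by_contra hj2
      refine hlt.ne (Subgroup.eq_of_le_of_card_ge le_sup_left ?_)
      rw [hj, hZc]
      exact le_of_le_of_eq (Nat.pow_le_pow_right hp.out.pos (by omega)) (pow_one p)
    have hcy : Subgroup.zpowers y ≤ Subgroup.centralizer (E : Set R) := by
      rw [Subgroup.zpowers_le, Subgroup.mem_centralizer_iff]
      intro e he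
      rw [SetLike.mem_coe, hxz] at he
      have hcomm : Commute y e := by
        refine Subgroup.mem_centralizer_singleton_iff.1
          (?_ : e ∈ Subgroup.centralizer ({y} : Set R)) |>.symm
        refine (sup_le ?_ ?_ : Z ⊔ Subgroup.zpowers x ≤ _) he
        · intro z hz
          exact Subgroup.mem_centralizer_singleton_iff.2 (hcen z hz y).symm
        · rw [Subgroup.zpowers_le]
          exact Subgroup.mem_centralizer_singleton_iff.2 (hcx y hy.2)
      exact hcomm.eq.symm
    have := hmax (E ⊔ Subgroup.zpowers y) (elemAbelian_sup hE (elemAbelian_zpowers hyp) hcy)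
      le_sup_left
    have hyE : y ∈ E := this ▸ Subgroup.mem_sup_right (Subgroup.mem_zpowers y)
    rw [hxz] at hyE
    haveI : Z.Normal := ⟨fun z hz g => by rw [hcen z hz g, mul_inv_cancel_right]; exact hz⟩
    obtain ⟨z, hz, w, hw, rfl⟩ := Subgroup.mem_sup_of_normal_left.1 hyE
    have hwT : w ∈ Subgroup.zpowers x ⊓ T := ⟨hw, by
      have := T.mul_mem (T.inv_mem (hZT hz)) hy.1
      rwa [inv_mul_cancel_left] at this⟩
    rw [hxZ, Subgroup.mem_bot] at hwT
    simpa [hwT] using hz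
  have hcyc : IsCyclic ↥(T ⊓ C) := by
    refine CharDeep.Zass.isCyclic_of_no_pair (hp.out.odd_of_ne_two hp2)
      (hR.to_subgroup _) fun a b _ ha hb => ?_
    have haZ := hsmall a a.2 (by
      rw [← Subgroup.coe_pow, orderOf_dvd_iff_pow_eq_one.1 ha.dvd, Subgroup.coe_one])
    have hbZ := hsmall b b.2 (by
      rw [← Subgroup.coe_pow, orderOf_dvd_iff_pow_eq_one.1 hb.dvd, Subgroup.coe_one])
    have hbo : orderOf (b : R) = p := by rw [Subgroup.orderOf_coe, hb]
    have : Subgroup.zpowers (b : R) = Z := Subgroup.eq_of_le_of_card_ge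
      (Subgroup.zpowers_le.2 hbZ) (by rw [Nat.card_zpowers, hbo, hZc])
    rw [← this] at haZ
    obtain ⟨k, hk⟩ := haZ
    exact ⟨k, Subtype.ext (by simpa using hk)⟩
  refine Or.inr ⟨Subgroup.zpowers x, T ⊓ C, by rw [Nat.card_zpowers, hxo], hcyc, ?_, ?_, ?_⟩
  · rw [← inf_assoc, hxZ, bot_inf_eq]
  · rintro a ⟨k, rfl⟩ b hb
    exact ((show Commute x b from hcx b hb.2).zpow_left k).eq
  · have hxC : Subgroup.zpowers x ≤ C := by
      rw [Subgroup.zpowers_le, hC, Subgroup.mem_centralizer_iff]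
      rintro y ⟨k, rfl⟩
      exact ((Commute.refl x).zpow_left k).eq
    refine le_antisymm (sup_le hxC inf_le_right) fun c hc => ?_
    haveI : T.Normal := inferInstance
    have htop : T ⊔ Subgroup.zpowers x = ⊤ := by
      rw [← Subgroup.index_eq_one]
      have h1 := Subgroup.index_dvd_of_le (le_sup_left : T ≤ T ⊔ Subgroup.zpowers x)
      rw [hTi] at h1
      refine ((Nat.dvd_prime hp.out).1 h1).resolve_right fun h => hxT ?_
      have h2 := Subgroup.relIndex_mul_index (le_sup_left : T ≤ T ⊔ Subgroup.zpowers x)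
      rw [h, hTi] at h2
      have h3 : T.relIndex (T ⊔ Subgroup.zpowers x) = 1 :=
        Nat.eq_of_mul_eq_mul_right hp.out.pos (h2.trans (one_mul p).symm)
      exact Subgroup.relIndex_eq_one.1 h3 (Subgroup.mem_sup_right (Subgroup.mem_zpowers x))
    obtain ⟨t, ht, w, hw, rfl⟩ := Subgroup.mem_sup_of_normal_left.1
      (htop ▸ Subgroup.mem_top c : c ∈ T ⊔ Subgroup.zpowers x)
    refine Subgroup.mul_mem _ (Subgroup.mem_sup_right ⟨ht, ?_⟩) (Subgroup.mem_sup_left hw)
    have h4 := C.mul_mem hc (C.inv_mem (hxC hw))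
    rwa [mul_inv_cancel_right] at h4

/-- A group with a normal `p`-complement for every prime is nilpotent. -/
theorem isNilpotent_of_normalPComplements {H : Type*} [Group H] [Finite H]
    (h : ∀ p : ℕ, p.Prime → p ∣ Nat.card H → HasNormalPComplement p H) : Group.IsNilpotent H := by
  refine ((Group.isNilpotent_of_finite_tfae (G := H)).out 3 0).1 ?_
  intro q hq S
  let N : Subgroup H :=
    ⨅ r ∈ {r : ℕ | r.Prime ∧ r ∣ Nat.card H ∧ r ≠ q}, pResidual r H
  have hmem : ∀ x : H, x ∈ N ↔ ∀ r ∈ {r : ℕ | r.Prime ∧ r ∣ Nat.card H ∧ r ≠ q},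
      Nat.Coprime (orderOf x) r := by
    intro x
    rw [Subgroup.mem_iInf]
    refine forall_congr' fun r => ?_
    rw [Subgroup.mem_iInf]
    refine forall_congr' fun hr => ?_
    haveI : Fact r.Prime := ⟨hr.1⟩
    exact Transfer.mem_pResidual_iff_coprime (h r hr.1 hr.2.1)
  have hNp : IsPGroup q N := by
    refine IsPGroup.iff_orderOf.2 fun x => ?_
    refine ⟨_, Nat.eq_prime_pow_of_unique_prime_dvd (p := q) (orderOf_pos x).ne'
      fun {r} hr hrd => ?_⟩
    by_contra hne
    have hrd' : r ∣ orderOf (x : H) := by rwa [Subgroup.orderOf_coe]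
    exact hr.coprime_iff_not_dvd.1 ((hmem x).1 x.2 r
      ⟨hr, hrd'.trans (orderOf_dvd_natCard _), hne⟩).symm hrd'
  have hSN : (S : Subgroup H) ≤ N := by
    intro x hx
    rw [hmem]
    intro r hr
    obtain ⟨j, hj⟩ := S.isPGroup'.exists_card_eq
    exact (((Nat.coprime_primes hq.out hr.1).2 hr.2.2.symm).pow_left j).coprime_dvd_left
      (hj ▸ Subgroup.orderOf_mk x hx ▸ orderOf_dvd_natCard (⟨x, hx⟩ : (S : Subgroup H)))
  rw [← S.is_maximal' hNp hSN]
  refine ⟨fun x hx g => ?_⟩
  rw [hmem] at hx ⊢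
  intro r hr
  have hord : orderOf (g * x * g⁻¹) = orderOf x := MulEquiv.orderOf_eq (MulAut.conj g) x
  rw [hord]
  exact hx r hr

theorem piCoreOf_subgroupOf_le {G : Type*} [Group G] {π : Set ℕ} {M : Subgroup G} :
    (piCoreOf π M).subgroupOf M = piCore π M := subgroupOf_piCoreOf M

variable {G : Type u} [Group G] [Finite G] (hG : IsMinSimpleOddOrder G)
  (hU : UniquenessTheorem G) (hL : ProperPLengthOne G)
  (hN : NarrowStructure.{u}) (hS : NarrowSylowTheorem.{u})
include hG hU hL hN hS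

/-- Sylow subgroups of `M` are narrow outside `β(M)`. -/
theorem isNarrow_of_not_mem_beta {M : Subgroup G} (hM : IsCoatom M) {p : ℕ} [hp : Fact p.Prime]
    (hp2 : p ≠ 2) (hpβ : p ∉ beta M) (P : Sylow p M) : IsNarrow p ↥(P : Subgroup M) := by
  by_cases hr : PRankLE p 2 M
  · exact Or.inl (prankLE_subgroup_self _ hr)
  have hps := mem_sigma_of_mem_alpha hG hU hM ⟨hp.out, hr⟩
  have hni : ¬ IsIdealPrime p G := fun h => hpβ ⟨⟨hp.out, hr⟩, h⟩
  have hrG : ¬ PRankLE p 2 G := fun h => hr (prankLE_subgroup_self M h)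
  simp only [IsIdealPrime, hp.out, hrG, not_false_eq_true, true_and, not_forall, not_exists,
    not_and] at hni
  obtain ⟨S, A, hAS, hAe, hAc, hAmax⟩ := hni
  -- transport to the given Sylow subgroup of `M`
  obtain ⟨Q, hQ⟩ := exists_sylow_of_mem_sigma hps
  have hQM : (Q : Subgroup G) ≤ M := Subgroup.le_normalizer.trans hQ
  let e : ↥(S : Subgroup G) ≃* ↥(P : Subgroup M) :=
    ((Sylow.equiv S Q).trans (Subgroup.subgroupOfEquivOfLe hQM).symm).trans
      (Sylow.equiv (Q.subtype hQM) P)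
  refine isNarrow_of_maximal_sq hN hp2 P.isPGroup' ((A.subgroupOf S).map e.toMonoidHom) ?_ ?_ ?_
  · obtain ⟨h1, h2⟩ := elemAbelian_subgroupOf hAe hAS
    refine ⟨⟨⟨?_⟩⟩, ?_⟩
    · rintro ⟨-, a, ha, rfl⟩ ⟨-, b, hb, rfl⟩
      have hab : a * b = b * a :=
        congrArg Subtype.val (h1.is_comm.comm (⟨a, ha⟩ : A.subgroupOf (S : Subgroup G)) ⟨b, hb⟩)
      ext1
      show e a * e b = e b * e a
      rw [← map_mul, hab, map_mul]
    · rintro _ ⟨a, ha, rfl⟩
      rw [← map_pow, h2 a ha, map_one]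
  · rw [Subgroup.card_map_of_injective (f := e.toMonoidHom) e.injective,
      Nat.card_congr (Subgroup.subgroupOfEquivOfLe hAS).toEquiv, hAc]
  · intro B hB hle
    set B₀ : Subgroup G := (B.map e.symm.toMonoidHom).map (S : Subgroup G).subtype with hB₀
    have hB₀e : IsElementaryAbelian p B₀ := by
      refine ⟨⟨⟨?_⟩⟩, ?_⟩
      · rintro ⟨-, -, ⟨a, ha, rfl⟩, rfl⟩ ⟨-, -, ⟨b, hb, rfl⟩, rfl⟩
        have hab : a * b = b * a := congrArg Subtype.val (hB.1.is_comm.comm (⟨a, ha⟩ : B) ⟨b, hb⟩)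
        ext1
        show ((e.symm a : ↥(S : Subgroup G)) : G) * (e.symm b : ↥(S : Subgroup G)) =
          (e.symm b : ↥(S : Subgroup G)) * (e.symm a : ↥(S : Subgroup G))
        rw [← Subgroup.coe_mul, ← map_mul, hab, map_mul, Subgroup.coe_mul]
      · rintro _ ⟨_, ⟨a, ha, rfl⟩, rfl⟩
        rw [← map_pow, ← map_pow, hB.2 a ha, map_one, map_one]
    have hAB : A ≤ B₀ := by
      intro a ha
      refine ⟨⟨a, hAS ha⟩, ⟨e ⟨a, hAS ha⟩, hle ⟨⟨a, hAS ha⟩, ha, rfl⟩, ?_⟩, rfl⟩
      exact e.symm_apply_apply _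
    have heq : B₀ = A := by
      by_contra hne
      exact hAmax B₀ (Subgroup.map_subtype_le _) hB₀e (lt_of_le_of_ne hAB (Ne.symm hne))
    refine le_antisymm (fun b hb => ⟨e.symm b, ?_, e.apply_symm_apply b⟩) hle
    show ((e.symm b : ↥(S : Subgroup G)) : G) ∈ A
    rw [← heq]
    exact ⟨_, ⟨b, hb, rfl⟩, rfl⟩

/-- For `p ∉ β(M)`, both `M'` and `M_σ` have normal `p`-complements, and `p` is the largest prime
of `M/O_{p'}(M)`. -/
theorem normalPComplement_of_not_mem_beta {M : Subgroup G} (hM : IsCoatom M) {p : ℕ}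
    (hp : p.Prime) (hpM : p ∣ Nat.card M) (hpβ : p ∉ beta M) :
    HasNormalPComplement p ↥⁅M, M⁆ ∧ HasNormalPComplement p ↥(sigmaCore M) ∧
      ∀ q : ℕ, q.Prime → q ∣ (pPrimeCore p ↥M).index → q ≤ p := by
  haveI : Fact p.Prime := ⟨hp⟩
  haveI : Group.IsSolvable M := coatom_isSolvable hG hM
  let P : Sylow p M := default
  obtain ⟨h1, -, h3, -⟩ := hS M (odd_card_subgroup hG M) p hpM P
    (isNarrow_of_not_mem_beta hG hU hL hN hS hM (ne_two_of_dvd hG hpM) hpβ P)
    (fun _ => hL p M hM.1)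
  have h4 : HasNormalPComplement p ↥⁅M, M⁆ := by
    refine (Transfer.hasNormalPComplement_congr ?_).1 h3
    exact ((commutator M).equivMapOfInjective M.subtype M.subtype_injective).trans
      (MulEquiv.subgroupCongr (Subgroup.map_subtype_commutator M))
  exact ⟨h4, Transfer.hasNormalPComplement_mono
    (sigmaCore_hall hG hU smallRankFrattini fittingRankTwoDerived hM).2.2 h4, h1⟩

/-- BG 10.14. -/
theorem beta_core_stmt (M : Subgroup G) (hM : IsCoatom M) :
    IsPiHallOf (beta M) (piCoreOf (beta M) M) M ∧ IsPiHall (beta M) (piCoreOf (beta M) M) ∧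
      (∃ H : Subgroup G, IsPiHallOf {q | q.Prime ∧ q ∉ beta M} H ⁅M, M⁆ ∧ Group.IsNilpotent H) ∧
      (∃ H : Subgroup G, IsPiHallOf {q | q.Prime ∧ q ∉ beta M} H (sigmaCore M) ∧ Group.IsNilpotent H) ∧
      ∀ p : ℕ, p.Prime → p ∣ Nat.card M → p ∉ beta M →
        HasNormalPComplement p ↥⁅M, M⁆ ∧ HasNormalPComplement p ↥(sigmaCore M) ∧
        ∀ q : ℕ, q.Prime → q ∣ (pPrimeCore p ↥M).index → q ≤ p := by
  have key := fun p hp hpM hpb =>
    normalPComplement_of_not_mem_beta hG hU hL hN hS hM (p := p) hp hpM hpb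
  haveI : Group.IsSolvable M := coatom_isSolvable hG hM
  have hnil : ∀ D : Subgroup G, D ≤ M →
      (∀ p : ℕ, p.Prime → p ∣ Nat.card M → p ∉ beta M → HasNormalPComplement p D) →
      ∃ H : Subgroup G, IsPiHallOf {q | q.Prime ∧ q ∉ beta M} H D ∧ Group.IsNilpotent H := by
    intro D hDM hD
    haveI : Group.IsSolvable D := isSolvable_of_ne_top hG fun h => hM.1 (top_le_iff.1 (h ▸ hDM))
    obtain ⟨K, hK⟩ := Solvable.exists_isPiHall (G := D) {q | q.Prime ∧ q ∉ beta M}
    refine ⟨K.map D.subtype, ⟨Subgroup.map_subtype_le _, fun r hr hrd => hK.1 r hr ?_,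
      fun r hr hrπ hrd => hK.2 r hr hrπ ?_⟩, ?_⟩
    · rwa [Subgroup.card_map_of_injective D.subtype_injective] at hrd
    · rwa [Subgroup.relIndex, Subgroup.subgroupOf,
        Subgroup.comap_map_eq_self_of_injective D.subtype_injective] at hrd
    · haveI : Group.IsNilpotent K := isNilpotent_of_normalPComplements fun r hr hrd => by
        haveI : Fact r.Prime := ⟨hr⟩
        exact Transfer.hasNormalPComplement_subgroup (hD r hr
          (hrd.trans (K.card_subgroup_dvd_card.trans (Subgroup.card_dvd_of_le hDM)))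
          (hK.1 r hr hrd).2) K
      exact Group.nilpotent_of_mulEquiv (K.equivMapOfInjective D.subtype D.subtype_injective)
  have hall : IsPiHallOf (beta M) (piCoreOf (beta M) M) M := by
    refine ⟨piCoreOf_le M, isPiSub_piCoreOf M, fun r hr hrb => ?_⟩
    rw [Subgroup.relIndex, piCoreOf_subgroupOf_le]
    -- the intersection of the normal complements in `M'`
    let N : Subgroup (commutator M) :=
      ⨅ s ∈ {s : ℕ | s.Prime ∧ s ∣ Nat.card M ∧ s ∉ beta M}, pResidual s (commutator M)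
    have hiso : ∀ s : ℕ, [Fact s.Prime] → s ∣ Nat.card M → s ∉ beta M →
        HasNormalPComplement s (commutator M) := by
      intro s hs hsM hsb
      refine (Transfer.hasNormalPComplement_congr ?_).1 (key s Fact.out hsM hsb).1
      exact (((commutator M).equivMapOfInjective M.subtype M.subtype_injective).trans
        (MulEquiv.subgroupCongr (Subgroup.map_subtype_commutator M))).symm
    haveI hNc : N.Characteristic := by
      refine Subgroup.characteristic_iff_map_le.2 fun φ => ?_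
      rintro _ ⟨x, hx, rfl⟩
      simp only [N, SetLike.mem_coe, Subgroup.mem_iInf] at hx ⊢
      intro s hs
      haveI : Fact s.Prime := ⟨hs.1⟩
      rw [Transfer.mem_pResidual_iff_coprime (hiso s hs.2.1 hs.2.2)]
      have := (Transfer.mem_pResidual_iff_coprime (hiso s hs.2.1 hs.2.2)).1 (hx s hs)
      exact (MulEquiv.orderOf_eq φ x).symm ▸ this
    have hN0 : N.map (commutator M).subtype ≤ piCore (beta M) M := by
      refine le_piCore (Thompson.map_subtype_normal_of_characteristic _ _) fun s hs hsd => ?_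
      rw [Subgroup.card_map_of_injective (Subgroup.subtype_injective _)] at hsd
      by_contra hsb
      haveI : Fact s.Prime := ⟨hs⟩
      obtain ⟨y, hy⟩ := exists_prime_orderOf_dvd_card' s hsd
      have hsM : s ∣ Nat.card M := hsd.trans (N.card_subgroup_dvd_card.trans
        (Subgroup.card_subgroup_dvd_card _))
      have h5 : (y : commutator M) ∈ pResidual s (commutator M) := by
        have := y.2
        simp only [N, Subgroup.mem_iInf] at this
        exact this s ⟨hs, hsM, hsb⟩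
      rw [Transfer.mem_pResidual_iff_coprime (hiso s hsM hsb), Subgroup.orderOf_coe, hy,
        Nat.coprime_self] at h5
      exact hs.ne_one h5
    haveI : Fact r.Prime := ⟨hr⟩
    let P : Sylow r M := default
    refine fun hd => P.not_dvd_index (hd.trans (Subgroup.index_dvd_of_le fun x hx => hN0 ?_))
    have hPd : x ∈ commutator M := by
      have h1 := pgroup_le_derived hG hU smallRankFrattini hM
        (mem_sigma_of_mem_alpha hG hU hM hrb.1) (P.isPGroup'.map M.subtype)
        (Subgroup.map_subtype_le _) ⟨x, hx, rfl⟩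
      rw [← Subgroup.map_subtype_commutator M] at h1
      obtain ⟨y, hy, hyx⟩ := h1
      rwa [M.subtype_injective hyx] at hy
    refine ⟨⟨x, hPd⟩, ?_, rfl⟩
    simp only [N, SetLike.mem_coe, Subgroup.mem_iInf]
    intro s hs
    haveI : Fact s.Prime := ⟨hs.1⟩
    rw [Transfer.mem_pResidual_iff_coprime (hiso s hs.2.1 hs.2.2), Subgroup.orderOf_mk]
    obtain ⟨j, hj⟩ := P.isPGroup'.exists_card_eq
    exact (((Nat.coprime_primes hr hs.1).2 fun h => hs.2.2 (h ▸ hrb)).pow_left j).coprime_dvd_left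
      (hj ▸ Subgroup.orderOf_mk x hx ▸ orderOf_dvd_natCard (⟨x, hx⟩ : (P : Subgroup M)))
  refine ⟨hall, ⟨isPiSub_piCoreOf M, fun r hr hrb hd => ?_⟩,
    hnil _ (Subgroup.commutator_le_self M) fun p a b c => (key p a b c).1,
    hnil _ (sigmaCore_le M) fun p a b c => (key p a b c).2.1, key⟩
  rw [← Subgroup.relIndex_mul_index (piCoreOf_le (π := beta M) M)] at hd
  rcases hr.dvd_mul.1 hd with h' | h'
  · exact hall.2.2 r hr hrb h'
  · exact not_dvd_index_of_mem_sigma (mem_sigma_of_mem_alpha hG hU hM hrb.1) h'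

end Cfsg.Agent.BGSigma
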