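import Cfsg.Agent.BGSigma.Ten
import Cfsg.Agent.S1459
import Cfsg.Agent.Lib.Solvable.HallPi

/-!
BG 10.6: every proper subgroup has `p`-length one.
-/

set_option autoImplicit false

namespace Cfsg.Agent.BGSigma

open Cfsg

universe u

/-- `X / O_{p',p}(X)` is prime to `p` when a normal series `A ≤ B` does so. -/
theorem not_dvd_index_of_series {X : Type*} [Group X] [Finite X] {p : ℕ} [hp : Fact p.Prime]
    {A B : Subgroup X} (hA : A.Normal) (hB : B.Normal) (hAB : A ≤ B)
    (hAc : ¬ p ∣ Nat.card A) (hrel : ∃ j, A.relIndex B ∣ p ^ j) (hBi : ¬ p ∣ B.index) :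
    ¬ p ∣ (pPrimePCore p X).index := by
  let S : Sylow p B := default
  set S₀ : Subgroup X := (S : Subgroup B).map B.subtype with hS₀
  have hS₀B : S₀ ≤ B := Subgroup.map_subtype_le _
  have hsup : A ⊔ S₀ = B := by
    refine le_antisymm (sup_le hAB hS₀B) (Subgroup.relIndex_eq_one.1 ?_)
    obtain ⟨j, hj⟩ := hrel
    have h1 : (A ⊔ S₀).relIndex B ∣ p ^ j :=
      (Subgroup.relIndex_dvd_of_le_left B (le_sup_left : A ≤ A ⊔ S₀)).trans hj
    have h2 : (A ⊔ S₀).relIndex B ∣ (S : Subgroup B).index := by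
      have := Subgroup.relIndex_dvd_of_le_left B (le_sup_right : S₀ ≤ A ⊔ S₀)
      refine this.trans (dvd_of_eq ?_)
      rw [Subgroup.relIndex, Subgroup.subgroupOf, hS₀,
        Subgroup.comap_map_eq_self_of_injective B.subtype_injective]
    exact Nat.eq_one_of_dvd_coprimes
      (((hp.out.coprime_iff_not_dvd).2 S.not_dvd_index).pow_left j) h1 h2
  have hAO : A ≤ pPrimeCore p X :=
    Thompson.le_pPrimeCore hA ((hp.out.coprime_iff_not_dvd).2 hAc).symm
  have hle : B ≤ pPrimePCore p X := by
    rw [← hsup]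
    refine sup_le (hAO.trans Thompson.pPrimeCore_le_pPrimePCore)
      (Thompson.le_pPrimePCore_of_isPGroup ?_ (S.isPGroup'.map _))
    have : pPrimeCore p X ⊔ S₀ = pPrimeCore p X ⊔ B := by
      refine le_antisymm (sup_le_sup_left hS₀B _) (sup_le le_sup_left ?_)
      rw [← hsup]
      exact sup_le (hAO.trans le_sup_left) le_sup_right
    rw [this]
    haveI := hB
    exact Subgroup.sup_normal _ _
  exact fun h => hBi (h.trans (Subgroup.index_dvd_of_le hle))

theorem pPrimeCore_relIndex {X : Type*} [Group X] [Finite X] {p : ℕ} [Fact p.Prime] :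
    ∃ j, (pPrimeCore p X).relIndex (pPrimePCore p X) ∣ p ^ j := by
  obtain ⟨j, hj⟩ := IsPGroup.iff_card.1 (Thompson.isPGroup_pCore (p := p) (G := X ⧸ pPrimeCore p X))
  refine ⟨j, dvd_of_eq ?_⟩
  rw [← hj, Thompson.relIndex_eq_card_map_mk', Thompson.map_mk'_pPrimePCore]

theorem not_dvd_card_core {X : Type*} [Group X] [Finite X] {p : ℕ} [hp : Fact p.Prime] :
    ¬ p ∣ Nat.card (pPrimeCore p X) :=
  (hp.out.coprime_iff_not_dvd).1 (Thompson.card_pPrimeCore_coprime (p := p) (G := X)).symm

theorem not_dvd_index_subgroup {X : Type*} [Group X] [Finite X] {p : ℕ} [Fact p.Prime]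
    (H : Subgroup X) (h : ¬ p ∣ (pPrimePCore p X).index) :
    ¬ p ∣ (pPrimePCore p H).index := by
  obtain ⟨j, hj⟩ := pPrimeCore_relIndex (X := X) (p := p)
  refine not_dvd_index_of_series (A := (pPrimeCore p X).subgroupOf H)
    (B := (pPrimePCore p X).subgroupOf H) inferInstance inferInstance
    (fun _ hx => Thompson.pPrimeCore_le_pPrimePCore hx)
    (fun hd => not_dvd_card_core (hd.trans
      (Subgroup.card_comap_dvd_of_injective _ _ H.subtype_injective))) ⟨j, ?_⟩
    (fun hd => h (hd.trans (Subgroup.relIndex_dvd_index_of_normal _ _)))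
  refine Dvd.dvd.trans ?_ hj
  rw [Subgroup.subgroupOf, Subgroup.relIndex_comap, Subgroup.subgroupOf,
    Subgroup.map_comap_eq, Subgroup.range_subtype, Subgroup.relIndex, Subgroup.relIndex]
  set B := pPrimePCore p X
  haveI : ((pPrimeCore p X).subgroupOf B).Normal := inferInstance
  have := Subgroup.relIndex_dvd_index_of_normal ((pPrimeCore p X).subgroupOf B) ((H ⊓ B).subgroupOf B)
  rw [Subgroup.relIndex_subgroupOf (inf_le_right : H ⊓ B ≤ B)] at this
  exact this

theorem not_dvd_index_of_normal {X : Type*} [Group X] [Finite X] {p : ℕ} [Fact p.Prime]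
    (N : Subgroup X) [N.Normal] (hNi : ¬ p ∣ N.index) (h : ¬ p ∣ (pPrimePCore p N).index) :
    ¬ p ∣ (pPrimePCore p X).index := by
  obtain ⟨j, hj⟩ := pPrimeCore_relIndex (X := N) (p := p)
  haveI : (pPrimeCore p N).Characteristic := inferInstance
  haveI : (pPrimePCore p N).Characteristic := by
    refine Subgroup.characteristic_iff_map_le.2 fun φ => ?_
    haveI : ((pPrimePCore p N).map φ.toMonoidHom).Normal :=
      Subgroup.Normal.map inferInstance _ φ.surjective
    let S : Sylow p (pPrimePCore p N) := default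
    have hsup := Thompson.sylow_pPrimePCore_sup S
    rw [← hsup, Subgroup.map_sup, Thompson.map_pPrimeCore_equiv φ]
    refine sup_le (le_of_eq_of_le rfl (by rw [hsup]; exact Thompson.pPrimeCore_le_pPrimePCore)) ?_
    rw [hsup]
    refine Thompson.le_pPrimePCore_of_isPGroup ?_ ((S.isPGroup'.map _).map _)
    have e : (pPrimePCore p N).map φ.toMonoidHom =
        pPrimeCore p N ⊔ ((S : Subgroup (pPrimePCore p N)).map (pPrimePCore p N).subtype).map φ.toMonoidHom := by
      conv_lhs => rw [← hsup, Subgroup.map_sup, Thompson.map_pPrimeCore_equiv φ]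
    rw [← e]
    infer_instance
  refine not_dvd_index_of_series (A := (pPrimeCore p N).map N.subtype)
    (B := (pPrimePCore p N).map N.subtype) (Thompson.map_subtype_normal_of_characteristic _ _)
    (Thompson.map_subtype_normal_of_characteristic _ _)
    (Subgroup.map_mono Thompson.pPrimeCore_le_pPrimePCore)
    (by rw [Subgroup.card_map_of_injective N.subtype_injective]; exact not_dvd_card_core)
    ⟨j, by rw [Subgroup.relIndex_map_map_of_injective _ _ N.subtype_injective]; exact hj⟩ ?_
  rw [Subgroup.index_map_subtype]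
  intro hd
  rcases (Nat.Prime.dvd_mul Fact.out).1 hd with hd | hd
  · exact h hd
  · exact hNi hd

theorem not_dvd_index_equiv {X Y : Type*} [Group X] [Finite X] [Group Y] [Finite Y] {p : ℕ}
    [Fact p.Prime] (e : X ≃* Y) (h : ¬ p ∣ (pPrimePCore p X).index) :
    ¬ p ∣ (pPrimePCore p Y).index := by
  obtain ⟨j, hj⟩ := pPrimeCore_relIndex (X := X) (p := p)
  refine not_dvd_index_of_series (A := (pPrimeCore p X).map e.toMonoidHom)
    (B := (pPrimePCore p X).map e.toMonoidHom) (Subgroup.Normal.map inferInstance _ e.surjective)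
    (Subgroup.Normal.map inferInstance _ e.surjective)
    (Subgroup.map_mono Thompson.pPrimeCore_le_pPrimePCore)
    (by rw [Subgroup.card_map_of_injective (f := e.toMonoidHom) e.injective]; exact not_dvd_card_core)
    ⟨j, by rw [Subgroup.relIndex_map_map_of_injective _ _ e.injective]; exact hj⟩ ?_
  rw [show ((pPrimePCore p X).map e.toMonoidHom).index = (pPrimePCore p X).index from
    Subgroup.index_map_equiv _ e]
  exact h

/-- BG 3.6, in the form of the statement `S1444`. -/
def PrimeZGroupPLength : Prop :=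
  ∀ (H : Type u) [Group H] [Finite H] [Group.IsSolvable H], Odd (Nat.card H) →
    ∀ (N R R₀ : Subgroup H) [N.Normal], (Nat.card N).Coprime N.index →
      Subgroup.IsComplement' N R → R₀ ≤ R → (Nat.card R₀).Prime →
      IsZGroup ↥(N ⊓ Subgroup.centralizer (R₀ : Set H)) →
      ∀ (p : ℕ) [Fact p.Prime], PLengthLE p 1 ↥⁅N, R⁆

theorem exists_prime_dvd_not_sigma {G : Type u} [Group G] [Finite G] (hG : IsMinSimpleOddOrder G)
    (hU : UniquenessTheorem G) {M : Subgroup G} (hM : IsCoatom M) :
    ∃ q : ℕ, q.Prime ∧ q ∣ Nat.card M ∧ q ∉ sigma M := by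
  by_contra hcon
  push Not at hcon
  obtain ⟨h1, -, h3⟩ := sigmaCore_hall hG hU smallRankFrattini fittingRankTwoDerived hM
  have : (sigmaCore M).relIndex M = 1 := Nat.eq_one_iff_not_exists_prime_dvd.2 fun q hq hd =>
    h1.2.2 q hq (hcon q hq (hd.trans (Subgroup.relIndex_dvd_card _ _))) hd
  exact not_le_of_gt (coatom_derived_lt hG hM) ((Subgroup.relIndex_eq_one.1 this).trans h3)

/-- BG 10.6. -/
theorem proper_plength_one {G : Type u} [Group G] [Finite G] (hG : IsMinSimpleOddOrder G)
    (hU : UniquenessTheorem G) (hZ : PrimeZGroupPLength.{u}) (p : ℕ) [hp : Fact p.Prime]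
    (H : Subgroup G) (hH : H ≠ ⊤) : PLengthLE p 1 H := by
  obtain ⟨M, hM, hHM⟩ := exists_coatom_ge hG hH
  rw [plengthLE_one_iff]
  suffices h : ¬ p ∣ (pPrimePCore p M).index from
    not_dvd_index_equiv (Subgroup.subgroupOfEquivOfLe hHM) (not_dvd_index_subgroup (H.subgroupOf M) h)
  haveI : Group.IsSolvable M := coatom_isSolvable hG hM
  by_cases hr : PRankLE p 2 M
  · exact not_dvd_index_pPrimePCore_of_rank_two inferInstance (odd_card_subgroup hG M) hr
  have hpα : p ∈ alpha M := ⟨hp.out, hr⟩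
  obtain ⟨hHall, -⟩ := alphaCore_hall hG hU smallRankFrattini fittingRankTwoDerived hM
  set N : Subgroup M := piCore (alpha M) M with hN
  have hsub : (alphaCore M).subgroupOf M = N := subgroupOf_piCoreOf M
  have hNhall : IsPiHall (alpha M) N :=
    ⟨isPiSub_piCore, fun r hr' hra => by
      have := hHall.2.2 r hr' hra
      rwa [Subgroup.relIndex, hsub] at this⟩
  have hMα : alphaCore M ≠ ⊥ := by
    intro h
    have := hHall.2.2 p hp.out hpα
    rw [h, Subgroup.relIndex_bot_left] at this
    exact this (mem_sigma_of_mem_alpha hG hU hM hpα).2.1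
  obtain ⟨q, hq, hqM, hqs⟩ := exists_prime_dvd_not_sigma hG hU hM
  haveI : Fact q.Prime := ⟨hq⟩
  obtain ⟨x, hx, hxo, hxZ, -⟩ := exists_central_zgroup_centralizer hG hU smallRankFrattini
    fittingRankTwoDerived hM hMα hqM hqs (default : Sylow q M)
  have hxM : x ∈ M := Subgroup.map_subtype_le _ hx
  set R₀ : Subgroup M := Subgroup.zpowers ⟨x, hxM⟩ with hR₀
  have hR₀c : Nat.card R₀ = q := by rw [hR₀, Nat.card_zpowers, Subgroup.orderOf_mk, hxo]
  obtain ⟨R, hR, hR₀R⟩ := Solvable.exists_isPiHall_ge (G := M)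
    (π := {r | r.Prime ∧ r ∉ alpha M}) R₀ (fun r hr' hrd => by
      rw [hR₀c, Nat.prime_dvd_prime_iff_eq hr' hq] at hrd
      exact ⟨hr', fun h => hqs (hrd ▸ mem_sigma_of_mem_alpha hG hU hM h)⟩)
  have hco : (Nat.card N).Coprime N.index := Nat.coprime_of_dvd fun r hr' a b =>
    hNhall.2 r hr' (hNhall.1 r hr' a) b
  have hcompl : Subgroup.IsComplement' N R := by
    have hdj : (Nat.card N).Coprime (Nat.card R) := Nat.coprime_of_dvd fun r hr' a b =>
      (hR.1 r hr' b).2 (hNhall.1 r hr' a)
    refine Subgroup.isComplement'_of_coprime ?_ hdj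
    refine Nat.dvd_antisymm (hdj.mul_dvd_of_dvd_of_dvd N.card_subgroup_dvd_card
      R.card_subgroup_dvd_card) ?_
    rw [← N.card_mul_index]
    refine Nat.mul_dvd_mul_left _ ?_
    have h1 : N.index ∣ Nat.card R * R.index := by
      rw [R.card_mul_index]; exact Subgroup.index_dvd_card N
    refine Nat.Coprime.dvd_of_dvd_mul_right ?_ h1
    refine Nat.coprime_of_dvd fun r hr' a b => ?_
    by_cases hra : r ∈ alpha M
    · exact hNhall.2 r hr' hra a
    · exact hR.2 r hr' ⟨hr', hra⟩ b
  have hNd : N ≤ commutator M := by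
    intro y hy
    obtain ⟨-, -, h3⟩ := sigmaCore_hall hG hU smallRankFrattini fittingRankTwoDerived hM
    have h1 : (y : G) ∈ ⁅M, M⁆ := h3 (alphaCore_le_sigmaCore hG hU hM ⟨y, hy, rfl⟩)
    rw [← Subgroup.map_subtype_commutator M] at h1
    obtain ⟨z, hz, hzy⟩ := h1
    rwa [M.subtype_injective hzy] at hz
  haveI : N.Normal := piCore_normal _ _
  have hNR := ((S1459.result (G := M)).1 N R inferInstance hco hcompl hNd).1
  have hZ' : IsZGroup ↥(N ⊓ Subgroup.centralizer (R₀ : Set M)) := by
    let f : ↥(N ⊓ Subgroup.centralizer (R₀ : Set M)) →*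
        ↥(alphaCore M ⊓ Subgroup.centralizer ({x} : Set G)) :=
      (M.subtype.comp (N ⊓ Subgroup.centralizer (R₀ : Set M)).subtype).codRestrict _ fun z =>
        ⟨⟨z.1, z.2.1, rfl⟩, by
          show ((z : M) : G) ∈ Subgroup.centralizer ({x} : Set G)
          rw [Subgroup.mem_centralizer_iff]
          intro w hw
          rw [Set.mem_singleton_iff.1 hw]
          exact congrArg Subtype.val
            (Subgroup.mem_centralizer_iff.1 z.2.2 ⟨x, hxM⟩ (Subgroup.mem_zpowers _))⟩
    haveI := hxZ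
    refine IsZGroup.of_injective (f := f) fun a b h => ?_
    exact Subtype.ext (Subtype.ext (congrArg Subtype.val h : _))
  have hpl := hZ M (odd_card_subgroup hG M) N R R₀ hco hcompl hR₀R (hR₀c ▸ hq) hZ' p
  rw [plengthLE_one_iff] at hpl
  refine not_dvd_index_of_normal N (hNhall.2 p hp.out hpα) ?_
  exact not_dvd_index_equiv (MulEquiv.subgroupCongr hNR.symm) hpl

end Cfsg.Agent.BGSigma
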