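import Cfsg.Agent.BGSigma.SylowFusion
import Cfsg.Agent.Lib.Solvable.HallPi

/-!
BG 10.7: the shape of a Sylow subgroup of rank at most two.
-/

set_option autoImplicit false

namespace Cfsg.Agent.BGSigma

open Cfsg
open scoped commutatorElement

universe u

/-- BG 4.16 (Blackburn), in the form of the statement `S1448`. -/
def BlackburnRankTwo : Prop :=
  ∀ (G : Type u) [Group G] [Finite G] (p : ℕ) [Fact p.Prime], p ≠ 2 → ∀ (R A : Subgroup G),
    IsPGroup p R → R ≠ ⊥ → PRankLE p 2 R → A ≤ Subgroup.normalizer (R : Set G) →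
    (Nat.card A).Coprime p → Odd (Nat.card A) → ⁅R, A⁆ = R →
    3 < p ∧ (IsMulCommutative R ∨ ∃ R₁ R₂ : Subgroup G, R₁ ⊔ R₂ = R ∧
      (∀ a ∈ R₁, ∀ b ∈ R₂, a * b = b * a) ∧ ¬ IsMulCommutative R₁ ∧ Nat.card R₁ = p ^ 3 ∧
      Monoid.exponent R₁ = p ∧ IsCyclic R₂ ∧
      Subgroup.closure {x : G | x ∈ R₂ ∧ x ^ p = 1} = ⁅R₁, R₁⁆)

/-- In a nonabelian group of order `p³` the derived subgroup is the centre. -/
theorem commutator_eq_center_of_card_prime_cube {G : Type*} [Group G] [Finite G] {p : ℕ}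
    [hp : Fact p.Prime] (R : Subgroup G) (hna : ¬ IsMulCommutative R) (hc : Nat.card R = p ^ 3) :
    ⁅R, R⁆ = R ⊓ Subgroup.centralizer (R : Set G) := by
  have hRp : IsPGroup p R := IsPGroup.of_card hc
  haveI : Nontrivial R := Finite.one_lt_card_iff_nontrivial.1
    (hc ▸ Nat.one_lt_pow (by omega) hp.out.one_lt)
  haveI := hRp.center_nontrivial
  obtain ⟨k, hk⟩ := IsPGroup.iff_card.1 (hRp.to_subgroup (Subgroup.center R))
  have hk1 : k ≠ 0 := by
    rintro rfl
    exact absurd hk (by rw [pow_zero]; exact (Finite.one_lt_card (α := Subgroup.center R)).ne')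
  have hmul := (Subgroup.center R).card_mul_index
  rw [hk, hc] at hmul
  have hk3 : k ≤ 3 := (Nat.pow_dvd_pow_iff_le_right hp.out.one_lt).1 ⟨_, hmul.symm⟩
  have hidx : (Subgroup.center R).index = p ^ (3 - k) := by
    refine Nat.eq_of_mul_eq_mul_left (pow_pos hp.out.pos k) ?_
    rw [hmul, ← pow_add, show k + (3 - k) = 3 by omega]
  have hk' : k = 1 := by
    by_contra hk2
    refine hna ?_
    haveI : IsCyclic (R ⧸ Subgroup.center R) := by
      rcases (show k = 2 ∨ k = 3 by omega) with rfl | rfl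
      · exact isCyclic_of_prime_card (p := p) (by rw [← Subgroup.index_eq_card, hidx, pow_one])
      · haveI : Subsingleton (R ⧸ Subgroup.center R) := (Nat.card_eq_one_iff_unique.1
          (by rw [← Subgroup.index_eq_card, hidx, pow_zero])).1
        infer_instance
    exact isMulCommutative_iff.2 fun a b => (commGroupOfCyclicCenterQuotient
      (QuotientGroup.mk' (Subgroup.center R)) (QuotientGroup.ker_mk' _).le).mul_comm a b
  subst hk'
  haveI : IsMulCommutative (R ⧸ Subgroup.center R) := by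
    have h2 : Nat.card (R ⧸ Subgroup.center R) = p ^ 2 := by
      rw [← Subgroup.index_eq_card, hidx]
    exact IsPGroup.isMulCommutative_of_card_eq_prime_sq h2
  have hle : commutator R ≤ Subgroup.center R :=
    (Subgroup.Normal.quotient_commutative_iff_commutator_le).1 (isMulCommutative_iff.1 ‹_› |> fun h => ⟨⟨h⟩⟩)
  have heq : commutator R = Subgroup.center R := by
    refine Subgroup.eq_of_le_of_card_ge hle ?_
    rw [hk, pow_one]
    obtain ⟨j, hj⟩ := IsPGroup.iff_card.1 (hRp.to_subgroup (commutator R))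
    rcases j with _ | j
    · have hbot : commutator R = ⊥ := Subgroup.eq_bot_of_card_eq _ hj
      exact absurd (isMulCommutative_iff.2 fun a b => commutatorElement_eq_one_iff_mul_comm.1
        ((Subgroup.mem_bot).1 (hbot ▸ Subgroup.commutator_mem_commutator (Subgroup.mem_top a)
          (Subgroup.mem_top b)))) hna
    · rw [hj]
      calc p = p ^ 1 := (pow_one p).symm
        _ ≤ p ^ (j + 1) := Nat.pow_le_pow_right hp.out.pos (by omega)
  rw [← Subgroup.map_subtype_commutator R, heq]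
  ext x
  constructor
  · rintro ⟨z, hz, rfl⟩
    refine ⟨z.2, Subgroup.mem_centralizer_iff.2 fun y hy => ?_⟩
    exact congrArg Subtype.val (Subgroup.mem_center_iff.1 hz ⟨y, hy⟩)
  · rintro ⟨hx, hxc⟩
    exact ⟨⟨x, hx⟩, Subgroup.mem_center_iff.2 fun y =>
      Subtype.ext (Subgroup.mem_centralizer_iff.1 hxc y y.2), rfl⟩

variable {G : Type u} [Group G] [Finite G] (hG : IsMinSimpleOddOrder G)
  (hU : UniquenessTheorem G) (hL : ProperPLengthOne G) (hB : BlackburnRankTwo.{u})
include hG hU hL hB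

/-- BG 10.7. -/
theorem sylow_rank_two_shape (p : ℕ) [hp : Fact p.Prime] (P : Sylow p G)
    (hr : PRankLE p 2 (P : Subgroup G)) :
    IsMulCommutative (P : Subgroup G) ∨ ∃ P₁ P₂ : Subgroup G, P₁ ⊔ P₂ = (P : Subgroup G) ∧ (∀ a ∈ P₁, ∀ b ∈ P₂, a * b = b * a) ∧
        ¬ IsMulCommutative P₁ ∧ Nat.card P₁ = p ^ 3 ∧ Monoid.exponent P₁ = p ∧ IsCyclic P₂ ∧
        Subgroup.closure {x : G | x ∈ P₂ ∧ x ^ p = 1} = P₁ ⊓ Subgroup.centralizer (P₁ : Set G) := by
  by_cases hP1 : (P : Subgroup G) = ⊥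
  · left
    rw [hP1]
    infer_instance
  have hPd : p ∣ Nat.card (P : Subgroup G) := by
    obtain ⟨j, hj⟩ := P.isPGroup'.exists_card_eq
    rcases j with _ | j
    · exact absurd (Subgroup.eq_bot_of_card_eq _ hj) hP1
    · exact hj ▸ dvd_pow_self p j.succ_ne_zero
  set N := Subgroup.normalizer ((P : Subgroup G) : Set G) with hN
  have hNtop : N ≠ ⊤ := normalizer_ne_top hG hP1 fun h => not_isSolvable hG (by
    haveI := (P.isPGroup'.of_equiv ((MulEquiv.subgroupCongr h).trans Subgroup.topEquiv)).isNilpotent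
    infer_instance)
  haveI : ((P : Subgroup G).subgroupOf N).Normal := Subgroup.normal_in_normalizer
  have hco : (Nat.card ((P : Subgroup G).subgroupOf N)).Coprime ((P : Subgroup G).subgroupOf N).index := by
    obtain ⟨j, hj⟩ := P.isPGroup'.exists_card_eq
    rw [Nat.card_congr (Subgroup.subgroupOfEquivOfLe Subgroup.le_normalizer).toEquiv, hj]
    exact ((hp.out.coprime_iff_not_dvd).2 (P.subtype Subgroup.le_normalizer).not_dvd_index).pow_left j
  obtain ⟨V', hV'⟩ := Subgroup.exists_right_complement'_of_coprime hco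
  set V : Subgroup G := V'.map N.subtype with hV
  have hVsub : V.subgroupOf N = V' := Subgroup.comap_map_eq_self_of_injective N.subtype_injective _
  have hcompl : IsComplIn (P : Subgroup G) V N := by
    refine ⟨Subgroup.le_normalizer, Subgroup.map_subtype_le _, ?_, fun m hm => ?_⟩
    · rw [eq_bot_iff]
      rintro _ ⟨hxP, v, hv, rfl⟩
      have := disjoint_iff.1 hV'.disjoint
      have h1 : v ∈ (P : Subgroup G).subgroupOf N ⊓ V' := ⟨hxP, hv⟩
      rw [this, Subgroup.mem_bot] at h1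
      simp [h1]
    · obtain ⟨⟨a, b⟩, hab⟩ := hV'.2 ⟨m, hm⟩
      exact ⟨a, a.2, b, ⟨b, b.2, rfl⟩, congrArg Subtype.val hab.symm⟩
  have hPV := (sylow_commutator_complement hG hU hL p P V hcompl).1
  have hVc : (Nat.card V).Coprime p := by
    refine Nat.Coprime.symm ((hp.out.coprime_iff_not_dvd).2 fun hd => ?_)
    refine (P.subtype (Subgroup.le_normalizer (H := (P : Subgroup G)))).not_dvd_index ?_
    rw [hV, Subgroup.card_map_of_injective N.subtype_injective] at hd
    rwa [Sylow.coe_subtype, hV'.symm.index_eq_card]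
  obtain ⟨-, hor⟩ := hB G p (ne_two_of_dvd hG hPd) P V P.isPGroup' hP1 hr
    hcompl.2.1 hVc (odd_card_subgroup hG V) hPV.symm
  rcases hor with h | ⟨R₁, R₂, h1, h2, h3, h4, h5, h6, h7⟩
  · exact Or.inl h
  · exact Or.inr ⟨R₁, R₂, h1, h2, h3, h4, h5, h6,
      h7.trans (commutator_eq_center_of_card_prime_cube R₁ h3 h4)⟩

end Cfsg.Agent.BGSigma
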