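import Cfsg.Agent.BGSigma.Alpha
import Cfsg.Agent.BGSigma.Beta
import Cfsg.Agent.BGSigma.SylowShape
import Cfsg.Agent.Lib.Coprime.Action

/-!
Inputs of BG Section 11 and the transitivity lemmas used there.
-/

set_option autoImplicit false

namespace Cfsg.Agent.BGSigma

open Cfsg
open scoped commutatorElement

universe u

/-- BG 7.3, in the form of the statement `S1392`. -/
def TransitivityMeet (G : Type u) [Group G] : Prop :=
  ∀ (A : Subgroup G), TransitivityHypothesis A → ∀ (q : ℕ), q.Prime → ¬ q ∣ Nat.card A →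
    ∀ Q₁ ∈ maxInvSubgroups ⊤ A {q}, ∀ Q₂ ∈ maxInvSubgroups ⊤ A {q}, ∀ (H : Subgroup G),
      H ≠ ⊤ → A ≤ H → H ⊓ Q₁ ≠ ⊥ → H ⊓ Q₂ ≠ ⊥ →
      ∃ k ∈ piCoreOf (primesNotDvd (Nat.card A)) (Subgroup.centralizer (A : Set G)),
        Q₂ = Q₁.map (MulAut.conj k).toMonoidHom

/-- BG 7.4, in the form of the statement `S1394`. -/
def TransitivityCentral (G : Type u) [Group G] : Prop :=
  ∀ (A : Subgroup G), TransitivityHypothesis A →
    ¬ RankLE 1 ↥(A ⊓ Subgroup.centralizer (A : Set G)) → ∀ (q : ℕ), q.Prime →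
    ¬ q ∣ Nat.card A → q ∣ Nat.card (Subgroup.centralizer (A : Set G)) →
    ∀ Q₁ ∈ maxInvSubgroups ⊤ A {q}, ∀ Q₂ ∈ maxInvSubgroups ⊤ A {q},
      ∃ k ∈ piCoreOf (primesNotDvd (Nat.card A)) (Subgroup.centralizer (A : Set G)),
        Q₂ = Q₁.map (MulAut.conj k).toMonoidHom

/-- BG 7.6, first case, in the form of the statement `S1396`. -/
def TransitivityCriterion (G : Type u) [Group G] : Prop :=
  ∀ (p : ℕ) [Fact p.Prime], p ∣ Nat.card G → ∀ (A : Subgroup G), IsPGroup p A →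
    IsMulCommutative A → (∀ x ∈ Subgroup.centralizer (A : Set G), x ^ p = 1 ↔ x ∈ A) →
    (∀ H : Subgroup G, H ≠ ⊤ → PLengthLE p 1 H) → TransitivityHypothesis A

/-- BG 3.4, in the form of the statement `S3769`. -/
def PrimeOrderFixedPoint : Prop :=
  ∀ (X : Type u) [Group X] [Finite X] (H : Subgroup X), Group.IsSolvable H → Odd (Nat.card H) →
    ∀ (V : Subgroup X) (l : ℕ), l.Prime → IsElementaryAbelian l V → ¬ l ∣ Nat.card H →
    H ≤ Subgroup.normalizer (V : Set X) → ∀ (K R : Subgroup X), K ≤ H →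
    H ≤ Subgroup.normalizer (K : Set X) → (Nat.card K).Coprime (K.relIndex H) → R ≤ H →
    (Nat.card R).Prime → K ⊓ R = ⊥ → K ⊔ R = H →
    V ⊓ Subgroup.centralizer (R : Set X) = ⊥ → ⁅R, K⁆ ≤ Subgroup.centralizer (V : Set X)

/-- BG 4.18 / 5.5 for automizers, in the form of the first part of the statement `S1454`. -/
def NarrowAutomizer : Prop :=
  ∀ (G : Type u) [Group G] [Finite G] (p : ℕ) [Fact p.Prime], p ≠ 2 → ∀ (R A : Subgroup G),
    IsPGroup p R → IsNarrow p R → A ≤ Subgroup.normalizer (R : Set G) → Group.IsSolvable A →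
    Odd (Nat.card A) → A ⊓ Subgroup.centralizer (R : Set G) = ⊥ → commutator ↥A ≤ pCore p ↥A

/-- The facts from BG 1–10 that Sections 11–16 rest on. -/
structure LocalInputs (G : Type u) [Group G] : Prop where
  uniq : UniquenessTheorem G
  plength : ProperPLengthOne G
  transMeet : TransitivityMeet G
  transCentral : TransitivityCentral G
  transCriterion : TransitivityCriterion G
  narrow : NarrowStructure.{u}
  narrowSylow : NarrowSylowTheorem.{u}
  narrowAut : NarrowAutomizer.{u}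
  blackburn : BlackburnRankTwo.{u}
  fixedPoint : PrimeOrderFixedPoint.{u}

variable {G : Type u} [Group G] [Finite G]

theorem map_conj_comp (S : Subgroup G) (a b : G) :
    (S.map (MulAut.conj b).toMonoidHom).map (MulAut.conj a).toMonoidHom =
      S.map (MulAut.conj (a * b)).toMonoidHom := by
  rw [Subgroup.map_map, map_mul]
  rfl

theorem map_conj_one (S : Subgroup G) : S.map (MulAut.conj (1 : G)).toMonoidHom = S := by
  rw [map_one]; exact Subgroup.map_id S

theorem le_of_normal_hall {π : Set ℕ} {X N Y : Subgroup G} (h : IsPiHallOf π N X)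
    (hn : X ≤ Subgroup.normalizer (N : Set G)) (hYX : Y ≤ X) (hY : IsPiSub π Y) : Y ≤ N := by
  intro y hy
  haveI : (N.subgroupOf X).Normal := (Subgroup.normal_subgroupOf_iff_le_normalizer h.1).2 hn
  rw [← Subgroup.mem_subgroupOf (K := X) (h := ⟨y, hYX hy⟩), ← QuotientGroup.eq_one_iff,
    ← orderOf_eq_one_iff, Nat.eq_one_iff_not_exists_prime_dvd]
  intro r hr hrd
  refine h.2.2 r hr ?_ (hrd.trans (orderOf_dvd_natCard _))
  have h1 : r ∣ orderOf (⟨y, hYX hy⟩ : X) :=
    hrd.trans (orderOf_map_dvd (QuotientGroup.mk' (N.subgroupOf X)) ⟨y, hYX hy⟩)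
  rw [Subgroup.orderOf_mk] at h1
  exact hY r hr (h1.trans (Subgroup.orderOf_mk y hy ▸ orderOf_dvd_natCard (⟨y, hy⟩ : Y)))

theorem isPiSub_of_isPGroup {π : Set ℕ} {p : ℕ} {Y : Subgroup G} (hpp : p.Prime)
    (hY : IsPGroup p Y) (hp : p ∈ π) : IsPiSub π Y := by
  haveI : Fact p.Prime := ⟨hpp⟩
  intro r hr hrd
  obtain ⟨j, hj⟩ := hY.exists_card_eq
  rw [hj] at hrd
  rwa [(Nat.prime_dvd_prime_iff_eq hr hpp).1 (hr.dvd_of_dvd_pow hrd)]

/-- For `p ∈ σ(M)`, a Sylow `p`-subgroup of `G` inside `M` has its normaliser inside `M`. -/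
theorem normalizer_le_of_sylow_le {M : Subgroup G} {p : ℕ} (hp : p ∈ sigma M) (S : Sylow p G)
    (hS : (S : Subgroup G) ≤ M) : Subgroup.normalizer ((S : Subgroup G) : Set G) ≤ M := by
  haveI : Fact p.Prime := ⟨hp.1⟩
  obtain ⟨Q, hQ⟩ := exists_sylow_of_mem_sigma hp
  have hQM : (Q : Subgroup G) ≤ M := Subgroup.le_normalizer.trans hQ
  obtain ⟨m, hm⟩ := MulAction.exists_smul_eq M (Q.subtype hQM) (S.subtype hS)
  rw [Sylow.smul_subtype] at hm
  have hmS : (m : G) • Q = S := Sylow.subtype_injective hm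
  intro x hx
  have h1 : (m : G)⁻¹ * x * m ∈ M := by
    refine hQ (Sylow.smul_eq_iff_mem_normalizer.1 ?_)
    have hxS : x • S = S := Sylow.smul_eq_iff_mem_normalizer.2 hx
    rw [mul_smul, mul_smul, hmS, hxS, ← hmS, inv_smul_smul]
  have := M.mul_mem (M.mul_mem m.2 h1) (M.inv_mem m.2)
  simpa [mul_assoc] using this

theorem transitivity_of_maximal (hG : IsMinSimpleOddOrder G) (h : LocalInputs G) {p : ℕ}
    [Fact p.Prime] (hpG : p ∣ Nat.card G) {A : Subgroup G} (hA : IsElementaryAbelian p A)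
    (hmax : ∀ B : Subgroup G, IsElementaryAbelian p B → A ≤ B → B = A) :
    TransitivityHypothesis A := by
  refine h.transCriterion p hpG A (isPGroup_of_pow_eq_one Fact.out hA.2) hA.1
    (fun x hx => ⟨fun hxp => ?_, fun hxA => hA.2 x hxA⟩) (h.plength p)
  have := hmax (A ⊔ Subgroup.zpowers x) (elemAbelian_sup hA (elemAbelian_zpowers hxp)
    (Subgroup.zpowers_le.2 hx)) le_sup_left
  exact this ▸ Subgroup.mem_sup_right (Subgroup.mem_zpowers x)

theorem mem_maxInv_of_sylow {A : Subgroup G} {q : ℕ} [Fact q.Prime] (Q : Sylow q G)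
    (hA : A ≤ Subgroup.normalizer ((Q : Subgroup G) : Set G)) :
    (Q : Subgroup G) ∈ maxInvSubgroups ⊤ A {q} := by
  refine ⟨⟨le_top, isPiSub_of_isPGroup Fact.out Q.isPGroup' rfl, hA⟩, ?_⟩
  rintro R ⟨-, hRq, -⟩ hle
  refine Q.is_maximal' (IsPGroup.of_card (n := (Nat.card R).factorization q) ?_) hle
  have hn := Nat.eq_prime_pow_of_unique_prime_dvd (p := q) (Nat.card_pos (α := R)).ne'
    fun {r} hr hrd => Set.mem_singleton_iff.1 (hRq r hr hrd)
  conv_rhs => rw [hn, Nat.Prime.factorization_pow Fact.out]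
  simpa using hn

theorem piCoreOf_le_centralizer (A : Subgroup G) :
    piCoreOf (primesNotDvd (Nat.card A)) (Subgroup.centralizer (A : Set G)) ≤
      Subgroup.centralizer (A : Set G) :=
  piCoreOf_le _

/-- A Sylow `q`-subgroup of `G` inside the normal Hall subgroup `N` of `M`, normalised by `A` and
containing a given `A`-invariant `q`-subgroup. -/
theorem exists_invariant_sylow_in {π : Set ℕ} {M N A U : Subgroup G} {q : ℕ} [Fact q.Prime]
    (hqπ : q ∈ π) (hq : q ∈ sigma M) (hN : IsPiHallOf π N M)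
    (hn : M ≤ Subgroup.normalizer (N : Set G)) (hAM : A ≤ M) (hAs : Group.IsSolvable A)
    (hco : (Nat.card A).Coprime (Nat.card N)) (hUM : U ≤ M) (hUq : IsPGroup q U)
    (hUA : A ≤ Subgroup.normalizer (U : Set G)) :
    ∃ Q : Sylow q G, U ≤ Q ∧ (Q : Subgroup G) ≤ N ∧
      A ≤ Subgroup.normalizer ((Q : Subgroup G) : Set G) := by
  have hUN : U ≤ N := le_of_normal_hall hN hn hUM (isPiSub_of_isPGroup Fact.out hUq hqπ)
  obtain ⟨P, hUP, hAP⟩ := Coprime.exists_invariant_sylow_ge A N (hAM.trans hn) hco (Or.inl hAs)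
    q U hUN hUq hUA
  set P₀ := (P : Subgroup N).map N.subtype with hP₀
  have hd : ¬ q ∣ P₀.index := by
    intro hd
    rw [← Subgroup.relIndex_mul_index (Subgroup.map_subtype_le (P : Subgroup N)),
      ← Subgroup.relIndex_mul_index hN.1] at hd
    rcases (Nat.Prime.dvd_mul Fact.out).1 hd with h' | h'
    · refine P.not_dvd_index ?_
      rwa [Subgroup.relIndex, Subgroup.subgroupOf,
        Subgroup.comap_map_eq_self_of_injective N.subtype_injective] at h'
    · rcases (Nat.Prime.dvd_mul Fact.out).1 h' with h'' | h''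
      · exact hN.2.2 q Fact.out hqπ h''
      · exact not_dvd_index_of_mem_sigma hq h''
  exact ⟨(P.isPGroup'.map N.subtype).toSylow hd, hUP, Subgroup.map_subtype_le _, hAP⟩

variable (hG : IsMinSimpleOddOrder G) (h : LocalInputs G)
include hG h

/-- Two conjugates of `M` sharing a Sylow subgroup for a prime of `σ(M)` are equal. -/
theorem mem_of_sylow_le_conj {M : Subgroup G} (hM : IsCoatom M) {q : ℕ} (hq : q ∈ sigma M)
    (S : Sylow q G) (hS : (S : Subgroup G) ≤ M) {g : G}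
    (hSg : (S : Subgroup G) ≤ M.map (MulAut.conj g).toMonoidHom) : g ∈ M := by
  haveI : Fact q.Prime := ⟨hq.1⟩
  have hS1 : (S : Subgroup G) ≠ ⊥ :=
    S.ne_bot_of_dvd_card ((sigma_dvd_card hq).trans M.card_subgroup_dvd_card)
  obtain ⟨c, hc, he⟩ := exists_conj_eq_of_le_aux hG h.uniq smallRankFrattini hM hq
    (S : Subgroup G) S.isPGroup' hS1 1 g (by rw [map_conj_one]; exact hS) hSg
  rw [mul_one, map_conj_eq_self (Subgroup.le_normalizer
    (normalizer_le_of_sylow_le hq S hS (Subgroup.centralizer_le_normalizer _ hc)))] at he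
  rw [← coatom_self_normalizing hG hM, Subgroup.mem_normalizer_iff_map_conj_eq]
  exact he

/-- The basic contradiction of BG Section 11: an invariant Sylow subgroup of `M` and one of
`M^g` meeting a common proper overgroup of `A` force `g ∈ M`. -/
theorem mem_of_meet {M A H : Subgroup G} (hM : IsCoatom M) {q : ℕ} [Fact q.Prime]
    (hq : q ∈ sigma M) (hTH : TransitivityHypothesis A) (hqA : ¬ q ∣ Nat.card A)
    (hCA : Subgroup.centralizer (A : Set G) ≤ M) (Q Q' : Sylow q G)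
    (hQM : (Q : Subgroup G) ≤ M) {g : G}
    (hQ'M : (Q' : Subgroup G) ≤ M.map (MulAut.conj g).toMonoidHom)
    (hAQ : A ≤ Subgroup.normalizer ((Q : Subgroup G) : Set G))
    (hAQ' : A ≤ Subgroup.normalizer ((Q' : Subgroup G) : Set G))
    (hH : H ≠ ⊤) (hAH : A ≤ H) (h1 : H ⊓ Q ≠ ⊥) (h2 : H ⊓ Q' ≠ ⊥) : g ∈ M := by
  obtain ⟨k, hk, he⟩ := h.transMeet A hTH q Fact.out hqA _ (mem_maxInv_of_sylow Q hAQ) _
    (mem_maxInv_of_sylow Q' hAQ') H hH hAH h1 h2
  refine mem_of_sylow_le_conj hG h hM hq Q' ?_ hQ'M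
  rw [he]
  exact (Subgroup.map_mono hQM).trans
    (le_of_eq (map_conj_eq_self (Subgroup.le_normalizer (hCA (piCoreOf_le_centralizer A hk)))))

/-- The same, when `q` divides the order of `C(A)`. -/
theorem mem_of_dvd_centralizer {M A : Subgroup G} (hM : IsCoatom M) {p q : ℕ} [Fact p.Prime]
    [Fact q.Prime] (hq : q ∈ sigma M) (hA : IsElementaryAbelian p A) (hAc : Nat.card A = p ^ 2)
    (hTH : TransitivityHypothesis A) (hqA : ¬ q ∣ Nat.card A)
    (hqC : q ∣ Nat.card (Subgroup.centralizer (A : Set G)))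
    (hCA : Subgroup.centralizer (A : Set G) ≤ M) (Q Q' : Sylow q G)
    (hQM : (Q : Subgroup G) ≤ M) {g : G}
    (hQ'M : (Q' : Subgroup G) ≤ M.map (MulAut.conj g).toMonoidHom)
    (hAQ : A ≤ Subgroup.normalizer ((Q : Subgroup G) : Set G))
    (hAQ' : A ≤ Subgroup.normalizer ((Q' : Subgroup G) : Set G)) : g ∈ M := by
  have hr : ¬ RankLE 1 ↥(A ⊓ Subgroup.centralizer (A : Set G)) := by
    refine not_rankLE_of_not_prankLE (Fact.out : p.Prime)
      (not_prankLE_of_elemAbelian hA (le_inf le_rfl ?_) ?_)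
    · intro a ha
      rw [Subgroup.mem_centralizer_iff]
      exact fun b hb => congrArg Subtype.val (hA.1.is_comm.comm (⟨b, hb⟩ : A) ⟨a, ha⟩)
    · rw [hAc, pow_one]; nlinarith [(Fact.out : p.Prime).two_le]
  obtain ⟨k, hk, he⟩ := h.transCentral A hTH hr q Fact.out hqA hqC _ (mem_maxInv_of_sylow Q hAQ) _
    (mem_maxInv_of_sylow Q' hAQ')
  refine mem_of_sylow_le_conj hG h hM hq Q' ?_ hQ'M
  rw [he]
  exact (Subgroup.map_mono hQM).trans
    (le_of_eq (map_conj_eq_self (Subgroup.le_normalizer (hCA (piCoreOf_le_centralizer A hk)))))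

end Cfsg.Agent.BGSigma
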