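import Cfsg.Agent.BGSigma.Cores
import Cfsg.Agent.Lib.Thompson.PSolvable
import Cfsg.Agent.S1450
import Cfsg.Agent.S1451

/-!
The small-rank inputs of BG Section 10, and `p`-length one in terms of `O_{p',p}`.
-/

set_option autoImplicit false

namespace Cfsg.Agent.BGSigma

open Cfsg

universe u

/-- Frattini form of `p`-length one. -/
theorem frattini_of_not_dvd_index {H : Type*} [Group H] [Finite H] {p : ℕ} [Fact p.Prime]
    (h : ¬ p ∣ (pPrimePCore p H).index) (S : Sylow p H) :
    pPrimeCore p H ⊔ Subgroup.normalizer ((S : Subgroup H) : Set H) = ⊤ := by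
  have hSK : (S : Subgroup H) ≤ pPrimePCore p H := by
    intro x hx
    rw [← QuotientGroup.eq_one_iff, ← orderOf_eq_one_iff, Nat.eq_one_iff_not_exists_prime_dvd]
    intro q hq hqd
    have h1 : q ∣ orderOf x :=
      hqd.trans (orderOf_map_dvd (QuotientGroup.mk' (pPrimePCore p H)) x)
    obtain ⟨j, hj⟩ := S.isPGroup'.exists_card_eq
    have h2 : orderOf x ∣ p ^ j := by
      rw [← hj, ← Subgroup.orderOf_mk x hx]; exact orderOf_dvd_natCard _
    have hqp : q = p := (Nat.prime_dvd_prime_iff_eq hq Fact.out).1 (hq.dvd_of_dvd_pow (h1.trans h2))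
    subst hqp
    rw [Subgroup.index_eq_card] at h
    exact h (hqd.trans (orderOf_dvd_natCard _))
  have hsup : pPrimeCore p H ⊔ (S : Subgroup H) = pPrimePCore p H := by
    have := Thompson.sylow_pPrimePCore_sup (S.subtype hSK)
    rwa [Sylow.coe_subtype, Subgroup.map_subgroupOf_eq_of_le hSK] at this
  refine top_le_iff.1 (le_trans (Sylow.normalizer_sup_eq_top' S hSK).ge (sup_le le_sup_right ?_))
  rw [← hsup]
  exact sup_le le_sup_left (le_sup_of_le_right Subgroup.le_normalizer)

theorem plengthLE_one_iff {H : Type*} [Group H] [Finite H] {p : ℕ} [Fact p.Prime] :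
    PLengthLE p 1 H ↔ ¬ p ∣ (pPrimePCore p H).index := by
  have h1 : (upperPSeries p H 1).1 = pPrimeCore p H := by
    have e : (upperPSeries p H 1).1 =
        (pPrimeCore p (H ⧸ (⊥ : Subgroup H))).comap (QuotientGroup.mk' (⊥ : Subgroup H)) := rfl
    rw [e, ← Thompson.map_pPrimeCore_equiv (p := p) (QuotientGroup.quotientBot (G := H)).symm]
    show Subgroup.comap (QuotientGroup.mk' (⊥ : Subgroup H))
      ((pPrimeCore p H).map (QuotientGroup.mk' (⊥ : Subgroup H))) = _
    rw [Subgroup.comap_map_eq, QuotientGroup.ker_mk', sup_bot_eq]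
  have h2 : (upperPSeries p H 2).1 = pPrimePCore p H := by
    show Subgroup.comap (QuotientGroup.mk' (upperPSeries p H 1).1) _ = _
    unfold pPrimePCore
    congr! <;> exact h1
  have h3 : (upperPSeries p H 3).1 = ⊤ ↔ ¬ p ∣ (upperPSeries p H 2).1.index := by
    set K := (upperPSeries p H 2).1
    haveI : K.Normal := (upperPSeries p H 2).2
    have e : (upperPSeries p H 3).1 = (pPrimeCore p (H ⧸ K)).comap (QuotientGroup.mk' K) := rfl
    rw [e, show Subgroup.index K = Nat.card (H ⧸ K) from Subgroup.index_eq_card K]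
    constructor
    · intro h hd
      have htop : pPrimeCore p (H ⧸ K) = ⊤ :=
        Subgroup.comap_injective (QuotientGroup.mk'_surjective K) (h.trans (Subgroup.comap_top _).symm)
      have := Thompson.card_pPrimeCore_coprime (p := p) (G := H ⧸ K)
      rw [htop, Subgroup.card_top] at this
      exact ((Nat.Prime.coprime_iff_not_dvd Fact.out).1 this.symm) hd
    · intro h
      have : pPrimeCore p (H ⧸ K) = ⊤ := top_le_iff.1 (Thompson.le_pPrimeCore inferInstance
        (by rw [Subgroup.card_top]; exact ((Nat.Prime.coprime_iff_not_dvd Fact.out).2 h).symm))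
      rw [this, Subgroup.comap_top]
  unfold PLengthLE
  rw [show 2 * 1 + 1 = 3 from rfl, h3, h2]

theorem not_dvd_index_pPrimePCore_of_rank_two {H : Type u} [Group H] [Finite H] {p : ℕ}
    [Fact p.Prime] (hs : Group.IsSolvable H) (hodd : Odd (Nat.card H)) (hr : PRankLE p 2 H) :
    ¬ p ∣ (pPrimePCore p H).index := by
  by_cases hd : p ∣ Nat.card H
  · haveI := hs
    exact (Nat.Prime.coprime_iff_not_dvd Fact.out).1
      (S1450.result hodd p hd hr).2.2.2.2.2.symm
  · exact fun h => hd (h.trans (Subgroup.index_dvd_card _))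

theorem smallRankFrattini : SmallRankFrattini.{u} := fun _ _ _ _ _ hs hodd hr S =>
  frattini_of_not_dvd_index (not_dvd_index_pPrimePCore_of_rank_two hs hodd hr) S

theorem fittingRankTwoDerived : FittingRankTwoDerived.{u} := fun H _ _ hs hodd hr =>
  haveI := hs
  (S1451.result hodd (Or.inr hr)).1

theorem rankTwoLargestPrime : RankTwoLargestPrime.{u} := by
  intro H _ _ p _ hs hodd hr hpd hmax S
  haveI := hs
  have hp : p.Prime := Fact.out
  obtain ⟨N, hN, hNH⟩ := (S1451.result hodd (Or.inl hr)).2.2 (p - 1)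
  have hpN : IsPGroup p N := by
    have hn := Nat.eq_prime_pow_of_unique_prime_dvd (p := p) (Nat.card_pos (α := N)).ne'
      (fun {q} hq hqd => by
        have h1 : q.Prime ∧ p - 1 < q := hNH.1 q hq hqd
        have h2 := hmax q hq (hqd.trans N.card_subgroup_dvd_card)
        omega)
    exact IsPGroup.of_card hn
  let T : Sylow p H := hpN.toSylow (hNH.2 p hp ⟨hp, by have := hp.one_lt; omega⟩)
  haveI : N.Characteristic := hN
  haveI : (T : Subgroup H).Normal := (inferInstance : N.Normal)
  obtain ⟨g, hg⟩ := MulAction.exists_smul_eq H T S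
  rw [← hg, Sylow.smul_eq_of_normal]
  infer_instance

end Cfsg.Agent.BGSigma
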