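import Cfsg.Agent.BGSigma.Basic
import Cfsg.Agent.Lib.Thompson.Cores

/-!
`O_π(G)` (`Cfsg.piCore`), its image inside a subgroup, and `M_σ`, `M_α`.
-/

set_option autoImplicit false

namespace Cfsg.Agent.BGSigma

open Cfsg

/-- Every prime divisor of the order of `H` lies in `π`. -/
def IsPiSub {G : Type*} [Group G] (π : Set ℕ) (H : Subgroup G) : Prop :=
  ∀ p : ℕ, p.Prime → p ∣ Nat.card H → p ∈ π

variable {G : Type*} [Group G] {π : Set ℕ}

theorem IsPiSub.mono_le [Finite G] {H K : Subgroup G} (hK : IsPiSub π K) (h : H ≤ K) :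
    IsPiSub π H :=
  fun p hp hd => hK p hp (hd.trans (Subgroup.card_dvd_of_le h))

theorem IsPiSub.map {H : Subgroup G} {G' : Type*} [Group G'] (hH : IsPiSub π H) (f : G →* G') :
    IsPiSub π (H.map f) :=
  fun p hp hd => hH p hp (hd.trans (H.card_map_dvd f))

theorem IsPiSub.subgroupOf {H K : Subgroup G} (hH : IsPiSub π H) :
    IsPiSub π (H.subgroupOf K) :=
  fun p hp hd => hH p hp (hd.trans (Subgroup.card_comap_dvd_of_injective H K.subtype K.subtype_injective))

theorem isPiSub_bot : IsPiSub π (⊥ : Subgroup G) :=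
  fun p hp hd => absurd (by simpa using hd) hp.ne_one

theorem IsPiSub.sup_normal {H N : Subgroup G} [N.Normal] (hH : IsPiSub π H) (hN : IsPiSub π N) :
    IsPiSub π (H ⊔ N) := fun p hp hd =>
  (hp.dvd_mul.1 (hd.trans (Thompson.card_sup_dvd_mul H N))).elim (hH p hp) (hN p hp)

theorem isPiSub_inf_eq_bot [Finite G] {H K : Subgroup G} {ρ : Set ℕ} (hH : IsPiSub π H)
    (hK : IsPiSub ρ K) (h : ∀ p : ℕ, p.Prime → p ∈ π → p ∉ ρ) : H ⊓ K = ⊥ := by
  refine Subgroup.eq_bot_of_card_eq _ (Nat.eq_one_iff_not_exists_prime_dvd.2 fun p hp hd => ?_)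
  exact h p hp (hH p hp (hd.trans (Subgroup.card_dvd_of_le inf_le_left)))
    (hK p hp (hd.trans (Subgroup.card_dvd_of_le inf_le_right)))

theorem le_piCore {N : Subgroup G} (hN : N.Normal) (h : IsPiSub π N) : N ≤ piCore π G :=
  le_sSup ⟨hN, h⟩

theorem isPiSub_piCore [Finite G] : IsPiSub π (piCore π G) := by
  classical
  obtain ⟨t, -, hmax⟩ := (Set.toFinite {N : Subgroup G | N.Normal ∧ IsPiSub π N}).exists_le_maximal
    (show (⊥ : Subgroup G) ∈ {N : Subgroup G | N.Normal ∧ IsPiSub π N} from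
      ⟨inferInstance, isPiSub_bot⟩)
  have : piCore π G = t := by
    refine le_antisymm (sSup_le ?_) (le_piCore hmax.1.1 hmax.1.2)
    rintro N ⟨hN, hp⟩
    haveI := hN
    haveI := hmax.1.1
    exact le_sup_left.trans (hmax.2 ⟨Subgroup.sup_normal N t, IsPiSub.sup_normal hp hmax.1.2⟩
      le_sup_right)
  rw [this]
  exact hmax.1.2

theorem map_piCore_equiv {G' : Type*} [Group G'] (f : G ≃* G') :
    (piCore π G).map f.toMonoidHom = piCore π G' :=
  Thompson.map_sSup_eq f (fun N hN => ⟨hN.1.map _ f.surjective, IsPiSub.map hN.2 _⟩)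
    (fun N hN => ⟨hN.1.map _ f.symm.surjective, IsPiSub.map hN.2 _⟩)

theorem piCore_characteristic : (piCore π G).Characteristic :=
  Subgroup.characteristic_iff_map_eq.2 fun φ => map_piCore_equiv φ

/-! ### `O_π(X)` as a subgroup of the ambient group -/

theorem piCoreOf_le (X : Subgroup G) : piCoreOf π X ≤ X := Subgroup.map_subtype_le _

theorem piCoreOf_normalized (X : Subgroup G) :
    Subgroup.normalizer (X : Set G) ≤ Subgroup.normalizer (piCoreOf π X : Set G) := by
  intro g hg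
  rw [Subgroup.mem_normalizer_iff_map_conj_eq] at hg ⊢
  let e : X ≃* X := ((MulAut.conj g).subgroupMap X).trans (MulEquiv.subgroupCongr hg)
  have he := map_piCore_equiv (π := π) e
  have hcomp : X.subtype.comp e.toMonoidHom = (MulAut.conj g).toMonoidHom.comp X.subtype := rfl
  calc (piCoreOf π X).map (MulAut.conj g).toMonoidHom
      = (piCore π X).map (X.subtype.comp e.toMonoidHom) := by
        rw [hcomp, piCoreOf, Subgroup.map_map]
    _ = piCoreOf π X := by rw [← Subgroup.map_map, he]; rfl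

theorem le_piCoreOf {X N : Subgroup G} (hNX : N ≤ X) (hn : X ≤ Subgroup.normalizer (N : Set G))
    (hN : IsPiSub π N) : N ≤ piCoreOf π X := by
  have h1 : (N.subgroupOf X).Normal := (Subgroup.normal_subgroupOf_iff_le_normalizer hNX).2 hn
  have := Subgroup.map_mono (f := X.subtype) (le_piCore h1 hN.subgroupOf)
  rwa [Subgroup.map_subgroupOf_eq_of_le hNX] at this

theorem isPiSub_piCoreOf [Finite G] (X : Subgroup G) : IsPiSub π (piCoreOf π X) :=
  isPiSub_piCore.map _

theorem subgroupOf_piCoreOf (X : Subgroup G) : (piCoreOf π X).subgroupOf X = piCore π X :=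
  Subgroup.comap_map_eq_self_of_injective X.subtype_injective _

theorem sigmaCore_eq (M : Subgroup G) : sigmaCore M = piCoreOf (sigma M) M := rfl

theorem alphaCore_eq (M : Subgroup G) : alphaCore M = piCoreOf (alpha M) M := rfl

theorem sigmaCore_le (M : Subgroup G) : sigmaCore M ≤ M := piCoreOf_le M

theorem le_normalizer_sigmaCore (M : Subgroup G) :
    M ≤ Subgroup.normalizer (sigmaCore M : Set G) :=
  Subgroup.le_normalizer.trans (piCoreOf_normalized M)

theorem isPiSub_sigmaCore [Finite G] (M : Subgroup G) : IsPiSub (sigma M) (sigmaCore M) :=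
  isPiSub_piCoreOf M

/-- A normal Hall `π`-subgroup of `X` equals `O_π(X)`. -/
theorem eq_piCoreOf_of_normal_hall [Finite G] {X N : Subgroup G} (h : IsPiHallOf π N X)
    (hn : X ≤ Subgroup.normalizer (N : Set G)) : N = piCoreOf π X := by
  refine le_antisymm (le_piCoreOf h.1 hn h.2.1) fun x hx => ?_
  have hxX : x ∈ X := piCoreOf_le X hx
  haveI : (N.subgroupOf X).Normal := (Subgroup.normal_subgroupOf_iff_le_normalizer h.1).2 hn
  rw [← Subgroup.mem_subgroupOf (K := X) (h := ⟨x, hxX⟩), ← QuotientGroup.eq_one_iff,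
    ← orderOf_eq_one_iff, Nat.eq_one_iff_not_exists_prime_dvd]
  intro p hp hd
  refine h.2.2 p hp ?_ (hd.trans (orderOf_dvd_natCard _))
  have h1 : p ∣ orderOf (⟨x, hxX⟩ : X) :=
    hd.trans (orderOf_map_dvd (QuotientGroup.mk' (N.subgroupOf X)) ⟨x, hxX⟩)
  rw [Subgroup.orderOf_mk] at h1
  exact isPiSub_piCoreOf X p hp (h1.trans ((orderOf_dvd_iff_pow_eq_one).2
    (congrArg Subtype.val (pow_card_eq_one' (G := piCoreOf π X) (x := ⟨x, hx⟩)))))

end Cfsg.Agent.BGSigma
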