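import Cfsg.Agent.S1403
import Cfsg.Agent.S1444
import Cfsg.Agent.S1448
import Cfsg.Agent.S1453
import Cfsg.Agent.S1455
import Cfsg.Agent.S1392
import Cfsg.Agent.S1394
import Cfsg.Agent.S1396
import Cfsg.Agent.S3769
import Cfsg.Agent.OddLocal44.NarrowAction
import Cfsg.Agent.BGSigma.Transitive
import Cfsg.Agent.BGSigma.SylowShape
import Cfsg.Agent.BGSigma.Beta
import Cfsg.Agent.BGSigma.PLength

/-!
Discharging the inputs of BG Section 10.
-/

set_option autoImplicit false

namespace Cfsg.Agent.BGSigma

open Cfsg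

universe u

theorem uniquenessTheorem {G : Type u} [Group G] [Finite G] (hG : IsMinSimpleOddOrder G) :
    UniquenessTheorem G := fun K a b c => S1403.result hG K a b c

theorem primeZGroupPLength : PrimeZGroupPLength.{u} :=
  fun H _ _ _ hodd N R R₀ _ hco hR hle hp hZ p _ => S1444.result hodd N R R₀ hco hR hle hp hZ p

theorem properPLengthOne {G : Type u} [Group G] [Finite G] (hG : IsMinSimpleOddOrder G) :
    ProperPLengthOne G := fun p _ H hH =>
  proper_plength_one hG (uniquenessTheorem hG) primeZGroupPLength p H hH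

theorem narrowStructure : NarrowStructure.{u} :=
  fun _ _ _ p _ hp hR hr E hE hE2 hmax => S1453.result p hp hR hr E hE hE2 hmax

theorem narrowSylowTheorem : NarrowSylowTheorem.{u} :=
  fun _ _ _ _ hodd p _ hpG S hS hpl => S1455.result hodd p hpG S hS hpl

theorem blackburnRankTwo : BlackburnRankTwo.{u} :=
  fun _ _ _ p _ hp R A h1 h2 h3 h4 h5 h6 h7 => S1448.result p hp R A h1 h2 h3 h4 h5 h6 h7

theorem narrowAutomizer : NarrowAutomizer.{u} := by
  intro G _ _ p _ hp R A hR hn hA hs hodd hf
  refine (OddLocal44.commutator_le_pCore ?_).1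
  exact (OddLocal44.isPGroup_commutator_narrow hp hR hn hA hs hodd hf).of_equiv
    (((commutator A).equivMapOfInjective A.subtype A.subtype_injective).trans
      (MulEquiv.subgroupCongr (Subgroup.map_subtype_commutator A))).symm

theorem localInputs {G : Type u} [Group G] [Finite G] (hG : IsMinSimpleOddOrder G) :
    LocalInputs G where
  uniq := uniquenessTheorem hG
  plength := properPLengthOne hG
  transMeet := fun A h q hq hqA Q1 h1 Q2 h2 H h3 h4 h5 h6 => S1392.result hG A h q hq hqA Q1 Q2 h1 h2 H h3 h4 h5 h6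
  transCentral := fun A h h0 q hq hqA hqC Q1 h1 Q2 h2 => S1394.result hG A h h0 q hq hqA hqC Q1 h1 Q2 h2
  transCriterion := fun p _ hp A hA hc h1 h2 => S1396.result hG p hp A hA hc (Or.inl ⟨h1, h2⟩)
  narrow := narrowStructure
  narrowSylow := narrowSylowTheorem
  narrowAut := narrowAutomizer
  blackburn := blackburnRankTwo
  fixedPoint := fun X _ _ H hs ho V l hl hV hd hn K R h1 h2 h3 h4 h5 h6 h7 h8 =>
    S3769.result H hs ho V hl hV hd hn K R h1 h2 h3 h4 h5 h6 h7 h8

end Cfsg.Agent.BGSigma
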