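import Cfsg.Agent.BGSigma.ExceptionalNT

/-!
BG 12.4 and 12.5.
-/

set_option autoImplicit false

namespace Cfsg.Agent.BGSigma

open Cfsg
open scoped Pointwise
open scoped commutatorElement

universe u

variable {G : Type u} [Group G] [Finite G]

/-- A subgroup of order prime to the index of a normalised subgroup lies in it. -/
theorem le_of_coprime_relIndex {N X Y : Subgroup G} (hNX : N ≤ X)
    (hn : X ≤ Subgroup.normalizer (N : Set G)) (hYX : Y ≤ X)
    (hco : (Nat.card Y).Coprime (N.relIndex X)) : Y ≤ N := by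
  intro y hy
  haveI : (N.subgroupOf X).Normal := (Subgroup.normal_subgroupOf_iff_le_normalizer hNX).2 hn
  rw [← Subgroup.mem_subgroupOf (K := X) (h := ⟨y, hYX hy⟩), ← QuotientGroup.eq_one_iff,
    ← orderOf_eq_one_iff]
  refine Nat.eq_one_of_dvd_coprimes hco ?_ (orderOf_dvd_natCard _)
  refine (orderOf_map_dvd (QuotientGroup.mk' (N.subgroupOf X)) ⟨y, hYX hy⟩).trans ?_
  rw [Subgroup.orderOf_mk, ← Subgroup.orderOf_mk y hy]
  exact orderOf_dvd_natCard _

/-- A subgroup is contained in `D` once every Sylow subgroup of it is. -/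
theorem le_of_sylow_le {N D : Subgroup G}
    (h : ∀ q : ℕ, q.Prime → q ∣ Nat.card N → ∃ S : Sylow q N, (S : Subgroup N).map N.subtype ≤ D) :
    N ≤ D := by
  have hdvd : Nat.card N ∣ Nat.card (D ⊓ N : Subgroup G) := by
    refine (Nat.factorization_prime_le_iff_dvd Nat.card_pos.ne' Nat.card_pos.ne').mp fun q hq => ?_
    haveI := Fact.mk hq
    by_cases hd : q ∣ Nat.card N
    · obtain ⟨S, hS⟩ := h q hq hd
      have hc : Nat.card ((S : Subgroup N).map N.subtype) = q ^ (Nat.card N).factorization q := by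
        rw [Subgroup.card_map_of_injective N.subtype_injective, S.card_eq_multiplicity]
      exact (hq.pow_dvd_iff_le_factorization Nat.card_pos.ne').mp
        (hc ▸ Subgroup.card_dvd_of_le (le_inf hS (Subgroup.map_subtype_le _)))
    · rw [Nat.factorization_eq_zero_of_not_dvd hd]; exact Nat.zero_le _
  have := Subgroup.eq_of_le_of_card_ge (inf_le_right : D ⊓ N ≤ N) (Nat.le_of_dvd Nat.card_pos hdvd)
  exact this ▸ inf_le_left

variable (hG : IsMinSimpleOddOrder G) (h : LocalInputs G)
include hG h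

/-- The normal Sylow subgroup of a nilpotent `M_σ`. -/
theorem exists_normal_sylow {M : Subgroup G} (hM : IsCoatom M) {q : ℕ} [hq : Fact q.Prime]
    (hqs : q ∈ sigma M) (hnil : Group.IsNilpotent (sigmaCore M)) :
    ∃ Q : Sylow q G, (Q : Subgroup G) ≤ sigmaCore M ∧
      M ≤ Subgroup.normalizer ((Q : Subgroup G) : Set G) ∧
      ∀ Y : Subgroup G, Y ≤ M → IsPGroup q Y → Y ≤ (Q : Subgroup G) := by
  obtain ⟨hHall, -, -⟩ := sigmaCore_hall hG h.uniq smallRankFrattini fittingRankTwoDerived hM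
  let S : Sylow q (sigmaCore M) := default
  haveI : (S : Subgroup (sigmaCore M)).Normal := Transfer.nilpotent_sylow_normal hnil S
  haveI : (S : Subgroup (sigmaCore M)).Characteristic := S.characteristic_of_normal inferInstance
  set S₀ := (S : Subgroup (sigmaCore M)).map (sigmaCore M).subtype with hS₀
  have hd : ¬ q ∣ S₀.index := by
    intro hd
    rw [← Subgroup.relIndex_mul_index (Subgroup.map_subtype_le (S : Subgroup (sigmaCore M))),
      ← Subgroup.relIndex_mul_index (sigmaCore_le M)] at hd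
    rcases (Nat.Prime.dvd_mul hq.out).1 hd with h' | h'
    · refine S.not_dvd_index ?_
      rwa [Subgroup.relIndex, Subgroup.subgroupOf,
        Subgroup.comap_map_eq_self_of_injective (sigmaCore M).subtype_injective] at h'
    · rcases (Nat.Prime.dvd_mul hq.out).1 h' with h'' | h''
      · exact hHall.2.2 q hq.out hqs h''
      · exact not_dvd_index_of_mem_sigma hqs h''
  refine ⟨(S.isPGroup'.map (sigmaCore M).subtype).toSylow hd, Subgroup.map_subtype_le _,
    (le_normalizer_sigmaCore M).trans (Coprime.normalizer_le_normalizer_map _ _),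
    fun Y hYM hY y hy => ?_⟩
  have hYσ : Y ≤ sigmaCore M :=
    le_of_normal_hall hHall (le_normalizer_sigmaCore M) hYM (isPiSub_of_isPGroup hq.out hY hqs)
  obtain ⟨j, hj⟩ := hY ⟨y, hy⟩
  have hyj : (⟨y, hYσ hy⟩ : sigmaCore M) ^ q ^ j = 1 :=
    Subtype.ext (by simpa using congrArg Subtype.val hj)
  obtain ⟨k, -, hk⟩ := (Nat.dvd_prime_pow hq.out).1 (orderOf_dvd_of_pow_eq_one hyj)
  exact ⟨⟨y, hYσ hy⟩, Transfer.nilpotent_mem_sylow hnil S hk, rfl⟩

variable {p : ℕ} [hp : Fact p.Prime]

/-- The dichotomy behind BG 12.4 and 12.5 (e). -/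
theorem invariant_sylow_cases {L A : Subgroup G} (hL : IsCoatom L) (hAL : A ≤ L)
    (hA : IsElementaryAbelian p A) (hAc : Nat.card A = p ^ 2)
    (hmax : ∀ B : Subgroup G, IsElementaryAbelian p B → A ≤ B → B = A)
    (hpi : ¬ IsIdealPrime p G)
    (hNT : p ∉ sigma L → L ≤ Subgroup.normalizer ((sigmaCore L ⊔ A : Subgroup G) : Set G))
    {q : ℕ} [hq : Fact q.Prime] (hqp : q ≠ p) (Q : Sylow q G)
    (hQA : A ≤ Subgroup.normalizer ((Q : Subgroup G) : Set G)) :
    (q ∈ sigma L ∧ ∃ k ∈ Subgroup.centralizer (A : Set G),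
      (Q : Subgroup G).map (MulAut.conj k).toMonoidHom ≤ L) ∨
    (Q : Subgroup G) ⊓ L ≤ Subgroup.centralizer (A : Set G) := by
  have hAp : IsPGroup p A := isPGroup_of_pow_eq_one hp.out hA.2
  have hpL : p ∣ Nat.card L := (hAc ▸ dvd_pow_self p two_ne_zero).trans (Subgroup.card_dvd_of_le hAL)
  have hqA : ¬ q ∣ Nat.card A := fun hd => by
    rw [hAc] at hd
    exact hqp ((Nat.prime_dvd_prime_iff_eq hq.out hp.out).1 (hq.out.dvd_of_dvd_pow hd))
  obtain ⟨hHall, -, hder⟩ := sigmaCore_hall hG h.uniq smallRankFrattini fittingRankTwoDerived hL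
  set U := (Q : Subgroup G) ⊓ L with hU
  have hUq : IsPGroup q U := Q.isPGroup'.to_le inf_le_left
  have hUA : A ≤ Subgroup.normalizer (U : Set G) :=
    Coprime.le_normalizer_inf hQA (hAL.trans Subgroup.le_normalizer)
  by_cases hqs : q ∈ sigma L
  swap
  · right
    obtain ⟨N, hAN, hNn, hqN⟩ : ∃ N : Subgroup G, A ≤ N ∧ L ≤ Subgroup.normalizer (N : Set G) ∧
        ¬ q ∣ Nat.card N := by
      have h0 : ¬ q ∣ Nat.card (sigmaCore L) := fun hd => hqs (isPiSub_sigmaCore L q hq.out hd)
      by_cases hps : p ∈ sigma L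
      · exact ⟨sigmaCore L, le_of_normal_hall hHall (le_normalizer_sigmaCore L) hAL
          (isPiSub_of_isPGroup hp.out hAp hps), le_normalizer_sigmaCore L, h0⟩
      · refine ⟨sigmaCore L ⊔ A, le_sup_right, hNT hps, ?_⟩
        rw [← relIndex_mul_card (H := sigmaCore L) le_sup_left]
        intro hd
        rcases (Nat.Prime.dvd_mul hq.out).1 hd with h1 | h1
        · rw [sup_comm, Coprime.relIndex_sup_of_le_normalizer
            (hAL.trans (le_normalizer_sigmaCore L))] at h1
          exact hqA (h1.trans (Subgroup.relIndex_dvd_card _ _))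
        · exact h0 h1
    rw [← Subgroup.commutator_eq_bot_iff_le_centralizer, eq_bot_iff, Subgroup.commutator_le]
    intro x hx a ha
    rw [Subgroup.mem_bot]
    have hcU : ⁅x, a⁆ ∈ U :=
      Coprime.commutator_le_of_le_normalizer hUA (Subgroup.commutator_mem_commutator hx ha)
    have hcN : ⁅x, a⁆ ∈ N := N.mul_mem
      ((Subgroup.mem_normalizer_iff.1 (hNn (inf_le_right (a := (Q : Subgroup G)) hx)) a).1 (hAN ha))
      (N.inv_mem (hAN ha))
    obtain ⟨j, hj⟩ := hUq.exists_card_eq
    rw [← orderOf_eq_one_iff]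
    refine Nat.eq_one_of_dvd_coprimes ((hq.out.coprime_iff_not_dvd.2 hqN).pow_left j) ?_ ?_
    · rw [← hj, ← Subgroup.orderOf_mk _ hcU]; exact orderOf_dvd_natCard _
    · rw [← Subgroup.orderOf_mk _ hcN]; exact orderOf_dvd_natCard _
  by_cases hU1 : U = ⊥
  · exact Or.inr (hU1 ▸ bot_le)
  left
  refine ⟨hqs, ?_⟩
  obtain ⟨Q', hUQ', hQ'L, hQ'A⟩ : ∃ Q' : Sylow q G, U ≤ Q' ∧ (Q' : Subgroup G) ≤ L ∧
      A ≤ Subgroup.normalizer ((Q' : Subgroup G) : Set G) := by
    by_cases hps : p ∈ sigma L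
    · -- the normal `p`-complement of `L'`
      set L₁ : Subgroup G := ⁅L, L⁆ with hL₁
      obtain ⟨P, K₀, hK₀, hKP⟩ := (show HasNormalPComplement p L₁ from
        (normalPComplement_of_not_mem_beta hG h.uniq h.plength h.narrow
          h.narrowSylow hL hp.out hpL (fun hb => hpi hb.2)).1)
      have hL₁L : L₁ ≤ L := Subgroup.commutator_le_self L
      have hK₀p : ¬ p ∣ Nat.card K₀ := hKP.index_eq_card ▸ P.not_dvd_index
      have hKK : K₀ ≤ pPrimeCore p L₁ :=
        Thompson.le_pPrimeCore hK₀ ((hp.out.coprime_iff_not_dvd.2 hK₀p).symm)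
      set K := (pPrimeCore p L₁).map L₁.subtype with hK
      have hKn : L ≤ Subgroup.normalizer (K : Set G) :=
        (Coprime.le_normalizer_commutator_left L L).trans (Coprime.normalizer_le_normalizer_map L₁ _)
      have hKp : ¬ p ∣ Nat.card K := by
        rw [hK, Subgroup.card_map_of_injective L₁.subtype_injective]
        exact (hp.out.coprime_iff_not_dvd).1 Thompson.card_pPrimeCore_coprime.symm
      obtain ⟨j, hj⟩ := P.isPGroup'.exists_card_eq
      have hidx : ¬ q ∣ (pPrimeCore p L₁).index := fun hd => by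
        have h1 := hd.trans (Subgroup.index_dvd_of_le hKK)
        rw [hKP.symm.index_eq_card, hj] at h1
        exact hqp ((Nat.prime_dvd_prime_iff_eq hq.out hp.out).1 (hq.out.dvd_of_dvd_pow h1))
      have hUK : U ≤ K := by
        refine le_of_coprime_relIndex (X := L₁) (Subgroup.map_subtype_le _) (hL₁L.trans hKn)
          ((le_of_normal_hall hHall (le_normalizer_sigmaCore L) inf_le_right
            (isPiSub_of_isPGroup hq.out hUq hqs)).trans hder) ?_
        obtain ⟨i, hi⟩ := hUq.exists_card_eq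
        rw [hi]
        refine (hq.out.coprime_iff_not_dvd.2 ?_).pow_left i
        rwa [hK, Subgroup.relIndex, Subgroup.subgroupOf,
          Subgroup.comap_map_eq_self_of_injective L₁.subtype_injective]
      obtain ⟨P₁, hUP₁, hAP₁⟩ := Coprime.exists_invariant_sylow_ge A K (hAL.trans hKn)
        (by rw [hAc]; exact (hp.out.coprime_iff_not_dvd.2 hKp).pow_left 2)
        (Or.inl (Group.isSolvable_of_comm fun a b => hA.1.is_comm.comm a b)) q U hUK hUq hUA
      set P₂ := (P₁ : Subgroup K).map K.subtype with hP₂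
      have hd : ¬ q ∣ P₂.index := by
        intro hd
        rw [← Subgroup.relIndex_mul_index (Subgroup.map_subtype_le (P₁ : Subgroup K)),
          ← Subgroup.relIndex_mul_index (Subgroup.map_subtype_le (pPrimeCore p L₁)),
          ← Subgroup.relIndex_mul_index hL₁L] at hd
        rcases (Nat.Prime.dvd_mul hq.out).1 hd with h' | h'
        · refine P₁.not_dvd_index ?_
          rwa [Subgroup.relIndex, Subgroup.subgroupOf,
            Subgroup.comap_map_eq_self_of_injective K.subtype_injective] at h'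
        · rcases (Nat.Prime.dvd_mul hq.out).1 h' with h'' | h''
          · refine hidx ?_
            rwa [Subgroup.relIndex, Subgroup.subgroupOf,
              Subgroup.comap_map_eq_self_of_injective L₁.subtype_injective] at h''
          · rcases (Nat.Prime.dvd_mul hq.out).1 h'' with h3 | h3
            · exact hHall.2.2 q hq.out hqs (h3.trans (Subgroup.relIndex_dvd_of_le_left L hder))
            · exact not_dvd_index_of_mem_sigma hqs h3
      exact ⟨(P₁.isPGroup'.map K.subtype).toSylow hd, hUP₁,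
        ((Subgroup.map_subtype_le _).trans (Subgroup.map_subtype_le _)).trans hL₁L, hAP₁⟩
    · obtain ⟨Q', h1, h2, h3⟩ := SqPair.exists_invariant_sylow hG h ⟨hL, hps, hAL, hA, hAc⟩ (g := 1)
        (by rw [map_conj_one]; exact hAL) hqs (by rw [map_conj_one]; exact inf_le_right) hUq hUA
      rw [map_conj_one] at h2
      exact ⟨Q', h1, h2.trans (sigmaCore_le L), h3⟩
  have hTH := transitivity_of_maximal hG h (hpL.trans L.card_subgroup_dvd_card) hA hmax
  obtain ⟨k, hk, he⟩ := h.transMeet A hTH q hq.out hqA _ (mem_maxInv_of_sylow Q hQA) _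
    (mem_maxInv_of_sylow Q' hQ'A) L hL.1 hAL
    (fun hb => hU1 (eq_bot_iff.2 (hb ▸ le_inf inf_le_right inf_le_left)))
    (fun hb => hU1 (eq_bot_iff.2 (hb ▸ le_inf inf_le_right hUQ')))
  exact ⟨k, piCoreOf_le_centralizer A hk, he ▸ hQ'L⟩

/-- BG 12.4, the case in which no line of `A` has its normaliser in `M` alone. -/
theorem not_unique_case {M A : Subgroup G} (hM : IsCoatom M) (hAM : A ≤ M)
    (hA : IsElementaryAbelian p A) (hAc : Nat.card A = p ^ 2)
    (hb : ∀ A₀ : Subgroup G, A₀ ≤ A → Nat.card A₀ = p →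
      ¬ (Subgroup.normalizer (A₀ : Set G) ≤ M ∧
        ∀ L : Subgroup G, IsCoatom L → Subgroup.normalizer (A₀ : Set G) ≤ L → L = M)) :
    Subgroup.centralizer (A : Set G) ≤ M ∧ p ∈ sigma M ∧ alphaCore M = ⊥ ∧
      Group.IsNilpotent (sigmaCore M) := by
  have hAa := hA.1
  have hAp : IsPGroup p A := isPGroup_of_pow_eq_one hp.out hA.2
  have hpM : p ∣ Nat.card M := (hAc ▸ dvd_pow_self p two_ne_zero).trans (Subgroup.card_dvd_of_le hAM)
  have hord : ∀ e ∈ A, e ≠ 1 → orderOf e = p := fun e he h1 => orderOf_eq_prime (hA.2 e he) h1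
  -- a maximal subgroup other than `M` over the normaliser of each line
  have hother : ∀ a : Subgroup G, a ≤ A → Nat.card a = p →
      ∃ L : Subgroup G, IsCoatom L ∧ Subgroup.normalizer (a : Set G) ≤ L ∧ L ≠ M := by
    intro a haA hac
    have hne : a ≠ ⊥ := fun h0 => by
      rw [h0, Subgroup.card_bot] at hac; exact hp.out.ne_one hac.symm
    have hntop : a ≠ ⊤ := fun h0 => hM.1 (top_le_iff.1 (h0 ▸ haA.trans hAM))
    by_cases hN : Subgroup.normalizer (a : Set G) ≤ M
    · have h1 := hb a haA hac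
      simp only [hN, true_and, not_forall] at h1
      obtain ⟨L, hL, hNL, hLM⟩ := h1
      exact ⟨L, hL, hNL, hLM⟩
    · obtain ⟨L, hL, hNL⟩ := exists_coatom_ge hG (normalizer_ne_top hG hne hntop)
      exact ⟨L, hL, hNL, fun h0 => hN (h0 ▸ hNL)⟩
  have hline : ∀ e ∈ A, e ≠ 1 → ∃ L : Subgroup G, IsCoatom L ∧ L ≠ M ∧
      Subgroup.normalizer (Subgroup.zpowers e : Set G) ≤ L ∧
      Subgroup.centralizer ({e} : Set G) ≤ L ∧
      Subgroup.centralizer (A : Set G) ≤ L ∧ A ≤ L := by
    intro e he h1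
    obtain ⟨L, hL, hNL, hne⟩ := hother (Subgroup.zpowers e) (Subgroup.zpowers_le.2 he)
      (by rw [Nat.card_zpowers, hord e he h1])
    have hC : Subgroup.centralizer ({e} : Set G) ≤ L := by
      refine le_trans ?_ hNL
      rw [← Subgroup.centralizer_closure, ← Subgroup.zpowers_eq_closure]
      exact Subgroup.centralizer_le_normalizer _
    have hCA : Subgroup.centralizer (A : Set G) ≤ L :=
      le_trans (Subgroup.centralizer_le (Set.singleton_subset_iff.2 he)) hC
    exact ⟨L, hL, hne, hNL, hC, hCA, (le_centralizer_self_of_comm hAa).trans hCA⟩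
  obtain ⟨e₀', he₀'⟩ := Subgroup.ne_bot_iff_exists_ne_one.1 (show A ≠ ⊥ from fun h0 => by
    rw [h0, Subgroup.card_bot] at hAc
    exact (Nat.one_lt_pow two_ne_zero hp.out.one_lt).ne hAc)
  have hCrank : RankLE 2 (Subgroup.centralizer (A : Set G)) := by
    by_contra hr
    have hu : InUniqueMaximal A := h.uniq A (fun h0 => hM.1 (top_le_iff.1 (h0 ▸ hAM)))
      (not_rankLE_of_not_prankLE hp.out (not_prankLE_of_elemAbelian hA le_rfl
        (by rw [hAc, pow_one]; nlinarith [hp.out.two_le]))) (Or.inr hr)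
    obtain ⟨L, hL, hne, -, -, -, hAL⟩ :=
      hline e₀' e₀'.2 (fun h1 => he₀' (Subtype.ext h1))
    exact hne (hu.unique ⟨hL, hAL⟩ ⟨hM, hAM⟩)
  have hmaxC : ∀ B : Subgroup G, IsElementaryAbelian p B → A ≤ B → B = A := by
    intro B hB hAB
    by_contra hne
    have hlt : p ^ 2 < Nat.card B := by
      rw [← hAc]
      refine lt_of_le_of_ne (Nat.le_of_dvd Nat.card_pos (Subgroup.card_dvd_of_le hAB)) fun h0 =>
        hne (Subgroup.eq_of_le_of_card_ge hAB h0.ge).symm
    exact not_prankLE_of_elemAbelian hB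
      ((le_centralizer_self_of_comm hB.1).trans (centralizer_anti hAB)) hlt (hCrank p hp.out)
  have hpa : p ∉ alpha M := by
    intro hpa
    obtain ⟨P, hP⟩ := (hAp.comap_subtype (K := M)).exists_le_sylow
    set P₀ : Subgroup G := (P : Subgroup M).map M.subtype with hP₀
    have hAP : A ≤ P₀ := fun a ha => ⟨⟨a, hAM ha⟩, hP ha, rfl⟩
    have hP₀p : IsPGroup p P₀ := P.isPGroup'.map _
    haveI : Nontrivial P₀ := (Subgroup.nontrivial_iff_ne_bot _).2 fun h0 => he₀' (Subtype.ext
      (Subgroup.mem_bot.1 (h0 ▸ hAP e₀'.2)))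
    haveI := hP₀p.center_nontrivial
    obtain ⟨z, hz⟩ := exists_prime_orderOf_dvd_card' p (show p ∣ Nat.card (Subgroup.center P₀) by
      obtain ⟨j, hj⟩ := (hP₀p.to_subgroup (Subgroup.center P₀)).exists_card_eq
      rcases j with _ | j
      · exact absurd hj (by rw [pow_zero]; exact (Finite.one_lt_card (α := Subgroup.center P₀)).ne')
      · rw [hj]; exact dvd_pow_self p j.succ_ne_zero)
    have hzo : orderOf ((z : P₀) : G) = p := by rw [Subgroup.orderOf_coe, Subgroup.orderOf_coe, hz]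
    have hzC : ((z : P₀) : G) ∈ Subgroup.centralizer (P₀ : Set G) :=
      Subgroup.mem_centralizer_iff.2 fun y hy =>
        congrArg Subtype.val (Subgroup.mem_center_iff.1 z.2 ⟨y, hy⟩)
    have hzA := (mem_iff_pow_eq_one hA hmaxC (S := A ⊔ Subgroup.zpowers ((z : P₀) : G))
      le_sup_left (sup_le (le_centralizer_self_of_comm hAa)
        (Subgroup.zpowers_le.2 (centralizer_anti hAP hzC)))
      (Subgroup.mem_sup_right (Subgroup.mem_zpowers _))).1 (hzo ▸ pow_orderOf_eq_one _)
    have hz1 : ((z : P₀) : G) ≠ 1 := fun h0 => by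
      rw [h0, orderOf_one] at hzo; exact hp.out.ne_one hzo.symm
    obtain ⟨L, hL, hne, -, hC, -, -⟩ := hline _ hzA hz1
    refine hne (uniq_of_pgroup h.uniq hp.out (fun hr => hpa.2 ((prankLE_iff_sylow P).2
      ((prankLE_map_subtype _).1 hr))) hL hM ?_ (Subgroup.map_subtype_le _))
    intro y hy
    refine hC (Subgroup.mem_centralizer_iff.2 ?_)
    rintro w rfl
    exact (Subgroup.mem_centralizer_iff.1 hzC y hy).symm
  have hr2 : PRankLE p 2 M := not_not.1 fun hr => hpa ⟨hp.out, hr⟩
  have hr1 : ¬ PRankLE p 1 M :=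
    not_prankLE_of_elemAbelian hA hAM (by rw [hAc, pow_one]; nlinarith [hp.out.two_le])
  obtain ⟨hpi, -⟩ := not_ideal_of_rank_two hG h.uniq hM hr2 hr1
  have hAnc : ¬ IsCyclic A := by
    intro hc
    obtain ⟨x, hx⟩ := IsCyclic.exists_generator (α := A)
    have h1 : orderOf x = Nat.card A := orderOf_eq_card_of_forall_mem_zpowers hx
    have h2 : orderOf x ∣ p := orderOf_dvd_of_pow_eq_one (Subtype.ext (by simpa using hA.2 x x.2))
    rw [h1, hAc] at h2
    exact absurd (Nat.le_of_dvd hp.out.pos h2) (not_le.2 (by nlinarith [hp.out.two_le]))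
  haveI := hAa
  -- the dichotomy, for each element of `A`
  have hcases : ∀ {q : ℕ} [Fact q.Prime], q ≠ p → ∀ Q : Sylow q G,
      A ≤ Subgroup.normalizer ((Q : Subgroup G) : Set G) →
      (∀ L : Subgroup G, IsCoatom L → L ≠ M → q ∈ sigma L → (Q : Subgroup G) ≤ L → False) →
      (Q : Subgroup G) ≤ Subgroup.centralizer (A : Set G) := by
    intro q _ hqp Q hQA hno
    refine Coprime.le_of_centralizer_le A (Q : Subgroup G) _ hAnc hQA ?_ fun e he h1 => ?_
    · obtain ⟨j, hj⟩ := Q.isPGroup'.exists_card_eq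
      rw [hAc, hj]
      exact ((Nat.coprime_primes hp.out Fact.out).2 (Ne.symm hqp)).pow 2 j
    · obtain ⟨L, hL, hne, hNL, hC, hCA, hAL⟩ := hline e he h1
      have hNT : p ∉ sigma L →
          L ≤ Subgroup.normalizer ((sigmaCore L ⊔ A : Subgroup G) : Set G) := fun hps =>
        (⟨⟨hL, hps, hAL, hA, hAc⟩, Subgroup.zpowers_le.2 he,
          by rw [Nat.card_zpowers, hord e he h1], hNL⟩ :
          Exceptional p L A (Subgroup.zpowers e)).le_normalizer_sup hG h
      rcases invariant_sylow_cases hG h hL hAL hA hAc hmaxC hpi hNT hqp Q hQA with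
        ⟨hqs, k, hk, hkL⟩ | hle
      · refine (hno L hL hne hqs ?_).elim
        intro x hx
        have h2 : k * x * k⁻¹ ∈ L := hkL ⟨x, hx, rfl⟩
        have := L.mul_mem (L.mul_mem (L.inv_mem (hCA hk)) h2) (hCA hk)
        simpa [mul_assoc] using this
      · exact (le_inf inf_le_left (inf_le_right.trans hC)).trans hle
  -- `M_α = 1`
  have hα : alphaCore M = ⊥ := by
    by_contra hne
    obtain ⟨q, hq, hqd⟩ := Nat.exists_prime_and_dvd (fun h1 => hne (Subgroup.eq_bot_of_card_eq _ h1))
    haveI : Fact q.Prime := ⟨hq⟩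
    obtain ⟨hHα, -⟩ := alphaCore_hall hG h.uniq smallRankFrattini fittingRankTwoDerived hM
    have hqα : q ∈ alpha M := hHα.2.1 q hq hqd
    have hqs := mem_sigma_of_mem_alpha hG h.uniq hM hqα
    have hqp : q ≠ p := fun h0 => hpa (h0 ▸ hqα)
    have hco : (Nat.card A).Coprime (Nat.card (alphaCore M)) := by
      rw [hAc]
      exact ((hp.out.coprime_iff_not_dvd).2 fun hd => hpa (hHα.2.1 p hp.out hd)).pow_left 2
    obtain ⟨Q, -, hQM, hQA⟩ := exists_invariant_sylow_in (q := q) (A := A) (U := ⊥) hqα hqs hHα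
      (Subgroup.le_normalizer.trans (piCoreOf_normalized M)) hAM (Group.isSolvable_of_comm fun a b => hAa.is_comm.comm a b) hco
      bot_le IsPGroup.of_bot (le_normalizer_bot A)
    have hQ3 : ¬ PRankLE q 2 (Q : Subgroup G) := fun hr => hqα.2 (by
      have hQM' : (Q : Subgroup G) ≤ M := hQM.trans (piCoreOf_le M)
      refine (prankLE_iff_sylow (Q.subtype hQM')).2 ?_
      rw [Sylow.coe_subtype]
      exact (prankLE_congr (Subgroup.subgroupOfEquivOfLe hQM')).2 hr)
    have hQC := hcases hqp Q hQA fun L hL hne _ hQL =>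
      hne (uniq_of_pgroup h.uniq hq hQ3 hL hM hQL (hQM.trans (piCoreOf_le M)))
    exact hQ3 (prankLE_subgroup hQC (hCrank q hq))
  have hnil : Group.IsNilpotent (sigmaCore M) := by
    obtain ⟨-, -, -, -, hnil⟩ := alpha_core_stmt hG h.uniq M hM
    obtain ⟨-, -, hder⟩ := sigmaCore_hall hG h.uniq smallRankFrattini fittingRankTwoDerived hM
    haveI : (piCore (alpha M) M).Normal :=
      haveI := piCore_characteristic (π := alpha M) (G := M)
      inferInstance
    have hbot : piCore (alpha M) M = ⊥ :=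
      (Subgroup.map_eq_bot_iff_of_injective _ M.subtype_injective).1 hα
    let i : sigmaCore M →* M := Subgroup.inclusion (sigmaCore_le M)
    have hi : ∀ x : sigmaCore M, i x ∈ commutator M := by
      intro x
      have hx : (x : G) ∈ (commutator M).map M.subtype := by
        rw [Subgroup.map_subtype_commutator]; exact hder x.2
      obtain ⟨y, hy, hyx⟩ := hx
      exact (Subtype.ext hyx : y = i x) ▸ hy
    let f : sigmaCore M →* ↥((commutator ↥M).map (QuotientGroup.mk' (piCore (alpha M) ↥M))) :=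
      ((QuotientGroup.mk' (piCore (alpha M) ↥M)).comp i).codRestrict _
        fun x => ⟨i x, hi x, rfl⟩
    haveI := hnil
    refine Subgroup.isNilpotent_of_ker_le_center f (fun x hx => ?_)
    have hxα : i x ∈ piCore (alpha M) M := (QuotientGroup.eq_one_iff _).1 (congrArg Subtype.val hx)
    rw [hbot, Subgroup.mem_bot] at hxα
    have : x = 1 := Subgroup.inclusion_injective (sigmaCore_le M) (hxα.trans (map_one i).symm)
    exact this ▸ Subgroup.one_mem _
  have hσ0 := sigmaCore_ne_bot hG h.uniq smallRankFrattini fittingRankTwoDerived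
    rankTwoLargestPrime hM
  have hps : p ∈ sigma M := by
    by_contra hps
    have hσC : sigmaCore M ≤ Subgroup.centralizer (A : Set G) := by
      refine le_of_sylow_le fun q hq hqd => ?_
      haveI : Fact q.Prime := ⟨hq⟩
      have hqs : q ∈ sigma M := isPiSub_sigmaCore M q hq hqd
      have hqp : q ≠ p := fun h0 => hps (h0 ▸ hqs)
      obtain ⟨Q, hQσ, hQn, hQmax⟩ := exists_normal_sylow hG h hM hqs hnil
      let S : Sylow q (sigmaCore M) := default
      refine ⟨S, (hQmax _ ((Subgroup.map_subtype_le _).trans (sigmaCore_le M))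
        (S.isPGroup'.map _)).trans (hcases hqp Q (hAM.trans hQn) fun L hL hne hqL hQL => hne ?_)⟩
      refine (hM.le_iff.1 (hQn.trans (normalizer_le_of_sylow_le hqL Q hQL))).resolve_left hL.1
    set C := Subgroup.centralizer (sigmaCore M : Set G) with hC
    set N := ⁅M, M⁆ ⊓ C with hN
    -- some normal cyclic subgroup is moved
    obtain ⟨r, hr, hrp, hrs, W, hWN, hWr, hWc, hWn, hmove⟩ : ∃ r : ℕ, r.Prime ∧ r ≠ p ∧
        r ∉ sigma M ∧ ∃ W : Subgroup G, W ≤ N ∧ IsPGroup r W ∧ IsCyclic W ∧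
        M ≤ Subgroup.normalizer (W : Set G) ∧ ¬ A ≤ Subgroup.centralizer (W : Set G) := by
      by_contra hno
      -- `p` does not divide `|N|`
      have hpN : ¬ p ∣ Nat.card N := by
        intro hd
        obtain ⟨W, hWN, hWp, hWc, hWn, hWmax⟩ := exists_cyclic_rcore hG h M hM hps
        obtain ⟨x, hx⟩ := exists_prime_orderOf_dvd_card' p hd
        have hxW : (x : G) ∈ W := hWmax _ (Subgroup.zpowers_le.2 x.2)
          (IsPGroup.of_card (n := 1) (by rw [Nat.card_zpowers, Subgroup.orderOf_coe, hx, pow_one]))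
          (Subgroup.mem_zpowers _)
        have hW1 : W ≠ ⊥ := fun h0 => by
          rw [h0, Subgroup.mem_bot] at hxW
          rw [show x = 1 from Subtype.ext hxW, orderOf_one] at hx
          exact hp.out.ne_one hx.symm
        obtain ⟨X, hXW, hXc, hXn, -⟩ := exists_order_prime_of_cyclic hWp hWc hW1
        have hAX : A ≤ Subgroup.normalizer (X : Set G) := hAM.trans (hWn.trans hXn)
        have hXC : A ≤ Subgroup.centralizer (X : Set G) := by
          by_contra hm
          exact lt_irrefl p (lt_of_moved hp.out hp.out hA.2 hAX hXc hm)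
        have hXA : X ≤ A := fun y hy => (mem_iff_pow_eq_one hA hmaxC (S := A ⊔ X) le_sup_left
          (sup_le (le_centralizer_self_of_comm hAa) (Subgroup.le_centralizer_iff.1 hXC))
          (Subgroup.mem_sup_right hy)).1 (by
            have := congrArg Subtype.val (pow_card_eq_one' (G := X) (x := ⟨y, hy⟩))
            simpa [hXc] using this)
        obtain ⟨L, hL, hNL, hne⟩ := hother X hXA hXc
        exact hne ((hM.le_iff.1 ((hWn.trans hXn).trans hNL)).resolve_left hL.1)
      have hAN : N ≤ Subgroup.centralizer (A : Set G) := by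
        refine le_of_sylow_le fun r hr hrd => ?_
        haveI : Fact r.Prime := ⟨hr⟩
        let S : Sylow r N := default
        refine ⟨S, ?_⟩
        have hSN : (S : Subgroup N).map N.subtype ≤ N := Subgroup.map_subtype_le _
        by_cases hrs : r ∈ sigma M
        · obtain ⟨hHall, -, -⟩ :=
            sigmaCore_hall hG h.uniq smallRankFrattini fittingRankTwoDerived hM
          exact (le_of_normal_hall hHall (le_normalizer_sigmaCore M)
            (hSN.trans (inf_le_left.trans (Subgroup.commutator_le_self M)))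
            (isPiSub_of_isPGroup hr (S.isPGroup'.map _) hrs)).trans hσC
        · obtain ⟨W, hWN, hWp, hWc, hWn, hWmax⟩ := exists_cyclic_rcore hG h M hM hrs
          refine (hWmax _ hSN (S.isPGroup'.map _)).trans ?_
          rw [Subgroup.le_centralizer_iff]
          by_contra hm
          exact hno ⟨r, hr, fun h0 => hpN (h0 ▸ hrd), hrs, W, hWN, hWp, hWc, hWn, hm⟩
      -- so `A` is central in `M`
      have hAZ : ∀ a ∈ A, ∀ m ∈ M, Commute m a := by
        intro a ha m hm
        have haC : a ∈ C := Subgroup.le_centralizer_iff.1 hσC ha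
        have hc : ⁅m, a⁆ ∈ N := ⟨Subgroup.commutator_mem_commutator hm (hAM ha), C.mul_mem
          ((Subgroup.mem_normalizer_iff.1
            (Coprime.le_normalizer_centralizer (le_normalizer_sigmaCore M) hm) a).1 haC)
          (C.inv_mem haC)⟩
        have hcomm : Commute ⁅m, a⁆ a := (Subgroup.mem_centralizer_iff.1 (hAN hc) a ha).symm
        have hpow : ⁅m, a⁆ ^ p = 1 := by
          have h1 : m * a * m⁻¹ = ⁅m, a⁆ * a := by rw [commutatorElement_def]; group
          have h2 := congrArg (fun t => t ^ p) h1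
          rw [conj_pow, hA.2 a ha, mul_one, mul_inv_cancel, hcomm.mul_pow, hA.2 a ha, mul_one] at h2
          exact h2.symm
        rw [← commutatorElement_eq_one_iff_commute, ← orderOf_eq_one_iff]
        refine Nat.eq_one_of_dvd_coprimes (hp.out.coprime_iff_not_dvd.2 hpN)
          (orderOf_dvd_of_pow_eq_one hpow) ?_
        rw [← Subgroup.orderOf_mk _ hc]
        exact orderOf_dvd_natCard _
      obtain ⟨L, hL, hne, -, hC', -, -⟩ :=
        hline e₀' e₀'.2 (fun h1 => he₀' (Subtype.ext h1))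
      refine hne ((hM.le_iff.1 (fun m hm => hC' ?_)).resolve_left hL.1)
      rw [Subgroup.mem_centralizer_iff]
      rintro w rfl
      exact (hAZ _ e₀'.2 m hm).symm.eq
    haveI : Fact r.Prime := ⟨hr⟩
    have hW1 : W ≠ ⊥ := fun h0 => hmove (by rw [Subgroup.le_centralizer_iff, h0]; exact bot_le)
    obtain ⟨X, hXW, hXc, hXn, hXl⟩ := exists_order_prime_of_cyclic hWr hWc hW1
    have hrA : ¬ r ∣ Nat.card A := fun hd => by
      rw [hAc] at hd
      exact hrp ((Nat.prime_dvd_prime_iff_eq hr hp.out).1 (hr.dvd_of_dvd_pow hd))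
    have hmX : ¬ A ≤ Subgroup.centralizer (X : Set G) := fun hle => hmove (hXl A (hAM.trans hWn) hrA
      (Group.isSolvable_of_comm fun a b => hAa.is_comm.comm a b) hle)
    have hXn' : M ≤ Subgroup.normalizer (X : Set G) := hWn.trans hXn
    have hXM : X ≤ M := hXW.trans (hWN.trans (inf_le_left.trans (Subgroup.commutator_le_self M)))
    have hXne : X ≠ ⊥ := fun h0 => by rw [h0, Subgroup.card_bot] at hXc; exact hr.ne_one hXc.symm
    have hAX : A ≤ Subgroup.normalizer (X : Set G) := hAM.trans hXn'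
    have hNX : Subgroup.normalizer (X : Set G) = M := normalizer_eq_coatom hG hM hXM hXne hXn'
    have hXr : IsPGroup r X := IsPGroup.of_card (n := 1) (by rw [hXc, pow_one])
    -- an element of `A` centralising `X`
    obtain ⟨e, he, he1, heX⟩ : ∃ e ∈ A, e ≠ 1 ∧ X ≤ Subgroup.centralizer ({e} : Set G) := by
      by_contra hno
      refine hXne (le_bot_iff.1 (Coprime.le_of_centralizer_le A X ⊥ hAnc hAX ?_ fun e he h1 => ?_))
      · rw [hAc, hXc]; exact ((Nat.coprime_primes hp.out hr).2 (Ne.symm hrp)).pow_left 2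
      · rcases (Nat.dvd_prime hr).1 (hXc ▸ Subgroup.card_dvd_of_le
          (inf_le_left : X ⊓ Subgroup.centralizer ({e} : Set G) ≤ X)) with h2 | h2
        · exact (Subgroup.eq_bot_of_card_eq _ h2).le
        · exact absurd ⟨e, he, h1, (Subgroup.eq_of_le_of_card_ge inf_le_left
            (by rw [h2, hXc])).ge.trans inf_le_right⟩ hno
    obtain ⟨L, hL, hne, hNL, hC', hCA, hAL⟩ := hline e he he1
    have hXL : X ≤ L := heX.trans hC'
    obtain ⟨⟨hr2', hr1'⟩, hri, -⟩ := rank_two_of_normalizer_le hG h.uniq M hM r hrs X hXc hNX.le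
    have hXA : ⁅X, A⁆ = X := by
      have hle := Coprime.commutator_le_of_le_normalizer hAX
      rcases (Nat.dvd_prime hr).1 (hXc ▸ Subgroup.card_dvd_of_le hle) with h1 | h1
      · exact absurd (Subgroup.le_centralizer_iff.1 (Subgroup.commutator_eq_bot_iff_le_centralizer.1
          (Subgroup.eq_bot_of_card_eq _ h1))) hmX
      · exact Subgroup.eq_of_le_of_card_ge hle (by rw [h1, hXc])
    obtain ⟨hHallL, -, hderL⟩ := sigmaCore_hall hG h.uniq smallRankFrattini fittingRankTwoDerived hL
    by_cases hpL : p ∈ sigma L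
    · exact hmX (Subgroup.le_centralizer_iff.1 (le_centralizer_of_not_ideal hG h hL hri
        ((le_of_normal_hall hHallL (le_normalizer_sigmaCore L) hAL
          (isPiSub_of_isPGroup hp.out hAp hpL)).trans hderL)
        (hXA ▸ Subgroup.commutator_mono hXL hAL) hrA hXr hAX))
    have eL : Exceptional p L A (Subgroup.zpowers e) :=
      ⟨⟨hL, hpL, hAL, hA, hAc⟩, Subgroup.zpowers_le.2 he,
        by rw [Nat.card_zpowers, hord e he he1], hNL⟩
    have hXσ : X ≤ sigmaCore L := by
      have hn := eL.le_normalizer_sup hG h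
      have hle : X ≤ sigmaCore L ⊔ A := hXA.ge.trans <| Subgroup.commutator_le.2 fun x hx a ha =>
        Subgroup.mul_mem _ ((Subgroup.mem_normalizer_iff.1 (hn (hXL hx)) a).1
          (Subgroup.mem_sup_right ha)) (Subgroup.inv_mem _ (Subgroup.mem_sup_right ha))
      refine le_of_coprime_relIndex le_sup_left
        (sup_le Subgroup.le_normalizer (hAL.trans (le_normalizer_sigmaCore L))) hle ?_
      rw [sup_comm, Coprime.relIndex_sup_of_le_normalizer (hAL.trans (le_normalizer_sigmaCore L)),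
        hXc]
      exact (hr.coprime_iff_not_dvd.2 fun hd => hrA (hd.trans (Subgroup.relIndex_dvd_card _ _)))
    have hrL : r ∈ sigma L :=
      isPiSub_sigmaCore L r hr (hXc ▸ Subgroup.card_dvd_of_le hXσ)
    obtain ⟨R, hRσ, hRn, hRmax⟩ := exists_normal_sylow hG h hL hrL (eL.isNilpotent hG h)
    have hXR : X ≤ R := hRmax X hXL hXr
    have hr2 : r ≠ 2 := ne_two_of_dvd hG ((hXc ▸ Subgroup.card_dvd_of_le hXM) : r ∣ Nat.card M)
    have hRnc : ¬ IsCyclic (R : Subgroup G) := by
      intro hcyc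
      obtain ⟨E, hEM, hEe, hEc⟩ := exists_elemAbelian_sq_le (H := M) (p := r) hr1'
      obtain ⟨S, hS⟩ := (isPGroup_of_pow_eq_one hr hEe.2).exists_le_sylow
      haveI : IsCyclic (S : Subgroup G) := (Sylow.equiv R S).isCyclic.1 hcyc
      haveI : IsCyclic E := (Subgroup.subgroupOfEquivOfLe hS).isCyclic.1 inferInstance
      exact SqPair.not_isCyclic (⟨hM, hrs, hEM, hEe, hEc⟩ : SqPair r M E) inferInstance
    obtain ⟨E, hER, hEe, hEc, hXE⟩ := exists_elemAbelian_sq_ge hr2 R.isPGroup' hXR hXc hRnc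
    have hCX : Subgroup.centralizer (X : Set G) ≤ M :=
      (Subgroup.centralizer_le_normalizer _).trans hNX.le
    have hEM : E ≤ M := ((le_centralizer_self_of_comm hEe.1).trans (centralizer_anti hXE)).trans hCX
    set RM := (R : Subgroup G) ⊓ M with hRM
    have hσL : sigmaCore M ≤ L := hσC.trans hCA
    have hσRM : sigmaCore M ≤ Subgroup.normalizer (RM : Set G) :=
      Coprime.le_normalizer_inf (hσL.trans hRn) ((sigmaCore_le M).trans Subgroup.le_normalizer)
    have hbot : RM ⊓ sigmaCore M = ⊥ := by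
      refine Subgroup.inf_eq_bot_of_coprime ?_
      obtain ⟨j, hj⟩ := (R.isPGroup'.to_le (inf_le_left : RM ≤ _)).exists_card_eq
      rw [hj]
      exact ((hr.coprime_iff_not_dvd).2 fun hd => hrs (isPiSub_sigmaCore M r hr hd)).pow_left j
    have hRMC : RM ≤ Subgroup.centralizer (sigmaCore M : Set G) := by
      rw [← Subgroup.commutator_eq_bot_iff_le_centralizer, ← le_bot_iff, ← hbot]
      refine le_inf (Coprime.commutator_le_of_le_normalizer hσRM) ?_
      rw [Subgroup.commutator_comm]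
      exact Coprime.commutator_le_of_le_normalizer (inf_le_right.trans (le_normalizer_sigmaCore M))
    have h0 := SqPair.inf_centralizer_eq_bot hG h (⟨hM, hrs, hEM, hEe, hEc⟩ : SqPair r M E)
      ((centralizer_anti hXE).trans hCX)
    rw [inf_eq_left.2 (Subgroup.le_centralizer_iff.1 ((le_inf hER hEM).trans hRMC))] at h0
    exact hσ0 h0
  -- `C(A) ≤ M`
  refine ⟨?_, hps, hα, hnil⟩
  obtain ⟨P, hPσ, hPn, hPmax⟩ := exists_normal_sylow hG h hM hps hnil
  have hAP : A ≤ P := hPmax A hAM hAp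
  set Z := A ⊓ Subgroup.centralizer ((P : Subgroup G) : Set G) with hZ
  have hZne : Z ≠ ⊥ := by
    haveI : Nontrivial (P : Subgroup G) := (Subgroup.nontrivial_iff_ne_bot _).2 fun h0 =>
      he₀' (Subtype.ext (Subgroup.mem_bot.1 (h0 ▸ hAP e₀'.2)))
    haveI := P.isPGroup'.center_nontrivial
    obtain ⟨z, hz⟩ := exists_prime_orderOf_dvd_card' p
      (show p ∣ Nat.card (Subgroup.center (P : Subgroup G)) by
      obtain ⟨j, hj⟩ := (P.isPGroup'.to_subgroup (Subgroup.center (P : Subgroup G))).exists_card_eq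
      rcases j with _ | j
      · exact absurd hj (by
          rw [pow_zero]; exact (Finite.one_lt_card (α := Subgroup.center (P : Subgroup G))).ne')
      · rw [hj]; exact dvd_pow_self p j.succ_ne_zero)
    have hzo : orderOf ((z : (P : Subgroup G)) : G) = p := by
      rw [Subgroup.orderOf_coe, Subgroup.orderOf_coe, hz]
    have hzC : ((z : (P : Subgroup G)) : G) ∈ Subgroup.centralizer ((P : Subgroup G) : Set G) :=
      Subgroup.mem_centralizer_iff.2 fun y hy =>
        congrArg Subtype.val (Subgroup.mem_center_iff.1 z.2 ⟨y, hy⟩)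
    intro h0
    have hzA := (mem_iff_pow_eq_one hA hmaxC (S := A ⊔ Subgroup.zpowers ((z : (P : Subgroup G)) : G))
      le_sup_left (sup_le (le_centralizer_self_of_comm hAa)
        (Subgroup.zpowers_le.2 (centralizer_anti hAP hzC)))
      (Subgroup.mem_sup_right (Subgroup.mem_zpowers _))).1 (orderOf_dvd_iff_pow_eq_one.1 hzo.dvd)
    have h1 : ((z : (P : Subgroup G)) : G) ∈ Z := ⟨hzA, hzC⟩
    rw [h0, Subgroup.mem_bot] at h1
    rw [h1, orderOf_one] at hzo
    exact hp.out.ne_one hzo.symm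
  have hZn : M ≤ Subgroup.normalizer (Z : Set G) := by
    refine Coprime.le_normalizer_of_conj_mem fun m hm z hz => ?_
    have hzC : m * z * m⁻¹ ∈ Subgroup.centralizer ((P : Subgroup G) : Set G) :=
      (Subgroup.mem_normalizer_iff.1 (Coprime.le_normalizer_centralizer
        (A := M) hPn hm) z).1 hz.2
    refine ⟨(mem_iff_pow_eq_one hA hmaxC (S := A ⊔ Subgroup.zpowers (m * z * m⁻¹)) le_sup_left
      (sup_le (le_centralizer_self_of_comm hAa)
        (Subgroup.zpowers_le.2 (centralizer_anti hAP hzC)))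
      (Subgroup.mem_sup_right (Subgroup.mem_zpowers _))).1 ?_, hzC⟩
    rw [← MulAut.conj_apply, ← map_pow, hA.2 z hz.1, map_one]
  exact ((centralizer_anti (inf_le_left : Z ≤ A)).trans (Subgroup.centralizer_le_normalizer _)).trans
    (normalizer_eq_coatom hG hM (inf_le_left.trans hAM) hZne hZn).le

/-- BG 12.4. -/
theorem centralizer_le_stmt (M : Subgroup G) (hM : IsCoatom M) (A : Subgroup G)
    (hA : A ≤ M ∧ IsElementaryAbelian p A ∧ Nat.card A = p ^ 2) :
    Subgroup.centralizer (A : Set G) ≤ M ∧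
      ((∀ A₀ : Subgroup G, A₀ ≤ A → Nat.card A₀ = p →
          ¬ (Subgroup.normalizer (A₀ : Set G) ≤ M ∧
            ∀ L : Subgroup G, IsCoatom L → Subgroup.normalizer (A₀ : Set G) ≤ L → L = M)) →
        p ∈ sigma M ∧ alphaCore M = ⊥ ∧ Group.IsNilpotent (sigmaCore M)) := by
  refine ⟨?_, fun hb => (not_unique_case hG h hM hA.1 hA.2.1 hA.2.2 hb).2⟩
  by_cases hb : ∀ A₀ : Subgroup G, A₀ ≤ A → Nat.card A₀ = p →
      ¬ (Subgroup.normalizer (A₀ : Set G) ≤ M ∧
        ∀ L : Subgroup G, IsCoatom L → Subgroup.normalizer (A₀ : Set G) ≤ L → L = M)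
  · exact (not_unique_case hG h hM hA.1 hA.2.1 hA.2.2 hb).1
  · simp only [not_forall, not_not] at hb
    obtain ⟨A₀, hA₀, -, hN, -⟩ := hb
    exact ((centralizer_anti hA₀).trans (Subgroup.centralizer_le_normalizer _)).trans hN

/-- For `p ∈ τ₂(M)` the subgroup `M` is exceptional. -/
theorem exists_exceptional {M A : Subgroup G} (hM : IsCoatom M) (hps : p ∉ sigma M) (hAM : A ≤ M)
    (hA : IsElementaryAbelian p A) (hAc : Nat.card A = p ^ 2) :
    ∃ A₀, Exceptional p M A A₀ := by
  by_contra hno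
  refine hps (not_unique_case hG h hM hAM hA hAc fun A₀ hA₀ hc hN => hno ?_).2.1
  exact ⟨A₀, ⟨⟨hM, hps, hAM, hA, hAc⟩, hA₀, hc, hN.1⟩⟩

/-- BG 12.5. -/
theorem tau_two_stmt (M : Subgroup G) (hM : IsCoatom M) (hp2 : p ∈ tau2 M) (A : Subgroup G)
    (hA : A ≤ M ∧ IsElementaryAbelian p A ∧ Nat.card A = p ^ 2) :
    Group.IsNilpotent (sigmaCore M) ∧
      (∀ P : Sylow p M, IsMulCommutative (P : Subgroup M) ∧
        (A ≤ (P : Subgroup M).map M.subtype →
          (∀ x ∈ (P : Subgroup M).map M.subtype, x ^ p = 1 ↔ x ∈ A) ∧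
          ¬ Subgroup.normalizer ((((P : Subgroup M).map M.subtype : Subgroup G)) : Set G) ≤ M)) ∧
      M ≤ Subgroup.normalizer ((sigmaCore M ⊔ A : Subgroup G) : Set G) ∧
      sigmaCore M ⊓ Subgroup.centralizer (A : Set G) = ⊥ ∧
      (∀ Mstar : Subgroup G, IsCoatom Mstar → Mstar ≠ M → A ≤ Mstar →
        sigmaCore M ⊓ Mstar = ⊥) ∧
      ∃ A₁ : Subgroup G, A₁ ≤ A ∧ Nat.card A₁ = p ∧
        sigmaCore M ⊓ Subgroup.centralizer (A₁ : Set G) = ⊥ := by
  obtain ⟨-, hps, -, -⟩ := hp2
  obtain ⟨hAM, hAe, hAc⟩ := hA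
  obtain ⟨A₀, e⟩ := exists_exceptional hG h hM hps hAM hAe hAc
  have hmax := e.toSqPair.maximal hG h
  have hnil := e.isNilpotent hG h
  have hfix := e.toSqPair.inf_centralizer_eq_bot hG h e.centralizer_le
  refine ⟨hnil, fun P => ⟨e.sylow_comm' hG h P, fun hAP => ⟨fun x hx => ?_, fun hle => ?_⟩⟩,
    e.le_normalizer_sup hG h, hfix, fun Mstar hMs hne hAMs => ?_, ?_⟩
  · exact mem_iff_pow_eq_one hAe hmax hAP ((le_centralizer_self_of_comm (e.sylow_comm hG h P hAP)).trans
      (centralizer_anti hAP)) hx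
  · exact hps ⟨hp.out, e.toSqPair.dvd, P, hle⟩
  · by_contra hne0
    obtain ⟨q, hq, hqd⟩ :=
      Nat.exists_prime_and_dvd (fun h1 => hne0 (Subgroup.eq_bot_of_card_eq _ h1))
    haveI : Fact q.Prime := ⟨hq⟩
    have hqs : q ∈ sigma M :=
      isPiSub_sigmaCore M q hq (hqd.trans (Subgroup.card_dvd_of_le inf_le_left))
    have hqp : q ≠ p := fun h0 => hps (h0 ▸ hqs)
    obtain ⟨hpi, -⟩ := not_ideal_of_rank_two hG h.uniq hM (e.toSqPair.prankLE hG h)
      e.toSqPair.not_prankLE
    obtain ⟨Q, hQσ, hQn, hQmax⟩ := exists_normal_sylow hG h hM hqs hnil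
    have hNT : p ∉ sigma Mstar →
        Mstar ≤ Subgroup.normalizer ((sigmaCore Mstar ⊔ A : Subgroup G) : Set G) := fun hps' => by
      obtain ⟨B, e'⟩ := exists_exceptional hG h hMs hps' hAMs hAe hAc
      exact e'.le_normalizer_sup hG h
    obtain ⟨x, hx⟩ := exists_prime_orderOf_dvd_card' q hqd
    have hxQ : (x : G) ∈ (Q : Subgroup G) ⊓ Mstar := ⟨hQmax (Subgroup.zpowers (x : G))
      (Subgroup.zpowers_le.2 (sigmaCore_le M x.2.1)) (IsPGroup.of_card (n := 1)
        (by rw [Nat.card_zpowers, Subgroup.orderOf_coe, hx, pow_one])) (Subgroup.mem_zpowers _),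
      x.2.2⟩
    rcases invariant_sylow_cases hG h hMs hAMs hAe hAc hmax hpi hNT hqp Q (hAM.trans hQn) with
      ⟨hqs', k, hk, hkL⟩ | hle
    · rw [map_conj_eq_self (hQn (e.centralizer_le hk))] at hkL
      exact hne ((hM.le_iff.1 (hQn.trans (normalizer_le_of_sylow_le hqs' Q hkL))).resolve_left
        hMs.1)
    · have hmem : (x : G) ∈ sigmaCore M ⊓ Subgroup.centralizer (A : Set G) := ⟨x.2.1, hle hxQ⟩
      rw [hfix, Subgroup.mem_bot] at hmem
      rw [show x = 1 from Subtype.ext hmem, orderOf_one] at hx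
      exact hq.ne_one hx.symm
  · obtain ⟨B₁, -, hB₁A, -, hB₁c, -, -, hf₁, -⟩ := e.exists_fpf_lines hG h
    exact ⟨B₁, hB₁A, hB₁c, hf₁⟩

end Cfsg.Agent.BGSigma
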