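import Cfsg.Agent.BGSigma.SigmaTools

/-!
BG Section 13: the fixed points in `M_σ` of a line `P` of `M` outside `σ(M)` in rank one.
-/

set_option autoImplicit false

namespace Cfsg.Agent.BGSigma

open Cfsg Subgroup
open scoped commutatorElement

universe u

/-- The results of BG Section 12 that Section 13 rests on, in the form of the statements S1422
and S1424. -/
structure TwelveInputs (G : Type u) [Group G] : Prop where
  nonabUniq : ∀ (p : ℕ) [Fact p.Prime] (P : Subgroup G), IsPGroup p P → ¬ IsMulCommutative P →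
    InUniqueMaximal P
  sigmaNormalizer : ∀ (M : Subgroup G), IsCoatom M → ∀ (q : ℕ) [Fact q.Prime], q ∈ sigma M →
    ∀ X : Subgroup G, IsPGroup q X → X ≠ ⊥ → X ≤ M →
    ∀ Mstar : Subgroup G, IsCoatom Mstar → Mstar ≠ M → normalizer (X : Set G) ≤ Mstar →
    ∀ S : Sylow q ↥(M ⊓ Mstar), X ≤ (S : Subgroup ↥(M ⊓ Mstar)).map (M ⊓ Mstar).subtype →
    (∀ g : G, Mstar ≠ M.map (MulAut.conj g).toMonoidHom) ∧
      normalizer (((S : Subgroup ↥(M ⊓ Mstar)).map (M ⊓ Mstar).subtype : Subgroup G) : Set G) ≤ M ∧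
      ¬ q ∣ ((S : Subgroup ↥(M ⊓ Mstar)).map (M ⊓ Mstar).subtype).relIndex Mstar

variable {G : Type u} [Group G] [Finite G]

theorem prankLE_one_of_cyclic_sylow' {H : Type*} [Group H] [Finite H] {p : ℕ} [hp : Fact p.Prime]
    (S : Sylow p H) (hS : IsCyclic (S : Subgroup H)) : PRankLE p 1 H := by
  rw [prankLE_iff_sylow S]
  intro E hc h2
  haveI : IsCyclic E := inferInstance
  obtain ⟨a, ha⟩ := IsCyclic.exists_generator (α := E)
  have h1 : orderOf a ∣ p := orderOf_dvd_of_pow_eq_one (Subtype.ext (by simpa using h2 a a.2))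
  rw [← orderOf_eq_card_of_forall_mem_zpowers ha, pow_one]
  exact Nat.le_of_dvd hp.out.pos h1

theorem prime_dvd_sup {H K : Subgroup G} (hn : K ≤ normalizer (H : Set G)) {q : ℕ} (hq : q.Prime)
    (hd : q ∣ Nat.card (H ⊔ K : Subgroup G)) : q ∣ Nat.card H ∨ q ∣ Nat.card K := by
  rw [← relIndex_mul_card (le_sup_left : H ≤ H ⊔ K), sup_comm,
    Coprime.relIndex_sup_of_le_normalizer hn] at hd
  rcases hq.dvd_mul.1 hd with h | h
  · exact Or.inr (h.trans (relIndex_dvd_card _ _))
  · exact Or.inl h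

theorem le_normalizer_sup_of {A H K : Subgroup G} (hH : A ≤ centralizer (H : Set G))
    (hK : A ≤ centralizer (K : Set G)) : A ≤ normalizer ((H ⊔ K : Subgroup G) : Set G) :=
  (le_centralizer_iff.1 (sup_le (le_centralizer_iff.1 hH) (le_centralizer_iff.1 hK))).trans
    (centralizer_le_normalizer _)

variable (hG : IsMinSimpleOddOrder G) (h : LocalInputs G) (hT : TwelveInputs G)
include hG h

/-- An invariant Sylow subgroup in `L'` for a `σ`-prime of `L`. -/
theorem exists_invariant_sylow_derived {L A : Subgroup G} (hL : IsCoatom L) {p q : ℕ}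
    [hp : Fact p.Prime] [hq : Fact q.Prime] (hqp : q ≠ p) (hpb : p ∉ beta L)
    (hpL : p ∣ Nat.card L) (hqs : q ∈ sigma L) (hAL : A ≤ L) (hA : IsPGroup p A) :
    ∃ Q : Sylow q G, (Q : Subgroup G) ≤ L ∧ A ≤ normalizer ((Q : Subgroup G) : Set G) := by
  obtain ⟨hHall, -, hder⟩ := sigmaCore_hall hG h.uniq smallRankFrattini fittingRankTwoDerived hL
  set L₁ : Subgroup G := ⁅L, L⁆ with hL₁
  obtain ⟨P, K₀, hK₀, hKP⟩ := (show HasNormalPComplement p L₁ from
    (normalPComplement_of_not_mem_beta hG h.uniq h.plength h.narrow h.narrowSylow hL hp.out hpL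
      hpb).1)
  have hL₁L : L₁ ≤ L := commutator_le_self L
  have hK₀p : ¬ p ∣ Nat.card K₀ := hKP.index_eq_card ▸ P.not_dvd_index
  have hKK : K₀ ≤ pPrimeCore p L₁ :=
    Thompson.le_pPrimeCore hK₀ ((hp.out.coprime_iff_not_dvd.2 hK₀p).symm)
  set K := (pPrimeCore p L₁).map L₁.subtype with hK
  have hKn : L ≤ normalizer (K : Set G) :=
    (Coprime.le_normalizer_commutator_left L L).trans (Coprime.normalizer_le_normalizer_map L₁ _)
  have hKp : ¬ p ∣ Nat.card K := by
    rw [hK, card_map_of_injective L₁.subtype_injective]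
    exact (hp.out.coprime_iff_not_dvd).1 Thompson.card_pPrimeCore_coprime.symm
  obtain ⟨j, hj⟩ := P.isPGroup'.exists_card_eq
  have hidx : ¬ q ∣ (pPrimeCore p L₁).index := fun hd => by
    have h1 := hd.trans (index_dvd_of_le hKK)
    rw [hKP.symm.index_eq_card, hj] at h1
    exact hqp ((Nat.prime_dvd_prime_iff_eq hq.out hp.out).1 (hq.out.dvd_of_dvd_pow h1))
  obtain ⟨i, hi⟩ := hA.exists_card_eq
  haveI := hA.isNilpotent
  obtain ⟨P₁, hAP₁⟩ := Coprime.exists_invariant_sylow A K (hAL.trans hKn)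
    (by rw [hi]; exact (hp.out.coprime_iff_not_dvd.2 hKp).pow_left i)
    (Or.inl inferInstance) q
  set P₂ := (P₁ : Subgroup K).map K.subtype with hP₂
  have hd : ¬ q ∣ P₂.index := by
    intro hd
    rw [← relIndex_mul_index (map_subtype_le (P₁ : Subgroup K)),
      ← relIndex_mul_index (map_subtype_le (pPrimeCore p L₁)), ← relIndex_mul_index hL₁L] at hd
    rcases hq.out.dvd_mul.1 hd with h' | h'
    · refine P₁.not_dvd_index ?_
      rwa [Subgroup.relIndex, Subgroup.subgroupOf,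
        comap_map_eq_self_of_injective K.subtype_injective] at h'
    · rcases hq.out.dvd_mul.1 h' with h'' | h''
      · refine hidx ?_
        rwa [Subgroup.relIndex, Subgroup.subgroupOf,
          comap_map_eq_self_of_injective L₁.subtype_injective] at h''
      · rcases hq.out.dvd_mul.1 h'' with h3 | h3
        · exact hHall.2.2 q hq.out hqs (h3.trans (relIndex_dvd_of_le_left L hder))
        · exact not_dvd_index_of_mem_sigma hqs h3
  exact ⟨(P₁.isPGroup'.map K.subtype).toSylow hd,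
    ((map_subtype_le _).trans (map_subtype_le _)).trans hL₁L, hAP₁⟩

include hT

/-- No element of `M_σ` centralises an elementary plane on a rank-one line outside `σ(M)`. -/
theorem inf_centralizer_plane_eq_bot {M A P : Subgroup G} {p : ℕ} [hp : Fact p.Prime]
    (hM : IsCoatom M) (hps : p ∉ sigma M) (hr : PRankLE p 1 M) (hPM : P ≤ M)
    (hPc : Nat.card P = p) (hPA : P ≤ A) (hA : IsElementaryAbelian p A) (hAc : Nat.card A = p ^ 2)
    (hpi : ¬ IsIdealPrime p G) : sigmaCore M ⊓ centralizer (A : Set G) = ⊥ := by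
  by_contra hne
  obtain ⟨r, hrp, hrd⟩ := Nat.exists_prime_and_dvd (fun h1 => hne (eq_bot_of_card_eq _ h1))
  haveI := Fact.mk hrp
  have hrM : r ∈ sigma M :=
    isPiSub_sigmaCore M r hrp (hrd.trans (card_dvd_of_le inf_le_left))
  have hrne : r ≠ p := fun h0 => hps (h0 ▸ hrM)
  obtain ⟨x, hx⟩ := exists_prime_orderOf_dvd_card' r hrd
  set X := zpowers (x : G) with hX
  have hXc : Nat.card X = r := by rw [hX, Nat.card_zpowers, Subgroup.orderOf_coe, hx]
  have hXM : X ≤ M := zpowers_le.2 (sigmaCore_le M x.2.1)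
  have hAX : A ≤ normalizer (X : Set G) :=
    ((le_centralizer_iff.1 (zpowers_le.2 x.2.2 : X ≤ centralizer (A : Set G)))).trans
      (centralizer_le_normalizer _)
  have hAM : ∀ g : G, ¬ A ≤ M.map (MulAut.conj g).toMonoidHom := fun g hle =>
    not_prankLE_of_elemAbelian hA hle (by rw [hAc, pow_one]; nlinarith [hp.out.two_le])
      ((prankLE_conj M g).2 hr)
  obtain ⟨L₂, hL₂, hNX⟩ := exists_coatom_ge hG
    (normalizer_ne_top hG (ne_bot_of_prime_card hrp hXc) (isCoatom_ne_top hM hXM))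
  have hAL : A ≤ L₂ := hAX.trans hNX
  have hne2 : L₂ ≠ M := fun h0 => hAM 1 (by rw [map_conj_one]; exact h0 ▸ hAL)
  have hXL : X ≤ L₂ := le_normalizer.trans hNX
  obtain ⟨S, hS⟩ := ((isPGroup_of_prime_card hXc).comap_subtype (K := M ⊓ L₂)).exists_le_sylow
  obtain ⟨hnc, -, hidx⟩ := hT.sigmaNormalizer M hM r hrM X (isPGroup_of_prime_card hXc)
    (ne_bot_of_prime_card hrp hXc) hXM L₂ hL₂ hne2 hNX S
    (fun y hy => ⟨⟨y, hXM hy, hXL hy⟩, hS hy, rfl⟩)
  have hAp : IsPGroup p A := isPGroup_of_pow_eq_one hp.out hA.2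
  by_cases hpL : p ∈ sigma L₂
  · have hP2 : P ≤ sigmaCore L₂ :=
      le_sigmaCore_of_pgroup hG hL₂ hpL (isPGroup_of_prime_card hPc) (hPA.trans hAL)
    by_cases hrL : r ∈ sigma L₂
    · have hrb : r ∉ beta L₂ := fun hb => by
        obtain ⟨g, hg⟩ := conj_of_alpha_sigma hG h hL₂ hM hb.1 hrM
        exact hnc g⁻¹ (by rw [hg, map_conj_comp, inv_mul_cancel, map_conj_one])
      obtain ⟨Q, hQL, hAQ⟩ := exists_invariant_sylow_derived hG h hL₂ hrne (fun hb => hpi hb.2)
        ((hPc ▸ card_dvd_of_le (hPA.trans hAL) : p ∣ Nat.card L₂)) hrL hAL hAp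
      have hQA : (Q : Subgroup G) ≤ centralizer (A : Set G) :=
        le_centralizer_of_derived hG h hL₂ hrb (le_derived_of_sigma hG hL₂ hpL hAp hAL)
          (fun hd => hrne (eq_of_dvd_card_pgroup hAp hrp hd)) hQL Q.isPGroup' hAQ
      obtain ⟨g, hg⟩ := exists_conj_ge_of_isPGroup hrM Q.isPGroup'
      exact hAM g (((le_centralizer_iff.1 hQA).trans (centralizer_le_normalizer _)).trans
        (normalizer_le_of_sylow_le (sigma_conj_iff.2 hrM) Q hg))
    · obtain ⟨⟨h2, h1⟩, -, -⟩ := rank_two_of_normalizer_le hG h.uniq L₂ hL₂ r hrL X hXc hNX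
      set S₀ := (S : Subgroup ↥(M ⊓ L₂)).map (M ⊓ L₂).subtype with hS₀
      have hS₀L : S₀ ≤ L₂ := (map_subtype_le _).trans inf_le_right
      have hr1 : ¬ PRankLE r 1 S₀ := fun hs => h1 ((prankLE_iff_sylow
        (((S.isPGroup'.map _).comap_subtype).toSylow hidx)).2
          ((prankLE_congr (subgroupOfEquivOfLe hS₀L)).2 hs))
      obtain ⟨B, hBS, hBe, hBc⟩ := exists_elemAbelian_sq_le hr1
      have h5 := (tau_two_stmt hG h L₂ hL₂ (p := r) ⟨hrp, hrL, h2, h1⟩ B
        ⟨hBS.trans hS₀L, hBe, hBc⟩).2.2.2.2.1 M hM (Ne.symm hne2)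
        (hBS.trans ((map_subtype_le _).trans inf_le_left))
      exact ne_bot_of_prime_card hp.out hPc (le_bot_iff.1 ((le_inf hP2 hPM).trans h5.le))
  · have hp2 : p ∈ tau2 L₂ := ⟨hp.out, hpL, not_sigma_rank_two hG h.uniq hL₂ hp.out hpL,
      not_prankLE_of_elemAbelian hA hAL (by rw [hAc, pow_one]; nlinarith [hp.out.two_le])⟩
    have hfix := (tau_two_stmt hG h L₂ hL₂ hp2 A ⟨hAL, hA, hAc⟩).2.2.2.1
    have hrL : r ∉ sigma L₂ := fun hrL => by
      have h1 := le_sigmaCore_of_pgroup hG hL₂ hrL (isPGroup_of_prime_card hXc) hXL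
      exact ne_bot_of_prime_card hrp hXc (le_bot_iff.1 ((le_inf h1 (zpowers_le.2 x.2.2)).trans
        hfix.le))
    obtain ⟨⟨h2, h1⟩, -, -⟩ := rank_two_of_normalizer_le hG h.uniq L₂ hL₂ r hrL X hXc hNX
    have hr2 : r ∈ tau2 L₂ := ⟨hrp, hrL, h2, h1⟩
    obtain ⟨E, hE, hle⟩ := exists_compl_ge hG hL₂ hAL fun q hq hd => by
      rw [eq_of_dvd_card_pgroup hAp hq hd]; exact hpL
    obtain ⟨B, hB⟩ := BGTwelve.exists_sq_le_compl hG hL₂ hE (q := r) hr2
    have hBA : B ≤ centralizer (A : Set G) := by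
      have hA' : A ≤ E ∧ IsElementaryAbelian p A ∧ Nat.card A = p ^ 2 := ⟨hle, hA, hAc⟩
      have hnA := BGTwelve.compl_le_normalizer_sq hG h hL₂ hE hp2 hA'
      have hnB := BGTwelve.compl_le_normalizer_sq hG h hL₂ hE hr2 hB
      have hbot : B ⊓ A = ⊥ := inf_eq_bot_of_coprime (by
        rw [hB.2.2, hAc]; exact ((Nat.coprime_primes hrp hp.out).2 hrne).pow 2 2)
      rw [← commutator_eq_bot_iff_le_centralizer, eq_bot_iff, ← hbot]
      refine le_inf (Coprime.commutator_le_of_le_normalizer (hle.trans hnB)) ?_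
      rw [commutator_comm]
      exact Coprime.commutator_le_of_le_normalizer (hB.1.trans hnA)
    have hBp : IsPGroup r B := isPGroup_of_pow_eq_one hrp hB.2.1.2
    obtain ⟨g, hg⟩ := exists_conj_ge_of_isPGroup hrM hBp
    refine hAM g (((le_centralizer_iff.1 hBA).trans (centralizer_le_normalizer _)).trans
      (BGTwelve.normalizer_le_of_not_isCyclic hG h (isCoatom_map_conj hM g) (sigma_conj_iff.2 hrM)
        hBp hg fun hc => ?_))
    haveI := hc
    have hB1 : PRankLE r 1 B := by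
      refine prankLE_one_of_cyclic_sylow' ((hBp.to_subgroup ⊤).toSylow (by simp [hrp.ne_one]))
        (Subgroup.isCyclic _)
    exact not_prankLE_of_elemAbelian hB.2.1 le_rfl (by
      rw [hB.2.2, pow_one]; nlinarith [hrp.two_le]) hB1

/-- The `τ₂` case of BG 13.1: every element of prime power order of `C_M(P)` centralises
`C_{M_σ}(P)`. -/
theorem inf_centralizer_le_of_not_sigma {M L P : Subgroup G} {p q k : ℕ} [hp : Fact p.Prime]
    (hq : q.Prime) (hM : IsCoatom M) (hps : p ∉ sigma M) (hr : PRankLE p 1 M) (hPM : P ≤ M)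
    (hPc : Nat.card P = p) (hL : IsCoatom L) (hNL : normalizer (P : Set G) ≤ L)
    (hnc : ∀ g : G, L ≠ M.map (MulAut.conj g).toMonoidHom) (hpL : p ∉ sigma L)
    {x : G} (hxM : x ∈ M) (hxP : x ∈ centralizer (P : Set G)) (hxo : orderOf x = q ^ k) :
    sigmaCore M ⊓ centralizer (P : Set G) ≤ centralizer ({x} : Set G) := by
  haveI := Fact.mk hq
  obtain ⟨hrk, hpi, A₀, hA₀e, hA₀c, hPA₀⟩ :=
    rank_two_of_normalizer_le hG h.uniq L hL p hpL P hPc hNL
  have hA₀L : A₀ ≤ L := (((le_centralizer_self_of_comm hA₀e.1).trans (centralizer_anti hPA₀)).trans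
    (centralizer_le_normalizer _)).trans hNL
  obtain ⟨B₀, e⟩ := exists_exceptional hG h hL hpL hA₀L hA₀e hA₀c
  have hnil := e.isNilpotent hG h
  set Y := sigmaCore M ⊓ centralizer (P : Set G) with hY
  have hYL : Y ≤ L := (inf_le_right.trans (centralizer_le_normalizer _)).trans hNL
  have hYs : ∀ r : ℕ, r.Prime → r ∣ Nat.card Y → r ∉ sigma L := fun r hr' hd hrL => by
    obtain ⟨g, hg⟩ := conj_of_nilpotent_sigma hG h hM hL hnil
      (isPiSub_sigmaCore M r hr' (hd.trans (card_dvd_of_le inf_le_left))) hrL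
    exact hnc g hg
  set W := zpowers x with hW
  have hWM : W ≤ M := zpowers_le.2 hxM
  have hWP : W ≤ centralizer (P : Set G) := zpowers_le.2 hxP
  have hWL : W ≤ L := (hWP.trans (centralizer_le_normalizer _)).trans hNL
  have hWY : W ≤ normalizer (Y : Set G) := Coprime.le_normalizer_inf
    (hWM.trans (le_normalizer_sigmaCore M)) (hWP.trans le_normalizer)
  have hWp : IsPGroup q W := IsPGroup.of_card (n := k) (by rw [hW, Nat.card_zpowers, hxo])
  suffices hgoal : Y ≤ centralizer (W : Set G) from hgoal.trans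
    (centralizer_le (Set.singleton_subset_iff.2 (mem_zpowers x)))
  by_cases hqL : q ∈ sigma L
  · rw [← commutator_eq_bot_iff_le_centralizer, eq_bot_iff, ← sigmaCore_inf_eq_bot_of_sigma' hG hYs]
    refine le_inf ?_ (Coprime.commutator_le_of_le_normalizer hWY)
    rw [commutator_comm]
    exact (commutator_mono (le_sigmaCore_of_pgroup hG hL hqL hWp hWL) le_rfl).trans
      (Coprime.commutator_le_of_le_normalizer (hYL.trans (le_normalizer_sigmaCore L)))
  have hPL : P ≤ L := le_normalizer.trans hNL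
  have hPn : P ≤ normalizer ((Y ⊔ W : Subgroup G) : Set G) :=
    le_normalizer_sup_of (le_centralizer_iff.1 inf_le_right) (le_centralizer_iff.1 hWP)
  have hZs : ∀ r : ℕ, r.Prime → r ∣ Nat.card (Y ⊔ W ⊔ P : Subgroup G) → r ∉ sigma L := by
    intro r hr' hd
    rcases prime_dvd_sup hPn hr' hd with hd | hd
    · rcases prime_dvd_sup hWY hr' hd with hd | hd
      · exact hYs r hr' hd
      · rw [eq_of_dvd_card_pgroup hWp hr' hd]; exact hqL
    · rw [eq_of_dvd_card_pgroup (isPGroup_of_prime_card hPc) hr' hd]; exact hpL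
  obtain ⟨E, hE, hle⟩ := exists_compl_ge hG hL (sup_le (sup_le hYL hWL) hPL) hZs
  have hp2 : p ∈ tau2 L := ⟨hp.out, hpL, hrk.1, hrk.2⟩
  obtain ⟨A, hA⟩ := BGTwelve.exists_sq_le_compl hG hL hE (q := p) hp2
  have hPA : P ≤ A := BGTwelve.le_sq_of_card hG h hL hE hp2 hA (le_sup_right.trans hle) hPc
  have hNC := inf_centralizer_plane_eq_bot hG h hT hM hps hr hPM hPc hPA hA.2.1 hA.2.2 hpi
  haveI := BGTwelve.isMulCommutative_derived_compl hG h hL hE
  have hEA := BGTwelve.compl_le_normalizer_sq hG h hL hE hp2 hA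
  intro y hy
  have hyE : y ∈ E := hle (mem_sup_left (mem_sup_left hy))
  refine mem_centralizer_iff.2 fun w hw => ?_
  set z := ⁅y, w⁆ with hz
  have hzY : z ∈ Y := Coprime.commutator_le_of_le_normalizer hWY (commutator_mem_commutator hy hw)
  have hzE : z ∈ ⁅E, E⁆ := commutator_mem_commutator hyE (hle (mem_sup_left (mem_sup_right hw)))
  suffices hz1 : z = 1 from (commutatorElement_eq_one_iff_mul_comm.1 hz1).symm
  by_cases hall : A ≤ centralizer ({z} : Set G)
  · have : z ∈ sigmaCore M ⊓ centralizer (A : Set G) := ⟨hzY.1, mem_centralizer_iff.2 fun a ha =>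
      (mem_centralizer_singleton_iff.1 (hall ha))⟩
    rwa [hNC, Subgroup.mem_bot] at this
  have hPz : P ≤ A ⊓ centralizer ({z} : Set G) := le_inf hPA fun a ha =>
    mem_centralizer_singleton_iff.2 (mem_centralizer_iff.1 hzY.2 a ha)
  have hPeq : P = A ⊓ centralizer ({z} : Set G) := by
    refine eq_of_le_of_card_ge hPz ?_
    obtain ⟨j, hj, hj'⟩ := (Nat.dvd_prime_pow hp.out).1
      (hA.2.2 ▸ card_dvd_of_le (inf_le_left : A ⊓ centralizer ({z} : Set G) ≤ A))
    rw [hPc, hj']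
    refine (Nat.pow_le_pow_right hp.out.pos ?_).trans_eq (pow_one p)
    by_contra hj2
    have heq : A ⊓ centralizer ({z} : Set G) = A := eq_of_le_of_card_ge inf_le_left (by
      rw [hA.2.2, hj', show j = 2 by omega])
    exact hall (heq.ge.trans inf_le_right)
  have hyA : y ∈ sigmaCore M ⊓ centralizer (A : Set G) := by
    refine ⟨hy.1, mem_centralizer_iff.2 fun a ha => ?_⟩
    set c := y * a * y⁻¹ * a⁻¹ with hc
    have hcA : c ∈ A := A.mul_mem ((mem_normalizer_iff.1 (hEA hyE) a).1 ha) (A.inv_mem ha)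
    have hcE : c ∈ ⁅E, E⁆ := commutator_mem_commutator hyE (hA.1 ha)
    have hcP : c ∈ P := by
      rw [hPeq]
      refine ⟨hcA, mem_centralizer_singleton_iff.2 ?_⟩
      exact congrArg Subtype.val (mul_comm' (⟨c, hcE⟩ : (⁅E, E⁆ : Subgroup G)) ⟨z, hzE⟩)
    refine (OddLocal43.commute_of_stab (a := y) (h := a) (c := c) ?_ (by rw [hc]; group) ?_).eq.symm
    · exact (mem_centralizer_iff.1 hy.2 c hcP).symm
    · refine Nat.coprime_of_dvd fun r hr' h1 h2 => hps ?_
      have hrp : r = p := (Nat.prime_dvd_prime_iff_eq hr' hp.out).1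
        (h2.trans (hPc ▸ Subgroup.orderOf_dvd_natCard P hcP))
      rw [← hrp]
      exact isPiSub_sigmaCore M r hr' (h1.trans (Subgroup.orderOf_dvd_natCard _ hy.1))
  rw [hNC, Subgroup.mem_bot] at hyA
  rw [hz, hyA, commutatorElement_one_left]

/-- BG 13.1: the elements of the cyclic Sylow subgroup of a rank-one prime outside `σ(M)` have
the same fixed points in `M_σ`. -/
theorem inf_centralizer_le_of_pgroup {M P W : Subgroup G} {p : ℕ} [hp : Fact p.Prime]
    (hM : IsCoatom M) (hps : p ∉ sigma M) (hr : PRankLE p 1 M) (hPM : P ≤ M)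
    (hPc : Nat.card P = p) (hWp : IsPGroup p W) (hWM : W ≤ M)
    (hWP : W ≤ centralizer (P : Set G)) :
    sigmaCore M ⊓ centralizer (P : Set G) ≤ centralizer (W : Set G) := by
  obtain ⟨L, hL, hNL, hnc⟩ := exists_coatom_normalizer hG h hM hps hr hPM hPc
  by_cases hpL : p ∈ sigma L
  swap
  · intro y hy
    refine mem_centralizer_iff.2 fun w hw => ?_
    obtain ⟨k, hk⟩ := IsPGroup.iff_orderOf.1 hWp ⟨w, hw⟩
    rw [Subgroup.orderOf_mk] at hk
    exact (mem_centralizer_singleton_iff.1 (inf_centralizer_le_of_not_sigma hG h hT hp.out hM hps hr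
      hPM hPc hL hNL hnc hpL (hWM hw) (hWP hw) hk hy)).symm
  set Y := sigmaCore M ⊓ centralizer (P : Set G) with hY
  have hWY : W ≤ normalizer (Y : Set G) := Coprime.le_normalizer_inf
    (hWM.trans (le_normalizer_sigmaCore M)) (hWP.trans le_normalizer)
  have hYp : ¬ p ∣ Nat.card Y := fun hd =>
    hps (isPiSub_sigmaCore M p hp.out (hd.trans (card_dvd_of_le inf_le_left)))
  refine le_of_sylow_le fun r hr' hrd => ?_
  haveI := Fact.mk hr'
  obtain ⟨i, hi⟩ := hWp.exists_card_eq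
  haveI := hWp.isNilpotent
  obtain ⟨T, hT'⟩ := Coprime.exists_invariant_sylow W Y hWY
    (by rw [hi]; exact (hp.out.coprime_iff_not_dvd.2 hYp).pow_left i) (Or.inl inferInstance) r
  have hrp : r ≠ p := fun h0 => hYp (h0 ▸ hrd)
  refine ⟨T, le_centralizer_of_derived hG h hL (fun hb => ?_)
    (le_derived_of_sigma hG hL hpL hWp ((hWP.trans (centralizer_le_normalizer _)).trans hNL))
    (fun hd => hrp (eq_of_dvd_card_pgroup hWp hr' hd))
    ((map_subtype_le _).trans ((inf_le_right.trans (centralizer_le_normalizer _)).trans hNL))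
    (T.isPGroup'.map _) hT'⟩
  obtain ⟨g, hg⟩ := conj_of_alpha_sigma hG h hL hM hb.1
    (isPiSub_sigmaCore M r hr' (hrd.trans (card_dvd_of_le inf_le_left)))
  exact hnc g⁻¹ (by rw [hg, map_conj_comp, inv_mul_cancel, map_conj_one])

/-- BG 13.1, in the form of the statement `S1427`. -/
theorem prime_action_stmt (M : Subgroup G) (hM : IsCoatom M) (E : Subgroup G)
    (hE : IsComplIn E (sigmaCore M) M) (p : ℕ) [hp : Fact p.Prime] (S : Sylow p E)
    (hS1 : (S : Subgroup E) ≠ ⊥) (hSc : IsCyclic (S : Subgroup E)) :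
    ∀ x ∈ (S : Subgroup E).map E.subtype, x ≠ 1 →
      sigmaCore M ⊓ centralizer ({x} : Set G) =
        sigmaCore M ⊓ centralizer (((S : Subgroup E).map E.subtype : Subgroup G) : Set G) := by
  set S₀ := (S : Subgroup E).map E.subtype with hS₀
  intro x hx hx1
  refine le_antisymm ?_ (inf_le_inf_left _ (centralizer_le (Set.singleton_subset_iff.2 hx)))
  have hS₀p : IsPGroup p S₀ := S.isPGroup'.map _
  have hS₀E : S₀ ≤ E := map_subtype_le _
  haveI hS₀c : IsCyclic S₀ :=
    ((S : Subgroup E).equivMapOfInjective E.subtype E.subtype_injective).isCyclic.1 hSc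
  have hS₀1 : S₀ ≠ ⊥ := fun h0 => hS1 ((map_eq_bot_iff_of_injective _ E.subtype_injective).1 h0)
  have hps : p ∉ sigma M := BGTwelve.not_mem_sigma_of_dvd hG hM hE hp.out
    ((dvd_card_of_ne_bot hS₀p hS₀1).trans (card_dvd_of_le hS₀E))
  have hr : PRankLE p 1 M := by
    refine prankLE_one_of_cyclic_sylow' ((hS₀p.comap_subtype (K := M)).toSylow ?_)
      ((subgroupOfEquivOfLe (hS₀E.trans hE.1)).isCyclic.2 hS₀c)
    show ¬ p ∣ S₀.relIndex M
    rw [← relIndex_mul_relIndex S₀ E M hS₀E hE.1]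
    intro hd
    rcases hp.out.dvd_mul.1 hd with h' | h'
    · refine S.not_dvd_index ?_
      rwa [Subgroup.relIndex, Subgroup.subgroupOf, hS₀,
        comap_map_eq_self_of_injective E.subtype_injective] at h'
    · exact BGTwelve.not_dvd_relIndex_compl hG hM hE hp.out hps h'
  have hz1 : zpowers x ≠ ⊥ := by simpa using hx1
  obtain ⟨P, hPx, hPc, -, -⟩ := exists_order_prime_of_cyclic
    (hS₀p.to_le (zpowers_le.2 hx)) inferInstance hz1
  have hPS : P ≤ S₀ := hPx.trans (zpowers_le.2 hx)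
  intro y hy
  refine ⟨hy.1, inf_centralizer_le_of_pgroup hG h hT hM hps hr (hPS.trans (hS₀E.trans hE.1)) hPc
    hS₀p (hS₀E.trans hE.1) ((le_centralizer_self_of_comm inferInstance).trans (centralizer_anti hPS))
    ⟨hy.1, mem_centralizer_iff.2 fun a ha => ?_⟩⟩
  obtain ⟨k, rfl⟩ := mem_zpowers_iff.1 (hPx ha)
  exact ((show Commute x y from (mem_centralizer_singleton_iff.1 hy.2).symm).zpow_left k).eq

end Cfsg.Agent.BGSigma
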