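import Cfsg.Agent.S1422
import Cfsg.Agent.S1424
import Cfsg.Agent.BGSigma.Inputs
import Cfsg.Agent.BGSigma.TauPoint

/-!
Discharging the inputs of BG Section 13.
-/

set_option autoImplicit false

namespace Cfsg.Agent.BGSigma

open Cfsg

universe u

theorem twelveInputs {G : Type u} [Group G] [Finite G] (hG : IsMinSimpleOddOrder G) :
    TwelveInputs G where
  nonabUniq := fun p _ P h1 h2 => S1422.result hG p P h1 h2
  sigmaNormalizer := fun M hM q _ hq X h1 h2 h3 Ms h4 h5 h6 S h7 =>
    S1424.result hG M hM q hq X h1 h2 h3 Ms h4 h5 h6 S h7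

end Cfsg.Agent.BGSigma
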