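import Cfsg.Agent.BGSigma.DisjointTools

/-!
BG 13.9: two maximal subgroups sharing a `σ`-prime are conjugate.
-/

set_option autoImplicit false

namespace Cfsg.Agent.BGSigma

open Cfsg Subgroup
open scoped commutatorElement Pointwise

universe u

variable {G : Type u} [Group G] [Finite G]

/-- The standing situation in the proof of BG 13.9. -/
structure SharedSylow (q : ℕ) (M N : Subgroup G) (S : Sylow q G) : Prop where
  hM : IsCoatom M
  hN : IsCoatom N
  hqM : q ∈ sigma M
  hqN : q ∈ sigma N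
  leM : normalizer ((S : Subgroup G) : Set G) ≤ M
  leN : normalizer ((S : Subgroup G) : Set G) ≤ N
  nconj : ∀ g : G, N ≠ M.map (MulAut.conj g).toMonoidHom
  comm : IsMulCommutative (S : Subgroup G)

variable {q : ℕ} {M N : Subgroup G} {S : Sylow q G}

theorem SharedSylow.symm (σ : SharedSylow q M N S) : SharedSylow q N M S where
  hM := σ.hN
  hN := σ.hM
  hqM := σ.hqN
  hqN := σ.hqM
  leM := σ.leN
  leN := σ.leM
  nconj := fun g hg => σ.nconj g⁻¹ (by rw [hg, map_conj_comp, inv_mul_cancel, map_conj_one])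
  comm := σ.comm

theorem SharedSylow.sylow_le (σ : SharedSylow q M N S) : (S : Subgroup G) ≤ M :=
  le_normalizer.trans σ.leM

variable (hG : IsMinSimpleOddOrder G) (h : LocalInputs G) (hT : TwelveInputs G) [hq : Fact q.Prime]
include hG h hT

omit hT hq in
theorem SharedSylow.not_sigma_of_alpha (σ : SharedSylow q M N S) {r : ℕ} (hr : r ∈ alpha M) :
    r ∉ sigma N := fun hs => by
  obtain ⟨g, hg⟩ := conj_of_alpha_sigma hG h σ.hM σ.hN hr hs
  exact σ.nconj g hg

omit hT in
theorem SharedSylow.not_beta (σ : SharedSylow q M N S) : q ∉ beta M := fun hb =>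
  σ.not_sigma_of_alpha hG h hb.1 σ.hqN

omit hT hq in
theorem SharedSylow.tau2_empty (σ : SharedSylow q M N S) {p : ℕ} : p ∉ tau2 M := fun hp => by
  haveI := Fact.mk hp.1
  obtain ⟨A, hAM, hAe, hAc⟩ := exists_elemAbelian_sq_le hp.2.2.2
  obtain ⟨B, e⟩ := exists_exceptional hG h σ.hM hp.2.1 hAM hAe hAc
  obtain ⟨g, hg⟩ := conj_of_nilpotent_sigma hG h σ.hN σ.hM (e.isNilpotent hG h) σ.hqN σ.hqM
  exact σ.symm.nconj g hg

omit hT in
theorem SharedSylow.prankLE_one (σ : SharedSylow q M N S) {p : ℕ} (hp : p.Prime)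
    (hps : p ∉ sigma M) : PRankLE p 1 M := by
  by_contra hr
  exact σ.tau2_empty hG h ⟨hp, hps, not_sigma_rank_two hG h.uniq σ.hM hp hps, hr⟩

omit hT in
theorem SharedSylow.le_centralizer_of_sigma (σ : SharedSylow q M N S) {W : Subgroup G} {p : ℕ}
    [hp : Fact p.Prime] (hW : IsPGroup p W) (hpq : p ≠ q) (hWS : W ≤ normalizer ((S : Subgroup G) : Set G))
    (hWd : W ≤ ⁅M, M⁆) : (S : Subgroup G) ≤ centralizer (W : Set G) :=
  le_centralizer_of_derived hG h σ.hM (σ.not_beta hG h) hWd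
    (fun hd => hpq (eq_of_dvd_card_pgroup hW hq.out hd).symm) σ.sylow_le S.isPGroup' hWS

/-- A line moving `S`, and what it does. -/
def Mover (M : Subgroup G) (S : Sylow q G) (p : ℕ) (P : Subgroup G) : Prop :=
  p.Prime ∧ p ≠ q ∧ p ∈ tau1 M ∧ P ≤ normalizer ((S : Subgroup G) : Set G) ∧ Nat.card P = p ∧
    ¬ (S : Subgroup G) ≤ centralizer (P : Set G)

/-- An element moving `S` sits over a line of `τ₁` moving it, with the same fixed points. -/
theorem SharedSylow.exists_mover (σ : SharedSylow q M N S) {v : G}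
    (hv : v ∈ normalizer ((S : Subgroup G) : Set G)) {p k : ℕ} (hp : p.Prime) (hpq : p ≠ q)
    (hvo : orderOf v = p ^ k) (hmove : ¬ (S : Subgroup G) ≤ centralizer ({v} : Set G)) :
    ∃ P : Subgroup G, Mover M S p P ∧ P ≤ zpowers v ∧
      (S : Subgroup G) ⊓ centralizer (P : Set G) ≤ centralizer ({v} : Set G) := by
  haveI := Fact.mk hp
  set W := zpowers v with hW
  have hWp : IsPGroup p W := IsPGroup.of_card (n := k) (by rw [hW, Nat.card_zpowers, hvo])
  have hWS : W ≤ normalizer ((S : Subgroup G) : Set G) := zpowers_le.2 hv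
  have hWM : W ≤ M := hWS.trans σ.leM
  have hCW : centralizer (W : Set G) = centralizer ({v} : Set G) := by
    rw [hW, zpowers_eq_closure, centralizer_closure]
  have hW1 : W ≠ ⊥ := fun h0 => hmove (fun s _ => by
    have : v = 1 := by simpa [hW] using h0
    rw [this, mem_centralizer_singleton_iff]; simp)
  have hps : p ∉ sigma M := fun hps => hmove (hCW ▸ σ.le_centralizer_of_sigma hG h hWp hpq hWS
    (le_derived_of_sigma hG σ.hM hps hWp hWM))
  have hr := σ.prankLE_one hG h hp hps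
  haveI : IsCyclic W := by rw [hW]; infer_instance
  obtain ⟨P, hPW, hPc, -, -⟩ := exists_order_prime_of_cyclic hWp inferInstance hW1
  have hSσ : (S : Subgroup G) ≤ sigmaCore M :=
    le_sigmaCore_of_pgroup hG σ.hM σ.hqM S.isPGroup' σ.sylow_le
  have hfix : (S : Subgroup G) ⊓ centralizer (P : Set G) ≤ centralizer ({v} : Set G) := hCW ▸
    (inf_le_inf_right _ hSσ).trans (inf_centralizer_le_of_pgroup hG h hT σ.hM hps hr
      (hPW.trans hWM) hPc hWp hWM ((le_centralizer_self_of_comm inferInstance).trans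
        (centralizer_anti hPW)))
  have hPmove : ¬ (S : Subgroup G) ≤ centralizer (P : Set G) := fun hle =>
    hmove ((le_inf le_rfl hle).trans hfix)
  refine ⟨P, ⟨hp, hpq, ⟨hp, hps, (hPc ▸ card_dvd_of_le (hPW.trans hWM)), fun hd => ?_, hr⟩,
    hPW.trans hWS, hPc, hPmove⟩, hPW, hfix⟩
  obtain ⟨x, hx⟩ := exists_prime_orderOf_dvd_card' p hd
  set X := zpowers (x : G) with hX
  have hXc : Nat.card X = p := by rw [hX, Nat.card_zpowers, Subgroup.orderOf_coe, hx]
  have hXd : X ≤ ⁅M, M⁆ := zpowers_le.2 x.2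
  have hXM : X ≤ M := hXd.trans (commutator_le_self M)
  obtain ⟨Q, hQ⟩ := ((isPGroup_of_prime_card hPc).comap_subtype (K := M)).exists_le_sylow
  obtain ⟨Q', hQ'⟩ := ((isPGroup_of_prime_card hXc).comap_subtype (K := M)).exists_le_sylow
  obtain ⟨m, hm⟩ := MulAction.exists_smul_eq M Q' Q
  haveI := isCyclic_of_prankLE_one hG hr (Q.isPGroup'.map M.subtype) (map_subtype_le _)
  have hXQ : X.map (MulAut.conj (m : G)).toMonoidHom ≤ (Q : Subgroup M).map M.subtype := by
    rintro _ ⟨y, hy, rfl⟩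
    refine ⟨m * ⟨y, hXM hy⟩ * m⁻¹, ?_, by simp⟩
    show _ ∈ (Q : Subgroup M)
    rw [← hm, Sylow.coe_subgroup_smul]
    exact smul_mem_pointwise_smul _ (MulAut.conj m) _ (hQ' hy)
  have hPX : X.map (MulAut.conj (m : G)).toMonoidHom = P := eq_of_le_cyclic hXQ
    (fun a ha => ⟨⟨a, hWM (hPW ha)⟩, hQ ha, rfl⟩) ((card_map_conj X _).trans (hXc.trans hPc.symm))
  refine hPmove (σ.le_centralizer_of_sigma hG h (isPGroup_of_prime_card hPc) hpq (hPW.trans hWS) ?_)
  rw [← hPX]
  refine (map_mono hXd).trans (le_of_eq ?_)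
  rw [map_commutator, map_conj_eq_self (le_normalizer m.2)]

omit hT in
/-- If the fixed points of a mover `P` on `M_β` lie in `N`, then `[S,P]` centralises `M_β`. -/
theorem SharedSylow.commutator_le (σ : SharedSylow q M N S) {p : ℕ} {P : Subgroup G}
    (hP : Mover M S p P)
    (hle : piCoreOf (beta M) M ⊓ centralizer (P : Set G) ≤ N) :
    ⁅(S : Subgroup G), P⁆ ≤ centralizer (piCoreOf (beta M) M : Set G) := by
  obtain ⟨hp, hpq, hp1, hPS, hPc, -⟩ := hP
  haveI := Fact.mk hp
  set B := piCoreOf (beta M) M with hB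
  have hBM : B ≤ M := piCoreOf_le M
  have hnB : M ≤ normalizer (B : Set G) := le_normalizer.trans (piCoreOf_normalized M)
  have hSn : (S : Subgroup G) ≤ normalizer (B : Set G) := σ.sylow_le.trans hnB
  have hbq : ¬ q ∣ Nat.card B := fun hd => σ.not_beta hG h (isPiSub_piCoreOf M q hq.out hd)
  have hbp : ¬ p ∣ Nat.card B := fun hd =>
    hp1.2.1 (mem_sigma_of_mem_alpha hG h.uniq σ.hM (isPiSub_piCoreOf M p hp hd).1)
  -- `S` centralises `B ∩ N`
  set D := B ⊓ N with hD
  have hSD : (S : Subgroup G) ≤ normalizer (D : Set G) :=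
    Coprime.le_normalizer_inf hSn (σ.symm.sylow_le.trans le_normalizer)
  have hDS : D ≤ centralizer ((S : Subgroup G) : Set G) := le_of_sylow_le fun r hr hd => by
    haveI := Fact.mk hr
    obtain ⟨i, hi⟩ := S.isPGroup'.exists_card_eq
    haveI := S.isPGroup'.isNilpotent
    obtain ⟨T, hT'⟩ := Coprime.exists_invariant_sylow (S : Subgroup G) D hSD
      (by rw [hi]; exact (hq.out.coprime_iff_not_dvd.2
        fun h0 => hbq (h0.trans (card_dvd_of_le inf_le_left))).pow_left i) (Or.inl inferInstance) r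
    have hrβ : r ∈ beta M := isPiSub_piCoreOf M r hr (hd.trans (card_dvd_of_le inf_le_left))
    exact ⟨T, le_centralizer_of_derived hG h σ.hN
      (fun hb => σ.not_sigma_of_alpha hG h hrβ.1 (mem_sigma_of_mem_alpha hG h.uniq σ.hN hb.1))
      (le_derived_of_sigma hG σ.hN σ.hqN S.isPGroup' σ.symm.sylow_le)
      (fun h0 => hbq ((eq_of_dvd_card_pgroup S.isPGroup' hr h0) ▸ hd.trans
        (card_dvd_of_le inf_le_left)))
      ((map_subtype_le _).trans inf_le_right) (T.isPGroup'.map _) hT'⟩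
  have hSP : (S : Subgroup G) ⊔ P ≤ M := sup_le σ.sylow_le (hPS.trans σ.leM)
  rw [le_centralizer_iff]
  refine le_of_sylow_le fun r hr hd => ?_
  haveI := Fact.mk hr
  have hco : (Nat.card ((S : Subgroup G) ⊔ P : Subgroup G)).Coprime (Nat.card B) :=
    Nat.coprime_of_dvd fun l hl h1 h2 => by
      rcases prime_dvd_sup hPS hl h1 with h3 | h3
      · exact hbq ((eq_of_dvd_card_pgroup S.isPGroup' hl h3) ▸ h2)
      · exact hbp ((eq_of_dvd_card_pgroup (isPGroup_of_prime_card hPc) hl h3) ▸ h2)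
  obtain ⟨T, hT'⟩ := Coprime.exists_invariant_sylow ((S : Subgroup G) ⊔ P) B (hSP.trans hnB) hco
    (Or.inl (isSolvable_of_le_coatom hG σ.hM hSP)) r
  refine ⟨T, le_centralizer_iff.1 (commutator_le_centralizer_of_pgroup_fixed h.fixedPoint hG.1
    (T.isPGroup'.map _) (le_sup_left.trans hT') (le_sup_right.trans hT') hPS (hPc ▸ hp)
    (fun h0 => hbq ((eq_of_dvd_card_pgroup S.isPGroup' hr h0) ▸ hd))
    (fun h0 => hbp ((eq_of_dvd_card_pgroup (isPGroup_of_prime_card hPc) hr h0) ▸ hd)) ?_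
    (isSolvable_of_le_coatom hG σ.hM hSP) ?_)⟩
  · obtain ⟨i, hi⟩ := S.isPGroup'.exists_card_eq
    rw [hi, hPc]; exact ((Nat.coprime_primes hq.out hp).2 hpq.symm).pow_left i
  · intro y hy
    have hyB : y ∈ B ⊓ centralizer (P : Set G) := ⟨map_subtype_le _ hy.1, hy.2⟩
    exact hDS ⟨hyB.1, hle hyB⟩

omit hT in
/-- What is centralised by `M_β` in `S` and invariant under `N(S)` is normal in `M`. -/
theorem SharedSylow.le_normalizer_of_centralizer (σ : SharedSylow q M N S) {X : Subgroup G}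
    (hXS : X ≤ (S : Subgroup G)) (hXB : X ≤ centralizer (piCoreOf (beta M) M : Set G))
    (hXn : normalizer ((S : Subgroup G) : Set G) ≤ normalizer (X : Set G)) :
    M ≤ normalizer (X : Set G) := by
  obtain ⟨hβ, -, -, ⟨H, hH, hHn⟩, -⟩ :=
    beta_core_stmt hG h.uniq h.plength h.narrow h.narrowSylow M σ.hM
  obtain ⟨hHall, -, -⟩ := sigmaCore_hall hG h.uniq smallRankFrattini fittingRankTwoDerived σ.hM
  have hXC : ∀ T : Subgroup G, T ≤ centralizer (X : Set G) → T ≤ normalizer (X : Set G) :=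
    fun T hT' => hT'.trans (centralizer_le_normalizer _)
  refine le_of_sylow_le fun r hr _ => ?_
  haveI := Fact.mk hr
  by_cases hrb : r ∈ beta M
  · obtain ⟨T, hT'⟩ := exists_sylow_le (M := M) hβ.1 (hβ.2.2 r hr hrb)
    exact ⟨T, hXC _ (hT'.trans (le_centralizer_iff.1 hXB))⟩
  by_cases hrq : r = q
  · subst hrq
    have hd : ¬ r ∣ (S : Subgroup G).relIndex M := by
      have := (S.subtype σ.sylow_le).not_dvd_index
      rwa [Sylow.coe_subtype] at this
    obtain ⟨T, hT'⟩ := exists_sylow_le σ.sylow_le hd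
    exact ⟨T, hT'.trans (le_normalizer.trans hXn)⟩
  by_cases hrs : r ∈ sigma M
  · -- inside a nilpotent Hall `β'`-subgroup of `M_σ` containing `S`
    have hSσ : (S : Subgroup G) ≤ sigmaCore M :=
      le_sigmaCore_of_pgroup hG σ.hM σ.hqM S.isPGroup' σ.sylow_le
    obtain ⟨Q, hQ⟩ := exists_sylow_le (M := sigmaCore M) hH.1
      (hH.2.2 q hq.out ⟨hq.out, σ.not_beta hG h⟩)
    obtain ⟨a, ha⟩ := MulAction.exists_smul_eq (sigmaCore M) Q (S.subtype hSσ)
    set H' := H.map (MulAut.conj (a : G)).toMonoidHom with hH'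
    have haσ : (a : G) ∈ normalizer (sigmaCore M : Set G) := le_normalizer a.2
    have hH'σ : H' ≤ sigmaCore M := (map_mono hH.1).trans (map_conj_eq_self haσ).le
    have hH'n : Group.IsNilpotent H' := by
      haveI := hHn
      exact Group.nilpotent_of_mulEquiv (H.equivMapOfInjective _ (MulAut.conj (a : G)).injective)
    have hSH : (S : Subgroup G) ≤ H' := fun s hs => by
      have h1 : (⟨s, hSσ hs⟩ : sigmaCore M) ∈ ((a • Q : Sylow q (sigmaCore M)) : Subgroup (sigmaCore M)) := by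
        rw [ha]; exact hs
      rw [Sylow.coe_subgroup_smul, mem_pointwise_smul_iff_inv_smul_mem] at h1
      refine ⟨(a : G)⁻¹ * s * a, hQ ⟨_, h1, by simp [mul_assoc]⟩, by simp [mul_assoc]⟩
    have hd : ¬ r ∣ H'.relIndex M := by
      have h1 : H'.relIndex M = H.relIndex M := by
        refine Nat.eq_of_mul_eq_mul_right (Nat.card_pos (α := H)) ?_
        conv_lhs => rw [← card_map_conj H (a : G)]
        rw [relIndex_mul_card (hH'σ.trans (sigmaCore_le M)),
          relIndex_mul_card (hH.1.trans (sigmaCore_le M))]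
      rw [h1, ← relIndex_mul_relIndex H (sigmaCore M) M hH.1 (sigmaCore_le M)]
      intro h0
      rcases hr.dvd_mul.1 h0 with h' | h'
      · exact hH.2.2 r hr ⟨hr, hrb⟩ h'
      · exact hHall.2.2 r hr hrs h'
    obtain ⟨T, hT'⟩ := exists_sylow_le (hH'σ.trans (sigmaCore_le M)) hd
    exact ⟨T, hXC _ ((le_centralizer_of_nilpotent hH'n hrq (T.isPGroup'.map _) S.isPGroup'
      hT' hSH).trans (centralizer_anti hXS))⟩
  · -- `N(S)` has index dividing `|M_σ|`
    set NS := normalizer ((S : Subgroup G) : Set G) with hNS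
    have hsup : NS ⊔ sigmaCore M = M := by
      refine le_antisymm (sup_le σ.leM (sigmaCore_le M)) fun m hm => ?_
      obtain ⟨a, ha, han⟩ := exists_mul_normalizer hG σ.hM σ.hqM S σ.sylow_le hm
      have := mul_mem (mem_sup_right ha : a ∈ NS ⊔ sigmaCore M) (mem_sup_left han)
      rwa [mul_inv_cancel_left] at this
    have hd : ¬ r ∣ NS.relIndex M := by
      intro h0
      refine hrs (isPiSub_sigmaCore M r hr (h0.trans ?_))
      refine Nat.dvd_of_mul_dvd_mul_right (Nat.card_pos (α := NS)) ?_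
      have e := relIndex_mul_card (le_sup_right : sigmaCore M ≤ NS ⊔ sigmaCore M)
      rw [Coprime.relIndex_sup_of_le_normalizer (σ.leM.trans (le_normalizer_sigmaCore M)), hsup] at e
      rw [relIndex_mul_card σ.leM, ← e, mul_comm]
      exact Nat.mul_dvd_mul_left _ (relIndex_dvd_card _ _)
    obtain ⟨T, hT'⟩ := exists_sylow_le σ.leM hd
    exact ⟨T, hT'.trans hXn⟩

/-- The fixed points on `M_β` of a line fixing a point of `N_β` lie in `N`. -/
theorem SharedSylow.fixed_le (σ : SharedSylow q M N S) {p : ℕ} {P : Subgroup G} (hp : p.Prime)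
    (hp1 : p ∈ tau1 M) (hp1N : p ∈ tau1 N) (hPS : P ≤ normalizer ((S : Subgroup G) : Set G))
    (hPc : Nat.card P = p) (hYM : piCoreOf (beta M) M ⊓ centralizer (P : Set G) ≠ ⊥)
    (hYN : piCoreOf (beta N) N ⊓ centralizer (P : Set G) ≠ ⊥) :
    piCoreOf (beta M) M ⊓ centralizer (P : Set G) ≤ N := by
  haveI := Fact.mk hp
  obtain ⟨s, hs, t, ht, hto⟩ := exists_prime_line hYM
  obtain ⟨r, hr, u, hu, huo⟩ := exists_prime_line hYN
  haveI := Fact.mk hs
  haveI := Fact.mk hr
  have hsb : s ∈ beta M :=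
    isPiSub_piCoreOf M s hs (hto ▸ Subgroup.orderOf_dvd_natCard _ ht.1)
  have hrb : r ∈ beta N :=
    isPiSub_piCoreOf N r hr (huo ▸ Subgroup.orderOf_dvd_natCard _ hu.1)
  have hsN : s ∉ sigma N := σ.not_sigma_of_alpha hG h hsb.1
  have hrM : r ∉ sigma M := σ.symm.not_sigma_of_alpha hG h hrb.1
  have hrNσ : r ∈ sigma N := mem_sigma_of_mem_alpha hG h.uniq σ.hN hrb.1
  have hsr : s ≠ r := fun h0 => hsN (h0 ▸ hrNσ)
  have hPM := hPS.trans σ.leM
  have hPN := hPS.trans σ.leN
  obtain ⟨L, hL, hNL, hncM⟩ := exists_coatom_normalizer hG h σ.hM hp1.2.1 hp1.2.2.2.2 hPM hPc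
  set C := centralizer (P : Set G) with hC
  have hCL : C ≤ L := (centralizer_le_normalizer _).trans hNL
  have hrk : ∀ {l : ℕ} {K : Subgroup G}, l.Prime → IsCoatom K → l ∈ beta K →
      (∀ g : G, L ≠ K.map (MulAut.conj g).toMonoidHom) → PRankLE l 1 L := by
    intro l K hl hK hlb hnc
    haveI := Fact.mk hl
    have hlL : l ∉ sigma L := fun h0 => by
      obtain ⟨g, hg⟩ := conj_of_alpha_sigma hG h hK hL hlb.1 h0
      exact hnc g hg
    by_contra h1
    exact (not_ideal_of_rank_two hG h.uniq hL (not_sigma_rank_two hG h.uniq hL hl hlL) h1).1 hlb.2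
  have hncN : ∀ g : G, L ≠ N.map (MulAut.conj g).toMonoidHom := fun g hg =>
    normalizer_not_le_conj hG h σ.hN hp1N.2.1 hp1N.2.2.2.2 hPc (hg ▸ hNL)
  haveI : Group.IsSolvable C := isSolvable_of_le_coatom hG hL hCL
  set π : Set ℕ := {s, r} with hπ
  have hpre : ∀ (x : G) (hx : x ∈ C) (l : ℕ), orderOf x = l → l.Prime → l ∈ π →
      ∀ l' : ℕ, l'.Prime → l' ∣ Nat.card ((zpowers x).subgroupOf C) → l' ∈ π := by
    intro x hx l hl hlp hlπ l' hl' hd
    rw [Nat.card_congr (subgroupOfEquivOfLe (zpowers_le.2 hx)).toEquiv, Nat.card_zpowers, hl,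
      Nat.prime_dvd_prime_iff_eq hl' hlp] at hd
    exact hd ▸ hlπ
  obtain ⟨H', hH', htH'⟩ := Solvable.exists_isPiHall_ge (G := C) (π := π)
    ((zpowers t).subgroupOf C) (hpre t ht.2 s hto hs (Or.inl rfl))
  obtain ⟨b, hb⟩ := Solvable.le_conj_isPiHall (G := C) hH' ((zpowers u).subgroupOf C)
    (hpre u hu.2 r huo hr (Or.inr rfl))
  set H := H'.map C.subtype with hH
  have hHC : H ≤ C := map_subtype_le _
  have htH : t ∈ H := ⟨⟨t, ht.2⟩, htH' (mem_zpowers t), rfl⟩
  set u' := (b : G)⁻¹ * u * b with hu'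
  have hu'H : u' ∈ H := by
    have h1 := hb (show (⟨u, hu.2⟩ : C) ∈ (zpowers u).subgroupOf C from mem_zpowers u)
    rw [mem_pointwise_smul_iff_inv_smul_mem] at h1
    exact ⟨_, h1, by simp [hu', mul_assoc]⟩
  have hu'o : orderOf u' = r := by
    rw [hu', show (b : G)⁻¹ * u * b = MulAut.conj (b : G)⁻¹ u by simp, MulEquiv.orderOf_eq, huo]
  have hHr : RankLE 1 H := fun l hl => by
    by_cases hd : l ∣ Nat.card H
    · rw [hH, card_map_of_injective C.subtype_injective] at hd
      rcases hH'.1 l hl hd with rfl | h1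
      · exact prankLE_subgroup (hHC.trans hCL) (hrk hl σ.hM hsb hncM)
      · rw [Set.mem_singleton_iff.1 h1]
        exact prankLE_subgroup (hHC.trans hCL) (hrk hr σ.hN hrb hncN)
    · exact prankLE_of_not_dvd hl hd
  obtain ⟨D, hDH, hDp, hHD, hDu⟩ := exists_normal_prime hG (H := H)
    (fun h0 => hs.ne_one (by
      rw [h0, Subgroup.mem_bot] at htH; rw [← hto, htH, orderOf_one])) hHr
  have hdisjM : ∀ l : ℕ, l.Prime → l ∣ Nat.card (piCoreOf (beta M) M) → ∀ K : Subgroup G,
      IsCoatom K → l ∈ sigma K → ∃ g : G, K = M.map (MulAut.conj g).toMonoidHom :=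
    fun l hl hd K hK hlK => conj_of_alpha_sigma hG h σ.hM hK (isPiSub_piCoreOf M l hl hd).1 hlK
  have hdisjN : ∀ l : ℕ, l.Prime → l ∣ Nat.card (piCoreOf (beta N) N) → ∀ K : Subgroup G,
      IsCoatom K → l ∈ sigma K → ∃ g : G, K = N.map (MulAut.conj g).toMonoidHom :=
    fun l hl hd K hK hlK => conj_of_alpha_sigma hG h σ.hN hK (isPiSub_piCoreOf N l hl hd).1 hlK
  have hBσ : ∀ K : Subgroup G, IsCoatom K → piCoreOf (beta K) K ≤ sigmaCore K := fun K hK =>
    le_piCoreOf (piCoreOf_le K) (le_normalizer.trans (piCoreOf_normalized K))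
      fun l hl hd => mem_sigma_of_mem_alpha hG h.uniq hK (isPiSub_piCoreOf K l hl hd).1
  have htM : t ∈ M := piCoreOf_le M ht.1
  have hWt : Nat.card (zpowers t) = s := by rw [Nat.card_zpowers, hto]
  have hWu : Nat.card (zpowers u) = r := by rw [Nat.card_zpowers, huo]
  -- the conjugate `u'` lies in `M`
  have hu'M : u' ∈ M := by
    have hDl : Nat.card D ∈ π := by
      refine hH'.1 _ hDp ?_
      rw [← card_map_of_injective (K := H') C.subtype_injective]
      exact card_dvd_of_le hDH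
    rcases hDl with hD1 | hD1
    · rw [← hDu _ (zpowers_le.2 htH) (hWt.trans hD1.symm)] at hHD
      exact normalizer_le_of_beta hG h σ.hM hsb (zpowers_le.2 htM) hWt (hHD hu'H)
    · have hD1' : Nat.card D = r := hD1
      rw [← hDu _ (zpowers_le.2 hu'H) (by rw [Nat.card_zpowers, hu'o, hD1'])] at hHD
      set z := (b : G) * t * (b : G)⁻¹ with hz
      have hzN : z ∈ N := by
        refine normalizer_le_of_beta hG h σ.hN hrb (zpowers_le.2 (piCoreOf_le N hu.1)) hWu ?_
        rw [mem_normalizer_iff_map_conj_eq]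
        have h1 := map_conj_eq_self (hHD htH)
        have h2 : zpowers u' = (zpowers u).map (MulAut.conj (b : G)⁻¹).toMonoidHom := by
          rw [MonoidHom.map_zpowers]; simp [hu']
        rw [h2, map_conj_comp] at h1
        have h3 := congrArg (fun X => X.map (MulAut.conj (b : G)).toMonoidHom) h1
        simp only [map_conj_comp, mul_inv_cancel, map_conj_one] at h3
        rwa [show (b : G) * (t * (b : G)⁻¹) = z by rw [hz, mul_assoc]] at h3
      have hzo : orderOf z = s := by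
        rw [hz, show (b : G) * t * (b : G)⁻¹ = MulAut.conj (b : G) t from rfl, MulEquiv.orderOf_eq,
          hto]
      have hzC : zpowers z ≤ C :=
        zpowers_le.2 (C.mul_mem (C.mul_mem b.2 ht.2) (C.inv_mem b.2))
      have hzc := le_centralizer_of_tau1 hG h hT (r := s) (R := zpowers z) σ.hN hp1N hPN hPc
        (zpowers_le.2 hzN) hzC (by rw [Nat.card_zpowers, hzo]) hsN (hBσ N σ.hN)
        ((zpowers_le.2 hzN).trans (le_normalizer.trans (piCoreOf_normalized N))) hdisjN hu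
      have hcomm : z * u = u * z := mem_centralizer_iff.1 hzc z (mem_zpowers z)
      refine (BGTwelve.cent_uniq_stmt hG h σ.hM (mem_sigma_of_mem_alpha hG h.uniq σ.hM hsb.1)
        (zpowers_le.2 htM) hWt default (Or.inl hsb)).1.1 ?_
      rw [zpowers_eq_closure, centralizer_closure, mem_centralizer_singleton_iff]
      calc u' * t = (b : G)⁻¹ * (u * z) * b := by rw [hu', hz]; group
        _ = (b : G)⁻¹ * (z * u) * b := by rw [hcomm]
        _ = t * u' := by rw [hu', hz]; group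
  -- a complement of `M_σ` inside `N(S)`
  set NS := normalizer ((S : Subgroup G) : Set G) with hNS
  haveI : Group.IsSolvable NS := isSolvable_of_le_coatom hG σ.hM σ.leM
  obtain ⟨E₀', hE₀', hPE₀'⟩ := Solvable.exists_isPiHall_ge (G := NS) (π := {l | l ∉ sigma M})
    (P.subgroupOf NS) (fun l hl hd => by
      rw [Nat.card_congr (subgroupOfEquivOfLe hPS).toEquiv, hPc,
        Nat.prime_dvd_prime_iff_eq hl hp] at hd
      exact hd ▸ hp1.2.1)
  set E₀ := E₀'.map NS.subtype with hE₀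
  have hE₀NS : E₀ ≤ NS := map_subtype_le _
  obtain ⟨E, hE, hE₀E⟩ := exists_compl_ge hG σ.hM (hE₀NS.trans σ.leM) fun l hl hd => hE₀'.1 l hl
    (by rwa [hE₀, card_map_of_injective NS.subtype_injective] at hd)
  have hEE : E ≤ E₀ := by
    rw [← relIndex_eq_one, Nat.eq_one_iff_not_exists_prime_dvd]
    intro l hl hd
    have hlσ : l ∉ sigma M :=
      BGTwelve.not_mem_sigma_of_dvd hG σ.hM hE hl (hd.trans (relIndex_dvd_card _ _))
    have h1 : l ∣ E₀.relIndex M := hd.trans
      ⟨E.relIndex M, (relIndex_mul_relIndex E₀ E M hE₀E hE.1).symm⟩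
    rw [← relIndex_mul_relIndex E₀ NS M hE₀NS σ.leM] at h1
    rcases hl.dvd_mul.1 h1 with h' | h'
    · refine hE₀'.2 l hl hlσ ?_
      rwa [Subgroup.relIndex, Subgroup.subgroupOf, hE₀,
        comap_map_eq_self_of_injective NS.subtype_injective] at h'
    · refine hlσ (isPiSub_sigmaCore M l hl (h'.trans ?_))
      have hsup : NS ⊔ sigmaCore M = M := by
        refine le_antisymm (sup_le σ.leM (sigmaCore_le M)) fun m hm => ?_
        obtain ⟨a, ha, han⟩ := exists_mul_normalizer hG σ.hM σ.hqM S σ.sylow_le hm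
        have := mul_mem (mem_sup_right ha : a ∈ NS ⊔ sigmaCore M) (mem_sup_left han)
        rwa [mul_inv_cancel_left] at this
      refine Nat.dvd_of_mul_dvd_mul_right (Nat.card_pos (α := NS)) ?_
      have e := relIndex_mul_card (le_sup_right : sigmaCore M ≤ NS ⊔ sigmaCore M)
      rw [Coprime.relIndex_sup_of_le_normalizer (σ.leM.trans (le_normalizer_sigmaCore M)), hsup] at e
      rw [relIndex_mul_card σ.leM, ← e, mul_comm]
      exact Nat.mul_dvd_mul_left _ (relIndex_dvd_card _ _)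
  have hPE : P ≤ E := fun x hx => hE₀E ⟨⟨x, hPS hx⟩, hPE₀' hx, rfl⟩
  -- conjugate `u'` into it
  set R := zpowers u' with hR
  have hRC : R ≤ C := zpowers_le.2 (hHC hu'H)
  obtain ⟨m, hm, hmY⟩ := BGTwelve.exists_conj_le_compl hG σ.hM hE
    (sup_le hPM (zpowers_le.2 hu'M) : P ⊔ R ≤ M) fun l hl hd => by
      rcases prime_dvd_sup (hRC.trans (centralizer_le_normalizer _)) hl hd with h1 | h1
      · rw [eq_of_dvd_card_pgroup (isPGroup_of_prime_card hPc) hl h1]; exact hp1.2.1
      · rw [hR, Nat.card_zpowers, hu'o, Nat.prime_dvd_prime_iff_eq hl hr] at h1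
        exact h1 ▸ hrM
  have hmC : m ∈ C := mem_centralizer_iff.2 fun x hx => by
    have h1 : m * x * m⁻¹ * x⁻¹ ∈ E ⊓ sigmaCore M := by
      refine ⟨E.mul_mem (hmY x (mem_sup_left hx)) (E.inv_mem (hPE hx)), ?_⟩
      rw [show m * x * m⁻¹ * x⁻¹ = m * (x * m⁻¹ * x⁻¹) by group]
      exact (sigmaCore M).mul_mem hm ((mem_normalizer_iff.1
        (le_normalizer_sigmaCore M (hPM hx)) _).1 ((sigmaCore M).inv_mem hm))
    rw [hE.2.2.1, Subgroup.mem_bot, mul_inv_eq_one, mul_inv_eq_iff_eq_mul] at h1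
    exact h1.symm
  set z := m * u' * m⁻¹ with hz
  have hzE : z ∈ E := hmY u' (mem_sup_right (mem_zpowers u'))
  set g := m * (b : G)⁻¹ with hg
  have hgu : g * u * g⁻¹ = z := by rw [hz, hu', hg]; group
  have hzN : z ∈ N := σ.leN (hE₀NS (hEE hzE))
  have huN : zpowers u ≤ N := zpowers_le.2 (piCoreOf_le N hu.1)
  have hCu := (BGTwelve.cent_uniq_stmt hG h σ.hN hrNσ huN hWu default (Or.inl hrb)).1.1
  have hgN : g ∈ N := by
    obtain ⟨n, hn, c, hc, hgc⟩ := (fusion_stmt hG h.uniq N σ.hN r hrNσ (zpowers u)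
      (isPGroup_of_prime_card hWu) (ne_bot_of_prime_card hr hWu) huN).1 g
      (by rw [MonoidHom.map_zpowers]; exact zpowers_le.2 (show g * u * g⁻¹ ∈ N by rw [hgu]; exact hzN))
    rw [hgc]; exact N.mul_mem hn (hCu hc)
  have hCz : centralizer ({z} : Set G) ≤ N := fun c hc => by
    have h1 : g⁻¹ * c * g ∈ centralizer (zpowers u : Set G) := by
      rw [zpowers_eq_closure, centralizer_closure, mem_centralizer_singleton_iff]
      have h2 := mem_centralizer_singleton_iff.1 hc
      rw [← hgu] at h2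
      calc g⁻¹ * c * g * u = g⁻¹ * (c * (g * u * g⁻¹)) * g := by group
        _ = g⁻¹ * (g * u * g⁻¹ * c) * g := by rw [h2]
        _ = u * (g⁻¹ * c * g) := by group
    simpa [mul_assoc] using N.mul_mem (N.mul_mem hgN (hCu h1)) (N.inv_mem hgN)
  have hzM : zpowers z ≤ M := zpowers_le.2 (hE.1 hzE)
  have hkey := le_centralizer_of_tau1 hG h hT (r := r) (R := zpowers z) σ.hM hp1 hPM hPc hzM
    (zpowers_le.2 (C.mul_mem (C.mul_mem hmC (hHC hu'H)) (C.inv_mem hmC)))
    (by rw [Nat.card_zpowers, hz, show m * u' * m⁻¹ = MulAut.conj m u' from rfl,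
      MulEquiv.orderOf_eq, hu'o])
    hrM (hBσ M σ.hM) (hzM.trans (le_normalizer.trans (piCoreOf_normalized M))) hdisjM
  refine hkey.trans (le_trans ?_ hCz)
  rw [zpowers_eq_closure, centralizer_closure]

/-- A mover has fixed points on exactly one of `M_β`, `N_β`. -/
theorem SharedSylow.false_of_both (σ : SharedSylow q M N S) {p : ℕ} {P : Subgroup G}
    (hP : Mover M S p P) (hPN : Mover N S p P)
    (hsame : piCoreOf (beta M) M ⊓ centralizer (P : Set G) = ⊥ ↔
      piCoreOf (beta N) N ⊓ centralizer (P : Set G) = ⊥) : False := by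
  obtain ⟨hp, -, hp1, hPS, hPc, hmove⟩ := id hP
  obtain ⟨-, -, hp1N, -, -, -⟩ := id hPN
  have hle : piCoreOf (beta M) M ⊓ centralizer (P : Set G) ≤ N ∧
      piCoreOf (beta N) N ⊓ centralizer (P : Set G) ≤ M := by
    by_cases h0 : piCoreOf (beta M) M ⊓ centralizer (P : Set G) = ⊥
    · exact ⟨h0.le.trans bot_le, (hsame.1 h0).le.trans bot_le⟩
    · exact ⟨σ.fixed_le hG h hT hp hp1 hp1N hPS hPc h0 (fun h1 => h0 (hsame.2 h1)),
        σ.symm.fixed_le hG h hT hp hp1N hp1 hPS hPc (fun h1 => h0 (hsame.2 h1)) h0⟩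
  have h1 := σ.commutator_le hG h hP hle.1
  have h2 := σ.symm.commutator_le hG h hPN hle.2
  set NS := normalizer ((S : Subgroup G) : Set G) with hNS
  set X := (S : Subgroup G) ⊓ centralizer (piCoreOf (beta M) M : Set G) ⊓
    centralizer (piCoreOf (beta N) N : Set G) with hX
  have hne : X ≠ ⊥ := fun h0 => hmove (commutator_eq_bot_iff_le_centralizer.1 (le_bot_iff.1
    ((le_inf (le_inf (Coprime.commutator_le_of_le_normalizer hPS) h1) h2).trans h0.le)))
  have hXS : X ≤ (S : Subgroup G) := inf_le_left.trans inf_le_left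
  have hnorm : ∀ K : Subgroup G, IsCoatom K → NS ≤ K →
      NS ≤ normalizer (centralizer (piCoreOf (beta K) K : Set G) : Set G) := fun K hK hle =>
    Coprime.le_normalizer_centralizer
      ((hle.trans le_normalizer).trans (piCoreOf_normalized K))
  have hXn : NS ≤ normalizer (X : Set G) :=
    Coprime.le_normalizer_inf (Coprime.le_normalizer_inf (le_refl NS) (hnorm M σ.hM σ.leM))
      (hnorm N σ.hN σ.leN)
  have hMX := σ.le_normalizer_of_centralizer hG h hXS (inf_le_left.trans inf_le_right) hXn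
  have hNX := σ.symm.le_normalizer_of_centralizer hG h hXS inf_le_right hXn
  have e := (normalizer_eq_coatom hG σ.hM (hXS.trans σ.sylow_le) hne hMX).symm.trans
    (normalizer_eq_coatom hG σ.hN (hXS.trans σ.symm.sylow_le) hne hNX)
  exact σ.nconj 1 (by rw [map_conj_one, e])

/-- Some mover has fixed points on `M_β`. -/
theorem SharedSylow.exists_mover_fixing (σ : SharedSylow q M N S) :
    ∃ (p : ℕ) (P : Subgroup G), Mover M S p P ∧ Mover N S p P ∧
      piCoreOf (beta M) M ⊓ centralizer (P : Set G) ≠ ⊥ := by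
  by_contra hno
  simp only [not_exists, not_and, not_not] at hno
  set NS := normalizer ((S : Subgroup G) : Set G) with hNS
  set T := (S : Subgroup G) ⊓ centralizer (piCoreOf (beta M) M : Set G) with hT0
  have hTn : NS ≤ normalizer (T : Set G) := Coprime.le_normalizer_inf (le_refl NS)
    (Coprime.le_normalizer_centralizer
      ((σ.leM.trans le_normalizer).trans (piCoreOf_normalized M)))
  have hTS : T < (S : Subgroup G) := by
    refine lt_of_le_of_ne inf_le_left fun h0 => ?_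
    have hMS := σ.le_normalizer_of_centralizer hG h le_rfl (h0.ge.trans inf_le_right) (le_refl NS)
    exact σ.nconj 1 (by
      rw [map_conj_one, (σ.hM.le_iff.1 (hMS.trans σ.leN)).resolve_left σ.hN.1])
  obtain ⟨v, hv, ⟨p, k, hp, hpq, hvo⟩, t, ht, hnt⟩ := exists_moving hG h S hTS hTn
  have hmove : ¬ (S : Subgroup G) ≤ centralizer ({v} : Set G) := fun hle => hnt (by
    rw [mem_centralizer_singleton_iff.1 (hle ht)]
    simp)
  obtain ⟨P, hPm, hPv, hfix⟩ := σ.exists_mover hG h hT hv hp hpq hvo hmove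
  obtain ⟨P', hP'm, hP'v, -⟩ := σ.symm.exists_mover hG h hT hv hp hpq hvo hmove
  have hPP : P' = P := eq_of_le_cyclic hP'v hPv (hP'm.2.2.2.2.1.trans hPm.2.2.2.2.1.symm)
  rw [hPP] at hP'm
  have hSP := σ.commutator_le hG h hPm ((hno p P hPm hP'm).le.trans bot_le)
  obtain ⟨-, -, -, hPS, hPc, -⟩ := hPm
  haveI := Fact.mk hp
  haveI : IsCyclic P := isCyclic_of_prime_card hPc
  obtain ⟨x, hx, c, hc, htxc⟩ := Coprime.exists_commutator_mul_centralizer P (S : Subgroup G) hPS
    (by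
      obtain ⟨i, hi⟩ := S.isPGroup'.exists_card_eq
      rw [hi, hPc]
      exact ((Nat.coprime_primes hp hq.out).2 hpq).pow_right i) (Or.inl inferInstance) t ht
  have hcv : c * v = v * c := mem_centralizer_singleton_iff.1 (hfix hc)
  have hxT : x ∈ T := ⟨Coprime.commutator_le_of_le_normalizer hPS hx, hSP hx⟩
  refine hnt ?_
  rw [htxc, show x * c * v * (x * c)⁻¹ * v⁻¹ = x * (c * v * c⁻¹) * x⁻¹ * v⁻¹ by group, hcv,
    mul_inv_cancel_right, show x * v * x⁻¹ * v⁻¹ = x * (v * x⁻¹ * v⁻¹) by group]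
  exact T.mul_mem hxT ((mem_normalizer_iff.1 (hTn hv) _).1 (T.inv_mem hxT))

omit hT in
/-- Movers conjugate under `N(S)`. -/
theorem SharedSylow.mover_conj (σ : SharedSylow q M N S) {p : ℕ} {P : Subgroup G} {g : G}
    (hg : g ∈ normalizer ((S : Subgroup G) : Set G)) (hP : Mover M S p P) :
    Mover M S p (P.map (MulAut.conj g).toMonoidHom) ∧
      piCoreOf (beta M) M ⊓ centralizer ((P.map (MulAut.conj g).toMonoidHom : Subgroup G) : Set G) =
        (piCoreOf (beta M) M ⊓ centralizer (P : Set G)).map (MulAut.conj g).toMonoidHom := by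
  obtain ⟨hp, hpq, hp1, hPS, hPc, hmove⟩ := hP
  refine ⟨⟨hp, hpq, hp1, (map_mono hPS).trans (map_conj_eq_self (le_normalizer hg)).le,
    (card_map_conj P g).trans hPc, fun hle => hmove ?_⟩, ?_⟩
  · rw [map_conj_centralizer, ← map_conj_eq_self hg] at hle
    exact (map_le_map_iff_of_injective (MulAut.conj g).injective).1 hle
  · rw [Subgroup.map_inf _ _ _ (MulAut.conj g).injective, map_conj_centralizer,
      map_conj_eq_self ((le_normalizer.trans (piCoreOf_normalized M)) (σ.leM hg))]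

/-- BG 13.9, core. -/
theorem SharedSylow.false (σ : SharedSylow q M N S) : False := by
  obtain ⟨p₁, P₁, hP₁, hP₁N, hY₁⟩ := σ.exists_mover_fixing hG h hT
  obtain ⟨p₂, P₂, hP₂N, hP₂, hY₂⟩ := σ.symm.exists_mover_fixing hG h hT
  set NS := normalizer ((S : Subgroup G) : Set G) with hNS
  haveI : Group.IsSolvable NS := isSolvable_of_le_coatom hG σ.hM σ.leM
  have hmem : ∀ {p : ℕ} {P : Subgroup G}, Mover M S p P → ∀ l : ℕ, l.Prime →
      l ∣ Nat.card (P.subgroupOf NS) → l ∈ tau1 M := by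
    intro p P hP l hl hd
    rw [Nat.card_congr (subgroupOfEquivOfLe hP.2.2.2.1).toEquiv, hP.2.2.2.2.1,
      Nat.prime_dvd_prime_iff_eq hl hP.1] at hd
    exact hd ▸ hP.2.2.1
  obtain ⟨F', hF', hPF'⟩ := Solvable.exists_isPiHall_ge (G := NS) (π := tau1 M)
    (P₁.subgroupOf NS) (hmem hP₁)
  obtain ⟨g, hg⟩ := Solvable.le_conj_isPiHall (G := NS) hF' (P₂.subgroupOf NS) (hmem hP₂)
  obtain ⟨hm', hY'⟩ := σ.mover_conj hG h (g := (g : G)⁻¹) (inv_mem g.2) hP₂
  obtain ⟨hmN', hYN'⟩ := σ.symm.mover_conj hG h (g := (g : G)⁻¹) (inv_mem g.2) hP₂N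
  set P' := P₂.map (MulAut.conj (g : G)⁻¹).toMonoidHom with hP'
  set F := F'.map NS.subtype with hF
  haveI : IsCyclic F := isCyclic_of_tau1 hG ((map_subtype_le _).trans σ.leM) fun l hl hd => by
    rw [hF, card_map_of_injective NS.subtype_injective] at hd
    exact hF'.1 l hl hd
  have hP₁F : P₁ ≤ F := fun x hx => ⟨⟨x, hP₁.2.2.2.1 hx⟩, hPF' hx, rfl⟩
  have hP'F : P' ≤ F := by
    rintro _ ⟨x, hx, rfl⟩
    have h1 := hg (show (⟨x, hP₂.2.2.2.1 hx⟩ : NS) ∈ P₂.subgroupOf NS from hx)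
    rw [mem_pointwise_smul_iff_inv_smul_mem] at h1
    exact ⟨_, h1, by simp [mul_assoc]⟩
  have hYP' : piCoreOf (beta M) M ⊓ centralizer (P' : Set G) = ⊥ := by
    by_contra h0
    refine σ.false_of_both hG h hT hm' hmN' (iff_of_false h0 fun h1 => hY₂ ?_)
    rw [hYN'] at h1
    exact (map_eq_bot_iff_of_injective _ (MulAut.conj (g : G)⁻¹).injective).1 h1
  obtain ⟨hp₁, -, hp11, hP₁S, hP₁c, -⟩ := id hP₁
  obtain ⟨hp₂, -, hp21, hP'S, hP'c, -⟩ := id hm'
  haveI := Fact.mk hp₁
  haveI := Fact.mk hp₂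
  refine hY₁ (le_bot_iff.1 ((le_inf inf_le_left ?_).trans hYP'.le))
  exact le_centralizer_of_tau1 hG h hT σ.hM hp11 (hP₁S.trans σ.leM) hP₁c (hP'S.trans σ.leM)
    ((hP'F.trans (le_centralizer_self_of_comm inferInstance)).trans (centralizer_anti hP₁F)) hP'c
    hp21.2.1
    (le_piCoreOf (piCoreOf_le M) (le_normalizer.trans (piCoreOf_normalized M))
      fun l hl hd => mem_sigma_of_mem_alpha hG h.uniq σ.hM (isPiSub_piCoreOf M l hl hd).1)
    ((hP'S.trans σ.leM).trans (le_normalizer.trans (piCoreOf_normalized M)))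
    fun l hl hd K hK hlK => conj_of_alpha_sigma hG h σ.hM hK (isPiSub_piCoreOf M l hl hd).1 hlK

omit hq

/-- BG 13.9: maximal subgroups sharing a `σ`-prime are conjugate. -/
theorem conj_of_sigma {M N : Subgroup G} (hM : IsCoatom M) (hN : IsCoatom N) {q : ℕ}
    (hqM : q ∈ sigma M) (hqN : q ∈ sigma N) :
    ∃ g : G, N = M.map (MulAut.conj g).toMonoidHom := by
  by_contra hno
  haveI := Fact.mk hqM.1
  obtain ⟨S, g, hSM, hSN⟩ := exists_conj_normalizer_le hqM hqN
  have hnc : ∀ x : G, N.map (MulAut.conj g).toMonoidHom ≠ M.map (MulAut.conj x).toMonoidHom :=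
    fun x hx => hno ⟨g⁻¹ * x, by
      rw [← map_conj_comp, ← hx, map_conj_comp, inv_mul_cancel, map_conj_one]⟩
  refine SharedSylow.false hG h hT (q := q) (M := M) (N := N.map (MulAut.conj g).toMonoidHom)
    (S := S) ⟨hM, isCoatom_map_conj hN g, hqM, sigma_conj_iff.2 hqN, hSM, hSN, hnc, ?_⟩
  by_contra hna
  refine hnc 1 ?_
  rw [map_conj_one]
  exact (hT.nonabUniq q _ S.isPGroup' hna).unique
    ⟨isCoatom_map_conj hN g, le_normalizer.trans hSN⟩ ⟨hM, le_normalizer.trans hSM⟩

/-- BG 13.4, in the form of the statement `S1428`. -/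
theorem tau_one_centralizer_stmt (M : Subgroup G) (hM : IsCoatom M) (E : Subgroup G)
    (hE : IsComplIn E (sigmaCore M) M) (p : ℕ) (hp : p ∈ tau1 M) (P : Subgroup G) (hPE : P ≤ E)
    (hP : Nat.card P = p) (R : Subgroup G) (hRE : R ≤ E ⊓ centralizer (P : Set G))
    (hR : (Nat.card R).Prime) :
    sigmaCore M ⊓ centralizer (P : Set G) ≤ sigmaCore M ⊓ centralizer (R : Set G) := by
  haveI := Fact.mk hp.1
  haveI := Fact.mk hR
  have hRM : R ≤ M := (hRE.trans inf_le_left).trans hE.1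
  exact le_inf inf_le_left (le_centralizer_of_tau1 hG h hT hM hp (hPE.trans hE.1) hP hRM
    (hRE.trans inf_le_right) rfl (BGTwelve.not_mem_sigma_of_dvd hG hM hE hR
      (card_dvd_of_le (hRE.trans inf_le_left))) le_rfl
    (hRM.trans (le_normalizer_sigmaCore M))
    fun s hs hd K hK hsK => conj_of_sigma hG h hT hM hK (isPiSub_sigmaCore M s hs hd) hsK)

/-- BG 13.9, in the form of the statement `S1378`. -/
theorem sigma_partition_stmt :
    (∀ p : ℕ, p.Prime → p ∣ Nat.card G → ∃ M : Subgroup G, IsCoatom M ∧ p ∈ sigma M) ∧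
      ∀ M N : Subgroup G, IsCoatom M → IsCoatom N → (sigma M ∩ sigma N).Nonempty →
        ∃ g : G, N = M.map (MulAut.conj g).toMonoidHom :=
  ⟨fun _ hp hd => exists_coatom_sigma hG hp hd,
    fun _ _ hM hN ⟨_, hq1, hq2⟩ => conj_of_sigma hG h hT hM hN hq1 hq2⟩

end Cfsg.Agent.BGSigma
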