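import Cfsg.Agent.BGSigma.KappaDecomp
import Cfsg.Agent.BGTwelve.SigmaConj

/-!
BG 14.3: the lines and the Sylow subgroups met by `M_σ ∩ C(K)`.
-/

set_option autoImplicit false

namespace Cfsg.Agent.BGSigma

open Cfsg Subgroup
open scoped commutatorElement Pointwise

universe u

variable {G : Type u} [Group G] [Finite G]

theorem mem_normalizer_of_centralizes {A U : Subgroup G} (h : U ≤ centralizer (A : Set G)) :
    A ≤ normalizer (U : Set G) :=
  (le_centralizer_iff.1 h).trans (centralizer_le_normalizer _)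

variable (hG : IsMinSimpleOddOrder G)
include hG

theorem mem_of_map_conj_eq {M : Subgroup G} (hM : IsCoatom M) {g : G}
    (h : M.map (MulAut.conj g).toMonoidHom = M) : g ∈ M := by
  rw [← coatom_self_normalizing hG hM]
  exact mem_normalizer_iff_map_conj_eq.2 h

theorem card_compl_coprime {M E : Subgroup G} (hM : IsCoatom M)
    (hE : IsComplIn E (sigmaCore M) M) : (Nat.card E).Coprime (Nat.card (sigmaCore M)) :=
  Nat.coprime_of_dvd fun r hr a b =>
    BGTwelve.not_mem_sigma_of_dvd hG hM hE hr a (isPiSub_sigmaCore M r hr b)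

/-- A line of `K`: its prime is outside `σ(M)`, of rank one, and it has fixed points on `M_σ`. -/
theorem KappaShape.line_data {M E K U X : Subgroup G} (s : KappaShape M E K U) (hM : IsCoatom M)
    {r : ℕ} [hr : Fact r.Prime] (hX : X ≤ K) (hXc : Nat.card X = r) :
    r ∈ kappa M ∧ r ∉ sigma M ∧ PRankLE r 1 M ∧
      sigmaCore M ⊓ centralizer (X : Set G) ≠ ⊥ := by
  have hk : r ∈ kappa M := s.hallK.2.1 r hr.out (hXc ▸ card_dvd_of_le hX)
  obtain ⟨-, hps, hr1, -⟩ := (mem_kappa_iff hG hM).1 hk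
  exact ⟨hk, hps, hr1, nonregular_of_kappa hG hM hk (hX.trans s.hallK.1) hXc⟩

theorem KappaShape.exists_line {M E K U : Subgroup G} (hK1 : K ≠ ⊥) (_s : KappaShape M E K U) :
    ∃ (r : ℕ) (X : Subgroup G), r.Prime ∧ X ≤ K ∧ Nat.card X = r := by
  obtain ⟨k, hk, hk1⟩ := (K.bot_or_exists_ne_one).resolve_left hK1
  obtain ⟨r, X, hr, hX, hXc⟩ := exists_line_of_ne_one hk1
  exact ⟨r, X, hr, hX.trans (zpowers_le.2 hk), hXc⟩

/-- `K` has one line for each of its primes. -/
theorem KappaShape.line_unique {M E K U X X' : Subgroup G} (s : KappaShape M E K U) (hM : IsCoatom M)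
    {r : ℕ} [hr : Fact r.Prime] (hX : X ≤ K) (hXc : Nat.card X = r) (hX' : X' ≤ K)
    (hX'c : Nat.card X' = r) : X' = X := by
  have hn : X' ≤ normalizer (X : Set G) :=
    hX'.trans ((s.lines X hX (hXc.symm ▸ hr.out)).ge.trans inf_le_right)
  have hsup : IsPGroup r (X ⊔ X' : Subgroup G) :=
    (isPGroup_of_prime_card hXc).to_sup_of_normal_left' (isPGroup_of_prime_card hX'c) hn
  haveI := isCyclic_of_prankLE_one hG (s.line_data hG hM hX hXc).2.2.1 hsup
    ((sup_le hX hX').trans s.hallK.1)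
  exact eq_of_le_cyclic (C := X ⊔ X') le_sup_right le_sup_left (hX'c.trans hXc.symm)

/-- Lines of `K* = M_σ ∩ C(K)` have their normalizer in `M`. -/
theorem KappaShape.normalizer_le_star {M E K U X : Subgroup G} (s : KappaShape M E K U)
    (hM : IsCoatom M) (hK1 : K ≠ ⊥) {l : ℕ} [hl : Fact l.Prime]
    (hX : X ≤ sigmaCore M ⊓ centralizer (K : Set G)) (hXc : Nat.card X = l) :
    normalizer (X : Set G) ≤ M := by
  obtain ⟨r, P, hr, hP, hPc⟩ := s.exists_line hG hK1
  haveI := Fact.mk hr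
  obtain ⟨-, hps, hr1, -⟩ := s.line_data hG hM hP hPc
  exact normalizer_le_of_fixed hG hM hps hr1 (hP.trans s.hallK.1) hPc (hX.trans inf_le_left) hXc
    ((hX.trans inf_le_right).trans (centralizer_anti hP))

/-- Off `β(M)` the `l`-subgroups of `M_σ ∩ C(K)` lie in `M_σ'`. -/
theorem KappaShape.star_le_derived {M E K U X : Subgroup G} (s : KappaShape M E K U)
    (hM : IsCoatom M) {l : ℕ} [hl : Fact l.Prime] (hls : l ∈ sigma M) (hlb : l ∉ beta M)
    (hXp : IsPGroup l X) (hX : X ≤ sigmaCore M ⊓ centralizer (K : Set G)) :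
    X ≤ ⁅sigmaCore M, sigmaCore M⁆ := by
  have h := localInputs hG
  have hn := BGTwelve.compl_le_normalizer s.compl
  have hco := card_compl_coprime hG hM s.compl
  have hsolv : Group.IsSolvable (sigmaCore M) :=
    Coprime.solvable_of_le (sigmaCore_le M) (coatom_isSolvable hG hM)
  have hKn : K ≤ normalizer (sigmaCore M : Set G) := s.le_E.trans hn
  have hKco := hco.coprime_dvd_left (card_dvd_of_le s.le_E)
  obtain ⟨S0, hS0⟩ := Coprime.exists_invariant_sylow E (sigmaCore M) hn hco (Or.inr hsolv) l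
  obtain ⟨S1, hXS1, hS1⟩ := Coprime.exists_invariant_sylow_ge K (sigmaCore M) hKn hKco (Or.inr hsolv)
    l X (hX.trans inf_le_left) hXp (mem_normalizer_of_centralizes (hX.trans inf_le_right))
  obtain ⟨c, hc, hcS⟩ := Coprime.exists_invariant_sylow_conj K (sigmaCore M) hKn hKco (Or.inr hsolv)
    l S1 S0 hS1 (s.le_E.trans hS0)
  set T := (S0 : Subgroup (sigmaCore M)).map (sigmaCore M).subtype with hT
  -- `U` centralises `T`
  have hUT : T ≤ centralizer (U : Set G) :=
    le_centralizer_of_derived hG h hM hlb (s.derived.trans (commutator_mono s.compl.1 s.compl.1))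
      (fun hd => (s.hallU.2.1 l hl.out hd).2.2 hls) ((map_subtype_le _).trans (sigmaCore_le M))
      (S0.isPGroup'.map _) (s.U_le.trans hS0)
  intro x hx
  obtain ⟨a, ha, hax⟩ := hXS1 hx
  have hcx : (c : G) * x * (c : G)⁻¹ ∈ T := by
    refine ⟨c * a * c⁻¹, ?_, by simp [← hax]⟩
    show _ ∈ (S0 : Subgroup (sigmaCore M))
    rw [← hcS, Sylow.coe_subgroup_smul]
    exact smul_mem_pointwise_smul _ (MulAut.conj c) _ ha
  have hcK : (c : G) * x * (c : G)⁻¹ ∈ centralizer (K : Set G) :=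
    mul_mem (mul_mem hc (hX hx).2) (inv_mem hc)
  have hE : (c : G) * x * (c : G)⁻¹ ∈ centralizer (E : Set G) := by
    refine mem_centralizer_iff.2 fun e he => ?_
    obtain ⟨u, hu, k, hk, rfl⟩ := s.decomp e he
    have h1 : Commute u ((c : G) * x * (c : G)⁻¹) := mem_centralizer_iff.1 (hUT hcx) u hu
    exact h1.mul_left (mem_centralizer_iff.1 hcK k hk : Commute k _)
  have hd := (BGTwelve.sigma_derived_compl hG hM s.compl).1 ⟨map_subtype_le _ hcx, hE⟩
  exact (mem_normalizer_iff.1 ((OddLocal43.normalizes_commutator (A := sigmaCore M)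
    (H := sigmaCore M) (K := sigmaCore M) le_normalizer le_normalizer) c.2) x).2 hd

/-- Lines of `K*` have their centralizer in `M` only, and their Sylow subgroups likewise. -/
theorem KappaShape.star_uniq {M E K U X : Subgroup G} (s : KappaShape M E K U) (hM : IsCoatom M)
    {l : ℕ} [hl : Fact l.Prime] (hX : X ≤ sigmaCore M ⊓ centralizer (K : Set G))
    (hXc : Nat.card X = l) (P : Sylow l (sigmaCore M)) :
    (centralizer (X : Set G) ≤ M ∧
      ∀ L : Subgroup G, IsCoatom L → centralizer (X : Set G) ≤ L → L = M) ∧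
      InUniqueMaximal ((P : Subgroup (sigmaCore M)).map (sigmaCore M).subtype) ∧
      (P : Subgroup (sigmaCore M)).map (sigmaCore M).subtype ≤ M := by
  have hls : l ∈ sigma M :=
    isPiSub_sigmaCore M l hl.out (hXc ▸ card_dvd_of_le (hX.trans inf_le_left))
  refine BGTwelve.cent_uniq_stmt hG (localInputs hG) hM hls (hX.trans (inf_le_left.trans
    (sigmaCore_le M))) hXc P ?_
  by_cases hlb : l ∈ beta M
  · exact Or.inl hlb
  · exact Or.inr (s.star_le_derived hG hM hls hlb (isPGroup_of_prime_card hXc) hX)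

/-- No Sylow subgroup of `M_σ` lies in `K*`. -/
theorem KappaShape.sylow_not_le_star {M E K U : Subgroup G} (s : KappaShape M E K U)
    (hM : IsCoatom M) (hK1 : K ≠ ⊥) {l : ℕ} [hl : Fact l.Prime]
    (hd : l ∣ Nat.card (sigmaCore M)) (S : Sylow l (sigmaCore M)) :
    ¬ (S : Subgroup (sigmaCore M)).map (sigmaCore M).subtype ≤
      sigmaCore M ⊓ centralizer (K : Set G) := by
  intro hle
  have h := localInputs hG
  have hls : l ∈ sigma M := isPiSub_sigmaCore M l hl.out hd
  set T := (S : Subgroup (sigmaCore M)).map (sigmaCore M).subtype with hT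
  have hTp : IsPGroup l T := S.isPGroup'.map _
  have hdT : l ∣ Nat.card T := by
    rw [hT, card_map_of_injective (sigmaCore M).subtype_injective]
    exact Sylow.dvd_card_of_dvd_card S hd
  obtain ⟨X, hXT, hXc⟩ := exists_order_prime_line hl.out hdT
  obtain ⟨r, P, hr, hP, hPc⟩ := s.exists_line hG hK1
  haveI := Fact.mk hr
  obtain ⟨-, hps, hr1, hne⟩ := s.line_data hG hM hP hPc
  obtain ⟨L, hL, hNL, hrL, hPσ⟩ := exists_partner hG hM hps hr1 (hP.trans s.hallK.1) hPc hne
  have hTP : T ≤ centralizer (P : Set G) := (hle.trans inf_le_right).trans (centralizer_anti hP)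
  have hTL : T ≤ L := (hTP.trans (centralizer_le_normalizer _)).trans hNL
  have hl1 := (fixer_rank_one hG hM hL hps hrL (hP.trans s.hallK.1) hPc
    (hXT.trans (map_subtype_le _)) hXc (hXT.trans hTP) (hXT.trans hTL)
    (hPσ.trans (sigmaCore_le L))).2.1
  haveI hcyc : IsCyclic T := isCyclic_of_prankLE_one hG hl1 hTp hTL
  obtain ⟨hHall, hHallG, -⟩ :=
    sigmaCore_hall hG h.uniq smallRankFrattini fittingRankTwoDerived hM
  have hTd : ¬ l ∣ T.index := by
    rw [hT, index_map_subtype]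
    exact fun hd' => ((Nat.Prime.dvd_mul hl.out).1 hd').elim S.not_dvd_index
      (hHallG.2 l hl.out hls)
  have hlb : l ∉ beta M := fun hb => hb.2.2.1 (prankLE_mono hl.out one_le_two
    (prankLE_one_of_cyclic_sylow' (hTp.toSylow hTd) hcyc))
  have h1 := BGTwelve.sylow_inf_derived_le hG h hM hls.2.1 hlb S
  have h2 : T ≤ ⁅T, T⁆ := (le_inf le_rfl (s.star_le_derived hG hM hls hlb hTp hle)).trans h1
  have h3 : T = ⊥ := le_bot_iff.1 (h2.trans (commutator_eq_bot_iff_le_centralizer.2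
    (le_centralizer_self_of_comm inferInstance)).le)
  rw [h3, card_bot] at hdT
  exact hl.out.ne_one (Nat.dvd_one.1 hdT)

/-- `K*` meets no other conjugate of `M`. -/
theorem KappaShape.mem_of_star_meet {M E K U X : Subgroup G} (s : KappaShape M E K U)
    (hM : IsCoatom M) (hK1 : K ≠ ⊥) {l : ℕ} [hl : Fact l.Prime]
    (hX : X ≤ sigmaCore M ⊓ centralizer (K : Set G)) (hXc : Nat.card X = l) {g : G}
    (hXg : X ≤ M.map (MulAut.conj g).toMonoidHom) : g ∈ M := by
  have hls : l ∈ sigma M :=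
    isPiSub_sigmaCore M l hl.out (hXc ▸ card_dvd_of_le (hX.trans inf_le_left))
  exact mem_of_map_conj_eq hG hM (eq_of_sigma_line hG hM (isCoatom_map_conj hM g) hls
    (sigma_conj_iff.2 hls) hXc
    ((centralizer_le_normalizer _).trans (s.normalizer_le_star hG hM hK1 hX hXc)) hXg)

/-- `σ(M)`-subgroups meeting `K*` lie in `M_σ`. -/
theorem KappaShape.le_sigmaCore_of_meet {M E K U Y : Subgroup G} (s : KappaShape M E K U)
    (hM : IsCoatom M) (hK1 : K ≠ ⊥)
    (hY : ∀ p : ℕ, p.Prime → p ∣ Nat.card Y → p ∈ sigma M)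
    (hne : Y ⊓ (sigmaCore M ⊓ centralizer (K : Set G)) ≠ ⊥) : Y ≤ sigmaCore M := by
  obtain ⟨l, hl, t, ht, hto⟩ := exists_prime_line hne
  haveI := Fact.mk hl
  have hXc : Nat.card (zpowers t) = l := by rw [Nat.card_zpowers, hto]
  have hY1 : Y ≠ ⊥ := fun h0 => hne (by rw [h0, bot_inf_eq])
  obtain ⟨g, hg⟩ := BGTwelve.sigma_conj_stmt hG (localInputs hG) hM hY1 hY
  have hgM : g⁻¹ ∈ M := s.mem_of_star_meet hG hM hK1 (zpowers_le.2 ht.2) hXc
    (zpowers_le.2 (mem_map_conj.2 (sigmaCore_le M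
      (by simpa [mem_map_conj] using map_conj_le_iff.1 hg t ht.1))))
  intro y hy
  have := map_conj_le_iff.1 hg y hy
  exact (mem_normalizer_iff.1 (le_normalizer_sigmaCore M ((Subgroup.inv_mem_iff M).1 hgM)) y).2 this

/-- `S1431`. -/
theorem kappa_star_intersections_stmt (M : Subgroup G) (hM : IsCoatom M) (K : Subgroup G)
    (hK : IsPiHallOf (kappa M) K M) (hK1 : K ≠ ⊥) :
    (∀ g : G, g ∉ M →
        (sigmaCore M ⊓ centralizer (K : Set G)) ⊓ M.map (MulAut.conj g).toMonoidHom = ⊥) ∧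
      (∀ g ∈ M, g ∉ K ⊔ (sigmaCore M ⊓ centralizer (K : Set G)) →
        K ⊓ K.map (MulAut.conj g).toMonoidHom = ⊥) ∧
      (∀ (p : ℕ), p.Prime → p ∣ Nat.card ↥(sigmaCore M ⊓ centralizer (K : Set G)) →
        ∀ S : Sylow p ↥(sigmaCore M),
        InUniqueMaximal ((S : Subgroup ↥(sigmaCore M)).map (sigmaCore M).subtype) ∧
        (S : Subgroup ↥(sigmaCore M)).map (sigmaCore M).subtype ≤ M ∧
        ¬ (S : Subgroup ↥(sigmaCore M)).map (sigmaCore M).subtype ≤
          (sigmaCore M ⊓ centralizer (K : Set G))) ∧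
      ∀ Y : Subgroup G, (∀ p : ℕ, p.Prime → p ∣ Nat.card Y → p ∈ sigma M) →
        Y ⊓ (sigmaCore M ⊓ centralizer (K : Set G)) ≠ ⊥ → Y ≤ sigmaCore M := by
  obtain ⟨E, U, s⟩ := exists_kappaShape_of_hall hG hM hK hK1
  refine ⟨fun g hg => by_contra fun h0 => ?_, fun g hgM hg => by_contra fun h0 => ?_,
    fun p hp hd S => ?_, fun Y hY hne => s.le_sigmaCore_of_meet hG hM hK1 hY hne⟩
  · obtain ⟨l, hl, t, ht, hto⟩ := exists_prime_line h0
    haveI := Fact.mk hl
    exact hg (s.mem_of_star_meet hG hM hK1 (zpowers_le.2 ht.1)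
      (by rw [Nat.card_zpowers, hto]) (zpowers_le.2 ht.2))
  · obtain ⟨l, hl, t, ht, hto⟩ := exists_prime_line h0
    haveI := Fact.mk hl
    have hXc : Nat.card (zpowers t) = l := by rw [Nat.card_zpowers, hto]
    have hX'c : Nat.card ((zpowers t).map (MulAut.conj g⁻¹).toMonoidHom : Subgroup G) = l := by
      rw [card_map_conj, hXc]
    have hX' : (zpowers t).map (MulAut.conj g⁻¹).toMonoidHom ≤ K := by
      refine map_le_iff_le_comap.2 (zpowers_le.2 ?_)
      obtain ⟨k, hk, hkt⟩ := ht.2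
      show g⁻¹ * t * g⁻¹⁻¹ ∈ K
      rw [← hkt]
      simpa [mul_assoc] using hk
    have heq := s.line_unique hG hM (zpowers_le.2 ht.1) hXc hX' hX'c
    have hgn : g⁻¹ ∈ normalizer ((zpowers t : Subgroup G) : Set G) :=
      mem_normalizer_iff_map_conj_eq.2 heq
    refine hg ?_
    rw [← ((shape_stmt hG M hM K hK hK1).2.2 (zpowers t) (zpowers_le.2 ht.1)
      (hXc.symm ▸ hl)).1]
    exact ⟨hgM, (Subgroup.inv_mem_iff _).1 hgn⟩
  · haveI := Fact.mk hp
    obtain ⟨X, hX, hXc⟩ := exists_order_prime_line hp hd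
    obtain ⟨-, hu, hle⟩ := s.star_uniq hG hM hX hXc S
    exact ⟨hu, hle, s.sylow_not_le_star hG hM hK1 (hd.trans (card_dvd_of_le inf_le_left)) S⟩

end Cfsg.Agent.BGSigma
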