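import Cfsg.Agent.BGSigma.KappaUnique

/-!
BG 14.3 (second part): `σ(M)'`-elements centralising an element of `M_σ`.
-/

set_option autoImplicit false

namespace Cfsg.Agent.BGSigma

open Cfsg Subgroup
open scoped commutatorElement Pointwise

universe u

variable {G : Type u} [Group G] [Finite G] (hG : IsMinSimpleOddOrder G)
include hG

/-- A line outside `σ(M)` with fixed points on `M_σ` has its prime in `κ(M)` or in `τ₂(M)`. -/
theorem kappa_or_tau2 {M X : Subgroup G} (hM : IsCoatom M) {r : ℕ} (hr : r.Prime)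
    (hrs : r ∉ sigma M) (hXM : X ≤ M) (hXc : Nat.card X = r)
    (hne : sigmaCore M ⊓ centralizer (X : Set G) ≠ ⊥) : r ∈ kappa M ∨ r ∈ tau2 M := by
  by_cases h1 : PRankLE r 1 M
  · exact Or.inl ((mem_kappa_iff hG hM).2 ⟨hr, hrs, h1, X, hXM, hXc, hne⟩)
  · exact Or.inr ⟨hr, hrs, not_sigma_rank_two hG (localInputs hG).uniq hM hr hrs, h1⟩

/-- No line of `κ(M)` commutes with a line of `τ₂(M)`. -/
theorem not_kappa_tau2_comm {M R Q : Subgroup G} (hM : IsCoatom M) {r q : ℕ} (hr : r ∈ kappa M)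
    (hq : q ∈ tau2 M) (hRM : R ≤ M) (hQM : Q ≤ M) (hRc : Nat.card R = r) (hQc : Nat.card Q = q)
    (hRQ : Q ≤ centralizer (R : Set G)) : False := by
  haveI := Fact.mk hr.1
  haveI := Fact.mk hq.1
  obtain ⟨K, hK⟩ := exists_kappa_hall hG hM
  have hK1 : K ≠ ⊥ := fun h0 => by
    have := (kappa_hall_bot_iff hG hK).1 h0
    rw [this] at hr
    exact hr
  obtain ⟨E, U, s⟩ := exists_kappaShape_of_hall hG hM hK hK1
  rcases s.cyc with ⟨-, -⟩ | ⟨-, -, t, htk, ht3⟩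
  swap
  · haveI := Fact.mk ht3.1
    obtain ⟨T, hT, hTc⟩ := exists_order_prime_line ht3.1
      (ht3.2.2.1.trans (card_dvd_of_le (commutator_le_self M)))
    exact tau2_empty_of_tau3 hG hM ht3 hT hTc (nonregular_of_kappa hG hM htk hT hTc) q hq
  have hrs : r ∉ sigma M := hr.2.2.1
  have hr1 : PRankLE r 1 M := ((mem_kappa_iff hG hM).1 hr).2.2.1
  obtain ⟨m, hm, hmE⟩ := BGTwelve.exists_conj_le_compl hG hM s.compl (sup_le hRM hQM : R ⊔ Q ≤ M)
    fun l hl hd => by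
      rcases prime_dvd_sup (hRQ.trans (centralizer_le_normalizer _)) hl hd with h1 | h1
      · rw [eq_of_dvd_card_pgroup (isPGroup_of_prime_card hRc) hl h1]; exact hrs
      · rw [eq_of_dvd_card_pgroup (isPGroup_of_prime_card hQc) hl h1]; exact hq.2.1
  set R' := R.map (MulAut.conj m).toMonoidHom with hR'
  set Q' := Q.map (MulAut.conj m).toMonoidHom with hQ'
  have hR'E : R' ≤ E := map_conj_le_iff.2 fun x hx => hmE x (mem_sup_left hx)
  have hQ'E : Q' ≤ E := map_conj_le_iff.2 fun x hx => hmE x (mem_sup_right hx)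
  have hR'c : Nat.card R' = r := (card_map_conj R m).trans hRc
  have hQ'c : Nat.card Q' = q := (card_map_conj Q m).trans hQc
  -- `Q'` lies in `U`
  have hqk : q ∉ kappa M := fun h0 => hq.2.2.2 ((mem_kappa_iff hG hM).1 h0).2.2.1
  have hUE : IsPiHallOf {l | l.Prime ∧ l ∉ kappa M ∧ l ∉ sigma M} U E :=
    ⟨s.U_le, s.hallU.2.1, fun l hl hlπ hd => s.hallU.2.2 l hl hlπ
      (hd.trans ⟨_, (relIndex_mul_relIndex U E M s.U_le s.compl.1).symm⟩)⟩
  have hQ'U : Q' ≤ U := le_of_normal_hall hUE s.norm hQ'E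
    (isPiSub_of_isPGroup hq.1 (isPGroup_of_prime_card hQ'c) ⟨hq.1, hqk, hq.2.1⟩)
  -- and fixes a conjugate of a line of `K`
  obtain ⟨X, hXK, hXc⟩ := exists_order_prime_line hr.1 (show r ∣ Nat.card K by
    refine by_contra fun h0 => hK.2.2 r hr.1 hr ?_
    have h1 := relIndex_mul_card hK.1
    exact (hr.1.dvd_mul.1 (h1 ▸ hr.2.1)).resolve_right h0)
  obtain ⟨e, he, heR⟩ := exists_conj_line hG (prankLE_subgroup s.compl.1 hr1) hR'E hR'c
    (hXK.trans s.le_E) hXc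
  obtain ⟨a, ha, ha1⟩ := (X.bot_or_exists_ne_one).resolve_left (ne_bot_of_prime_card hr.1 hXc)
  obtain ⟨b, hb, hb1⟩ := (Q'.bot_or_exists_ne_one).resolve_left (ne_bot_of_prime_card hq.1 hQ'c)
  have hab : b ∈ centralizer (R' : Set G) := by
    rw [hR', map_conj_centralizer]
    exact map_mono hRQ hb
  have hfix : e⁻¹ * b * e ∈ U ⊓ centralizer ({a} : Set G) := by
    refine ⟨by simpa using (mem_normalizer_iff.1 (s.norm (E.inv_mem he)) b).1 (hQ'U hb),
      mem_centralizer_singleton_iff.2 ?_⟩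
    have h1 := mem_centralizer_iff.1 hab (e * a * e⁻¹) (heR ▸ ⟨a, ha, rfl⟩)
    calc e⁻¹ * b * e * a = e⁻¹ * (b * (e * a * e⁻¹)) * e := by group
      _ = e⁻¹ * (e * a * e⁻¹ * b) * e := by rw [h1]
      _ = a * (e⁻¹ * b * e) := by group
  rw [s.fpf a (hXK ha) ha1, Subgroup.mem_bot] at hfix
  exact hb1 (by simpa [mul_assoc, inv_mul_eq_one] using hfix)

/-- `S1432`. -/
theorem dichotomy_stmt (M : Subgroup G) (hM : IsCoatom M) (x : G) (hx : x ∈ sigmaCore M)
    (hx1 : x ≠ 1) (x' : G) (hx' : x' ∈ M ⊓ centralizer ({x} : Set G)) (hx'1 : x' ≠ 1)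
    (hσ : ∀ p : ℕ, p.Prime → p ∣ orderOf x' → p ∉ sigma M) :
    ((∀ p : ℕ, p.Prime → p ∣ orderOf x' → p ∈ kappa M) ∧ centralizer ({x} : Set G) ≤ M) ∨
      ((∀ p : ℕ, p.Prime → p ∣ orderOf x' → p ∈ tau2 M) ∧
        (∃ L : Subgroup G, IsCoatom L ∧ ∀ p : ℕ, p.Prime → p ∣ orderOf x' → p ∈ sigma L) ∧
        (centralizer ({x'} : Set G) ≤ M ∧
          ∀ L : Subgroup G, IsCoatom L → centralizer ({x'} : Set G) ≤ L → L = M)) := by
  have hxc : x' * x = x * x' := mem_centralizer_singleton_iff.1 hx'.2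
  have hline : ∀ p : ℕ, p.Prime → p ∣ orderOf x' → ∃ P : Subgroup G, P ≤ zpowers x' ∧
      Nat.card P = p ∧ P ≤ M ∧ x ∈ sigmaCore M ⊓ centralizer (P : Set G) := by
    intro p hp hd
    obtain ⟨P, hP, hPc⟩ := exists_order_prime_line hp (Nat.card_zpowers x' ▸ hd)
    refine ⟨P, hP, hPc, hP.trans (zpowers_le.2 hx'.1), hx, centralizer_anti hP ?_⟩
    rw [BGTwelve.centralizer_zpowers_eq, mem_centralizer_singleton_iff]
    exact hxc.symm
  have hcase : ∀ p : ℕ, p.Prime → p ∣ orderOf x' → p ∈ kappa M ∨ p ∈ tau2 M := by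
    intro p hp hd
    obtain ⟨P, -, hPc, hPM, hxP⟩ := hline p hp hd
    exact kappa_or_tau2 hG hM hp (hσ p hp hd) hPM hPc fun h0 =>
      hx1 (Subgroup.mem_bot.1 (h0 ▸ hxP))
  obtain ⟨q, hq, hqd⟩ := Nat.exists_prime_and_dvd (fun h0 => hx'1 (orderOf_eq_one_iff.1 h0))
  haveI := Fact.mk hq
  have hmix : ∀ p : ℕ, p.Prime → p ∣ orderOf x' → p ∈ kappa M →
      ∀ r : ℕ, r.Prime → r ∣ orderOf x' → r ∈ tau2 M → False := by
    intro p hp hpd hk r hr hrd hr2
    obtain ⟨P, hP, hPc, hPM, -⟩ := hline p hp hpd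
    obtain ⟨R, hR, hRc, hRM, -⟩ := hline r hr hrd
    exact not_kappa_tau2_comm hG hM hk hr2 hPM hRM hPc hRc
      ((hR.trans (le_centralizer_self_of_comm inferInstance)).trans (centralizer_anti hP))
  rcases hcase q hq hqd with hk | h2
  · refine Or.inl ⟨fun p hp hd => (hcase p hp hd).resolve_right fun h2 => hmix q hq hqd hk p hp hd h2,
      ?_⟩
    obtain ⟨P, -, hPc, hPM, hxP⟩ := hline q hq hqd
    obtain ⟨l, X, hl, hX, hXc⟩ := exists_line_of_ne_one hx1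
    haveI := Fact.mk hl
    refine (centralizer_le_of_line hX).trans ((centralizer_le_normalizer _).trans ?_)
    exact normalizer_le_of_fixed hG hM (hσ q hq hqd) ((mem_kappa_iff hG hM).1 hk).2.2.1 hPM hPc
      (hX.trans (zpowers_le.2 hx)) hXc (hX.trans (zpowers_le.2 hxP.2))
  · have hall : ∀ p : ℕ, p.Prime → p ∣ orderOf x' → p ∈ tau2 M := fun p hp hd =>
      (hcase p hp hd).resolve_left fun hk => hmix p hp hd hk q hq hqd h2
    obtain ⟨E, hE, -⟩ := exists_compl_ge hG hM (bot_le : (⊥ : Subgroup G) ≤ M)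
      fun l hl hd => absurd (Nat.dvd_one.1 (card_bot (G := G) ▸ hd)) hl.ne_one
    obtain ⟨A, hA⟩ := BGTwelve.exists_sq_le_compl hG hM hE h2
    have hA1 : A ≠ ⊥ := fun h0 => by
      have h3 := hA.2.2
      rw [h0, card_bot] at h3
      exact (Nat.one_lt_pow two_ne_zero hq.one_lt).ne h3
    obtain ⟨L, hL, hNL⟩ := exists_coatom_ge hG
      (normalizer_ne_top hG hA1 (isCoatom_ne_top hM (hA.1.trans hE.1)))
    exact Or.inr ⟨hall, ⟨L, hL, fun p hp hd => tau2_subset_sigma hG hM hE h2 hA hL hNL (hall p hp hd)⟩,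
      BGTwelve.uniq_centralizer_tau2 hG (localInputs hG) hM hE hx'.1 hx'1 hall
        ⟨hx'.1, x, hx, hx1, hxc⟩⟩

end Cfsg.Agent.BGSigma
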