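import Cfsg.Agent.BGSigma.SignalizerStmt

/-!
BG 14: the groups `R(x)` and the cosets `x R(x)`.
-/

set_option autoImplicit false

namespace Cfsg.Agent.BGSigma

open Cfsg Subgroup
open scoped commutatorElement Pointwise

universe u

variable {G : Type u} [Group G] [Finite G]

theorem map_conj_centralizer_one (g y : G) :
    (centralizer ({y} : Set G)).map (MulAut.conj g).toMonoidHom =
      centralizer ({g * y * g⁻¹} : Set G) := by
  ext x
  rw [mem_map_conj, mem_centralizer_singleton_iff, mem_centralizer_singleton_iff]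
  constructor
  · intro h
    calc x * (g * y * g⁻¹) = g * (g⁻¹ * x * g * y) * g⁻¹ := by group
      _ = g * (y * (g⁻¹ * x * g)) * g⁻¹ := by rw [h]
      _ = g * y * g⁻¹ * x := by group
  · intro h
    calc g⁻¹ * x * g * y = g⁻¹ * (x * (g * y * g⁻¹)) * g := by group
      _ = g⁻¹ * (g * y * g⁻¹ * x) * g := by rw [h]
      _ = y * (g⁻¹ * x * g) := by group

/-- The parts of an element along a set of primes are unique. -/
theorem part_unique {π : Set ℕ} {x r y s : G} (h : x * r = y * s) (hxr : Commute x r)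
    (hys : Commute y s) (hx : ∀ p : ℕ, p.Prime → p ∣ orderOf x → p ∈ π)
    (hy : ∀ p : ℕ, p.Prime → p ∣ orderOf y → p ∈ π)
    (hr : ∀ p : ℕ, p.Prime → p ∣ orderOf r → p ∉ π)
    (hs : ∀ p : ℕ, p.Prime → p ∣ orderOf s → p ∉ π) : x = y ∧ r = s := by
  have hco : (orderOf x * orderOf y).Coprime (orderOf r * orderOf s) :=
    Nat.coprime_of_dvd fun p hp h1 h2 => by
      have h1' : p ∈ π := (hp.dvd_mul.1 h1).elim (hx p hp) (hy p hp)
      exact (hp.dvd_mul.1 h2).elim (fun h3 => hr p hp h3 h1') (fun h3 => hs p hp h3 h1')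
  obtain ⟨k, hk1, hk0⟩ := Nat.chineseRemainder hco 1 0
  have e1 : ∀ a : G, orderOf a ∣ orderOf x * orderOf y → a ^ k = a := fun a ha => by
    conv_rhs => rw [← pow_one a]
    exact pow_eq_pow_iff_modEq.2 (hk1.of_dvd ha)
  have e0 : ∀ a : G, orderOf a ∣ orderOf r * orderOf s → a ^ k = 1 := fun a ha => by
    rw [← pow_zero a]
    exact pow_eq_pow_iff_modEq.2 (hk0.of_dvd ha)
  have hk : (x * r) ^ k = (y * s) ^ k := by rw [h]
  rw [hxr.mul_pow, hys.mul_pow, e1 x (dvd_mul_right _ _), e1 y (dvd_mul_left _ _),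
    e0 r (dvd_mul_right _ _), e0 s (dvd_mul_left _ _), mul_one, mul_one] at hk
  subst hk
  exact ⟨rfl, mul_left_cancel h⟩

variable (hG : IsMinSimpleOddOrder G)
include hG

theorem sigmaCore_map_conj {M : Subgroup G} (hM : IsCoatom M) (g : G) :
    sigmaCore (M.map (MulAut.conj g).toMonoidHom) =
      (sigmaCore M).map (MulAut.conj g).toMonoidHom := by
  have key : ∀ (N : Subgroup G) (_ : IsCoatom N) (a : G),
      (sigmaCore N).map (MulAut.conj a).toMonoidHom ≤ sigmaCore (N.map (MulAut.conj a).toMonoidHom) := by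
    intro N hN a
    refine le_of_normal_hall (sigmaCore_hall hG (localInputs hG).uniq smallRankFrattini
      fittingRankTwoDerived (isCoatom_map_conj hN a)).1 (le_normalizer_sigmaCore _)
      (map_mono (sigmaCore_le N)) fun p hp hd => ?_
    exact sigma_conj_iff.2 (isPiSub_sigmaCore N p hp (card_map_conj (sigmaCore N) a ▸ hd))
  refine le_antisymm ?_ (key M hM g)
  have h1 := key _ (isCoatom_map_conj hM g) g⁻¹
  rw [map_conj_comp, inv_mul_cancel, map_conj_one] at h1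
  have h2 := map_mono (f := (MulAut.conj g).toMonoidHom) h1
  rwa [map_conj_comp, mul_inv_cancel, map_conj_one] at h2

theorem supportR_of_le {M : Subgroup G} {x : G} (hC : centralizer ({x} : Set G) ≤ M) :
    supportR M x = ⊥ := by
  rw [supportR, dif_neg (fun h => h.1 hC)]

/-- `R(x) = C_{L_σ}(x)` when `C(x)` leaves `M`. -/
theorem supportR_of_not_le {M : Subgroup G} (hM : IsCoatom M) {x : G} (hx : x ∈ sigmaCore M)
    (hx1 : x ≠ 1) (hC : ¬ centralizer ({x} : Set G) ≤ M) :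
    ∃ L E : Subgroup G, IsCoatom L ∧ IsComplIn E (sigmaCore L) L ∧ M ⊓ L = E ∧
      sigmaCore L ⊓ M = ⊥ ∧ centralizer ({x} : Set G) ≤ L ∧
      (∀ L' : Subgroup G, IsCoatom L' → centralizer ({x} : Set G) ≤ L' → L' = L) ∧ x ∈ E ∧
      supportR M x = sigmaCore L ⊓ centralizer ({x} : Set G) := by
  obtain ⟨L, E, hL, hE, heq, hLM, hCL, hu, hxE, hnil, -, -⟩ := exists_support hG hM hx hx1 hC
  refine ⟨L, E, hL, hE, heq, hLM, hCL, hu, hxE, ?_⟩
  have hex : ∃! L' : Subgroup G, IsCoatom L' ∧ centralizer ({x} : Set G) ≤ L' :=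
    ⟨L, ⟨hL, hCL⟩, fun L' h' => hu L' h'.1 h'.2⟩
  rw [supportR, dif_pos ⟨hC, hex⟩]
  have hch : Classical.choose (ExistsUnique.exists hex) = L :=
    hu _ (Classical.choose_spec (ExistsUnique.exists hex)).1
      (Classical.choose_spec (ExistsUnique.exists hex)).2
  rw [hch, fittingHallOf_eq_of_nilpotent hG hL hnil]

/-- The facts about `r ∈ R(x)`. -/
theorem supportR_mem {M : Subgroup G} (hM : IsCoatom M) {x : G} (hx : x ∈ sigmaCore M) (hx1 : x ≠ 1)
    {r : G} (hr : r ∈ supportR M x) :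
    Commute x r ∧ (∀ p : ℕ, p.Prime → p ∣ orderOf r → p ∉ sigma M) := by
  by_cases hC : centralizer ({x} : Set G) ≤ M
  · rw [supportR_of_le hG hC, Subgroup.mem_bot] at hr
    subst hr
    exact ⟨Commute.one_right x, fun p hp hd => absurd (orderOf_one (G := G) ▸ hd) hp.not_dvd_one⟩
  · obtain ⟨L, E, hL, hE, -, -, -, -, hxE, hR⟩ := supportR_of_not_le hG hM hx hx1 hC
    rw [hR] at hr
    refine ⟨(mem_centralizer_singleton_iff.1 hr.2).symm, fun p hp hd => ?_⟩
    obtain ⟨q, hq, hqd⟩ := Nat.exists_prime_and_dvd (fun h0 => hx1 (orderOf_eq_one_iff.1 h0))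
    exact sigma_disjoint hG hL hM (isPiSub_sigmaCore M q hq (hqd.trans
        (Subgroup.orderOf_dvd_natCard _ hx)))
      (BGTwelve.not_mem_sigma_of_dvd hG hL hE hq (hqd.trans (Subgroup.orderOf_dvd_natCard _ hxE)))
      (isPiSub_sigmaCore L p hp (hd.trans (Subgroup.orderOf_dvd_natCard _ hr.1)))

theorem supportR_conj_le {M : Subgroup G} (hM : IsCoatom M) {a : G} (ha : a ∈ sigmaCore M)
    (ha1 : a ≠ 1) {m : G} (hm : m ∈ M) {r : G} (hr : r ∈ supportR M a) :
    m * r * m⁻¹ ∈ supportR M (m * a * m⁻¹) := by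
  have hmM : M.map (MulAut.conj m).toMonoidHom = M := map_conj_eq_self (le_normalizer hm)
  by_cases hC : centralizer ({a} : Set G) ≤ M
  · rw [supportR_of_le hG hC, Subgroup.mem_bot] at hr
    simp [hr]
  · obtain ⟨L, E, hL, -, -, -, hCL, -, -, hR⟩ := supportR_of_not_le hG hM ha ha1 hC
    rw [hR] at hr
    have hb : m * a * m⁻¹ ∈ sigmaCore M :=
      (mem_normalizer_iff.1 (le_normalizer_sigmaCore M hm) a).1 ha
    have hb1 : m * a * m⁻¹ ≠ 1 := fun h0 => ha1 (by simpa using h0)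
    have hC' : ¬ centralizer ({m * a * m⁻¹} : Set G) ≤ M := by
      rw [← map_conj_centralizer_one]
      intro h0
      refine hC fun c hc => ?_
      have h1 : m * c * m⁻¹ ∈ M := h0 ⟨c, hc, rfl⟩
      simpa [mul_assoc] using M.mul_mem (M.mul_mem (M.inv_mem hm) h1) hm
    obtain ⟨L', E', hL', -, -, -, hCL', hu', -, hR'⟩ := supportR_of_not_le hG hM hb hb1 hC'
    have heq : L.map (MulAut.conj m).toMonoidHom = L' := hu' _ (isCoatom_map_conj hL m)
      (by rw [← map_conj_centralizer_one]; exact map_mono hCL)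
    rw [hR']
    refine ⟨?_, ?_⟩
    · rw [← heq, sigmaCore_map_conj hG hL]
      exact ⟨r, hr.1, rfl⟩
    · rw [← map_conj_centralizer_one]
      exact ⟨r, hr.2, rfl⟩

/-- `R(a)` is transitive, freely, on the conjugates of `M` through `a`. -/
theorem supportR_transitive {M : Subgroup G} (hM : IsCoatom M) {a : G} (ha : a ∈ sigmaCore M)
    (ha1 : a ≠ 1) {g : G} (hg : a ∈ M.map (MulAut.conj g).toMonoidHom) :
    ∃ r ∈ supportR M a, M.map (MulAut.conj r).toMonoidHom = M.map (MulAut.conj g).toMonoidHom := by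
  obtain ⟨r₀, hr₀, hre⟩ := exists_conj_rep hG hM ha ha1 hg
  by_cases hC : centralizer ({a} : Set G) ≤ M
  · refine ⟨1, one_mem _, ?_⟩
    rw [map_conj_one, ← hre, map_conj_eq_self (le_normalizer (hC hr₀))]
  · obtain ⟨L, E, hL, hE, heq, hLM, hCL, -, haE, hR⟩ := supportR_of_not_le hG hM ha ha1 hC
    obtain ⟨e, he, r, hr, rfl⟩ := (compl_centralizer hG hE heq hLM hCL haE).2.2.2 r₀ hr₀
    refine ⟨e * r * e⁻¹, hR.symm ▸ ⟨(mem_normalizer_iff.1 (le_normalizer_sigmaCore L (hCL he.2)) r).1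
      hr.1, (centralizer ({a} : Set G)).mul_mem ((centralizer ({a} : Set G)).mul_mem he.2 hr.2)
        ((centralizer ({a} : Set G)).inv_mem he.2)⟩, ?_⟩
    rw [← hre, ← map_conj_comp M (e * r) e⁻¹,
      map_conj_eq_self (le_normalizer (M.inv_mem he.1))]

theorem supportR_inf {M : Subgroup G} (hM : IsCoatom M) {a : G} (ha : a ∈ sigmaCore M)
    (ha1 : a ≠ 1) : supportR M a ⊓ M = ⊥ := by
  by_cases hC : centralizer ({a} : Set G) ≤ M
  · rw [supportR_of_le hG hC, bot_inf_eq]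
  · obtain ⟨L, E, -, -, -, hLM, -, -, -, hR⟩ := supportR_of_not_le hG hM ha ha1 hC
    exact le_bot_iff.1 ((le_inf (inf_le_left.trans (hR.le.trans inf_le_left)) inf_le_right).trans hLM.le)

/-- `R(a)` follows `a` under fusion in `M_σ`. -/
theorem supportR_fusion {M : Subgroup G} (hM : IsCoatom M) {a c : G} (ha : a ∈ sigmaCore M)
    (ha1 : a ≠ 1) (hb : c * a * c⁻¹ ∈ sigmaCore M) {r : G} (hr : r ∈ supportR M a) :
    c * r * c⁻¹ ∈ supportR M (c * a * c⁻¹) := by
  obtain ⟨q, hq, hqe⟩ := supportR_transitive hG hM ha ha1 (g := c⁻¹)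
    (mem_map_conj.2 (sigmaCore_le M (by simpa using hb)))
  have hm : c * q ∈ M := by
    refine mem_of_map_conj_eq hG hM ?_
    rw [← map_conj_comp, hqe, map_conj_comp, mul_inv_cancel, map_conj_one]
  obtain ⟨hqa, -⟩ := supportR_mem hG hM ha ha1 hq
  have h1 : q⁻¹ * r * q ∈ supportR M a :=
    (supportR M a).mul_mem ((supportR M a).mul_mem ((supportR M a).inv_mem hq) hr) hq
  have h2 := supportR_conj_le hG hM ha ha1 hm h1
  have e1 : c * q * (q⁻¹ * r * q) * (c * q)⁻¹ = c * r * c⁻¹ := by group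
  have e2 : c * q * a * (c * q)⁻¹ = c * a * c⁻¹ := by
    rw [show c * q * a * (c * q)⁻¹ = c * (q * a) * q⁻¹ * c⁻¹ by group, ← hqa.eq]
    group
  rwa [e1, e2] at h2

/-- `S1433`. -/
theorem cosets_disjoint_stmt (M N : Subgroup G) (hM : IsCoatom M) (hN : IsCoatom N) (x y : G)
    (hx : x ∈ sigmaCore M) (hy : y ∈ sigmaCore N) (hx1 : x ≠ 1) (hy1 : y ≠ 1) (hxy : x ≠ y) :
    ∀ r ∈ supportR M x, ∀ s ∈ supportR N y, x * r ≠ y * s := by
  intro r hr s hs heq
  obtain ⟨hxr, hrM⟩ := supportR_mem hG hM hx hx1 hr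
  obtain ⟨hys, hsN⟩ := supportR_mem hG hN hy hy1 hs
  have hxσ : ∀ p : ℕ, p.Prime → p ∣ orderOf x → p ∈ sigma M := fun p hp hd =>
    isPiSub_sigmaCore M p hp (hd.trans (Subgroup.orderOf_dvd_natCard _ hx))
  have hyσ : ∀ p : ℕ, p.Prime → p ∣ orderOf y → p ∈ sigma N := fun p hp hd =>
    isPiSub_sigmaCore N p hp (hd.trans (Subgroup.orderOf_dvd_natCard _ hy))
  by_cases hMN : ∃ p, p ∈ sigma M ∧ p ∈ sigma N
  · obtain ⟨p, hpM, hpN⟩ := hMN
    obtain ⟨g, hg⟩ := conj_of_sigma hG (localInputs hG) (twelveInputs hG) hM hN hpM hpN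
    have hσ : ∀ {l : ℕ}, l ∈ sigma N ↔ l ∈ sigma M := fun {l} => hg ▸ sigma_conj_iff
    exact hxy (part_unique heq hxr hys hxσ (fun l hl hd => hσ.1 (hyσ l hl hd)) hrM
      (fun l hl hd h0 => hsN l hl hd (hσ.2 h0))).1
  push Not at hMN
  -- `y` has a prime dividing the order of `r`
  obtain ⟨q, hq, hqd⟩ := Nat.exists_prime_and_dvd (fun h0 => hy1 (orderOf_eq_one_iff.1 h0))
  haveI := Fact.mk hq
  have hqN := hyσ q hq hqd
  have hdvd : orderOf y ∣ orderOf x * orderOf r := by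
    refine orderOf_dvd_of_pow_eq_one ?_
    have h1 : (y * s) ^ (orderOf x * orderOf r) = 1 := by
      rw [← heq, hxr.mul_pow, pow_mul, pow_orderOf_eq_one, one_pow, one_mul, mul_comm, pow_mul,
        pow_orderOf_eq_one, one_pow]
    have hco : (orderOf y).Coprime (orderOf s) := Nat.coprime_of_dvd fun l hl h1 h2 =>
      hsN l hl h2 (hyσ l hl h1)
    rw [← orderOf_dvd_iff_pow_eq_one, hys.orderOf_mul_eq_mul_orderOf_of_coprime hco] at h1
    exact orderOf_dvd_iff_pow_eq_one.1 ((dvd_mul_right _ _).trans h1)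
  have hqr : q ∣ orderOf r := (hq.dvd_mul.1 (hqd.trans hdvd)).resolve_left fun h0 =>
    hMN q (hxσ q hq h0) hqN
  have hr1 : r ≠ 1 := fun h0 => hq.not_dvd_one (by simpa [h0] using hqr)
  have hC : ¬ centralizer ({x} : Set G) ≤ M := fun hC => hr1 (by
    rwa [supportR_of_le hG hC, Subgroup.mem_bot] at hr)
  obtain ⟨L, E, hL, hE, -, hLM, hCL, hu, hxE, hR⟩ := supportR_of_not_le hG hM hx hx1 hC
  rw [hR] at hr
  have hqL : q ∈ sigma L := isPiSub_sigmaCore L q hq (hqr.trans (Subgroup.orderOf_dvd_natCard _ hr.1))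
  obtain ⟨g, hg⟩ := conj_of_sigma hG (localInputs hG) (twelveInputs hG) hN hL hqN hqL
  have hσ : ∀ {l : ℕ}, l ∈ sigma L ↔ l ∈ sigma N := fun {l} => hg ▸ sigma_conj_iff
  obtain ⟨hry, hxs⟩ := part_unique (π := sigma N) (hxr.eq ▸ heq : r * x = y * s) hxr.symm hys
    (fun l hl hd => hσ.1 (isPiSub_sigmaCore L l hl (hd.trans (Subgroup.orderOf_dvd_natCard _ hr.1))))
    hyσ (fun l hl hd => hMN l (hxσ l hl hd)) hsN
  subst hry hxs
  -- `x` is in `R(r)` with respect to `N`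
  have hC' : ¬ centralizer ({r} : Set G) ≤ N := fun h0 => hx1 (by
    rwa [supportR_of_le hG h0, Subgroup.mem_bot] at hs)
  obtain ⟨L', E', hL', -, -, -, hCL', -, -, hR'⟩ := supportR_of_not_le hG hN hy hy1 hC'
  rw [hR'] at hs
  have hne : L' ≠ L := fun h0 => hx1 (Subgroup.mem_bot.1 (hE.2.2.1 ▸ ⟨hxE, h0 ▸ hs.1⟩))
  obtain ⟨L₂, E₂, hL₂, -, -, hLM', hCL₂, -, -, -, -, -⟩ :=
    exists_support hG hL' hs.1 hx1 fun h0 => hne (hu L' hL' h0)
  rw [hu L₂ hL₂ hCL₂] at hLM'
  exact hy1 (Subgroup.mem_bot.1 (hLM' ▸ ⟨hr.1,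
    hCL' (mem_centralizer_singleton_iff.2 rfl)⟩))

/-- `S1377`. -/
theorem card_tilde_stmt (M : Subgroup G) (hM : IsCoatom M) :
    Set.ncard (tildeOf M ((sigmaCore M : Set G) \ {1})) =
      (Nat.card (sigmaCore M) - 1) * M.index := by
  classical
  -- a base point for each element conjugate into `M_σ`
  let base : G → G := fun b => if hb : ∃ t : G, t⁻¹ * b * t ∈ sigmaCore M then hb.choose else 1
  have hbase : ∀ t a : G, a ∈ sigmaCore M →
      (base (t * a * t⁻¹))⁻¹ * (t * a * t⁻¹) * base (t * a * t⁻¹) ∈ sigmaCore M := by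
    intro t a ha
    have hb : ∃ u : G, u⁻¹ * (t * a * t⁻¹) * u ∈ sigmaCore M := ⟨t, by simpa [mul_assoc] using ha⟩
    simp only [base, dif_pos hb]
    exact hb.choose_spec
  let P := (G ⧸ M) × ↥((sigmaCore M : Set G) \ {1})
  have hspec : ∀ p : P, ∃ r : G,
      r ∈ supportR M ((base (p.1.out * p.2 * p.1.out⁻¹))⁻¹ * (p.1.out * p.2 * p.1.out⁻¹) *
        base (p.1.out * p.2 * p.1.out⁻¹)) ∧
      M.map (MulAut.conj r).toMonoidHom =
        M.map (MulAut.conj ((base (p.1.out * p.2 * p.1.out⁻¹))⁻¹ * p.1.out)).toMonoidHom := by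
    intro p
    obtain ⟨ha, ha1⟩ := p.2.2
    refine supportR_transitive hG hM (hbase _ _ ha) (fun h0 => ha1 ?_) ?_
    · have h1 : p.1.out * (p.2 : G) * p.1.out⁻¹ = 1 := by
        simpa [mul_assoc, inv_mul_eq_one, mul_eq_one_iff_eq_inv] using h0
      simpa using h1
    · refine mem_map_conj.2 (sigmaCore_le M ?_)
      rw [show ∀ u t a : G, (u⁻¹ * t)⁻¹ * (u⁻¹ * (t * a * t⁻¹) * u) * (u⁻¹ * t) = a from
        fun u t a => by group]
      exact ha
  choose rr hrr hrr' using hspec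
  let Φ : P → G := fun p => base (p.1.out * p.2 * p.1.out⁻¹) *
    ((base (p.1.out * p.2 * p.1.out⁻¹))⁻¹ * (p.1.out * p.2 * p.1.out⁻¹) *
        base (p.1.out * p.2 * p.1.out⁻¹) * rr p) * (base (p.1.out * p.2 * p.1.out⁻¹))⁻¹
  have hne : ∀ t a : G, a ≠ 1 →
      (base (t * a * t⁻¹))⁻¹ * (t * a * t⁻¹) * base (t * a * t⁻¹) ≠ 1 := fun t a ha h0 => ha (by
    have h1 : MulAut.conj ((base (t * a * t⁻¹))⁻¹ * t) a = 1 := by
      rw [← h0, MulAut.conj_apply]; group
    exact (map_eq_one_iff _ (MulEquiv.injective _)).1 h1)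
  have hΦ : ∀ p : P, Φ p ∈ tildeOf M ((sigmaCore M : Set G) \ {1}) := fun p =>
    ⟨_, ⟨hbase _ _ p.2.2.1, hne _ _ p.2.2.2⟩, rr p, hrr p, _, rfl⟩
  have hinj : Function.Injective Φ := by
    intro p p' hpp
    obtain ⟨⟨ha, ha1⟩, ha', ha1'⟩ := p.2.2, p'.2.2
    set b := p.1.out * (p.2 : G) * p.1.out⁻¹ with hb
    set b' := p'.1.out * (p'.2 : G) * p'.1.out⁻¹ with hb'
    obtain ⟨hc, hs⟩ := supportR_mem hG hM (hbase _ _ ha) (hne _ _ ha1) (hrr p)
    obtain ⟨hc', hs'⟩ := supportR_mem hG hM (hbase _ _ ha') (hne _ _ ha1') (hrr p')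
    rw [← hb] at hc
    rw [← hb'] at hc'
    have hexp : ∀ q : P, Φ q = MulAut.conj (base (q.1.out * q.2 * q.1.out⁻¹))
        ((base (q.1.out * q.2 * q.1.out⁻¹))⁻¹ * (q.1.out * q.2 * q.1.out⁻¹) *
          base (q.1.out * q.2 * q.1.out⁻¹)) *
        MulAut.conj (base (q.1.out * q.2 * q.1.out⁻¹)) (rr q) := fun q => by
      rw [← map_mul]; rfl
    rw [hexp, hexp, ← hb, ← hb'] at hpp
    have hσ : ∀ (c a : G), a ∈ sigmaCore M → ∀ l : ℕ, l.Prime → l ∣ orderOf (MulAut.conj c a) →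
        l ∈ sigma M := fun c a ha l hl hd => by
      rw [MulEquiv.orderOf_eq] at hd
      exact isPiSub_sigmaCore M l hl (hd.trans (Subgroup.orderOf_dvd_natCard _ ha))
    obtain ⟨e1, e2⟩ := part_unique (π := sigma M) hpp (hc.map (MulAut.conj (base b)))
      (hc'.map (MulAut.conj (base b'))) (hσ _ _ (hbase _ _ ha)) (hσ _ _ (hbase _ _ ha'))
      (fun l hl hd => hs l hl (by rwa [MulEquiv.orderOf_eq] at hd))
      (fun l hl hd => hs' l hl (by rwa [MulEquiv.orderOf_eq] at hd))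
    have ebb : b = b' := by simpa [MulAut.conj_apply, mul_assoc] using e1
    rw [ebb] at e2
    have hM' := (hrr' p).symm.trans (((MulAut.conj (base b')).injective e2) ▸ hrr' p')
    rw [← hb, ← hb', ebb] at hM'
    have hq : p.1 = p'.1 := by
      rw [← p.1.out_eq, ← p'.1.out_eq]
      refine QuotientGroup.eq.2 (mem_of_map_conj_eq hG hM ?_)
      have h2 := congrArg (fun H : Subgroup G =>
        H.map (MulAut.conj (p.1.out⁻¹ * base b')).toMonoidHom) hM'
      simp only [map_conj_comp, mul_assoc, mul_inv_cancel_left, inv_mul_cancel, map_conj_one] at h2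
      exact h2.symm
    refine Prod.ext hq (Subtype.ext ?_)
    rw [hb, hb', hq] at ebb
    simpa using ebb
  have hrange : tildeOf M ((sigmaCore M : Set G) \ {1}) = Set.range Φ := by
    refine Set.Subset.antisymm ?_ (Set.range_subset_iff.2 hΦ)
    rintro _ ⟨a, ⟨ha, ha1⟩, r, hr, y, rfl⟩
    set t := base (y * a * y⁻¹) with ht
    set c := t⁻¹ * y with hc
    have hb : c * a * c⁻¹ ∈ sigmaCore M := by
      have := hbase y a ha
      rwa [← ht, show t⁻¹ * (y * a * y⁻¹) * t = c * a * c⁻¹ by rw [hc]; group] at this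
    have hr' := supportR_fusion hG hM ha ha1 hb hr
    set r' := c * r * c⁻¹ with hr'0
    have hb1 : c * a * c⁻¹ ≠ 1 := fun h0 => ha1 (show a = 1 by simpa using h0)
    obtain ⟨hcomm, -⟩ := supportR_mem hG hM hb hb1 hr'
    set q : G ⧸ M := QuotientGroup.mk (t * r') with hq
    obtain ⟨⟨m, hm⟩, hout⟩ := QuotientGroup.mk_out_eq_mul M (t * r')
    rw [← hq] at hout
    set a' := q.out⁻¹ * (y * a * y⁻¹) * q.out with ha'
    have ha'm : a' = m⁻¹ * (c * a * c⁻¹) * m := by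
      rw [ha', hout]
      calc (t * r' * m)⁻¹ * (y * a * y⁻¹) * (t * r' * m)
          = m⁻¹ * (r'⁻¹ * (c * a * c⁻¹ * r')) * m := by rw [hc]; group
        _ = m⁻¹ * (c * a * c⁻¹) * m := by rw [hcomm.eq, inv_mul_cancel_left]
    have ha'mem : a' ∈ (sigmaCore M : Set G) \ {1} := by
      rw [ha'm]
      refine ⟨?_, fun h0 => hb1 ((map_eq_one_iff _ (MulAut.conj m⁻¹).injective).1
        (by simpa [MulAut.conj_apply] using h0))⟩
      simpa using (mem_normalizer_iff.1 (le_normalizer_sigmaCore M (M.inv_mem hm)) _).1 hb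
    refine ⟨(q, ⟨a', ha'mem⟩), ?_⟩
    have hbq : q.out * a' * q.out⁻¹ = y * a * y⁻¹ := by rw [ha']; group
    have h1 := hrr (q, ⟨a', ha'mem⟩)
    have h2 := hrr' (q, ⟨a', ha'mem⟩)
    simp only [hbq, ← ht] at h1 h2
    have hrq : rr (q, ⟨a', ha'mem⟩) = r' := by
      have hc2 : t⁻¹ * (y * a * y⁻¹) * t = c * a * c⁻¹ := by rw [hc]; group
      rw [hc2] at h1
      have h3 : r'⁻¹ * rr (q, ⟨a', ha'mem⟩) ∈ supportR M (c * a * c⁻¹) ⊓ M := by
        refine ⟨(supportR M _).mul_mem ((supportR M _).inv_mem hr') h1, mem_of_map_conj_eq hG hM ?_⟩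
        rw [← map_conj_comp, h2, hout, map_conj_comp,
          show r'⁻¹ * (t⁻¹ * (t * r' * m)) = m by group, map_conj_eq_self (le_normalizer hm)]
      rw [supportR_inf hG hM hb hb1, Subgroup.mem_bot, inv_mul_eq_one] at h3
      exact h3.symm
    simp only [Φ, hbq, ← ht, hrq]
    rw [hr'0, hc]
    group
  have hcard : Nat.card ↥((sigmaCore M : Set G) \ {1}) = Nat.card (sigmaCore M) - 1 := by
    rw [Nat.card_coe_set_eq, Set.ncard_sdiff_singleton_of_mem (one_mem _), ← Nat.card_coe_set_eq]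
    rfl
  rw [hrange, ← Nat.card_coe_set_eq, Nat.card_range_of_injective hinj, Nat.card_prod, hcard,
    ← Subgroup.index, mul_comm]

end Cfsg.Agent.BGSigma
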