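import Cfsg.Agent.BGSigma.Alpha
import Cfsg.Agent.BGSigma.SmallRank

/-!
The listed statements of BG Section 10, parts 10.1–10.5, relative to the Uniqueness Theorem.
-/

set_option autoImplicit false

namespace Cfsg.Agent.BGSigma

open Cfsg
open scoped Pointwise

universe u

variable {G : Type u} [Group G] [Finite G] (hG : IsMinSimpleOddOrder G) (hU : UniquenessTheorem G)
include hG hU

theorem sigma_core_hall_stmt (M : Subgroup G) (hM : IsCoatom M) :
    IsPiHallOf (sigma M) (sigmaCore M) M ∧ IsPiHall (sigma M) (sigmaCore M) ∧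
      ∀ N : Subgroup G, M ≤ Subgroup.normalizer (N : Set G) → IsPiHallOf (sigma M) N M →
        N = sigmaCore M := by
  obtain ⟨h1, h2, -⟩ := sigmaCore_hall hG hU smallRankFrattini fittingRankTwoDerived hM
  exact ⟨h1, h2, fun N hn hN => eq_piCoreOf_of_normal_hall hN hn⟩

theorem fusion_stmt (M : Subgroup G) (hM : IsCoatom M) (p : ℕ) [Fact p.Prime]
    (hp : p ∈ sigma M) (X : Subgroup G) (hXp : IsPGroup p X) (hX1 : X ≠ ⊥) (hXM : X ≤ M) :
    (∀ g : G, X.map (MulAut.conj g).toMonoidHom ≤ M →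
        ∃ m ∈ M, ∃ c ∈ Subgroup.centralizer (X : Set G), g = m * c) ∧
      Subgroup.normalizer (X : Set G) =
        (M ⊓ Subgroup.normalizer (X : Set G)) ⊔ Subgroup.centralizer (X : Set G) := by
  have key : ∀ g : G, X.map (MulAut.conj g).toMonoidHom ≤ M →
      ∃ m ∈ M, ∃ c ∈ Subgroup.centralizer (X : Set G), g = m * c :=
    fun g hg => sigma_fusion hG hU smallRankFrattini hM hp hXp hX1 hXM hg
  refine ⟨key, le_antisymm (fun g hg => ?_)
    (sup_le inf_le_right (Subgroup.centralizer_le_normalizer _))⟩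
  obtain ⟨m, hm, c, hc, rfl⟩ := key g (by rw [map_conj_eq_self hg]; exact hXM)
  refine Subgroup.mul_mem_sup ⟨hm, ?_⟩ hc
  have := Subgroup.mul_mem _ hg (Subgroup.inv_mem _ (Subgroup.centralizer_le_normalizer _ hc))
  rwa [mul_inv_cancel_right] at this

theorem alpha_core_stmt (M : Subgroup G) (hM : IsCoatom M) :
    IsPiHallOf (alpha M) (alphaCore M) M ∧ IsPiHall (alpha M) (alphaCore M) ∧
      alphaCore M ≤ sigmaCore M ∧ RankLE 2 (↥M ⧸ piCore (alpha M) ↥M) ∧
      Group.IsNilpotent ↥((commutator ↥M).map (QuotientGroup.mk' (piCore (alpha M) ↥M))) := by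
  obtain ⟨h1, h2⟩ := alphaCore_hall hG hU smallRankFrattini fittingRankTwoDerived hM
  obtain ⟨-, h3, h4⟩ := quotient_alpha_structure hG hU smallRankFrattini fittingRankTwoDerived hM
  exact ⟨h1, h2, alphaCore_le_sigmaCore hG hU hM, h3, h4⟩

theorem not_sigma_rank_two {M : Subgroup G} (hM : IsCoatom M) {p : ℕ} (hpp : p.Prime)
    (hp : p ∉ sigma M) : PRankLE p 2 M := by
  by_contra h
  exact hp (mem_sigma_of_mem_alpha hG hU hM ⟨hpp, h⟩)

/-- BG 10.5(b). -/
theorem rank_two_of_normalizer_le (M : Subgroup G) (hM : IsCoatom M) (p : ℕ) [hpf : Fact p.Prime]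
    (hp : p ∉ sigma M) (X : Subgroup G) (hX : Nat.card X = p)
    (hNX : Subgroup.normalizer (X : Set G) ≤ M) :
    (PRankLE p 2 M ∧ ¬ PRankLE p 1 M) ∧ ¬ IsIdealPrime p G ∧
      ∃ A : Subgroup G, IsElementaryAbelian p A ∧ Nat.card A = p ^ 2 ∧ X ≤ A := by
  have hpp : p.Prime := hpf.out
  have hXM : X ≤ M := Subgroup.le_normalizer.trans hNX
  have hpM : p ∣ Nat.card M := hX ▸ Subgroup.card_dvd_of_le hXM
  have hr2 := not_sigma_rank_two hG hU hM hpp hp
  have hXp : IsPGroup p X := IsPGroup.of_card (n := 1) (by rw [hX, pow_one])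
  obtain ⟨P, hXP⟩ := (hXp.comap_subtype (K := M)).exists_le_sylow
  set P₀ : Subgroup G := (P : Subgroup M).map M.subtype with hP₀
  have hXP₀ : X ≤ P₀ := fun x hx => ⟨⟨x, hXM hx⟩, hXP hx, rfl⟩
  have hP₀p : IsPGroup p P₀ := P.isPGroup'.map _
  have hXpow : ∀ x ∈ X, x ^ p = 1 := fun x hx => by
    have := congrArg Subtype.val (pow_card_eq_one' (G := X) (x := ⟨x, hx⟩))
    simpa [hX] using this
  haveI hXcyc : IsCyclic X := isCyclic_of_prime_card hX
  have hXe : IsElementaryAbelian p X := ⟨inferInstance, hXpow⟩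
  have hr1 : ¬ PRankLE p 1 M := by
    intro h
    have hP1 : PRankLE p 1 P₀ := (prankLE_map_subtype _).2 (prankLE_subgroup_self _ h)
    refine hp ⟨hpp, hpM, P, fun g hg => hNX ?_⟩
    have hmap : X.map (MulAut.conj g).toMonoidHom ≤ P₀ := by
      calc X.map (MulAut.conj g).toMonoidHom ≤ P₀.map (MulAut.conj g).toMonoidHom :=
            Subgroup.map_mono hXP₀
        _ = P₀ := map_conj_eq_self hg
    obtain ⟨j, hj⟩ := hP₀p.exists_card_eq
    have hcyc : IsCyclic P₀ := by
      haveI := isZGroup_of_rankLE_one (H := P₀) (odd_card_subgroup hG _) (fun q hq => ?_)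
      · let S : Sylow p P₀ := default
        haveI := IsZGroup.isZGroup (G := P₀) p hpp S
        have hS : (S : Subgroup P₀) = ⊤ :=
          (hP₀p.to_le le_rfl : IsPGroup p P₀) |> fun h => by
            refine top_le_iff.1 ?_
            have : IsPGroup p (⊤ : Subgroup P₀) := h.to_subgroup _
            rw [← S.is_maximal' this le_top]
        exact ((MulEquiv.subgroupCongr hS).trans Subgroup.topEquiv).isCyclic.1 inferInstance
      · by_cases hqp : q = p
        · exact hqp ▸ hP1
        · refine prankLE_of_not_dvd hq fun hd => hqp ?_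
          exact (Nat.prime_dvd_prime_iff_eq hq hpp).1 (hq.dvd_of_dvd_pow (hj ▸ hd))
    rw [Subgroup.mem_normalizer_iff_map_conj_eq]
    classical
    haveI : Fintype P₀ := Fintype.ofFinite _
    have hT : ({z : P₀ | z ^ p = 1} : Finset P₀).card ≤ p := IsCyclic.card_pow_eq_one_le hpp.pos
    have key : ∀ Y : Subgroup G, Y ≤ P₀ → Nat.card Y = p →
        ({z : P₀ | (z : G) ∈ Y} : Finset P₀) = ({z : P₀ | z ^ p = 1} : Finset P₀) := by
      intro Y hY hYc
      refine Finset.eq_of_subset_of_card_le (fun z hz => ?_) (hT.trans (le_of_eq ?_))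
      · simp only [Finset.mem_filter, Finset.mem_univ, true_and] at hz ⊢
        have := congrArg Subtype.val (pow_card_eq_one' (G := Y) (x := ⟨(z : G), hz⟩))
        ext
        simpa [hYc] using this
      · rw [← Fintype.card_subtype, ← Nat.card_eq_fintype_card, ← hYc]
        exact Nat.card_congr (Subgroup.subgroupOfEquivOfLe hY).symm.toEquiv
    ext z
    constructor
    · intro hz
      have := (key _ hmap ((card_map_conj X g).trans hX)).trans (key X hXP₀ hX).symm
      have h1 := Finset.ext_iff.1 this ⟨z, hmap hz⟩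
      simp only [Finset.mem_filter, Finset.mem_univ, true_and] at h1
      exact h1.1 hz
    · intro hz
      have := (key _ hmap ((card_map_conj X g).trans hX)).trans (key X hXP₀ hX).symm
      have h1 := Finset.ext_iff.1 this ⟨z, hXP₀ hz⟩
      simp only [Finset.mem_filter, Finset.mem_univ, true_and] at h1
      exact h1.2 hz
  refine ⟨⟨hr2, hr1⟩, (not_ideal_of_rank_two hG hU hM hr2 hr1).1, ?_⟩
  -- an elementary abelian subgroup of order `p²` through `X`
  have mk : ∀ Y : Subgroup G, Nat.card Y = p → IsElementaryAbelian p Y →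
      Y ≤ Subgroup.centralizer (X : Set G) → ¬ Y ≤ X →
      ∃ A : Subgroup G, IsElementaryAbelian p A ∧ Nat.card A = p ^ 2 ∧ X ≤ A := by
    intro Y hY hYe hYC hYX
    refine ⟨X ⊔ Y, elemAbelian_sup hXe hYe hYC, ?_, le_sup_left⟩
    have hdisj : X ⊓ Y = ⊥ := by
      rcases (Nat.dvd_prime hpp).1 (hY ▸ Subgroup.card_dvd_of_le (inf_le_right : X ⊓ Y ≤ Y)) with h | h
      · exact Subgroup.eq_bot_of_card_eq _ h
      · exact absurd ((Subgroup.eq_of_le_of_card_ge inf_le_right (by rw [hY, h])).ge.trans inf_le_left) hYX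
    have hn : Y ≤ Subgroup.normalizer (X : Set G) :=
      hYC.trans (Subgroup.centralizer_le_normalizer _)
    let f : X × Y → ↥(X ⊔ Y) := fun z => ⟨z.1.1 * z.2.1, Subgroup.mul_mem_sup z.1.2 z.2.2⟩
    have hf : Function.Bijective f := by
      refine ⟨fun a b h => Subgroup.mul_injective_of_disjoint (disjoint_iff.2 hdisj)
        (congrArg Subtype.val h), fun z => ?_⟩
      have hmem : (z : G) ∈ (X : Set G) * (Y : Set G) := by
        rw [← Subgroup.coe_mul_of_right_le_normalizer_left X Y hn]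
        exact z.2
      obtain ⟨a, ha, b, hb, hab⟩ := hmem
      exact ⟨(⟨a, ha⟩, ⟨b, hb⟩), Subtype.ext hab⟩
    rw [← Nat.card_congr (Equiv.ofBijective f hf), Nat.card_prod, hX, hY, sq]
  -- a central element of order `p` of the Sylow subgroup
  obtain ⟨A, hAP, hAe, hAc⟩ := exists_elemAbelian_sq_le (H := P₀) (p := p) (fun h =>
    hr1 ((prankLE_iff_sylow P).2 ((prankLE_map_subtype _).1 h)))
  have hnX : ¬ A ≤ X := fun h => by
    have := Nat.le_of_dvd Nat.card_pos (Subgroup.card_dvd_of_le h)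
    rw [hX, hAc] at this
    nlinarith [hpp.two_le]
  haveI : Nontrivial P₀ := (Subgroup.nontrivial_iff_ne_bot _).2 fun h => by
    rw [h, le_bot_iff] at hXP₀
    rw [hXP₀, Subgroup.card_bot] at hX
    exact hpp.ne_one hX.symm
  haveI := hP₀p.center_nontrivial
  obtain ⟨z, hz⟩ := exists_prime_orderOf_dvd_card' p (show p ∣ Nat.card (Subgroup.center P₀) by
    obtain ⟨j, hj⟩ := (hP₀p.to_subgroup (Subgroup.center P₀)).exists_card_eq
    rcases j with _ | j
    · exact absurd hj (by rw [pow_zero]; exact (Finite.one_lt_card (α := Subgroup.center P₀)).ne')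
    · rw [hj]; exact dvd_pow_self p j.succ_ne_zero)
  set w : G := ((z : P₀) : G) with hw
  have hwo : orderOf w = p := by rw [hw, Subgroup.orderOf_coe, Subgroup.orderOf_coe, hz]
  have hwc : ∀ y ∈ P₀, y * w = w * y := fun y hy =>
    congrArg Subtype.val (Subgroup.mem_center_iff.1 z.2 ⟨y, hy⟩)
  by_cases hwX : w ∈ X
  · obtain ⟨a, ha, haX⟩ := SetLike.not_le_iff_exists.1 hnX
    have ha1 : a ≠ 1 := fun h => haX (h ▸ X.one_mem)
    have hwz : Subgroup.zpowers w = X := Subgroup.eq_of_le_of_card_ge (Subgroup.zpowers_le.2 hwX)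
      (by rw [Nat.card_zpowers, hwo, hX])
    refine mk (Subgroup.zpowers a) ?_ (elemAbelian_zpowers (hAe.2 a ha)) ?_
      (fun h => haX (h (Subgroup.mem_zpowers a)))
    · rw [Nat.card_zpowers, orderOf_eq_prime (hAe.2 a ha) ha1]
    · rw [Subgroup.zpowers_le, Subgroup.mem_centralizer_iff, ← hwz]
      rintro y ⟨k, rfl⟩
      exact ((show Commute w a from (hwc a (hAP ha)).symm).zpow_left k).eq
  · refine mk (Subgroup.zpowers w) (by rw [Nat.card_zpowers, hwo])
      (elemAbelian_zpowers (hwo ▸ pow_orderOf_eq_one w)) ?_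
      (fun h => hwX (h (Subgroup.mem_zpowers w)))
    rw [Subgroup.zpowers_le, Subgroup.mem_centralizer_iff]
    exact fun y hy => hwc y (hXP₀ hy)

end Cfsg.Agent.BGSigma
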