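import Cfsg.Agent.BGSummary.Compl

/-!
`M_F = M_σ` when `M_σ` is nilpotent.
-/

set_option autoImplicit false

namespace Cfsg.Agent.BGSigma

open Cfsg Subgroup

universe u

variable {G : Type u} [Group G] [Finite G] (hG : IsMinSimpleOddOrder G)
include hG

theorem fittingHallOf_le_sigma {M : Subgroup G} (hM : IsCoatom M) :
    fittingHallOf M ≤ sigmaCore M := by
  intro x hx
  refine BGSummary.TypeCore.mem_sigmaCore (BGSummary.Loc.hall hG hM) (BGUniq.fittingHallOf_le M hx)
    fun p hp hd => ?_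
  haveI := Fact.mk hp
  have hdH : p ∣ Nat.card (fittingHallOf M) := hd.trans (Subgroup.orderOf_dvd_natCard _ hx)
  have hHM : fittingHallOf M ≤ M := BGUniq.fittingHallOf_le M
  refine ⟨hp, hdH.trans (card_dvd_of_le hHM), default, ?_⟩
  let S : Sylow p M := default
  have hSH : (S : Subgroup M).map M.subtype ≤ fittingHallOf M := by
    refine le_of_coprime_relIndex hHM (BGSummary.le_normalizer_fittingHallOf M) (map_subtype_le _) ?_
    obtain ⟨n, hn⟩ := (S.isPGroup'.map M.subtype).exists_card_eq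
    rw [hn]
    refine Nat.Coprime.pow_left n ((Nat.Prime.coprime_iff_not_dvd hp).mpr fun hd' => ?_)
    exact hp.not_dvd_one ((BGSummary.fittingHallOf_relIndex_coprime M) ▸ Nat.dvd_gcd hdH hd')
  have hSF : (S : Subgroup M).map M.subtype ≤ BGUniq.core p M := fun y hy => by
    obtain ⟨j, hj⟩ := (S.isPGroup'.map M.subtype) ⟨y, hy⟩
    obtain ⟨i, -, hi⟩ := (Nat.dvd_prime_pow hp).mp
      (orderOf_dvd_of_pow_eq_one (congrArg Subtype.val hj : y ^ p ^ j = 1))
    exact BGUniq.mem_core_of_mem_fittingOf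
      (BGSummary.TypeCore.fittingHallOf_le_fittingOf M (hSH hy)) hi
  have hFS : BGUniq.core p M ≤ (S : Subgroup M).map M.subtype := fun y hy => by
    have heq := S.is_maximal' ((BGUniq.isPGroup_core p M).comap_subtype (K := M)) (fun z hz =>
      show (z : G) ∈ BGUniq.core p M from hSF (mem_map_of_mem M.subtype hz))
    exact ⟨⟨y, BGUniq.core_le p M hy⟩, heq.le hy, rfl⟩
  rw [le_antisymm hSF hFS]
  have hne : BGUniq.core p M ≠ ⊥ := fun h0 => S.ne_bot_of_dvd_card
    (hdH.trans (card_dvd_of_le hHM))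
    ((map_eq_bot_iff_of_injective _ M.subtype_injective).mp (le_bot_iff.mp (hSF.trans h0.le)))
  exact (normalizer_eq_coatom hG hM (BGUniq.core_le p M) hne (BGUniq.le_normalizer_core p M)).le

theorem fittingHallOf_eq_of_nilpotent {M : Subgroup G} (hM : IsCoatom M)
    (hnil : Group.IsNilpotent (sigmaCore M)) : fittingHallOf M = sigmaCore M :=
  le_antisymm (fittingHallOf_le_sigma hG hM)
    (BGSummary.le_fittingHallOf (sigmaCore_le M) (le_normalizer_sigmaCore M) hnil
      (BGSummary.Loc.coprime_of_hall (BGSummary.Loc.hall hG hM)))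

end Cfsg.Agent.BGSigma
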