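import Cfsg.Agent.BGSigma.KappaDichotomy
import Cfsg.Agent.BGSigma.FittingCore

/-!
BG 14.4: centralizers of elements of `M_σ` which leave `M`.
-/

set_option autoImplicit false

namespace Cfsg.Agent.BGSigma

open Cfsg Subgroup
open scoped commutatorElement Pointwise

universe u

variable {G : Type u} [Group G] [Finite G]

/-- In `L = E L_σ` an element fixed by elements of `E` has fixed components. -/
theorem mem_centralizer_components {L E N : Subgroup G} (hE : IsComplIn E N L)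
    (hn : E ≤ normalizer (N : Set G)) {x e n : G} (hxE : x ∈ E) (he : e ∈ E) (hnN : n ∈ N)
    (hc : x * (e * n) = e * n * x) : x * e = e * x ∧ x * n = n * x := by
  have h1 : x * e * x⁻¹ = e ∧ x * n * x⁻¹ = n := by
    refine eq_of_mul_eq_mul_of_inf hE.2.2.1 (E.mul_mem (E.mul_mem hxE he) (E.inv_mem hxE)) he
      ((mem_normalizer_iff.1 (hn hxE) n).1 hnN) hnN ?_
    calc x * e * x⁻¹ * (x * n * x⁻¹) = x * (e * n) * x⁻¹ := by group
      _ = e * n := by rw [hc, mul_inv_cancel_right]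
  exact ⟨mul_inv_eq_iff_eq_mul.1 h1.1, mul_inv_eq_iff_eq_mul.1 h1.2⟩

/-- What a line `X` of `M_σ` with `C(X) ⊄ M` produces. -/
structure LineSupport (M X L E : Subgroup G) : Prop where
  coatom : IsCoatom L
  compl : IsComplIn E (sigmaCore L) L
  eq_inf : M ⊓ L = E
  inf_eq : sigmaCore L ⊓ M = ⊥
  le_L : centralizer (X : Set G) ≤ L
  uniq : ∀ L' : Subgroup G, IsCoatom L' → centralizer (X : Set G) ≤ L' → L' = L
  prime : Nat.card X ∈ tau2 L
  nilp : Group.IsNilpotent (sigmaCore L)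

variable (hG : IsMinSimpleOddOrder G)
include hG

theorem exists_lineSupport {M X : Subgroup G} (hM : IsCoatom M) {s : ℕ} [hs : Fact s.Prime]
    (hXM : X ≤ sigmaCore M) (hXc : Nat.card X = s) (hCX : ¬ centralizer (X : Set G) ≤ M) :
    ∃ L E : Subgroup G, LineSupport M X L E := by
  have h := localInputs hG
  have hXp := isPGroup_of_prime_card hXc
  have hX1 := ne_bot_of_prime_card hs.out hXc
  have hsM : s ∈ sigma M := isPiSub_sigmaCore M s hs.out (hXc ▸ card_dvd_of_le hXM)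
  have hXM' : X ≤ M := hXM.trans (sigmaCore_le M)
  haveI := isCyclic_of_prime_card hXc
  obtain ⟨L, hL, hNL⟩ := exists_coatom_ge hG (normalizer_ne_top hG hX1 (isCoatom_ne_top hM hXM'))
  have hCL : centralizer (X : Set G) ≤ L := (centralizer_le_normalizer _).trans hNL
  have hXL : X ≤ L := (le_centralizer_self_of_comm inferInstance).trans hCL
  have hsL : s ∉ sigma L := fun h0 => hCX (eq_of_sigma_line hG hL hM h0 hsM hXc hCL hXM' ▸ hCL)
  have hr1 : ¬ PRankLE s 1 L := fun h1 =>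
    normalizer_not_le_conj hG h hL hsL h1 hXc (g := 1) (by rwa [map_conj_one])
  have hs2 : s ∈ tau2 L := ⟨hs.out, hsL, not_sigma_rank_two hG h.uniq hL hs.out hsL, hr1⟩
  -- a Sylow subgroup of `M_σ` through `X` and its fixed points
  obtain ⟨S, hS⟩ := (hXp.comap_subtype (K := sigmaCore M)).exists_le_sylow
  set T := (S : Subgroup (sigmaCore M)).map (sigmaCore M).subtype with hT
  have hXT : X ≤ T := fun x hx => ⟨⟨x, hXM hx⟩, hS hx, rfl⟩
  have hTp : IsPGroup s T := S.isPGroup'.map _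
  obtain ⟨-, hHallG, -⟩ := sigmaCore_hall hG h.uniq smallRankFrattini fittingRankTwoDerived hM
  have hTd : ¬ s ∣ T.index := by
    rw [hT, index_map_subtype]
    exact fun hd' => ((Nat.Prime.dvd_mul hs.out).1 hd').elim S.not_dvd_index
      (hHallG.2 s hs.out hsM)
  set C := T ⊓ centralizer (X : Set G) with hC
  have hCp : IsPGroup s C := hTp.to_le inf_le_left
  have hC1 : ¬ PRankLE s 1 C := by
    intro h1
    haveI := isCyclic_of_prankLE_one hG h1 hCp le_rfl
    haveI : Nontrivial T := (nontrivial_iff_ne_bot _).2 fun h0 => hX1 (le_bot_iff.1 (hXT.trans h0.le))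
    haveI := hTp.center_nontrivial
    obtain ⟨z, hz⟩ := exists_prime_orderOf_dvd_card' s (show s ∣ Nat.card (center T) from
      (hTp.to_subgroup _).card_eq_or_dvd.resolve_left Finite.one_lt_card.ne')
    have hzc : ∀ t ∈ T, t * ((z : T) : G) = ((z : T) : G) * t := fun t ht =>
      congrArg Subtype.val (mem_center_iff.1 z.2 ⟨t, ht⟩)
    have hzC : zpowers ((z : T) : G) ≤ C := zpowers_le.2
      ⟨z.1.2, mem_centralizer_iff.2 fun a ha => hzc a (hXT ha)⟩
    have heq : zpowers ((z : T) : G) = X := eq_of_le_cyclic (C := C) hzC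
      (le_inf hXT (le_centralizer_self_of_comm inferInstance))
      (by rw [Nat.card_zpowers, Subgroup.orderOf_coe, Subgroup.orderOf_coe, hz, hXc])
    have hTC : T ≤ centralizer (X : Set G) := fun t ht => by
      rw [← heq, BGTwelve.centralizer_zpowers_eq, mem_centralizer_singleton_iff]
      exact hzc t ht
    haveI : IsCyclic T := by rwa [show T = C from (inf_eq_left.2 hTC).symm]
    have hG1 : PRankLE s 1 G := prankLE_one_of_cyclic_sylow' (hTp.toSylow hTd) ‹IsCyclic T›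
    exact hr1 (prankLE_subgroup_self L hG1)
  obtain ⟨A, hAC, hAe, hAc⟩ := exists_elemAbelian_sq_le hC1
  have hAM : A ≤ sigmaCore M := hAC.trans (inf_le_left.trans (map_subtype_le _))
  have hAX : A ≤ centralizer (X : Set G) := hAC.trans inf_le_right
  have hAL : A ≤ L := hAX.trans hCL
  obtain ⟨E, hE, hAXE⟩ := exists_compl_ge hG hL (sup_le hAL hXL : A ⊔ X ≤ L) fun l hl hd => by
    rw [sup_comm] at hd
    rcases prime_dvd_sup (hAX.trans (centralizer_le_normalizer _)) hl hd with h1 | h1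
    · rw [eq_of_dvd_card_pgroup hXp hl h1]; exact hsL
    · rw [eq_of_dvd_card_pgroup (hTp.to_le (hAC.trans inf_le_left)) hl h1]; exact hsL
  have hA : A ≤ E ∧ IsElementaryAbelian s A ∧ Nat.card A = s ^ 2 :=
    ⟨le_sup_left.trans hAXE, hAe, hAc⟩
  have hXA : X ≤ A := BGTwelve.le_sq_of_card hG h hL hE hs2 hA (le_sup_right.trans hAXE) hXc
  obtain ⟨-, ⟨-, hEN, -⟩, hu⟩ := BGTwelve.tau_two_compl_stmt hG h hL hE hs2 hA
  obtain ⟨hnil, -, -, -, he, -⟩ := tau_two_stmt hG h L hL hs2 A ⟨hAL, hAe, hAc⟩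
  -- `N(A) ≤ M`
  have hA1 : A ≠ ⊥ := fun h0 => hX1 (le_bot_iff.1 (hXA.trans h0.le))
  obtain ⟨M', hM', hNM'⟩ := exists_coatom_ge hG (normalizer_ne_top hG hA1 (isCoatom_ne_top hL hAL))
  have hsM' : s ∈ sigma M' := tau2_subset_sigma hG hL hE hs2 hA hM' hNM' hs2
  obtain ⟨g, hg⟩ := conj_of_sigma hG h (twelveInputs hG) hM hM' hsM hsM'
  have hgM : g ∈ M := by
    by_contra hgM
    obtain ⟨hcyc, -, -⟩ := BGTwelve.sigma_inter_conj hG hM hgM
    haveI := hcyc
    haveI : IsCyclic A := isCyclic_of_le (le_inf hAM (hg ▸ le_normalizer.trans hNM'))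
    obtain ⟨a, ha⟩ := IsCyclic.exists_generator (α := A)
    have h1 : orderOf a ∣ s :=
      orderOf_dvd_of_pow_eq_one (Subtype.ext (by simpa using hAe.2 a a.2))
    rw [orderOf_eq_card_of_forall_mem_zpowers ha, hAc] at h1
    exact absurd (Nat.le_of_dvd hs.out.pos h1)
      (not_le.2 (lt_self_pow₀ hs.out.one_lt one_lt_two))
  have hNM : normalizer (A : Set G) ≤ M := by
    rw [← map_conj_eq_self (le_normalizer hgM), ← hg]
    exact hNM'
  have hEM : E ≤ M := hEN.ge.trans (inf_le_right.trans hNM)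
  have hLM : sigmaCore L ⊓ M = ⊥ := he M hM (fun h0 => hCX (h0 ▸ hCL)) (hAM.trans (sigmaCore_le M))
  have heq : M ⊓ L = E := by
    refine le_antisymm ?_ (le_inf hEM hE.1)
    rintro m ⟨hm, hmL⟩
    obtain ⟨e, he', n, hn, rfl⟩ := hE.2.2.2 m hmL
    have hn1 : n ∈ sigmaCore L ⊓ M := ⟨hn, by
      have := M.mul_mem (M.inv_mem (hEM he')) hm
      rwa [inv_mul_cancel_left] at this⟩
    rw [hLM, Subgroup.mem_bot] at hn1
    rw [hn1, mul_one]
    exact he'
  have hfix : sigmaCore L ⊓ centralizer (X : Set G) ≠ ⊥ := by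
    intro h0
    refine hCX fun c hc => ?_
    obtain ⟨e, he', n, hn, rfl⟩ := hE.2.2.2 c (hCL hc)
    have hn1 : n ∈ sigmaCore L ⊓ centralizer (X : Set G) := ⟨hn, mem_centralizer_iff.2 fun a ha =>
      (mem_centralizer_components hE (BGTwelve.compl_le_normalizer hE) (hAXE (mem_sup_right ha)) he'
        hn (mem_centralizer_iff.1 hc a ha)).2⟩
    rw [h0, Subgroup.mem_bot] at hn1
    rw [hn1, mul_one]
    exact hEM he'
  exact ⟨L, E, hL, hE, heq, hLM, hCL, (hu X hXA hXc hfix).2, hXc.symm ▸ hs2, hnil⟩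

/-- BG 14.4: the maximal subgroup over `C(x)`. -/
theorem exists_support {M : Subgroup G} (hM : IsCoatom M) {x : G} (hx : x ∈ sigmaCore M)
    (hx1 : x ≠ 1) (hxM : ¬ centralizer ({x} : Set G) ≤ M) :
    ∃ L E : Subgroup G, IsCoatom L ∧ IsComplIn E (sigmaCore L) L ∧ M ⊓ L = E ∧
      sigmaCore L ⊓ M = ⊥ ∧ centralizer ({x} : Set G) ≤ L ∧
      (∀ L' : Subgroup G, IsCoatom L' → centralizer ({x} : Set G) ≤ L' → L' = L) ∧
      x ∈ E ∧ Group.IsNilpotent (sigmaCore L) ∧
      (∀ p : ℕ, p.Prime → p ∣ orderOf x → p ∈ tau2 L) ∧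
      sigmaCore L ⊓ centralizer ({x} : Set G) ≠ ⊥ := by
  obtain ⟨s, X, hs, hX, hXc⟩ := exists_line_of_ne_one hx1
  haveI := Fact.mk hs
  have hCx := centralizer_le_of_line hX
  obtain ⟨L, E, d⟩ := exists_lineSupport hG hM (hX.trans (zpowers_le.2 hx)) hXc
    (fun h0 => hxM (hCx.trans h0))
  have hxC : x ∈ centralizer ({x} : Set G) := mem_centralizer_singleton_iff.2 rfl
  have hxL : x ∈ L := d.le_L (hCx hxC)
  have hxE : x ∈ E := d.eq_inf ▸ ⟨sigmaCore_le M hx, hxL⟩
  have hne : sigmaCore L ⊓ centralizer ({x} : Set G) ≠ ⊥ := by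
    intro h0
    refine hxM fun c hc => ?_
    obtain ⟨e, he, n, hn, rfl⟩ := d.compl.2.2.2 c (d.le_L (hCx hc))
    obtain ⟨-, hn'⟩ := mem_centralizer_components d.compl (BGTwelve.compl_le_normalizer d.compl)
      hxE he hn (mem_centralizer_singleton_iff.1 hc).symm
    have hn1 : n ∈ sigmaCore L ⊓ centralizer ({x} : Set G) :=
      ⟨hn, mem_centralizer_singleton_iff.2 hn'.symm⟩
    rw [h0, Subgroup.mem_bot] at hn1
    rw [hn1, mul_one]
    exact (d.eq_inf ▸ he : e ∈ M ⊓ L).1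
  obtain ⟨y, hy, hy1⟩ := (bot_or_exists_ne_one _).resolve_left hne
  have hxy : x ∈ L ⊓ centralizer ({y} : Set G) :=
    ⟨hxL, mem_centralizer_singleton_iff.2 (mem_centralizer_singleton_iff.1 hy.2).symm⟩
  have hσ : ∀ p : ℕ, p.Prime → p ∣ orderOf x → p ∉ sigma L := fun p hp hd =>
    BGTwelve.not_mem_sigma_of_dvd hG d.coatom d.compl hp (hd.trans (Subgroup.orderOf_dvd_natCard E hxE))
  rcases dichotomy_stmt hG L d.coatom y hy.1 hy1 x hxy hx1 hσ with ⟨hk, -⟩ | ⟨h2, -, hu⟩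
  · exfalso
    have hsx : s ∣ orderOf x := Nat.card_zpowers x ▸ hXc ▸ card_dvd_of_le hX
    have h2 := d.prime
    rw [hXc] at h2
    exact h2.2.2.2 ((mem_kappa_iff hG d.coatom).1 (hk s hs hsx)).2.2.1
  · exact ⟨L, E, d.coatom, d.compl, d.eq_inf, d.inf_eq, hu.1, hu.2, hxE, d.nilp, h2, hne⟩

end Cfsg.Agent.BGSigma
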