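import Cfsg.Agent.BGSigma.SqSylow
import Cfsg.Agent.OddLocal43.Coprime
import Cfsg.Agent.OddLocal43.RankTwo
import Cfsg.Agent.Lib.Coprime.Abelian

/-!
Group-theoretic lemmas for BG Section 13: an operator group `W R`, `R` of prime order, whose fixed
points under `R` are centralised by `W`.
-/

set_option autoImplicit false

namespace Cfsg.Agent.BGSigma

open Cfsg Subgroup
open scoped commutatorElement

universe u

variable {G : Type u} [Group G] [Finite G]

/-- The product of a subgroup with a normalised subgroup of coprime order. -/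
theorem relIndex_sup_coprime {W R : Subgroup G} (hRW : R ≤ normalizer (W : Set G))
    (hco : (Nat.card W).Coprime (Nat.card R)) : (Nat.card W).Coprime (W.relIndex (W ⊔ R)) := by
  rw [sup_comm, Coprime.relIndex_sup_of_le_normalizer hRW]
  exact hco.coprime_dvd_right (relIndex_dvd_card _ _)

theorem card_sup_coprime {W R : Subgroup G} {l : ℕ} (hl : l.Prime) (hRW : R ≤ normalizer (W : Set G))
    (hW : ¬ l ∣ Nat.card W) (hR : ¬ l ∣ Nat.card R) : ¬ l ∣ Nat.card (W ⊔ R : Subgroup G) := by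
  rw [← relIndex_mul_card (le_sup_left : W ≤ W ⊔ R), sup_comm,
    Coprime.relIndex_sup_of_le_normalizer hRW]
  intro hd
  rcases hl.dvd_mul.1 hd with h | h
  · exact hR (h.trans (relIndex_dvd_card _ _))
  · exact hW h

/-- BG 3.4, with `C_V(R)` centralised by `W` instead of trivial; abelian case. -/
theorem commutator_le_centralizer_of_abelian_fixed (hfp : PrimeOrderFixedPoint.{u})
    (hodd : Odd (Nat.card G)) {V W R : Subgroup G} {l : ℕ} (hl : l.Prime)
    (hV : IsElementaryAbelian l V) (hWV : W ≤ normalizer (V : Set G))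
    (hRV : R ≤ normalizer (V : Set G)) (hRW : R ≤ normalizer (W : Set G)) (hR : (Nat.card R).Prime)
    (hlW : ¬ l ∣ Nat.card W) (hlR : ¬ l ∣ Nat.card R)
    (hWR : (Nat.card W).Coprime (Nat.card R)) (hs : Group.IsSolvable (W ⊔ R : Subgroup G))
    (hfix : V ⊓ centralizer (R : Set G) ≤ centralizer (W : Set G)) :
    ⁅W, R⁆ ≤ centralizer (V : Set G) := by
  haveI := hV.1
  have hcop : (Nat.card W).Coprime (Nat.card V) := by
    haveI : Fact l.Prime := ⟨hl⟩
    obtain ⟨j, hj⟩ := (isPGroup_of_pow_eq_one hl hV.2 : IsPGroup l V).exists_card_eq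
    rw [hj]
    exact ((hl.coprime_iff_not_dvd.2 hlW).pow_left j).symm
  set V0 := ⁅V, W⁆ with hV0
  have hV0V : V0 ≤ V := Coprime.commutator_le_of_le_normalizer hWV
  have hV0e : IsElementaryAbelian l V0 :=
    ⟨isMulCommutative_of_le_centralizer ((hV0V.trans (le_centralizer_self_of_comm hV.1)).trans
      (centralizer_anti hV0V)), fun x hx => hV.2 x (hV0V hx)⟩
  have h0 : ⁅R, W⁆ ≤ centralizer (V0 : Set G) :=
    hfp G (W ⊔ R) hs (hodd.of_dvd_nat (card_subgroup_dvd_card _)) V0 l hl hV0e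
      (card_sup_coprime hl hRW hlW hlR)
      (sup_le (Coprime.le_normalizer_commutator_right W V)
        (OddLocal43.normalizes_commutator hRV hRW))
      W R le_sup_left (sup_le le_normalizer hRW) (relIndex_sup_coprime hRW hWR) le_sup_right hR
      (inf_eq_bot_of_coprime hWR) rfl
      (eq_bot_iff.2 fun x hx => by
        have h1 : x ∈ ⁅V, W⁆ ⊓ centralizer (W : Set G) := ⟨hx.1, hfix ⟨hV0V hx.1, hx.2⟩⟩
        rwa [Coprime.commutator_inf_centralizer_eq_bot W V hWV hcop] at h1)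
  rw [commutator_comm] at h0
  have hWRW : ⁅W, R⁆ ≤ W := Coprime.commutator_le_of_le_normalizer hRW
  rw [le_centralizer_iff, ← Coprime.commutator_sup_centralizer W V hWV hcop
    (Or.inl (Coprime.solvable_of_le le_sup_left hs))]
  exact sup_le (le_centralizer_iff.1 h0) (inf_le_right.trans (centralizer_anti hWRW))

/-- BG 3.4, with `C_Q(R)` centralised by `W` instead of trivial, for a `p`-group `Q`. -/
theorem commutator_le_centralizer_of_pgroup_fixed (hfp : PrimeOrderFixedPoint.{u})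
    (hodd : Odd (Nat.card G)) {Q W R : Subgroup G} {l : ℕ} [hl : Fact l.Prime] (hQ : IsPGroup l Q)
    (hWQ : W ≤ normalizer (Q : Set G)) (hRQ : R ≤ normalizer (Q : Set G))
    (hRW : R ≤ normalizer (W : Set G)) (hR : (Nat.card R).Prime) (hlW : ¬ l ∣ Nat.card W)
    (hlR : ¬ l ∣ Nat.card R) (hWR : (Nat.card W).Coprime (Nat.card R))
    (hs : Group.IsSolvable (W ⊔ R : Subgroup G))
    (hfix : Q ⊓ centralizer (R : Set G) ≤ centralizer (W : Set G)) :
    ⁅W, R⁆ ≤ centralizer (Q : Set G) := by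
  set Φ : Subgroup G := (frattini Q).map Q.subtype with hΦ
  have hΦQ : Φ ≤ Q := map_subtype_le _
  have hQΦ : normalizer (Q : Set G) ≤ normalizer (Φ : Set G) :=
    Coprime.normalizer_le_normalizer_map Q _
  have hΦco : ∀ {Z : Subgroup G}, ¬ l ∣ Nat.card Z → (Nat.card Z).Coprime (Nat.card Φ) := by
    intro Z hZ
    obtain ⟨j, hj⟩ := (hQ.to_le hΦQ).exists_card_eq
    rw [hj]
    exact ((hl.out.coprime_iff_not_dvd.2 hZ).pow_left j).symm
  set Y : Subgroup G := Q ⊔ (W ⊔ R) with hY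
  have hYQ : Y ≤ normalizer (Q : Set G) := sup_le le_normalizer (sup_le hWQ hRQ)
  haveI : (Φ.subgroupOf Y).Normal := normal_subgroupOf_of_le_normalizer (hYQ.trans hQΦ)
  let π := QuotientGroup.mk' (Φ.subgroupOf Y)
  let im : Subgroup G → Subgroup (Y ⧸ Φ.subgroupOf Y) := fun Z => (Z.subgroupOf Y).map π
  have hQY : Q ≤ Y := le_sup_left
  have hWY : W ≤ Y := le_sup_left.trans le_sup_right
  have hRY : R ≤ Y := le_sup_right.trans le_sup_right
  have him : ∀ Z : Subgroup G, Z ≤ Y → Nat.card (im Z) ∣ Nat.card Z := fun Z hZ =>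
    (card_map_dvd (H := Z.subgroupOf Y) π).trans
      (dvd_of_eq (Nat.card_congr (subgroupOfEquivOfLe hZ).toEquiv))
  have himn : ∀ Z Z' : Subgroup G, Z ≤ Y → Z' ≤ Y → Z ≤ normalizer (Z' : Set G) →
      im Z ≤ normalizer (im Z' : Set (Y ⧸ Φ.subgroupOf Y)) := by
    intro Z Z' hZ hZ' hn
    refine le_trans (map_mono (fun z hz => ?_)) (le_normalizer_map π)
    rw [mem_normalizer_iff]
    intro w
    simpa [mem_subgroupOf] using mem_normalizer_iff.1 (hn hz) (w : G)
  -- the Frattini quotient is elementary abelian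
  have hV : IsElementaryAbelian l (im Q) := by
    refine ⟨⟨⟨?_⟩⟩, ?_⟩
    · rintro ⟨_, a, ha, rfl⟩ ⟨_, b, hb, rfl⟩
      refine Subtype.ext ?_
      show π a * π b = π b * π a
      rw [← map_mul, ← map_mul, eq_comm]
      refine QuotientGroup.eq.2 ?_
      rw [mem_subgroupOf]
      refine ⟨⁅(⟨a, ha⟩ : Q)⁻¹, (⟨b, hb⟩ : Q)⁻¹⁆, PGroup.comm_mem_frattini hQ _ _, ?_⟩
      simp [commutatorElement_def, mul_assoc]
    · rintro _ ⟨a, ha, rfl⟩
      rw [← map_pow]
      refine (QuotientGroup.eq_one_iff _).2 ?_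
      rw [mem_subgroupOf]
      exact ⟨(⟨a, ha⟩ : Q) ^ l, PGroup.pow_mem_frattini hQ _, by simp⟩
  have hRc : Nat.card (im R) = Nat.card R := by
    rcases (Nat.dvd_prime hR).1 (him R hRY) with h | h
    · exfalso
      have h0 : R ⊓ Φ = ⊥ := inf_eq_bot_of_coprime (hΦco hlR)
      have hR0 : R = ⊥ := by
        refine (Subgroup.eq_bot_iff_forall _).2 fun b hb => ?_
        have hm : π ⟨b, hRY hb⟩ ∈ im R := ⟨_, hb, rfl⟩
        rw [eq_bot_of_card_eq _ h, Subgroup.mem_bot] at hm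
        have hbΦ : b ∈ Φ := by simpa [mem_subgroupOf] using (QuotientGroup.eq_one_iff _).1 hm
        exact Subgroup.mem_bot.1 (h0 ▸ ⟨hb, hbΦ⟩)
      exact hR.ne_one (by rw [hR0, card_bot])
    · exact h
  -- fixed points lift
  have hfix' : im Q ⊓ centralizer (im R : Set (Y ⧸ Φ.subgroupOf Y)) ≤
      centralizer (im W : Set (Y ⧸ Φ.subgroupOf Y)) := by
    rintro _ ⟨⟨a, ha, rfl⟩, hc⟩
    obtain ⟨n, hn, hac⟩ := Coprime.exists_fixed_in_coset_of_normal R Φ (hRQ.trans hQΦ) (hΦco hlR)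
      (Or.inr (Coprime.solvable_of_le hΦQ (Coprime.isSolvable_of_isNilpotent' hQ.isNilpotent)))
      (a : G) (hQΦ (le_normalizer ha)) (fun b hb => by
        have h1 := mem_centralizer_iff.1 hc (π ⟨b, hRY hb⟩) ⟨⟨b, hRY hb⟩, hb, rfl⟩
        have h2 : π (⟨b, hRY hb⟩ * a * (⟨b, hRY hb⟩)⁻¹ * a⁻¹) = 1 := by
          rw [map_mul, map_mul, map_mul, h1, map_inv, map_inv]; group
        simpa [mem_subgroupOf] using (QuotientGroup.eq_one_iff _).1 h2)
    have hmem : (a : G) * n ∈ centralizer (W : Set G) := hfix ⟨Q.mul_mem ha (hΦQ hn), hac⟩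
    rw [mem_centralizer_iff]
    rintro _ ⟨w, hw, rfl⟩
    have hnY : n ∈ Y := hQY (hΦQ hn)
    have hn1 : π ⟨n, hnY⟩ = 1 :=
      (QuotientGroup.eq_one_iff (N := Φ.subgroupOf Y) (⟨n, hnY⟩ : Y)).2
        (mem_subgroupOf.2 hn)
    have e : π a = π (a * ⟨n, hnY⟩) := by rw [map_mul, hn1, mul_one]
    rw [e, ← map_mul, ← map_mul]
    exact congrArg π (Subtype.ext (by simpa using mem_centralizer_iff.1 hmem (w : G) hw))
  have hres : ⁅im W, im R⁆ ≤ centralizer (im Q : Set (Y ⧸ Φ.subgroupOf Y)) := by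
    refine commutator_le_centralizer_of_abelian_fixed hfp
      (Odd.of_dvd_nat (hodd.of_dvd_nat (card_subgroup_dvd_card Y)) (card_quotient_dvd_card _))
      hl.out hV (himn _ _ hWY hQY hWQ) (himn _ _ hRY hQY hRQ) (himn _ _ hRY hWY hRW) (hRc ▸ hR)
      (fun h => hlW (h.trans (him W hWY))) (fun h => hlR (h.trans (him R hRY)))
      ((hWR.coprime_dvd_left (him W hWY)).coprime_dvd_right (him R hRY)) ?_ hfix'
    have h1 : im W ⊔ im R = im (W ⊔ R) := by
      simp only [im, subgroupOf_sup hWY hRY, Subgroup.map_sup]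
    rw [h1]
    haveI := hs
    exact Group.isSolvable_of_surjective (f := ((π.subgroupMap ((W ⊔ R).subgroupOf Y)).comp
      (subgroupOfEquivOfLe (sup_le hWY hRY)).symm.toMonoidHom))
      ((π.subgroupMap_surjective _).comp (MulEquiv.surjective _))
  have hWRW : ⁅W, R⁆ ≤ W := Coprime.commutator_le_of_le_normalizer hRW
  refine Coprime.le_centralizer_of_frattini _ Q (hWRW.trans hWQ) ?_ fun x hx k hk => ?_
  · obtain ⟨j, hj⟩ := hQ.exists_card_eq
    refine Nat.Coprime.coprime_dvd_right (card_subgroup_dvd_card _) ?_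
    rw [hj]
    exact ((hl.out.coprime_iff_not_dvd.2
      fun h => hlW (h.trans (card_dvd_of_le hWRW))).pow_left j).symm
  · have hxY : x ∈ Y := hWY (hWRW hx)
    have hxim : π ⟨x, hxY⟩ ∈ ⁅im W, im R⁆ := by
      have h2 : (⁅W, R⁆).subgroupOf Y = ⁅W.subgroupOf Y, R.subgroupOf Y⁆ := by
        apply map_injective Y.subtype_injective
        rw [map_commutator, map_subgroupOf_eq_of_le hWY, map_subgroupOf_eq_of_le hRY,
          map_subgroupOf_eq_of_le (hWRW.trans hWY)]
      show π ⟨x, hxY⟩ ∈ ⁅(W.subgroupOf Y).map π, (R.subgroupOf Y).map π⁆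
      rw [← map_commutator]
      exact ⟨⟨x, hxY⟩, h2 ▸ (hx : (⟨x, hxY⟩ : Y) ∈ (⁅W, R⁆).subgroupOf Y), rfl⟩
    have h1 := mem_centralizer_iff.1 (hres hxim) (π ⟨k, hQY hk⟩) ⟨⟨k, hQY hk⟩, hk, rfl⟩
    have h2 : π (⟨x, hxY⟩ * ⟨k, hQY hk⟩ * (⟨x, hxY⟩)⁻¹ * (⟨k, hQY hk⟩)⁻¹) = 1 := by
      rw [map_mul, map_mul, map_mul, ← h1, map_inv, map_inv]; group
    exact mem_subgroupOf.1 ((QuotientGroup.eq_one_iff _).1 h2)

/-- If `W` centralises the fixed points of order `p` of `R` on a `p`-group `S`, then `[W,R]`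
centralises `S`. -/
theorem commutator_le_centralizer_of_fixed_order_p (hfp : PrimeOrderFixedPoint.{u})
    (hodd : Odd (Nat.card G)) {S W R : Subgroup G} {p : ℕ} [hp : Fact p.Prime] (hp2 : p ≠ 2)
    (hS : IsPGroup p S) (hWS : W ≤ normalizer (S : Set G)) (hRS : R ≤ normalizer (S : Set G))
    (hRW : R ≤ normalizer (W : Set G)) (hR : (Nat.card R).Prime) (hpW : ¬ p ∣ Nat.card W)
    (hpR : ¬ p ∣ Nat.card R) (hWR : (Nat.card W).Coprime (Nat.card R))
    (hs : Group.IsSolvable (W ⊔ R : Subgroup G))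
    (hfix : ∀ x ∈ S, x ^ p = 1 → x ∈ centralizer (R : Set G) → x ∈ centralizer (W : Set G)) :
    ⁅W, R⁆ ≤ centralizer (S : Set G) := by
  obtain ⟨C, hCS, hnC, hC2, hCself⟩ := OddLocal43.exists_class_two_self_centralizing_in hS
  set U := OddLocal43.omegaClassTwo hp.out hp2 C hC2 with hU
  have hUC : U ≤ C := fun x hx => hx.1
  have hnU : normalizer (C : Set G) ≤ normalizer (U : Set G) :=
    Coprime.le_normalizer_of_conj_mem fun a ha x hx =>
      ⟨(mem_normalizer_iff.1 ha x).1 hx.1, by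
        rw [← MulAut.conj_apply, ← map_pow, hx.2, map_one]⟩
  have h1 := commutator_le_centralizer_of_pgroup_fixed hfp hodd (hS.to_le (hUC.trans hCS))
    ((hWS.trans hnC).trans hnU) ((hRS.trans hnC).trans hnU) hRW hR hpW hpR hWR hs
    (fun x hx => hfix x (hCS hx.1.1) hx.1.2 hx.2)
  set D := ⁅W, R⁆ with hD
  have hDW : D ≤ W := Coprime.commutator_le_of_le_normalizer hRW
  have hDp : ¬ p ∣ Nat.card D := fun h => hpW (h.trans (card_dvd_of_le hDW))
  have hCD : C ≤ centralizer (D : Set G) :=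
    OddLocal43.le_centralizer_of_order_p hp2 (hp.out.coprime_iff_not_dvd.2 hDp).symm
      (hS.to_le hCS) ((hDW.trans hWS).trans hnC) fun x hx hxo =>
      le_centralizer_iff.1 h1 (show x ∈ U from ⟨hx, hxo ▸ pow_orderOf_eq_one x⟩)
  rw [le_centralizer_iff]
  refine OddLocal43.le_centralizer_of_self_centralizing hS.isNilpotent (hDW.trans hWS) ?_ ?_
  · obtain ⟨j, hj⟩ := hS.exists_card_eq
    rw [hj]
    exact ((hp.out.coprime_iff_not_dvd.2 hDp).pow_left j).symm
  · rintro x ⟨hxS, hx⟩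
    exact ⟨hxS, hCD (hCself ⟨hxS, centralizer_anti (le_inf hCS hCD) hx⟩)⟩

end Cfsg.Agent.BGSigma
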