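import Cfsg.Agent.BGSigma.Cores
import Cfsg.Agent.Lib.Coprime.Action
import Cfsg.Agent.Lib.Coprime.Generation
import Cfsg.Agent.CharDeep.FpfCyclic
import Cfsg.Agent.S1443

/-!
BG 10.3, 10.4, 10.5.
-/

set_option autoImplicit false

namespace Cfsg.Agent.BGSigma

open Cfsg

/-- A group of odd order and rank at most one is a Z-group. -/
theorem isZGroup_of_rankLE_one {H : Type*} [Group H] [Finite H] (hodd : Odd (Nat.card H))
    (hr : RankLE 1 H) : IsZGroup H := by
  refine ⟨fun p hp S => ?_⟩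
  haveI : Fact p.Prime := ⟨hp⟩
  by_cases hd : p ∣ Nat.card H
  swap
  · have : (S : Subgroup H) = ⊥ := by
      obtain ⟨j, hj⟩ := S.isPGroup'.exists_card_eq
      rcases j with _ | j
      · exact Subgroup.eq_bot_of_card_eq _ hj
      · exact absurd ((Dvd.intro_left _ (pow_succ p j).symm).trans
          (hj ▸ Subgroup.card_subgroup_dvd_card _)) hd
    exact this ▸ isCyclic_of_subsingleton
  have hp2 : Odd p := Odd.of_dvd_nat hodd hd
  refine CharDeep.Zass.isCyclic_of_no_pair hp2 S.isPGroup' fun a b hab ha hb => ?_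
  by_contra hna
  set A : Subgroup S := Subgroup.closure {a, b} with hA
  haveI hAc : IsMulCommutative A := Subgroup.isMulCommutative_closure (by
    intro x hx y hy
    rcases hx with rfl | rfl <;> rcases hy with rfl | rfl
    · rfl
    · exact hab.eq
    · exact hab.eq.symm
    · rfl)
  have hpow : ∀ x ∈ A, x ^ p = 1 := by
    intro x hx
    induction hx using Subgroup.closure_induction with
    | mem x hx =>
      rcases hx with rfl | rfl
      · exact orderOf_dvd_iff_pow_eq_one.1 ha.dvd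
      · exact orderOf_dvd_iff_pow_eq_one.1 hb.dvd
    | one => exact one_pow _
    | mul x y hx' hy' ihx ihy =>
      have : Commute x y := congrArg Subtype.val (mul_comm' (⟨x, hx'⟩ : A) ⟨y, hy'⟩)
      rw [this.mul_pow, ihx, ihy, one_mul]
    | inv x _ ih => rw [inv_pow, ih, inv_one]
  have hbA : Subgroup.zpowers b ≤ A :=
    Subgroup.zpowers_le.2 (Subgroup.subset_closure (by simp))
  have hlt : Subgroup.zpowers b < A :=
    lt_of_le_of_ne hbA fun h => hna (by rw [h]; exact Subgroup.subset_closure (by simp))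
  have h1 := (prankLE_subgroup_self (S : Subgroup H) (hr p hp)) A hAc hpow
  refine hlt.ne (Subgroup.eq_of_le_of_card_ge hbA ?_)
  rw [Nat.card_zpowers, hb]
  simpa using h1

theorem exists_elemAbelian_sq {H : Type*} [Group H] [Finite H] {p : ℕ} [hp : Fact p.Prime]
    (h : ¬ PRankLE p 1 H) :
    ∃ A : Subgroup H, IsElementaryAbelian p A ∧ Nat.card A = p ^ 2 := by
  simp only [PRankLE, not_forall, not_le, pow_one] at h
  obtain ⟨A, hA, hpow, hlt⟩ := h
  obtain ⟨n, hn⟩ := (isPGroup_of_pow_eq_one hp.out hpow).exists_card_eq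
  have h2 : 2 ≤ n := by
    by_contra hn2
    rw [hn] at hlt
    exact absurd hlt (not_lt.2 (le_of_le_of_eq (Nat.pow_le_pow_right hp.out.pos (by omega)) (pow_one p)))
  obtain ⟨K, hK⟩ := Sylow.exists_subgroup_card_pow_prime p (G := A)
    (show p ^ 2 ∣ Nat.card A from hn ▸ pow_dvd_pow p h2)
  refine ⟨K.map A.subtype, ⟨⟨⟨?_⟩⟩, ?_⟩, ?_⟩
  · rintro ⟨-, x, hx, rfl⟩ ⟨-, y, hy, rfl⟩
    have := congrArg Subtype.val (mul_comm' x y)
    ext
    exact this
  · rintro _ ⟨x, hx, rfl⟩
    exact hpow x x.2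
  · rw [Subgroup.card_map_of_injective A.subtype_injective, hK]

universe u

variable {G : Type u} [Group G] [Finite G]

theorem elemAbelian_subgroupOf {A H : Subgroup G} {p : ℕ} (hA : IsElementaryAbelian p A)
    (hle : A ≤ H) : IsElementaryAbelian p (A.subgroupOf H) := by
  obtain ⟨h1, h2⟩ := hA
  refine ⟨⟨⟨fun a b => ?_⟩⟩, fun x hx => ?_⟩
  · have := congrArg Subtype.val (mul_comm' (⟨_, a.2⟩ : A) ⟨_, b.2⟩)
    ext
    exact this
  · ext; simpa using h2 _ hx

/-- An elementary abelian subgroup of order `> p^k` witnesses `p`-rank `> k`. -/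
theorem not_prankLE_of_elemAbelian {A H : Subgroup G} {p k : ℕ} (hA : IsElementaryAbelian p A)
    (hle : A ≤ H) (hcard : p ^ k < Nat.card A) : ¬ PRankLE p k H := by
  intro h
  have h1 := h _ (elemAbelian_subgroupOf hA hle).1 (elemAbelian_subgroupOf hA hle).2
  rw [Nat.card_congr (Subgroup.subgroupOfEquivOfLe hle).toEquiv] at h1
  omega

theorem exists_elemAbelian_sq_le {H : Subgroup G} {p : ℕ} [Fact p.Prime] (h : ¬ PRankLE p 1 H) :
    ∃ A ≤ H, IsElementaryAbelian p A ∧ Nat.card A = p ^ 2 := by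
  obtain ⟨A, ⟨hA1, hA2⟩, hA3⟩ := exists_elemAbelian_sq h
  refine ⟨A.map H.subtype, Subgroup.map_subtype_le A, ⟨⟨⟨?_⟩⟩, ?_⟩, ?_⟩
  · rintro ⟨-, x, hx, rfl⟩ ⟨-, y, hy, rfl⟩
    have := congrArg (fun z : A => ((z : H) : G)) (mul_comm' (⟨x, hx⟩ : A) ⟨y, hy⟩)
    ext
    exact this
  · rintro _ ⟨x, hx, rfl⟩
    simpa using congrArg Subtype.val (hA2 x hx)
  · rw [Subgroup.card_map_of_injective H.subtype_injective, hA3]

theorem elemAbelian_zpowers {p : ℕ} {x : G} (hx : x ^ p = 1) :
    IsElementaryAbelian p (Subgroup.zpowers x) :=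
  ⟨inferInstance, by
    rintro y ⟨k, rfl⟩
    show (x ^ k) ^ p = 1
    rw [← zpow_natCast, ← zpow_mul, mul_comm, zpow_mul, zpow_natCast, hx, one_zpow]⟩

theorem elemAbelian_sup {A B : Subgroup G} {p : ℕ} (hA : IsElementaryAbelian p A)
    (hB : IsElementaryAbelian p B) (hc : B ≤ Subgroup.centralizer (A : Set G)) :
    IsElementaryAbelian p (A ⊔ B) := by
  have hgen : A ⊔ B = Subgroup.closure ((A : Set G) ∪ B) := by
    rw [Subgroup.closure_union, Subgroup.closure_eq, Subgroup.closure_eq]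
  haveI hcomm : IsMulCommutative (A ⊔ B : Subgroup G) := by
    rw [hgen]
    refine Subgroup.isMulCommutative_closure ?_
    have hAB : ∀ a ∈ A, ∀ b ∈ B, a * b = b * a := fun a ha b hb =>
      Subgroup.mem_centralizer_iff.1 (hc hb) a ha
    rintro x (hx | hx) y (hy | hy)
    · exact congrArg Subtype.val (hA.1.is_comm.comm (⟨x, hx⟩ : A) ⟨y, hy⟩)
    · exact hAB x hx y hy
    · exact (hAB y hy x hx).symm
    · exact congrArg Subtype.val (hB.1.is_comm.comm (⟨x, hx⟩ : B) ⟨y, hy⟩)
  refine ⟨hcomm, fun x hx => ?_⟩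
  rw [hgen] at hx
  induction hx using Subgroup.closure_induction with
  | mem x hx => exact hx.elim (hA.2 x) (hB.2 x)
  | one => exact one_pow _
  | mul x y hx' hy' ihx ihy =>
    have h : Commute x y := congrArg Subtype.val
      (hcomm.is_comm.comm (⟨x, hgen ▸ hx'⟩ : (A ⊔ B : Subgroup G)) ⟨y, hgen ▸ hy'⟩)
    rw [h.mul_pow, ihx, ihy, one_mul]
  | inv x _ ih => rw [inv_pow, ih, inv_one]

variable (hG : IsMinSimpleOddOrder G)
include hG

theorem ne_two_of_dvd {p : ℕ} {H : Subgroup G} (hd : p ∣ Nat.card H) : p ≠ 2 := by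
  rintro rfl
  exact (by decide : ¬ Odd 2) (Odd.of_dvd_nat (odd_card_subgroup hG H) hd)

theorem inUniqueMaximal_mono {A B : Subgroup G} (h : InUniqueMaximal A) (hAB : A ≤ B)
    (hB : B ≠ ⊤) : InUniqueMaximal B := by
  obtain ⟨M, hM, hBM⟩ := exists_coatom_ge hG hB
  exact ⟨M, ⟨hM, hBM⟩, fun L hL => h.unique ⟨hL.1, hAB.trans hL.2⟩ ⟨hM, hAB.trans hBM⟩⟩

/-- BG 10.3. -/
theorem alpha_centralizer_unique (hU : UniquenessTheorem G) (hR2 : SmallRankFrattini.{u})
    (hF : FittingRankTwoDerived.{u}) {M : Subgroup G} (hM : IsCoatom M) {X : Subgroup G}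
    (hXM : X ≤ M) (hXα : ∀ p : ℕ, p.Prime → p ∣ Nat.card X → p ∉ alpha M)
    (hr : ¬ RankLE 1 ↥(alphaCore M ⊓ Subgroup.centralizer (X : Set G))) :
    InUniqueMaximal (M ⊓ Subgroup.centralizer (X : Set G)) := by
  have hCtop : M ⊓ Subgroup.centralizer (X : Set G) ≠ ⊤ := fun h =>
    hM.1 (top_le_iff.1 (h ▸ inf_le_left))
  have hMαM : alphaCore M ≤ M := Subgroup.map_subtype_le _
  simp only [RankLE, not_forall] at hr
  obtain ⟨q, hq, hqr⟩ := hr
  haveI : Fact q.Prime := ⟨hq⟩
  obtain ⟨A, hAle, hAe, hAc⟩ := exists_elemAbelian_sq_le hqr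
  have hA1 : A ≤ M ⊓ Subgroup.centralizer (X : Set G) := hAle.trans (inf_le_inf_right _ hMαM)
  have hAr : ¬ RankLE 1 A := not_rankLE_of_not_prankLE hq
    (not_prankLE_of_elemAbelian hAe le_rfl (by
      rw [hAc, pow_one]; nlinarith [hq.two_le]))
  by_cases hC3 : RankLE 2 ↥(Subgroup.centralizer (A : Set G))
  swap
  · exact inUniqueMaximal_mono hG
      (hU A (fun h => hCtop (top_le_iff.1 (h ▸ hA1))) hAr (Or.inr hC3)) hA1 hCtop
  -- `X` centralises an invariant Sylow `q`-subgroup of `M_α`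
  have hqd : q ∣ Nat.card A := hAc ▸ dvd_pow_self q two_ne_zero
  have hqα : q ∈ alpha M := isPiSub_piCoreOf M q hq
    (hqd.trans (Subgroup.card_dvd_of_le (hAle.trans inf_le_left)))
  have hXq : (Nat.card X).Coprime q :=
    (Nat.coprime_comm.1 ((hq.coprime_iff_not_dvd).2 fun hd => hXα q hq hd hqα))
  have hco : (Nat.card X).Coprime (Nat.card (alphaCore M)) :=
    Nat.coprime_of_dvd fun p hp a b => hXα p hp a (isPiSub_piCoreOf M p hp b)
  have hXn : X ≤ Subgroup.normalizer (alphaCore M : Set G) :=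
    hXM.trans (Subgroup.le_normalizer.trans (piCoreOf_normalized M))
  have hXA : X ≤ Subgroup.centralizer (A : Set G) :=
    Subgroup.le_centralizer_iff.1 (hAle.trans inf_le_right)
  obtain ⟨Q, hAQ, hXQ⟩ := Coprime.exists_invariant_sylow_ge X (alphaCore M) hXn hco
    (Or.inl (isSolvable_of_ne_top hG fun h => hM.1 (top_le_iff.1 (h ▸ hXM)))) q A
    (hAle.trans inf_le_left) (isPGroup_of_pow_eq_one hq hAe.2)
    (hXA.trans (Subgroup.centralizer_le_normalizer _))
  set H : Subgroup G := (Q : Subgroup (alphaCore M)).map (alphaCore M).subtype with hH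
  have hHM : H ≤ M := (Subgroup.map_subtype_le _).trans hMαM
  have hfix : ∀ x ∈ H ⊓ Subgroup.centralizer (A : Set G), orderOf x = q →
      X ≤ Subgroup.centralizer ({x} : Set G) := by
    intro x hx hxo
    have hxA : x ∈ A := by
      by_contra hxA
      set B := A ⊔ Subgroup.zpowers x with hB
      have hBe : IsElementaryAbelian q B := elemAbelian_sup hAe
        (elemAbelian_zpowers (hxo ▸ pow_orderOf_eq_one x)) (Subgroup.zpowers_le.2 hx.2)
      have hBC : B ≤ Subgroup.centralizer (A : Set G) := by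
        refine sup_le ?_ (Subgroup.zpowers_le.2 hx.2)
        intro a ha
        rw [Subgroup.mem_centralizer_iff]
        exact fun b hb => congrArg Subtype.val (hAe.1.is_comm.comm (⟨b, hb⟩ : A) ⟨a, ha⟩)
      obtain ⟨n, hn⟩ := (isPGroup_of_pow_eq_one hq hBe.2).exists_card_eq
      have hlt : Nat.card A < Nat.card B := by
        refine lt_of_le_of_ne (Nat.le_of_dvd Nat.card_pos (Subgroup.card_dvd_of_le le_sup_left))
          fun h => hxA ?_
        rw [Subgroup.eq_of_le_of_card_ge le_sup_left h.ge]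
        exact Subgroup.mem_sup_right (Subgroup.mem_zpowers x)
      exact not_prankLE_of_elemAbelian hBe hBC (hAc ▸ hlt) (hC3 q hq)
    intro y hy
    rw [Subgroup.mem_centralizer_iff]
    intro z hz
    rw [Set.mem_singleton_iff.1 hz]
    exact Subgroup.mem_centralizer_iff.1 (hXA hy) x hxA
  have hXH := S1443.result q (ne_two_of_dvd hG hqd) H A X (Q.isPGroup'.map _) hAQ hAe hXQ hXq hfix
  have hH1 : H ≤ M ⊓ Subgroup.centralizer (X : Set G) :=
    le_inf hHM (Subgroup.le_centralizer_iff.1 hXH)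
  -- and that Sylow subgroup has rank at least three
  obtain ⟨hHall, -⟩ := alphaCore_hall hG hU hR2 hF hM
  have hHr : ¬ PRankLE q 2 H := by
    intro h
    refine hqα.2 ?_
    have hsyl : ¬ q ∣ (H.subgroupOf M).index := by
      show ¬ q ∣ H.relIndex M
      rw [← Subgroup.relIndex_mul_relIndex H (alphaCore M) M (Subgroup.map_subtype_le _) hMαM]
      intro hd
      rcases hq.dvd_mul.1 hd with h' | h'
      · refine Q.not_dvd_index ?_
        rwa [Subgroup.relIndex, Subgroup.subgroupOf, hH,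
          Subgroup.comap_map_eq_self_of_injective (alphaCore M).subtype_injective] at h'
      · exact hHall.2.2 q hq hqα h'
    refine (prankLE_iff_sylow ((Q.isPGroup'.map _).comap_subtype.toSylow hsyl)).2 ?_
    exact (prankLE_congr (Subgroup.subgroupOfEquivOfLe hHM)).2 h
  have h2 : ¬ RankLE 2 H := not_rankLE_of_not_prankLE hq hHr
  exact inUniqueMaximal_mono hG
    (hU H (fun h => hCtop (top_le_iff.1 (h ▸ hH1))) (fun h => h2 (rankLE_mono (by decide) h))
      (Or.inl h2)) hH1 hCtop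

/-- BG 10.4. -/
theorem exists_central_zgroup_centralizer (hU : UniquenessTheorem G) (hR2 : SmallRankFrattini.{u})
    (hF : FittingRankTwoDerived.{u}) {M : Subgroup G} (hM : IsCoatom M)
    (hMα : alphaCore M ≠ ⊥) {p : ℕ} [Fact p.Prime] (hpM : p ∣ Nat.card M) (hp : p ∉ sigma M)
    (P : Sylow p M) :
    ∃ x : G, x ∈ ((Subgroup.center ↥(P : Subgroup M)).map (P : Subgroup M).subtype).map M.subtype ∧
        orderOf x = p ∧
        IsZGroup ↥(alphaCore M ⊓ Subgroup.centralizer ({x} : Set G)) ∧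
        ¬ (Subgroup.centralizer ({x} : Set G) ≤ M ∧
          ∀ L : Subgroup G, IsCoatom L → Subgroup.centralizer ({x} : Set G) ≤ L → L = M) := by
  have hpp : p.Prime := Fact.out
  set Z : Subgroup G :=
    ((Subgroup.center ↥(P : Subgroup M)).map (P : Subgroup M).subtype).map M.subtype with hZ
  set P₀ : Subgroup G := (P : Subgroup M).map M.subtype with hP₀
  have hP1 : (P : Subgroup M) ≠ ⊥ := P.ne_bot_of_dvd_card hpM
  have hZP : Z ≤ P₀ := Subgroup.map_mono (Subgroup.map_subtype_le _)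
  have hZp : IsPGroup p Z := (P.isPGroup'.map M.subtype).to_le hZP
  have hZne : Z ≠ ⊥ := by
    rw [hZ, Ne, Subgroup.map_eq_bot_iff_of_injective _ M.subtype_injective,
      Subgroup.map_eq_bot_iff_of_injective _ (Subgroup.subtype_injective _)]
    haveI : Nontrivial (P : Subgroup M) := (Subgroup.nontrivial_iff_ne_bot _).2 hP1
    haveI := P.isPGroup'.center_nontrivial
    exact (Subgroup.nontrivial_iff_ne_bot _).1 inferInstance
  have hex : ∃ x ∈ Z, orderOf x = p := by
    obtain ⟨x, hx⟩ := exists_prime_orderOf_dvd_card' p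
      (show p ∣ Nat.card Z by
        obtain ⟨j, hj⟩ := hZp.exists_card_eq
        rcases j with _ | j
        · exact absurd (Subgroup.eq_bot_of_card_eq _ hj) hZne
        · rw [hj]; exact dvd_pow_self p j.succ_ne_zero)
    exact ⟨x, x.2, by rw [Subgroup.orderOf_coe]; exact hx⟩
  by_contra hcon
  push Not at hcon
  have hall : ∀ x ∈ Z, orderOf x = p → Subgroup.centralizer ({x} : Set G) ≤ M ∧
      ∀ L : Subgroup G, IsCoatom L → Subgroup.centralizer ({x} : Set G) ≤ L → L = M := by
    intro x hx hxo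
    by_cases hz : IsZGroup ↥(alphaCore M ⊓ Subgroup.centralizer ({x} : Set G))
    · exact hcon x hx hxo hz
    have hxM : Subgroup.zpowers x ≤ M :=
      Subgroup.zpowers_le.2 (Subgroup.map_subtype_le _ (hZP hx))
    have hcz : Subgroup.centralizer (Subgroup.zpowers x : Set G) =
        Subgroup.centralizer ({x} : Set G) := by
      rw [Subgroup.zpowers_eq_closure, Subgroup.centralizer_closure]
    have hu := alpha_centralizer_unique hG hU hR2 hF hM hxM (fun r hr hrd hrα => by
        rw [Nat.card_zpowers, hxo, Nat.prime_dvd_prime_iff_eq hr hpp] at hrd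
        exact hp (hrd ▸ mem_sigma_of_mem_alpha hG hU hM hrα))
      (fun h => hz (hcz ▸ isZGroup_of_rankLE_one (odd_card_subgroup hG _) h))
    rw [hcz] at hu
    have huniq : ∀ L : Subgroup G, IsCoatom L →
        M ⊓ Subgroup.centralizer ({x} : Set G) ≤ L → L = M :=
      fun L hL hle => hu.unique ⟨hL, hle⟩ ⟨hM, inf_le_left⟩
    have hC : Subgroup.centralizer ({x} : Set G) ≠ ⊤ := by
      intro h
      have hx1 : x ≠ 1 := fun h1 => by rw [h1, orderOf_one] at hxo; exact hpp.ne_one hxo.symm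
      have hz : Subgroup.zpowers x ≤ Subgroup.center G := by
        rw [Subgroup.zpowers_le, Subgroup.mem_center_iff]
        intro g
        exact (Subgroup.mem_centralizer_iff.1 (h.symm ▸ Subgroup.mem_top g : g ∈ Subgroup.centralizer ({x} : Set G)) x rfl).symm
      rcases normal_eq_bot_or_top hG (Subgroup.instNormalCenter (G := G)) with h' | h'
      · exact hx1 (Subgroup.mem_bot.1 (h' ▸ hz (Subgroup.mem_zpowers x)))
      · exact hG.2.2.1 ⟨⟨fun a b => (Subgroup.mem_center_iff.1 (h' ▸ Subgroup.mem_top b) a)⟩⟩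
    obtain ⟨L, hL, hCL⟩ := exists_coatom_ge hG hC
    have hLM := huniq L hL (inf_le_right.trans hCL)
    exact ⟨hLM ▸ hCL, fun L' hL' h' => huniq L' hL' (inf_le_right.trans h')⟩
  -- the normaliser of `P` moves `M`
  obtain ⟨g, hg, hgM⟩ : ∃ g ∈ Subgroup.normalizer (P₀ : Set G), g ∉ M :=
    SetLike.not_le_iff_exists.1 fun h => hp ⟨hpp, hpM, P, h⟩
  have hgZ : ∀ x ∈ Z, g * x * g⁻¹ ∈ Z := by
    intro x hx
    rw [hZ] at hx
    obtain ⟨-, ⟨z, hz, rfl⟩, rfl⟩ := hx
    have hmem : g * ((z : M) : G) * g⁻¹ ∈ P₀ :=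
      (Subgroup.mem_normalizer_iff.1 hg _).1 ⟨_, z.2, rfl⟩
    obtain ⟨w, hw, hwe⟩ := hmem
    refine ⟨w, ⟨⟨w, hw⟩, ?_, rfl⟩, hwe⟩
    refine Subgroup.mem_center_iff.2 fun t => ?_
    have hs : g⁻¹ * ((t : M) : G) * g ∈ P₀ := by
      refine (Subgroup.mem_normalizer_iff.1 hg _).2 ?_
      have : g * (g⁻¹ * ((t : M) : G) * g) * g⁻¹ = ((t : M) : G) := by group
      rw [this]
      exact ⟨_, t.2, rfl⟩
    obtain ⟨s, hs', hse⟩ := hs
    have hzs := congrArg (fun u : (P : Subgroup M) => ((u : M) : G))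
      (Subgroup.mem_center_iff.1 hz ⟨s, hs'⟩)
    simp only [Subgroup.coe_subtype] at hse hwe
    simp only [Subgroup.coe_mul, hse] at hzs
    apply Subtype.ext; apply Subtype.ext
    show ((t : M) : G) * (w : G) = (w : G) * ((t : M) : G)
    rw [hwe]
    calc ((t : M) : G) * (g * ((z : M) : G) * g⁻¹)
        = g * (g⁻¹ * ((t : M) : G) * g * ((z : M) : G)) * g⁻¹ := by group
      _ = g * (((z : M) : G) * (g⁻¹ * ((t : M) : G) * g)) * g⁻¹ := by rw [hzs]
      _ = g * ((z : M) : G) * g⁻¹ * ((t : M) : G) := by group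
  by_cases hZc : IsCyclic Z
  · obtain ⟨x, hx, hxo⟩ := hex
    obtain ⟨hCM, huni⟩ := hall x hx hxo
    have hgN : g ∈ Subgroup.normalizer (Subgroup.zpowers x : Set G) := by
      rw [Subgroup.mem_normalizer_iff_map_conj_eq, MonoidHom.map_zpowers]
      haveI := hZc
      set y := (MulAut.conj g).toMonoidHom x with hy
      have hyo : orderOf y = p := by
        rw [hy, ← hxo]; exact orderOf_injective _ (MulAut.conj g).injective x
      classical
      haveI : Fintype Z := Fintype.ofFinite Z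
      let T : Finset Z := {z | z ^ p = 1}
      have hT : T.card ≤ p := IsCyclic.card_pow_eq_one_le hpp.pos
      have key : ∀ w : Z, orderOf w = p → ∀ z ∈ T, z ∈ Subgroup.zpowers w := by
        intro w hw z hz
        have hsub : ({z' | z' ∈ Subgroup.zpowers w} : Finset Z) ⊆ T := by
          intro z' hz'
          obtain ⟨k, rfl⟩ := (Finset.mem_filter.1 hz').2
          refine Finset.mem_filter.2 ⟨Finset.mem_univ _, ?_⟩
          show (w ^ k) ^ p = 1
          rw [← zpow_natCast, ← zpow_mul, mul_comm, zpow_mul, zpow_natCast,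
            show w ^ p = 1 from hw ▸ pow_orderOf_eq_one w, one_zpow]
        have hc : ({z' | z' ∈ Subgroup.zpowers w} : Finset Z).card = p := by
          rw [← hw, ← Nat.card_zpowers, Nat.card_eq_fintype_card, Fintype.card_subtype]
        rw [← Finset.eq_of_subset_of_card_le hsub (hT.trans hc.ge)] at hz
        exact (Finset.mem_filter.1 hz).2
      have hxZ : (⟨y, hgZ x hx⟩ : Z) ∈ Subgroup.zpowers (⟨x, hx⟩ : Z) := by
        refine key _ ((Subgroup.orderOf_mk x hx).trans hxo) _ ?_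
        refine Finset.mem_filter.2 ⟨Finset.mem_univ _, ?_⟩
        ext
        simpa using (hyo ▸ pow_orderOf_eq_one y : y ^ p = 1)
      obtain ⟨k, hk⟩ := hxZ
      refine Subgroup.eq_of_le_of_card_ge (Subgroup.zpowers_le.2 ⟨k, ?_⟩) ?_
      · simpa [hy] using congrArg Subtype.val hk
      · exact le_of_eq (by rw [Nat.card_zpowers, Nat.card_zpowers, hxo]; exact hyo.symm)
    have hN : Subgroup.normalizer (Subgroup.zpowers x : Set G) ≠ ⊤ :=
      normalizer_ne_top hG (fun h => by
          rw [Subgroup.zpowers_eq_bot] at h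
          rw [h, orderOf_one] at hxo; exact hpp.ne_one hxo.symm)
        fun h => hM.1 (top_le_iff.1 (h ▸ Subgroup.zpowers_le.2 (Subgroup.map_subtype_le _ (hZP hx))))
    obtain ⟨L, hL, hNL⟩ := exists_coatom_ge hG hN
    have hCL : Subgroup.centralizer ({x} : Set G) ≤ L := by
      refine le_trans (le_trans (le_of_eq ?_) (Subgroup.centralizer_le_normalizer _)) hNL
      rw [Subgroup.zpowers_eq_closure, Subgroup.centralizer_closure]
    exact hgM (huni L hL hCL ▸ hNL hgN)
  · haveI : IsMulCommutative Z := by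
      rw [hZ]; infer_instance
    set H := (alphaCore M).map (MulAut.conj g⁻¹).toMonoidHom with hH
    have hZn : Z ≤ Subgroup.normalizer (H : Set G) := by
      rw [hH, normalizer_map_conj, le_map_conj_iff]
      intro z hz
      refine piCoreOf_normalized M (Subgroup.le_normalizer ?_)
      simpa using Subgroup.map_subtype_le _ (hZP (hgZ z hz))
    have hco : (Nat.card Z).Coprime (Nat.card H) := by
      rw [hH, card_map_conj]
      obtain ⟨j, hj⟩ := hZp.exists_card_eq
      rw [hj]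
      exact ((hpp.coprime_iff_not_dvd).2 fun h =>
        hp (mem_sigma_of_mem_alpha hG hU hM (isPiSub_piCoreOf M p hpp h))).pow_left j
    have hHM : H ≤ M := Coprime.le_of_centralizer_le Z H M hZc hZn hco fun e he he1 => by
      obtain ⟨j, hj⟩ := hZp.exists_card_eq
      obtain ⟨i, -, hi⟩ := (Nat.dvd_prime_pow hpp).1
        (show orderOf e ∣ p ^ j by
          rw [← hj, ← Subgroup.orderOf_mk e he]; exact orderOf_dvd_natCard _)
      have hi0 : i ≠ 0 := fun h => he1 (orderOf_eq_one_iff.1 (by rw [hi, h, pow_zero]))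
      set f := e ^ p ^ (i - 1) with hf
      have hfo : orderOf f = p := by
        rw [hf, orderOf_pow' _ (pow_ne_zero _ hpp.ne_zero), hi,
          Nat.gcd_eq_right (pow_dvd_pow p (Nat.sub_le i 1)),
          Nat.pow_div (Nat.sub_le i 1) hpp.pos,
          show i - (i - 1) = 1 by omega, pow_one]
      refine inf_le_right.trans (le_trans ?_ (hall f (Z.pow_mem he _) hfo).1)
      intro c hc
      rw [Subgroup.mem_centralizer_iff] at hc ⊢
      rintro _ rfl
      exact ((show Commute e c from hc e rfl).pow_left _).eq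
    obtain ⟨hHall, -⟩ := alphaCore_hall hG hU hR2 hF hM
    have heq : H = alphaCore M := by
      refine Subgroup.eq_of_le_of_card_ge ?_ (le_of_eq (card_map_conj _ _).symm)
      intro x hx
      haveI : ((alphaCore M).subgroupOf M).Normal :=
        (Subgroup.normal_subgroupOf_iff_le_normalizer hHall.1).2
          (Subgroup.le_normalizer.trans (piCoreOf_normalized M))
      rw [← Subgroup.mem_subgroupOf (K := M) (h := ⟨x, hHM hx⟩), ← QuotientGroup.eq_one_iff,
        ← orderOf_eq_one_iff, Nat.eq_one_iff_not_exists_prime_dvd]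
      intro r hr hrd
      refine hHall.2.2 r hr ?_ (hrd.trans (orderOf_dvd_natCard _))
      have h1 : r ∣ orderOf (⟨x, hHM hx⟩ : M) :=
        hrd.trans (orderOf_map_dvd (QuotientGroup.mk' ((alphaCore M).subgroupOf M)) ⟨x, hHM hx⟩)
      rw [Subgroup.orderOf_mk] at h1
      refine (isPiSub_piCoreOf M).map (MulAut.conj g⁻¹).toMonoidHom r hr (h1.trans ?_)
      exact Subgroup.orderOf_mk x hx ▸ orderOf_dvd_natCard (⟨x, hx⟩ : H)
    have hgn : g⁻¹ ∈ Subgroup.normalizer (alphaCore M : Set G) :=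
      Subgroup.mem_normalizer_iff_map_conj_eq.2 heq
    have hnα : Subgroup.normalizer (alphaCore M : Set G) = M :=
      normalizer_eq_coatom hG hM (Subgroup.map_subtype_le _) hMα
        (Subgroup.le_normalizer.trans (piCoreOf_normalized M))
    rw [hnα] at hgn
    exact hgM (M.inv_mem_iff.1 hgn)

/-- BG 10.5. -/
theorem not_ideal_of_rank_two (hU : UniquenessTheorem G) {M : Subgroup G} (hM : IsCoatom M)
    {p : ℕ} [Fact p.Prime] (hr2 : PRankLE p 2 M) (hr1 : ¬ PRankLE p 1 M) :
    ¬ IsIdealPrime p G ∧ ∀ A : Subgroup G, A ≤ M → IsElementaryAbelian p A →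
      Nat.card A = p ^ 2 → ∀ B : Subgroup G, IsElementaryAbelian p B → A ≤ B → B = A := by
  have hpp : p.Prime := Fact.out
  have key : ∀ A : Subgroup G, A ≤ M → IsElementaryAbelian p A →
      Nat.card A = p ^ 2 → ∀ B : Subgroup G, IsElementaryAbelian p B → A ≤ B → B = A := by
    intro A hAM hAe hAc B hBe hAB
    by_contra hne
    have hlt : p ^ 2 < Nat.card B := by
      rw [← hAc]
      refine lt_of_le_of_ne (Nat.le_of_dvd Nat.card_pos (Subgroup.card_dvd_of_le hAB)) fun h =>
        hne (Subgroup.eq_of_le_of_card_ge hAB h.ge).symm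
    have hBC : B ≤ Subgroup.centralizer (A : Set G) := by
      intro b hb
      rw [Subgroup.mem_centralizer_iff]
      exact fun a ha => congrArg Subtype.val (hBe.1.is_comm.comm (⟨a, hAB ha⟩ : B) ⟨b, hb⟩)
    have hA2 : ¬ RankLE 1 A := not_rankLE_of_not_prankLE hpp
      (not_prankLE_of_elemAbelian hAe le_rfl (by rw [hAc, pow_one]; nlinarith [hpp.two_le]))
    have hu : InUniqueMaximal A := hU A (fun h => hM.1 (top_le_iff.1 (h ▸ hAM))) hA2
      (Or.inr (not_rankLE_of_not_prankLE hpp (not_prankLE_of_elemAbelian hBe hBC hlt)))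
    have hBtop : B ≠ ⊤ := fun h => hG.2.2.1 ⟨⟨fun a b =>
      congrArg Subtype.val (hBe.1.is_comm.comm (⟨a, h ▸ Subgroup.mem_top a⟩ : B)
        ⟨b, h ▸ Subgroup.mem_top b⟩)⟩⟩
    obtain ⟨L, hL, hBL⟩ := exists_coatom_ge hG hBtop
    have hLM : L = M := hu.unique ⟨hL, hAB.trans hBL⟩ ⟨hM, hAM⟩
    exact not_prankLE_of_elemAbelian hBe (hLM ▸ hBL) hlt hr2
  refine ⟨fun hid => ?_, key⟩
  obtain ⟨A, hAM, hAe, hAc⟩ := exists_elemAbelian_sq_le hr1
  obtain ⟨S, hS⟩ := (isPGroup_of_pow_eq_one hpp hAe.2).exists_le_sylow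
  obtain ⟨B, -, hBe, hAB⟩ := hid.2.2 S A hS hAe hAc
  exact hAB.ne (key A hAM hAe hAc B hBe hAB.le).symm

end Cfsg.Agent.BGSigma
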