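import Mathlib
import Cfsg.Prelude.Def_OddOrderLocal

/-!
Standing facts about a minimal simple group of odd order and about `σ(M)`.
-/

set_option autoImplicit false

namespace Cfsg.Agent.BGSigma

open Cfsg

variable {G : Type*} [Group G]

/-- The conjugate `g M g⁻¹`, in the form used by the statements. -/
theorem mem_map_conj {M : Subgroup G} {g x : G} :
    x ∈ M.map (MulAut.conj g).toMonoidHom ↔ g⁻¹ * x * g ∈ M := by
  rw [Subgroup.mem_map_equiv]
  simp

section MinSimple

variable (hG : IsMinSimpleOddOrder G)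
include hG

theorem not_isSolvable : ¬ Group.IsSolvable G := by
  intro h
  obtain ⟨-, hs, hnc, -⟩ := hG
  exact hnc ⟨⟨fun a b => (IsSimpleGroup.comm_iff_isSolvable.2 h) a b⟩⟩

theorem isSolvable_of_ne_top {H : Subgroup G} (hH : H ≠ ⊤) : Group.IsSolvable H :=
  hG.2.2.2 H hH

theorem coatom_isSolvable {M : Subgroup G} (hM : IsCoatom M) : Group.IsSolvable M :=
  isSolvable_of_ne_top hG hM.1

theorem coatom_ne_bot {M : Subgroup G} (hM : IsCoatom M) : M ≠ ⊥ := by
  rintro rfl
  haveI := hG.2.1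
  obtain ⟨x, hx⟩ := exists_ne (1 : G)
  have hz : Subgroup.zpowers x = ⊤ := by
    refine hM.2 _ (bot_lt_iff_ne_bot.2 ?_)
    simpa [Subgroup.zpowers_eq_bot] using hx
  refine not_isSolvable hG ?_
  have hc : IsMulCommutative G := by
    refine ⟨⟨fun a b => ?_⟩⟩
    have ha : a ∈ Subgroup.zpowers x := hz ▸ Subgroup.mem_top a
    have hb : b ∈ Subgroup.zpowers x := hz ▸ Subgroup.mem_top b
    obtain ⟨i, rfl⟩ := ha
    obtain ⟨j, rfl⟩ := hb
    exact (Commute.zpow_zpow_self x i j)
  exact (hG.2.2.1 hc).elim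

theorem normal_eq_bot_or_top {N : Subgroup G} (hN : N.Normal) : N = ⊥ ∨ N = ⊤ :=
  haveI := hG.2.1
  hN.eq_bot_or_eq_top

theorem normalizer_ne_top {X : Subgroup G} (h1 : X ≠ ⊥) (h2 : X ≠ ⊤) :
    Subgroup.normalizer (X : Set G) ≠ ⊤ := by
  intro h
  have : X.Normal := Subgroup.normalizer_eq_top_iff.1 h
  exact (normal_eq_bot_or_top hG this).elim h1 h2

theorem exists_coatom_ge [Finite G] {H : Subgroup G} (hH : H ≠ ⊤) :
    ∃ M : Subgroup G, IsCoatom M ∧ H ≤ M :=
  (eq_top_or_exists_le_coatom H).resolve_left hH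

/-- A maximal subgroup is the normaliser of each of its nontrivial normal subgroups. -/
theorem normalizer_eq_coatom {M X : Subgroup G} (hM : IsCoatom M) (hXM : X ≤ M) (hX : X ≠ ⊥)
    (hn : M ≤ Subgroup.normalizer (X : Set G)) : Subgroup.normalizer (X : Set G) = M := by
  have hXtop : X ≠ ⊤ := fun h => hM.1 (top_le_iff.1 (h ▸ hXM))
  by_contra hne
  exact normalizer_ne_top hG hX hXtop (hM.2 _ (lt_of_le_of_ne hn (fun h => hne h.symm)))

theorem coatom_self_normalizing {M : Subgroup G} (hM : IsCoatom M) :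
    Subgroup.normalizer (M : Set G) = M :=
  normalizer_eq_coatom hG hM le_rfl (coatom_ne_bot hG hM) Subgroup.le_normalizer

theorem coatom_derived_lt {M : Subgroup G} (hM : IsCoatom M) : ⁅M, M⁆ < M := by
  refine lt_of_le_of_ne (Subgroup.commutator_le_self M) fun h => ?_
  haveI := coatom_isSolvable hG hM
  haveI : Nontrivial M := (Subgroup.nontrivial_iff_ne_bot M).2 (coatom_ne_bot hG hM)
  have h2 := IsSolvable.commutator_lt_top_of_nontrivial (G := M)
  refine h2.ne ?_
  have := Subgroup.map_subtype_commutator M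
  rw [h] at this
  exact Subgroup.map_injective M.subtype_injective
    (this.trans (by rw [← MonoidHom.range_eq_map, Subgroup.range_subtype]))

end MinSimple

section Sigma

variable [Finite G]

theorem sigma_prime {M : Subgroup G} {p : ℕ} (h : p ∈ sigma M) : p.Prime := h.1

theorem sigma_dvd_card {M : Subgroup G} {p : ℕ} (h : p ∈ sigma M) : p ∣ Nat.card M := h.2.1

/-- If the normaliser in `G` of a Sylow `p`-subgroup of `M` lies in `M`, that subgroup is a
Sylow `p`-subgroup of `G`. -/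
theorem exists_sylow_of_normalizer_le {M : Subgroup G} {p : ℕ} (hp : p.Prime) (P : Sylow p M)
    (h : Subgroup.normalizer (((P : Subgroup M).map M.subtype : Subgroup G) : Set G) ≤ M) :
    ∃ Q : Sylow p G, (Q : Subgroup G) = (P : Subgroup M).map M.subtype := by
  haveI : Fact p.Prime := ⟨hp⟩
  set P₀ : Subgroup G := (P : Subgroup M).map M.subtype with hP₀
  obtain ⟨Q, hQ⟩ := (P.isPGroup'.map M.subtype).exists_le_sylow
  refine ⟨Q, ?_⟩
  by_contra hne
  have hlt : P₀ < (Q : Subgroup G) := lt_of_le_of_ne hQ (fun h => hne h.symm)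
  haveI : Group.IsNilpotent Q := Q.isPGroup'.isNilpotent
  have hlt' : P₀.subgroupOf (Q : Subgroup G) < ⊤ := by
    rw [lt_top_iff_ne_top, Ne, Subgroup.subgroupOf_eq_top]
    exact not_le_of_gt hlt
  have hnc := normalizerCondition_of_isNilpotent (G := Q) _ hlt'
  obtain ⟨y, hy, hyn⟩ := SetLike.exists_of_lt hnc
  have hyN : (y : G) ∈ Subgroup.normalizer (P₀ : Set G) := by
    rw [Subgroup.mem_normalizer_iff]
    intro z
    constructor
    · intro hz
      have := (Subgroup.mem_normalizer_iff.1 hy ⟨z, hQ hz⟩).1 (by simpa [Subgroup.mem_subgroupOf] using hz)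
      simpa [Subgroup.mem_subgroupOf] using this
    · intro hz
      have hzQ : z ∈ (Q : Subgroup G) := by
        have h1 : (y : G) * z * (y : G)⁻¹ ∈ (Q : Subgroup G) := hQ hz
        have := (Q : Subgroup G).mul_mem ((Q : Subgroup G).mul_mem
          ((Q : Subgroup G).inv_mem y.2) h1) y.2
        simpa [mul_assoc] using this
      have := (Subgroup.mem_normalizer_iff.1 hy ⟨z, hzQ⟩).2 (by simpa [Subgroup.mem_subgroupOf] using hz)
      simpa [Subgroup.mem_subgroupOf] using this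
  have hyM : (y : G) ∈ M := h hyN
  apply hyn
  rw [Subgroup.mem_subgroupOf]
  -- `P₀` is a maximal `p`-subgroup inside `M`
  have hPQ : (P : Subgroup M) = ((Q : Subgroup G).subgroupOf M) := by
    refine (P.is_maximal' Q.isPGroup'.comap_subtype ?_).symm
    intro z hz
    exact hQ ⟨z, hz, rfl⟩
  exact ⟨⟨(y : G), hyM⟩, by rw [hPQ]; exact y.2, rfl⟩

theorem exists_sylow_of_mem_sigma {M : Subgroup G} {p : ℕ} (h : p ∈ sigma M) :
    ∃ Q : Sylow p G, Subgroup.normalizer ((Q : Subgroup G) : Set G) ≤ M := by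
  obtain ⟨hp, -, P, hP⟩ := h
  obtain ⟨Q, hQ⟩ := exists_sylow_of_normalizer_le hp P hP
  exact ⟨Q, by rw [hQ]; exact hP⟩

theorem not_dvd_index_of_mem_sigma {M : Subgroup G} {p : ℕ} (h : p ∈ sigma M) :
    ¬ p ∣ M.index := by
  haveI : Fact p.Prime := ⟨h.1⟩
  obtain ⟨Q, hQ⟩ := exists_sylow_of_mem_sigma h
  intro hd
  exact Q.not_dvd_index (hd.trans (Subgroup.index_dvd_of_le (Subgroup.le_normalizer.trans hQ)))

theorem mem_sigma_of_sylow {M : Subgroup G} {p : ℕ} (hp : p.Prime) (hd : p ∣ Nat.card G)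
    (Q : Sylow p G) (hQ : Subgroup.normalizer ((Q : Subgroup G) : Set G) ≤ M) : p ∈ sigma M := by
  haveI : Fact p.Prime := ⟨hp⟩
  have hQM : (Q : Subgroup G) ≤ M := Subgroup.le_normalizer.trans hQ
  refine ⟨hp, (Q.dvd_card_of_dvd_card hd).trans (Subgroup.card_dvd_of_le hQM), Q.subtype hQM, ?_⟩
  rw [Sylow.coe_subtype, Subgroup.map_subgroupOf_eq_of_le hQM]
  exact hQ

theorem exists_coatom_sigma (hG : IsMinSimpleOddOrder G) {p : ℕ} (hp : p.Prime)
    (hd : p ∣ Nat.card G) : ∃ M : Subgroup G, IsCoatom M ∧ p ∈ sigma M := by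
  haveI : Fact p.Prime := ⟨hp⟩
  let Q : Sylow p G := default
  have h1 : (Q : Subgroup G) ≠ ⊥ := Q.ne_bot_of_dvd_card hd
  have h2 : (Q : Subgroup G) ≠ ⊤ := by
    intro h
    refine not_isSolvable hG ?_
    have : IsPGroup p G := Q.isPGroup'.of_equiv ((MulEquiv.subgroupCongr h).trans Subgroup.topEquiv)
    haveI := this.isNilpotent
    infer_instance
  obtain ⟨M, hM, hle⟩ := exists_coatom_ge hG (normalizer_ne_top hG h1 h2)
  exact ⟨M, hM, mem_sigma_of_sylow hp hd Q hle⟩

/-- Two maximal subgroups sharing a `σ`-prime become, after conjugation, two maximal subgroups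
over the normaliser of one Sylow subgroup. -/
theorem exists_conj_normalizer_le {M N : Subgroup G} {p : ℕ} (hM : p ∈ sigma M)
    (hN : p ∈ sigma N) : ∃ (Q : Sylow p G) (g : G),
      Subgroup.normalizer ((Q : Subgroup G) : Set G) ≤ M ∧
      Subgroup.normalizer ((Q : Subgroup G) : Set G) ≤ N.map (MulAut.conj g).toMonoidHom := by
  haveI : Fact p.Prime := ⟨hM.1⟩
  obtain ⟨Q, hQ⟩ := exists_sylow_of_mem_sigma hM
  obtain ⟨R, hR⟩ := exists_sylow_of_mem_sigma hN
  obtain ⟨g, hg⟩ := MulAction.exists_smul_eq G R Q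
  refine ⟨Q, g, hQ, fun x hx => ?_⟩
  have hQR : ∀ z, z ∈ (Q : Subgroup G) ↔ g⁻¹ * z * g ∈ (R : Subgroup G) := by
    intro z
    rw [← hg]
    rw [Sylow.coe_subgroup_smul, Subgroup.mem_pointwise_smul_iff_inv_smul_mem]
    simp
  rw [mem_map_conj]
  refine hR (Subgroup.mem_normalizer_iff.2 fun z => ?_)
  have h1 := Subgroup.mem_normalizer_iff.1 hx (g * z * g⁻¹)
  have h2 := hQR (g * z * g⁻¹)
  have h3 := hQR (x * (g * z * g⁻¹) * x⁻¹)
  constructor
  · intro hz
    have := h3.1 (h1.1 (h2.2 (by simpa [mul_assoc] using hz)))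
    simpa [mul_assoc] using this
  · intro hz
    have := h2.1 (h1.2 (h3.2 (by simpa [mul_assoc] using hz)))
    simpa [mul_assoc] using this

end Sigma

end Cfsg.Agent.BGSigma
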