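import Cfsg.Agent.BGSigma.Fusion
import Cfsg.Agent.Lib.Fitting
import Mathlib.GroupTheory.Focal

/-!
BG 10.2: `M_α` and `M_σ` are Hall subgroups.
-/

set_option autoImplicit false

namespace Cfsg.Agent.BGSigma

open Cfsg
open scoped commutatorElement

universe u

/-- The derived subgroup of a solvable group of odd order whose Fitting subgroup has rank at
most two is nilpotent. -/
def FittingRankTwoDerived : Prop :=
  ∀ (H : Type u) [Group H] [Finite H], Group.IsSolvable H → Odd (Nat.card H) →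
    RankLE 2 (fittingSubgroup H) → Group.IsNilpotent ↥(commutator H)

variable {G : Type u} [Group G] [Finite G]

theorem commutator_eq_top (hG : IsMinSimpleOddOrder G) : commutator G = ⊤ := by
  refine (normal_eq_bot_or_top hG inferInstance).resolve_left fun h => hG.2.2.1 ⟨⟨fun a b => ?_⟩⟩
  exact commutatorElement_eq_one_iff_mul_comm.1 ((Subgroup.mem_bot).1 (h ▸
    Subgroup.commutator_mem_commutator (Subgroup.mem_top a) (Subgroup.mem_top b)))

/-- Sylow `p`-subgroups of `M` lie in `M'` for `p ∈ σ(M)`. -/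
theorem pgroup_le_derived (hG : IsMinSimpleOddOrder G) (hU : UniquenessTheorem G)
    (hR2 : SmallRankFrattini.{u}) {p : ℕ} [Fact p.Prime] {M X : Subgroup G} (hM : IsCoatom M)
    (hp : p ∈ sigma M) (hXp : IsPGroup p X) (hXM : X ≤ M) : X ≤ ⁅M, M⁆ := by
  obtain ⟨Q, hQ⟩ := exists_sylow_of_mem_sigma hp
  have hQM : (Q : Subgroup G) ≤ M := Subgroup.le_normalizer.trans hQ
  have hQd : (Q : Subgroup G) ≤ ⁅M, M⁆ := by
    have h := Subgroup.commutator_inf_eq_focalSubgroup Q
    rw [commutator_eq_top hG, top_inf_eq] at h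
    rw [h, Subgroup.focalSubgroup_def, Subgroup.closure_le]
    rintro g ⟨hg, x, hx, u, rfl⟩
    by_cases hx1 : x = 1
    · simp [hx1]
    have hy : u * x * u⁻¹ ∈ (Q : Subgroup G) := by
      have h1 := (Q : Subgroup G).inv_mem ((Q : Subgroup G).mul_mem ((Q : Subgroup G).inv_mem hx) hg)
      simpa [commutatorElement_def, mul_assoc] using h1
    have hxp : IsPGroup p (Subgroup.zpowers x) :=
      Q.isPGroup'.to_le (Subgroup.zpowers_le.2 hx)
    obtain ⟨m, hm, c, hc, rfl⟩ := sigma_fusion hG hU hR2 hM hp hxp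
      (by simpa [Subgroup.zpowers_eq_bot] using hx1) (Subgroup.zpowers_le.2 (hQM hx))
      (g := u) (by
        rw [MonoidHom.map_zpowers, Subgroup.zpowers_le]
        simpa using hQM hy)
    have hcx : c * x⁻¹ * c⁻¹ = x⁻¹ := by
      have := Subgroup.mem_centralizer_iff.1 hc x⁻¹ (Subgroup.inv_mem _ (Subgroup.mem_zpowers x))
      rw [← this]; group
    have : ⁅x, m * c⁆ = ⁅x, m⁆ := by
      rw [commutatorElement_def, commutatorElement_def, mul_inv_rev,
        show x * (m * c) * x⁻¹ * (c⁻¹ * m⁻¹) = x * m * (c * x⁻¹ * c⁻¹) * m⁻¹ by group, hcx]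
    rw [SetLike.mem_coe, this]
    exact Subgroup.commutator_mem_commutator (hQM hx) hm
  obtain ⟨R, hR⟩ := (hXp.comap_subtype (K := M)).exists_le_sylow
  obtain ⟨m, hm⟩ := MulAction.exists_smul_eq M (Q.subtype hQM) R
  intro x hx
  have h1 : (⟨x, hXM hx⟩ : M) ∈ (R : Subgroup M) := hR hx
  rw [← hm, Sylow.coe_subgroup_smul, Subgroup.mem_pointwise_smul_iff_inv_smul_mem] at h1
  have h2 : (m : G)⁻¹ * x * (m : G) ∈ ⁅M, M⁆ := by
    refine hQd ?_
    simpa [Sylow.coe_subtype, Subgroup.mem_subgroupOf, mul_assoc] using h1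
  have h3 : (m : G) ∈ Subgroup.normalizer ((⁅M, M⁆ : Subgroup G) : Set G) := by
    rw [Subgroup.mem_normalizer_iff_map_conj_eq, Subgroup.map_commutator]
    have h4 : M.map (MulAut.conj (m : G)).toMonoidHom = M :=
      map_conj_eq_self (Subgroup.le_normalizer m.2)
    exact congrArg₂ _ h4 h4
  have := (Subgroup.mem_normalizer_iff.1 h3 _).1 h2
  simpa [mul_assoc] using this

/-- A Sylow `p`-subgroup of `M` of rank at least three is Sylow in `G`, and `p ∈ σ(M)`. -/
theorem mem_sigma_of_mem_alpha (hG : IsMinSimpleOddOrder G) (hU : UniquenessTheorem G)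
    {p : ℕ} {M : Subgroup G} (hM : IsCoatom M) (hp : p ∈ alpha M) : p ∈ sigma M := by
  obtain ⟨hpp, hrk⟩ := hp
  haveI : Fact p.Prime := ⟨hpp⟩
  let P : Sylow p M := default
  have hPr : ¬ PRankLE p 2 (P : Subgroup M) := fun h => hrk ((prankLE_iff_sylow P).2 h)
  have hdvd : p ∣ Nat.card M := by
    by_contra hd
    exact hrk fun A _ hpow => by
      obtain ⟨j, hj⟩ := (isPGroup_of_pow_eq_one hpp hpow).exists_card_eq
      rcases j with _ | j
      · rw [hj]; exact Nat.pow_le_pow_right hpp.pos (by omega)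
      · exact absurd ((Dvd.intro_left _ (pow_succ p j).symm).trans (hj ▸ A.card_subgroup_dvd_card)) hd
  refine ⟨hpp, hdvd, P, ?_⟩
  have hPr' : ¬ PRankLE p 2 ((P : Subgroup M).map M.subtype) := fun h =>
    hPr ((prankLE_map_subtype _).1 h)
  set P₀ : Subgroup G := (P : Subgroup M).map M.subtype with hP₀
  have hne : P₀ ≠ ⊥ := by
    rw [hP₀, Ne, Subgroup.map_eq_bot_iff_of_injective _ M.subtype_injective]
    exact P.ne_bot_of_dvd_card hdvd
  obtain ⟨L, hL, hNL⟩ := exists_coatom_ge hG (normalizer_ne_top hG hne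
    (fun h => hM.1 (top_le_iff.1 (h ▸ Subgroup.map_subtype_le _))))
  have := uniq_of_pgroup hU hpp hPr' hM hL (Subgroup.map_subtype_le _)
    (Subgroup.le_normalizer.trans hNL)
  rwa [this]

theorem alphaCore_le_sigmaCore (hG : IsMinSimpleOddOrder G) (hU : UniquenessTheorem G)
    {M : Subgroup G} (hM : IsCoatom M) : alphaCore M ≤ sigmaCore M :=
  Subgroup.map_mono (sSup_le fun _N hN =>
    le_piCore hN.1 fun p hp hd => mem_sigma_of_mem_alpha hG hU hM (hN.2 p hp hd))

theorem prankLE_of_not_dvd {H : Type*} [Group H] [Finite H] {p k : ℕ} (hp : p.Prime)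
    (hd : ¬ p ∣ Nat.card H) : PRankLE p k H := by
  haveI : Fact p.Prime := ⟨hp⟩
  intro A _ hpow
  obtain ⟨j, hj⟩ := (isPGroup_of_pow_eq_one hp hpow).exists_card_eq
  rcases j with _ | j
  · rw [hj]; exact Nat.pow_le_pow_right hp.pos (by omega)
  · exact absurd ((Dvd.intro_left _ (pow_succ p j).symm).trans (hj ▸ A.card_subgroup_dvd_card)) hd

theorem map_subtype_top (M : Subgroup G) : (⊤ : Subgroup M).map M.subtype = M := by
  rw [← MonoidHom.range_eq_map, Subgroup.range_subtype]

/-- `M'/M_α` is nilpotent and `M/M_α` has rank at most two. -/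
theorem quotient_alpha_structure (hG : IsMinSimpleOddOrder G) (hU : UniquenessTheorem G)
    (hR2 : SmallRankFrattini.{u}) (hF : FittingRankTwoDerived.{u}) {M : Subgroup G}
    (hM : IsCoatom M) :
    IsPiHall (alpha M) (piCore (alpha M) M) ∧ RankLE 2 (M ⧸ piCore (alpha M) M) ∧
      Group.IsNilpotent ↥((commutator M).map (QuotientGroup.mk' (piCore (alpha M) M))) := by
  set N := piCore (alpha M) M with hN
  have hsolv := coatom_isSolvable hG hM
  have hrankq : ∀ p : ℕ, p.Prime → p ∉ alpha M → PRankLE p 2 (M ⧸ N) := by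
    intro p hp hpa
    haveI : Fact p.Prime := ⟨hp⟩
    refine prankLE_quotient N (fun hd => hpa (isPiSub_piCore p hp hd)) ?_
    by_contra h
    exact hpa ⟨hp, h⟩
  -- the Fitting subgroup of the quotient involves no prime of `α(M)`
  have hOq : ∀ p : ℕ, p.Prime → p ∈ alpha M → ¬ p ∣ Nat.card (fittingSubgroup (M ⧸ N)) := by
    intro p hp hpa hd
    haveI : Fact p.Prime := ⟨hp⟩
    haveI : Group.IsNilpotent (fittingSubgroup (M ⧸ N)) := Fitting.fitting_isNilpotent
    let S : Sylow p (fittingSubgroup (M ⧸ N)) := default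
    haveI : (fittingSubgroup (M ⧸ N)).Normal := Fitting.fitting_normal
    haveI hSn : (S : Subgroup (fittingSubgroup (M ⧸ N))).Normal :=
      S.normal_of_normalizerCondition normalizerCondition_of_isNilpotent
    haveI := S.characteristic_of_normal hSn
    set S₀ := (S : Subgroup (fittingSubgroup (M ⧸ N))).map (fittingSubgroup (M ⧸ N)).subtype
    have hS₀n : S₀.Normal := Thompson.map_subtype_normal_of_characteristic _ _
    have hpre : IsPiSub (alpha M) (S₀.comap (QuotientGroup.mk' N)) := by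
      intro q hq hqd
      rw [Thompson.card_comap_quotient] at hqd
      rcases (hq.dvd_mul.1 hqd).symm with h | h
      · exact isPiSub_piCore q hq h
      · obtain ⟨j, hj⟩ := (S.isPGroup'.map (fittingSubgroup (M ⧸ N)).subtype).exists_card_eq
        rw [show Nat.card S₀ = p ^ j from hj] at h
        rwa [(Nat.prime_dvd_prime_iff_eq hq hp).1 (hq.dvd_of_dvd_pow h)]
    have hle : S₀.comap (QuotientGroup.mk' N) ≤ N := le_piCore (hS₀n.comap _) hpre
    have : S₀ = ⊥ := by
      rw [← Subgroup.map_comap_eq_self_of_surjective (QuotientGroup.mk'_surjective N) S₀,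
        Subgroup.map_eq_bot_iff, QuotientGroup.ker_mk']
      exact hle
    rw [Subgroup.map_eq_bot_iff_of_injective _ (Subgroup.subtype_injective _)] at this
    exact S.ne_bot_of_dvd_card hd this
  have hFr : RankLE 2 (fittingSubgroup (M ⧸ N)) := by
    intro p hp
    by_cases hpa : p ∈ alpha M
    · exact prankLE_of_not_dvd hp (hOq p hp hpa)
    · exact prankLE_subgroup_self _ (hrankq p hp hpa)
  haveI : Group.IsSolvable M := hsolv
  have hodd : Odd (Nat.card (M ⧸ N)) :=
    Odd.of_dvd_nat (odd_card_subgroup hG M) (Subgroup.card_quotient_dvd_card N)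
  have hnil := hF (M ⧸ N) inferInstance hodd hFr
  have hHall : IsPiHall (alpha M) N := by
    refine ⟨isPiSub_piCore, fun p hp hpa hd => ?_⟩
    haveI : Fact p.Prime := ⟨hp⟩
    let P : Sylow p M := default
    have hPd : (P : Subgroup M) ≤ commutator M := by
      intro x hx
      have h1 := pgroup_le_derived hG hU hR2 hM (mem_sigma_of_mem_alpha hG hU hM hpa)
        (P.isPGroup'.map M.subtype) (Subgroup.map_subtype_le _) ⟨x, hx, rfl⟩
      rw [← Subgroup.map_subtype_commutator M] at h1
      obtain ⟨y, hy, hyx⟩ := h1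
      rwa [M.subtype_injective hyx] at hy
    have h2 : (P : Subgroup M).map (QuotientGroup.mk' N) ≤ fittingSubgroup (M ⧸ N) := by
      refine (Subgroup.map_mono hPd).trans ?_
      rw [commutator_def, Subgroup.map_commutator, Subgroup.map_top_of_surjective _
        (QuotientGroup.mk'_surjective N), ← commutator_def]
      exact Fitting.le_fitting inferInstance hnil
    have h3 : p ∣ Nat.card ((P : Subgroup M).map (QuotientGroup.mk' N)) :=
      (P.mapSurjective (QuotientGroup.mk'_surjective N)).dvd_card_of_dvd_card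
        (by rw [← Subgroup.index_eq_card]; exact hd)
    exact hOq p hp hpa (h3.trans (Subgroup.card_dvd_of_le h2))
  refine ⟨hHall, ?_, ?_⟩
  · intro p hp
    by_cases hpa : p ∈ alpha M
    · exact prankLE_of_not_dvd hp (by rw [← Subgroup.index_eq_card]; exact hHall.2 p hp hpa)
    · exact hrankq p hp hpa
  · rw [commutator_def, Subgroup.map_commutator, Subgroup.map_top_of_surjective _
      (QuotientGroup.mk'_surjective N), ← commutator_def]
    exact hnil

/-- `M_α` is a Hall subgroup of `M` and of `G`. -/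
theorem alphaCore_hall (hG : IsMinSimpleOddOrder G) (hU : UniquenessTheorem G)
    (hR2 : SmallRankFrattini.{u}) (hF : FittingRankTwoDerived.{u}) {M : Subgroup G}
    (hM : IsCoatom M) :
    IsPiHallOf (alpha M) (alphaCore M) M ∧ IsPiHall (alpha M) (alphaCore M) := by
  obtain ⟨h, -, -⟩ := quotient_alpha_structure hG hU hR2 hF hM
  have hle : alphaCore M ≤ M := Subgroup.map_subtype_le _
  have hrel : (alphaCore M).relIndex M = (piCore (alpha M) M).index := by
    rw [Subgroup.relIndex, show (alphaCore M).subgroupOf M = piCore (alpha M) M from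
      subgroupOf_piCoreOf M]
  refine ⟨⟨hle, isPiSub_piCoreOf M, fun p hp hpa => hrel ▸ h.2 p hp hpa⟩,
    isPiSub_piCoreOf M, fun p hp hpa hd => ?_⟩
  rw [← Subgroup.relIndex_mul_index hle] at hd
  rcases hp.dvd_mul.1 hd with h' | h'
  · exact h.2 p hp hpa (hrel ▸ h')
  · exact not_dvd_index_of_mem_sigma (mem_sigma_of_mem_alpha hG hU hM hpa) h'

/-- `M_σ` is a Hall subgroup of `M` and of `G`, inside `M'`. -/
theorem sigmaCore_hall (hG : IsMinSimpleOddOrder G) (hU : UniquenessTheorem G)
    (hR2 : SmallRankFrattini.{u}) (hF : FittingRankTwoDerived.{u}) {M : Subgroup G}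
    (hM : IsCoatom M) :
    IsPiHallOf (sigma M) (sigmaCore M) M ∧ IsPiHall (sigma M) (sigmaCore M) ∧
      sigmaCore M ≤ ⁅M, M⁆ := by
  obtain ⟨hHa, -, hnil⟩ := quotient_alpha_structure hG hU hR2 hF hM
  set A := piCore (alpha M) M with hA
  set D := (commutator M).map (QuotientGroup.mk' A) with hD
  haveI : D.Normal := (inferInstance : (commutator M).Normal).map _ (QuotientGroup.mk'_surjective A)
  haveI := hnil
  haveI : (piCore (sigma M) D).Characteristic := piCore_characteristic
  set S₀ := (piCore (sigma M) D).map D.subtype with hS₀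
  haveI hS₀n : S₀.Normal := Thompson.map_subtype_normal_of_characteristic _ _
  have hpre : S₀.comap (QuotientGroup.mk' A) ≤ piCore (sigma M) M := by
    refine le_piCore (hS₀n.comap _) fun q hq hqd => ?_
    rw [Thompson.card_comap_quotient] at hqd
    rcases (hq.dvd_mul.1 hqd).symm with h | h
    · exact mem_sigma_of_mem_alpha hG hU hM (isPiSub_piCore q hq h)
    · exact (isPiSub_piCore (G := D)).map D.subtype q hq h
  have hHallM : ∀ p : ℕ, p.Prime → p ∈ sigma M → ¬ p ∣ (piCore (sigma M) M).index := by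
    intro p hp hps
    haveI : Fact p.Prime := ⟨hp⟩
    let P : Sylow p M := default
    suffices h : (P : Subgroup M) ≤ piCore (sigma M) M from
      fun hd => P.not_dvd_index (hd.trans (Subgroup.index_dvd_of_le h))
    have hPd : (P : Subgroup M) ≤ commutator M := by
      intro x hx
      have h1 := pgroup_le_derived hG hU hR2 hM hps
        (P.isPGroup'.map M.subtype) (Subgroup.map_subtype_le _) ⟨x, hx, rfl⟩
      rw [← Subgroup.map_subtype_commutator M] at h1
      obtain ⟨y, hy, hyx⟩ := h1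
      rwa [M.subtype_injective hyx] at hy
    intro x hx
    refine hpre ?_
    rw [Subgroup.mem_comap]
    have hxD : QuotientGroup.mk' A x ∈ D := ⟨x, hPd hx, rfl⟩
    refine ⟨⟨_, hxD⟩, ?_, rfl⟩
    have hPD : IsPGroup p (((P : Subgroup M).map (QuotientGroup.mk' A)).subgroupOf D) :=
      (P.isPGroup'.map _).comap_subtype
    obtain ⟨T, hT⟩ := hPD.exists_le_sylow
    refine le_piCore (T.normal_of_normalizerCondition normalizerCondition_of_isNilpotent) (fun q hq hqd => ?_)
      (hT (show (⟨_, hxD⟩ : D) ∈ _ from ⟨x, hx, rfl⟩))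
    obtain ⟨j, hj⟩ := T.isPGroup'.exists_card_eq
    rw [hj] at hqd
    rwa [(Nat.prime_dvd_prime_iff_eq hq hp).1 (hq.dvd_of_dvd_pow hqd)]
  have hrel : (sigmaCore M).relIndex M = (piCore (sigma M) M).index := by
    rw [Subgroup.relIndex, show (sigmaCore M).subgroupOf M = piCore (sigma M) M from
      subgroupOf_piCoreOf M]
  refine ⟨⟨sigmaCore_le M, isPiSub_sigmaCore M, fun p hp hps => hrel ▸ hHallM p hp hps⟩,
    ⟨isPiSub_sigmaCore M, fun p hp hps hd => ?_⟩, ?_⟩
  · rw [← Subgroup.relIndex_mul_index (sigmaCore_le M)] at hd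
    rcases hp.dvd_mul.1 hd with h' | h'
    · exact hHallM p hp hps (hrel ▸ h')
    · exact not_dvd_index_of_mem_sigma hps h'
  · intro x hx
    have hd : ∀ q : ℕ, q.Prime → ¬ q ∣ (⁅M, M⁆ ⊓ sigmaCore M).relIndex (sigmaCore M) := by
      intro q hq hqd
      haveI : Fact q.Prime := ⟨hq⟩
      let S : Sylow q (sigmaCore M) := default
      have hqs : q ∈ sigma M := isPiSub_sigmaCore M q hq (hqd.trans (Subgroup.relIndex_dvd_card _ _))
      refine S.not_dvd_index (hqd.trans (Subgroup.index_dvd_of_le ?_))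
      intro y hy
      exact ⟨pgroup_le_derived hG hU hR2 hM hqs (S.isPGroup'.map _)
        ((Subgroup.map_subtype_le _).trans (sigmaCore_le M)) ⟨y, hy, rfl⟩, y.2⟩
    have : (⁅M, M⁆ ⊓ sigmaCore M).relIndex (sigmaCore M) = 1 :=
      Nat.eq_one_iff_not_exists_prime_dvd.2 hd
    exact ((Subgroup.relIndex_eq_one.1 this) hx).1

end Cfsg.Agent.BGSigma

namespace Cfsg.Agent.BGSigma

universe u

/-- A solvable group of odd order and rank at most two has a normal Sylow subgroup for the
largest prime divisor of its order. -/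
def RankTwoLargestPrime : Prop :=
  ∀ (H : Type u) [Group H] [Finite H] (p : ℕ) [Fact p.Prime], Group.IsSolvable H →
    Odd (Nat.card H) → Cfsg.RankLE 2 H → p ∣ Nat.card H →
    (∀ q : ℕ, q.Prime → q ∣ Nat.card H → q ≤ p) → ∀ S : Sylow p H, (S : Subgroup H).Normal

variable {G : Type u} [Group G] [Finite G]

/-- `σ(M)` is nonempty. -/
theorem sigma_nonempty (hG : Cfsg.IsMinSimpleOddOrder G) (hU : UniquenessTheorem G)
    (hL : RankTwoLargestPrime.{u}) {M : Subgroup G} (hM : IsCoatom M) :
    (Cfsg.sigma M).Nonempty := by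
  by_cases hr : Cfsg.RankLE 2 M
  · have hne : Nat.card M ≠ 1 := fun h => coatom_ne_bot hG hM (Subgroup.eq_bot_of_card_eq _ h)
    obtain ⟨p, hp⟩ : ∃ p, p ∈ (Nat.card M).primeFactors ∧
        ∀ q ∈ (Nat.card M).primeFactors, q ≤ p := by
      have hn : (Nat.card M).primeFactors.Nonempty :=
        ⟨_, Nat.mem_primeFactors.2 ⟨Nat.minFac_prime hne, Nat.minFac_dvd _, Nat.card_pos.ne'⟩⟩
      exact ⟨_, Finset.max'_mem _ hn, fun q hq => Finset.le_max' _ q hq⟩
    obtain ⟨hpp, hpd, -⟩ := Nat.mem_primeFactors.1 hp.1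
    haveI : Fact p.Prime := ⟨hpp⟩
    let P : Sylow p M := default
    have hPn := hL M p (coatom_isSolvable hG hM) (odd_card_subgroup hG M) hr hpd
      (fun q hq hqd => hp.2 q (Nat.mem_primeFactors.2 ⟨hq, hqd, Nat.card_pos.ne'⟩)) P
    refine ⟨p, hpp, hpd, P, le_of_eq ?_⟩
    refine normalizer_eq_coatom hG hM (Subgroup.map_subtype_le _) ?_ ?_
    · rw [Ne, Subgroup.map_eq_bot_iff_of_injective _ M.subtype_injective]
      exact P.ne_bot_of_dvd_card hpd
    · have h := Subgroup.le_normalizer_map (H := (P : Subgroup M)) M.subtype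
      rwa [Subgroup.normalizer_eq_top_iff.2 hPn, map_subtype_top] at h
  · simp only [Cfsg.RankLE, not_forall] at hr
    obtain ⟨p, hp, hpr⟩ := hr
    exact ⟨p, mem_sigma_of_mem_alpha hG hU hM ⟨hp, hpr⟩⟩

/-- `M_σ` is nontrivial. -/
theorem sigmaCore_ne_bot (hG : Cfsg.IsMinSimpleOddOrder G) (hU : UniquenessTheorem G)
    (hR2 : SmallRankFrattini.{u}) (hF : FittingRankTwoDerived.{u}) (hL : RankTwoLargestPrime.{u})
    {M : Subgroup G} (hM : IsCoatom M) : Cfsg.sigmaCore M ≠ ⊥ := by
  intro h
  obtain ⟨p, hp⟩ := sigma_nonempty hG hU hL hM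
  have h1 := (sigmaCore_hall hG hU hR2 hF hM).1.2.2 p hp.1 hp
  rw [h, Subgroup.relIndex_bot_left] at h1
  exact h1 hp.2.1

end Cfsg.Agent.BGSigma
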