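import Cfsg.Agent.BGSigma.TauOneCentral
import Cfsg.Agent.BGTwelve.CentUniq
import Mathlib.GroupTheory.SpecificGroups.ZGroup

/-!
Lemmas for BG 13.9: the sets `σ(M)` belong to one conjugacy class of maximal subgroups.
-/

set_option autoImplicit false

namespace Cfsg.Agent.BGSigma

open Cfsg Subgroup
open scoped commutatorElement Pointwise

universe u

variable {G : Type u} [Group G] [Finite G]

/-- A subgroup with index prime to `r` holds a Sylow `r`-subgroup. -/
theorem exists_sylow_le {K M : Subgroup G} {r : ℕ} [hr : Fact r.Prime] (hKM : K ≤ M)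
    (hd : ¬ r ∣ K.relIndex M) :
    ∃ T : Sylow r M, (T : Subgroup M).map M.subtype ≤ K := by
  let Q : Sylow r K := default
  have hidx : ¬ r ∣ (((Q : Subgroup K).map K.subtype).subgroupOf M).index := by
    show ¬ r ∣ ((Q : Subgroup K).map K.subtype).relIndex M
    rw [← relIndex_mul_relIndex _ K M (map_subtype_le _) hKM]
    intro h
    rcases hr.out.dvd_mul.1 h with h' | h'
    · refine Q.not_dvd_index ?_
      rwa [Subgroup.relIndex, Subgroup.subgroupOf,
        comap_map_eq_self_of_injective K.subtype_injective] at h'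
    · exact hd h'
  refine ⟨(Q.isPGroup'.map K.subtype).comap_subtype.toSylow hidx, ?_⟩
  show (((Q : Subgroup K).map K.subtype).subgroupOf M).map M.subtype ≤ K
  rw [map_subgroupOf_eq_of_le ((map_subtype_le _).trans hKM)]
  exact map_subtype_le _

/-- In a nilpotent group subgroups of distinct prime powers commute. -/
theorem le_centralizer_of_nilpotent {H A B : Subgroup G} (hH : Group.IsNilpotent H) {p q : ℕ}
    [Fact p.Prime] [Fact q.Prime] (hpq : p ≠ q) (hA : IsPGroup p A) (hB : IsPGroup q B)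
    (hAH : A ≤ H) (hBH : B ≤ H) : A ≤ centralizer (B : Set G) := by
  obtain ⟨S, hS⟩ := (hA.comap_subtype (K := H)).exists_le_sylow
  obtain ⟨T, hT⟩ := (hB.comap_subtype (K := H)).exists_le_sylow
  haveI := Transfer.nilpotent_sylow_normal hH S
  haveI := Transfer.nilpotent_sylow_normal hH T
  intro a ha
  refine mem_centralizer_iff.2 fun b hb => ?_
  have := commute_of_normal_of_disjoint (S : Subgroup H) (T : Subgroup H) inferInstance inferInstance
    (S.isPGroup'.disjoint_of_ne p q hpq _ _ T.isPGroup') ⟨a, hAH ha⟩ ⟨b, hBH hb⟩ (hS ha) (hT hb)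
  exact (congrArg Subtype.val this).symm

theorem exists_prime_line {Y : Subgroup G} (hY : Y ≠ ⊥) :
    ∃ s : ℕ, s.Prime ∧ ∃ t ∈ Y, orderOf t = s := by
  obtain ⟨s, hs, hd⟩ := Nat.exists_prime_and_dvd (fun h1 => hY (eq_bot_of_card_eq _ h1))
  haveI := Fact.mk hs
  obtain ⟨t, ht⟩ := exists_prime_orderOf_dvd_card' s hd
  exact ⟨s, hs, t, t.2, by rw [Subgroup.orderOf_coe, ht]⟩

variable (hG : IsMinSimpleOddOrder G) (h : LocalInputs G)
include hG

omit [Finite G] in
theorem isSolvable_of_le_coatom {M X : Subgroup G} (hM : IsCoatom M) (hX : X ≤ M) :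
    Group.IsSolvable X := Coprime.solvable_of_le hX (coatom_isSolvable hG hM)

/-- A `τ₁(M)`-subgroup of `M` is cyclic. -/
theorem isCyclic_of_tau1 {M F : Subgroup G} (hFM : F ≤ M)
    (hF : ∀ q : ℕ, q.Prime → q ∣ Nat.card F → q ∈ tau1 M) : IsCyclic F := by
  have hbot : F ⊓ ⁅M, M⁆ = ⊥ := eq_bot_of_card_eq _ (Nat.eq_one_iff_not_exists_prime_dvd.2
    fun q hq hd => (hF q hq (hd.trans (card_dvd_of_le inf_le_left))).2.2.2.1
      (hd.trans (card_dvd_of_le inf_le_right)))
  haveI : IsMulCommutative F := ⟨⟨fun a b => Subtype.ext (commutatorElement_eq_one_iff_mul_comm.1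
    (Subgroup.mem_bot.1 (hbot ▸ mem_inf.2 ⟨commutator_le_self F (commutator_mem_commutator a.2 b.2),
      commutator_mem_commutator (hFM a.2) (hFM b.2)⟩)))⟩⟩
  have hnil : Group.IsNilpotent F := by open scoped IsMulCommutative in infer_instance
  refine BGTwelve.isCyclic_of_nilpotent_rankLE_one hnil (odd_card_subgroup hG F) fun q hq => ?_
  by_cases hd : q ∣ Nat.card F
  · exact prankLE_subgroup hFM (hF q hq hd).2.2.2.2
  · exact prankLE_of_not_dvd hq hd

/-- A group whose `p`-subgroups are cyclic for all `p` has a normal subgroup of prime order,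
the only one of its order. -/
theorem exists_normal_prime {H : Subgroup G} (hH1 : H ≠ ⊥) (hr : RankLE 1 H) :
    ∃ D : Subgroup G, D ≤ H ∧ (Nat.card D).Prime ∧ H ≤ normalizer (D : Set G) ∧
      ∀ D' : Subgroup G, D' ≤ H → Nat.card D' = Nat.card D → D' = D := by
  haveI hZ := isZGroup_of_rankLE_one (odd_card_subgroup hG H) hr
  obtain ⟨A, hAH, hA1, hAc, hHA⟩ : ∃ A : Subgroup G, A ≤ H ∧ A ≠ ⊥ ∧ IsCyclic A ∧
      H ≤ normalizer (A : Set G) := by
    by_cases hab : commutator H = ⊥
    · haveI : IsMulCommutative H := ⟨⟨fun a b => by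
        have : ⁅a, b⁆ ∈ commutator H :=
          commutator_mem_commutator (Subgroup.mem_top a) (Subgroup.mem_top b)
        rw [hab, Subgroup.mem_bot] at this
        exact commutatorElement_eq_one_iff_mul_comm.1 this⟩⟩
      have hnil : Group.IsNilpotent H := by open scoped IsMulCommutative in infer_instance
      exact ⟨H, le_rfl, hH1, BGTwelve.isCyclic_of_nilpotent_rankLE_one hnil
        (odd_card_subgroup hG H) hr, le_normalizer⟩
    · haveI := IsZGroup.isCyclic_commutator (G := H)
      refine ⟨(commutator H).map H.subtype, map_subtype_le _,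
        fun h0 => hab ((map_eq_bot_iff_of_injective _ H.subtype_injective).1 h0),
        ((commutator H).equivMapOfInjective H.subtype H.subtype_injective).isCyclic.1 inferInstance,
        ?_⟩
      exact le_normalizer.trans (Coprime.normalizer_le_normalizer_map H _)
  obtain ⟨l, hl, t, ht, hto⟩ := exists_prime_line hA1
  haveI := Fact.mk hl
  haveI := hAc
  set D := zpowers t with hD
  have hDA : D ≤ A := zpowers_le.2 ht
  have hDc : Nat.card D = l := by rw [hD, Nat.card_zpowers, hto]
  have hHD : H ≤ normalizer (D : Set G) := fun x hx => by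
    rw [mem_normalizer_iff_map_conj_eq]
    exact eq_of_le_cyclic ((map_mono hDA).trans (map_conj_eq_self (hHA hx)).le) hDA
      (card_map_conj D x)
  refine ⟨D, hDA.trans hAH, hDc ▸ hl, hHD, fun D' hD' hc => ?_⟩
  rw [hDc] at hc
  haveI : IsCyclic ↥(D ⊔ D') := isCyclic_of_prankLE_one hG (hr l hl)
    (IsPGroup.to_sup_of_normal_left' (isPGroup_of_prime_card hDc) (isPGroup_of_prime_card hc)
      (hD'.trans hHD)) (sup_le (hDA.trans hAH) hD')
  exact eq_of_le_cyclic le_sup_right le_sup_left (hc.trans hDc.symm)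

include h

/-- BG 12.14 for the normaliser: lines of `β(M)` have their normaliser in `M`. -/
theorem normalizer_le_of_beta {M W : Subgroup G} (hM : IsCoatom M) {s : ℕ} [hs : Fact s.Prime]
    (hsb : s ∈ beta M) (hWM : W ≤ M) (hWc : Nat.card W = s) : normalizer (W : Set G) ≤ M := by
  have hsM := mem_sigma_of_mem_alpha hG h.uniq hM hsb.1
  rw [(fusion_stmt hG h.uniq M hM s hsM W (isPGroup_of_prime_card hWc)
    (ne_bot_of_prime_card hs.out hWc) hWM).2]
  exact sup_le inf_le_left
    (BGTwelve.cent_uniq_stmt hG h hM hsM hWM hWc default (Or.inl hsb)).1.1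

omit h in
/-- Frattini: `M = M_σ N_M(S)` for a Sylow subgroup `S ≤ M_σ`. -/
theorem exists_mul_normalizer {M : Subgroup G} (hM : IsCoatom M) {q : ℕ} [hq : Fact q.Prime]
    (hqM : q ∈ sigma M) (S : Sylow q G) (hSM : (S : Subgroup G) ≤ M) {m : G} (hm : m ∈ M) :
    ∃ a ∈ sigmaCore M, a⁻¹ * m ∈ normalizer ((S : Subgroup G) : Set G) := by
  have hSσ : (S : Subgroup G) ≤ sigmaCore M := le_sigmaCore_of_pgroup hG hM hqM S.isPGroup' hSM
  have hmSσ : ((m • S : Sylow q G) : Subgroup G) ≤ sigmaCore M := by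
    refine le_sigmaCore_of_pgroup hG hM hqM (m • S).isPGroup' ?_
    rw [Sylow.coe_subgroup_smul]
    exact map_conj_le_of_mem hm hSM
  obtain ⟨a, ha⟩ := MulAction.exists_smul_eq (sigmaCore M) (S.subtype hSσ) ((m • S).subtype hmSσ)
  rw [Sylow.smul_subtype] at ha
  have ha' := Sylow.subtype_injective ha
  refine ⟨a, a.2, ?_⟩
  refine Sylow.smul_eq_iff_mem_normalizer.1 ?_
  rw [mul_smul]
  exact inv_smul_eq_iff.2 ha'.symm

end Cfsg.Agent.BGSigma
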