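import Cfsg.Agent.BGSigma.Transitive
import Cfsg.Agent.Lib.Coprime.Hom
import Cfsg.Agent.Lib.Coprime.Hall
import Cfsg.Agent.Lib.PGroup.Basic
import Cfsg.Agent.Lib.Transfer.Hall
import Mathlib.GroupTheory.Subgroup.Centralizer

/-!
General lemmas for BG Section 11: maximal elementary abelian subgroups of order `p²`, fixed point
free actions on nilpotent groups, automizers of narrow groups.
-/

set_option autoImplicit false

namespace Cfsg.Agent.BGSigma

open Cfsg
open scoped commutatorElement

universe u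

theorem isNarrow_of_equiv {R S : Type u} [Group R] [Group S] {p : ℕ} (e : R ≃* S)
    (h : IsNarrow p R) : IsNarrow p S := by
  rcases h with h | ⟨R₀, R₁, h0, h1, hinf, hc, hs⟩
  · exact Or.inl ((prankLE_congr e.symm).2 h)
  refine Or.inr ⟨R₀.map e.toMonoidHom, R₁.map e.toMonoidHom, ?_, ?_, ?_, ?_, ?_⟩
  · rwa [Subgroup.card_map_of_injective e.injective]
  · exact (e.subgroupMap R₁).isCyclic.1 h1
  · rw [← Subgroup.map_inf _ _ _ e.injective, hinf, Subgroup.map_bot]
  · rintro _ ⟨a, ha, rfl⟩ _ ⟨b, hb, rfl⟩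
    simp only [MulEquiv.coe_toMonoidHom, ← map_mul, hc a ha b hb]
  · rw [← Subgroup.map_sup, hs]
    ext x
    simp only [Subgroup.mem_map, Subgroup.mem_centralizer_iff, MulEquiv.coe_toMonoidHom]
    constructor
    · rintro ⟨y, hy, rfl⟩ _ ⟨z, hz, rfl⟩
      simp only [MulEquiv.coe_toMonoidHom, ← map_mul, hy z hz]
    · intro hx
      refine ⟨e.symm x, fun z hz => e.injective ?_, e.apply_symm_apply x⟩
      simpa using hx (e z) ⟨z, hz, rfl⟩

variable {G : Type u} [Group G] [Finite G]

omit [Finite G] in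
theorem relIndex_mul_card {H K : Subgroup G} (h : H ≤ K) :
    H.relIndex K * Nat.card H = Nat.card K := by
  rw [← Nat.card_congr (Subgroup.subgroupOfEquivOfLe h).toEquiv, Subgroup.relIndex,
    Subgroup.index_mul_card]

/-- `A = {x | x^p = 1}` inside an abelian subgroup containing a maximal elementary abelian `A`. -/
theorem mem_iff_pow_eq_one {p : ℕ} {A S : Subgroup G} (hA : IsElementaryAbelian p A)
    (hmax : ∀ B : Subgroup G, IsElementaryAbelian p B → A ≤ B → B = A) (hAS : A ≤ S)
    (hS : S ≤ Subgroup.centralizer (A : Set G)) {x : G} (hx : x ∈ S) : x ^ p = 1 ↔ x ∈ A := by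
  refine ⟨fun hxp => ?_, fun hxA => hA.2 x hxA⟩
  rw [← hmax (A ⊔ Subgroup.zpowers x) (elemAbelian_sup hA (elemAbelian_zpowers hxp)
    (Subgroup.zpowers_le.2 (hS hx))) le_sup_left]
  exact Subgroup.mem_sup_right (Subgroup.mem_zpowers x)

omit [Finite G] in
theorem le_centralizer_self_of_comm {A : Subgroup G} (hA : IsMulCommutative A) :
    A ≤ Subgroup.centralizer (A : Set G) := fun a ha =>
  Subgroup.mem_centralizer_iff.2 fun b hb =>
    congrArg Subtype.val (hA.is_comm.comm (⟨b, hb⟩ : A) ⟨a, ha⟩)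

omit [Finite G] in
theorem isMulCommutative_of_le_centralizer {A : Subgroup G}
    (hA : A ≤ Subgroup.centralizer (A : Set G)) : IsMulCommutative A :=
  ⟨⟨fun a b => Subtype.ext ((Subgroup.mem_centralizer_iff.1 (hA b.2) a a.2))⟩⟩

omit [Finite G] in
theorem isMulCommutative_sup {A B : Subgroup G} (hA : IsMulCommutative A)
    (hB : IsMulCommutative B) (hBA : B ≤ Subgroup.centralizer (A : Set G)) :
    IsMulCommutative (A ⊔ B : Subgroup G) := by
  refine isMulCommutative_of_le_centralizer (sup_le ?_ ?_)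
  · rw [Subgroup.le_centralizer_iff]
    exact sup_le (le_centralizer_self_of_comm hA) hBA
  · rw [Subgroup.le_centralizer_iff]
    exact sup_le (Subgroup.le_centralizer_iff.1 hBA) (le_centralizer_self_of_comm hB)

/-- In a nonidentity noncyclic `p`-group, a subgroup of order `p` lies in an elementary abelian
subgroup of order `p²`. -/
theorem exists_elemAbelian_sq_ge {p : ℕ} [hp : Fact p.Prime] (hp2 : p ≠ 2) {S X : Subgroup G}
    (hS : IsPGroup p S) (hXS : X ≤ S) (hX : Nat.card X = p) (hnc : ¬ IsCyclic S) :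
    ∃ E : Subgroup G, E ≤ S ∧ IsElementaryAbelian p E ∧ Nat.card E = p ^ 2 ∧ X ≤ E := by
  haveI hXcyc : IsCyclic X := isCyclic_of_prime_card hX
  have hXe : IsElementaryAbelian p X := ⟨inferInstance, fun x hx => by
    have := congrArg Subtype.val (pow_card_eq_one' (G := X) (x := ⟨x, hx⟩))
    simpa [hX] using this⟩
  have mk : ∀ z : G, z ∈ S → z ^ p = 1 → z ∈ Subgroup.centralizer (X : Set G) → z ∉ X →
      ∃ E : Subgroup G, E ≤ S ∧ IsElementaryAbelian p E ∧ Nat.card E = p ^ 2 ∧ X ≤ E := by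
    intro z hzS hzp hzC hzX
    have hE := elemAbelian_sup hXe (elemAbelian_zpowers hzp) (Subgroup.zpowers_le.2 hzC)
    have hle : X ⊔ Subgroup.zpowers z ≤ S := sup_le hXS (Subgroup.zpowers_le.2 hzS)
    obtain ⟨n, hn⟩ := (hS.to_le hle).exists_card_eq
    have hlt : p < Nat.card (X ⊔ Subgroup.zpowers z : Subgroup G) := by
      conv_lhs => rw [← hX]
      refine lt_of_le_of_ne (Nat.le_of_dvd Nat.card_pos (Subgroup.card_dvd_of_le le_sup_left))
        fun h => hzX ?_
      rw [Subgroup.eq_of_le_of_card_ge le_sup_left h.ge]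
      exact Subgroup.mem_sup_right (Subgroup.mem_zpowers z)
    have hdvd : Nat.card (X ⊔ Subgroup.zpowers z : Subgroup G) ∣ p ^ 2 := by
      have hz1 : z ≠ 1 := fun h => hzX (h ▸ X.one_mem)
      refine dvd_trans ?_ (dvd_of_eq (show Nat.card X * Nat.card (Subgroup.zpowers z) = p ^ 2 by
        rw [hX, Nat.card_zpowers, orderOf_eq_prime hzp hz1, sq]))
      rw [← relIndex_mul_card (H := X) le_sup_left, mul_comm (Nat.card X)]
      refine Nat.mul_dvd_mul_right ?_ _
      rw [sup_comm, Coprime.relIndex_sup_of_le_normalizer]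
      · exact Subgroup.relIndex_dvd_card _ _
      · exact (Subgroup.zpowers_le.2 hzC).trans (Subgroup.centralizer_le_normalizer _)
    obtain ⟨k, hk, hk'⟩ := (Nat.dvd_prime_pow hp.out).1 hdvd
    refine ⟨_, hle, hE, ?_, le_sup_left⟩
    rw [hk'] at hlt ⊢
    rcases k with _ | _ | _ | k
    · simp only [pow_zero] at hlt; exact absurd hlt (not_lt.2 hp.out.one_le)
    · simp at hlt
    · rfl
    · omega
  haveI : Nontrivial S := (Subgroup.nontrivial_iff_ne_bot _).2 fun h => hnc (by
    rw [h]; exact isCyclic_of_subsingleton)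
  haveI := hS.center_nontrivial
  obtain ⟨z, hz⟩ := exists_prime_orderOf_dvd_card' p (show p ∣ Nat.card (Subgroup.center S) by
    obtain ⟨j, hj⟩ := (hS.to_subgroup (Subgroup.center S)).exists_card_eq
    rcases j with _ | j
    · exact absurd hj (by rw [pow_zero]; exact (Finite.one_lt_card (α := Subgroup.center S)).ne')
    · rw [hj]; exact dvd_pow_self p j.succ_ne_zero)
  set w : G := ((z : S) : G) with hw
  have hwo : orderOf w = p := by rw [hw, Subgroup.orderOf_coe, Subgroup.orderOf_coe, hz]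
  have hwc : ∀ y ∈ S, y * w = w * y := fun y hy =>
    congrArg Subtype.val (Subgroup.mem_center_iff.1 z.2 ⟨y, hy⟩)
  by_cases hwX : w ∈ X
  · have hwz : Subgroup.zpowers w = X := Subgroup.eq_of_le_of_card_ge (Subgroup.zpowers_le.2 hwX)
      (by rw [Nat.card_zpowers, hwo, hX])
    by_contra hno
    refine hnc (CharDeep.Zass.isCyclic_of_no_pair (hp.out.odd_of_ne_two hp2) hS
      fun a b hab ha hb => ?_)
    have hmem : ∀ c : S, orderOf c = p → (c : G) ∈ X := by
      intro c hc
      by_contra hcX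
      refine hno (mk c c.2 ?_ ?_ hcX)
      · rw [← hc, ← Subgroup.orderOf_coe, pow_orderOf_eq_one]
      · rw [Subgroup.mem_centralizer_iff, ← hwz]
        rintro y ⟨k, rfl⟩
        exact ((show Commute w (c : G) from (hwc c c.2).symm).zpow_left k).eq
    have hbz : Subgroup.zpowers (b : G) = X := Subgroup.eq_of_le_of_card_ge
      (Subgroup.zpowers_le.2 (hmem b hb)) (by rw [Nat.card_zpowers, Subgroup.orderOf_coe, hb, hX])
    obtain ⟨k, hk⟩ := (hbz ▸ hmem a ha : (a : G) ∈ Subgroup.zpowers (b : G))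
    exact ⟨k, Subtype.ext (by simpa using hk)⟩
  · exact mk w z.1.2 (hwo ▸ pow_orderOf_eq_one w)
      (Subgroup.mem_centralizer_iff.2 fun y hy => hwc y (hXS hy)) hwX

/-- An automorphism group of coprime order with a fixed point free subgroup of prime order
(BG 3.4, extended from elementary abelian to nilpotent groups). -/
theorem commutator_le_centralizer_of_fpf (hfp : PrimeOrderFixedPoint.{u}) (hodd : Odd (Nat.card G))
    {N R B : Subgroup G} (hN : Group.IsNilpotent N) (hRN : R ≤ Subgroup.normalizer (N : Set G))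
    (hBN : B ≤ Subgroup.normalizer (N : Set G)) (hBR : B ≤ Subgroup.normalizer (R : Set G))
    (hB : (Nat.card B).Prime) (hcR : (Nat.card R).Coprime (Nat.card N))
    (hcB : (Nat.card B).Coprime (Nat.card N)) (hRB : (Nat.card R).Coprime (Nat.card B))
    (hs : Group.IsSolvable (R ⊔ B : Subgroup G))
    (hfix : N ⊓ Subgroup.centralizer (B : Set G) = ⊥) :
    ⁅R, B⁆ ≤ Subgroup.centralizer (N : Set G) := by
  rw [← Subgroup.le_centralizer_iff]
  set D := Subgroup.centralizer ((⁅R, B⁆ : Subgroup G) : Set G) with hD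
  have key : ∀ q : ℕ, q.Prime → ∀ Q : Sylow q N, (Q : Subgroup N).map N.subtype ≤ D := by
    intro q hq Q
    haveI : Fact q.Prime := ⟨hq⟩
    by_cases hqN : q ∣ Nat.card N
    swap
    · have : (Q : Subgroup N) = ⊥ := by
        obtain ⟨j, hj⟩ := Q.isPGroup'.exists_card_eq
        rcases j with _ | j
        · exact Subgroup.eq_bot_of_card_eq _ hj
        · exact absurd ((dvd_pow_self q j.succ_ne_zero).trans
            (hj ▸ Subgroup.card_subgroup_dvd_card _)) hqN
      simp [this]
    haveI : (Q : Subgroup N).Normal := Transfer.nilpotent_sylow_normal hN Q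
    haveI : (Q : Subgroup N).Characteristic := Q.characteristic_of_normal inferInstance
    set Q₀ : Subgroup G := (Q : Subgroup N).map N.subtype with hQ₀
    have hQ₀N : Q₀ ≤ N := Subgroup.map_subtype_le _
    have hQ₀p : IsPGroup q Q₀ := Q.isPGroup'.map _
    have hNQ : Subgroup.normalizer (N : Set G) ≤ Subgroup.normalizer (Q₀ : Set G) :=
      Coprime.normalizer_le_normalizer_map N _
    set Φ : Subgroup G := (frattini Q₀).map Q₀.subtype with hΦ
    have hΦQ : Φ ≤ Q₀ := Subgroup.map_subtype_le _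
    have hQΦ : Subgroup.normalizer (Q₀ : Set G) ≤ Subgroup.normalizer (Φ : Set G) :=
      Coprime.normalizer_le_normalizer_map Q₀ _
    set Y : Subgroup G := Q₀ ⊔ (R ⊔ B) with hY
    have hYQ : Y ≤ Subgroup.normalizer (Q₀ : Set G) :=
      sup_le Subgroup.le_normalizer (sup_le (hRN.trans hNQ) (hBN.trans hNQ))
    haveI : (Φ.subgroupOf Y).Normal :=
      Subgroup.normal_subgroupOf_of_le_normalizer (hYQ.trans hQΦ)
    let π := QuotientGroup.mk' (Φ.subgroupOf Y)
    let im : Subgroup G → Subgroup (Y ⧸ Φ.subgroupOf Y) := fun Z => (Z.subgroupOf Y).map π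
    have hQY : Q₀ ≤ Y := le_sup_left
    have hRY : R ≤ Y := le_sup_left.trans le_sup_right
    have hBY : B ≤ Y := le_sup_right.trans le_sup_right
    have him : ∀ Z : Subgroup G, Z ≤ Y → Nat.card (im Z) ∣ Nat.card Z := fun Z hZ =>
      (Subgroup.card_map_dvd (H := Z.subgroupOf Y) π).trans
        (dvd_of_eq (Nat.card_congr (Subgroup.subgroupOfEquivOfLe hZ).toEquiv))
    have him' : ∀ Z W : Subgroup G, Z ≤ Y → W ≤ Y → im (Z ⊔ W) = im Z ⊔ im W := fun Z W hZ hW => by
      simp only [im, Subgroup.subgroupOf_sup hZ hW, Subgroup.map_sup]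
    have himn : ∀ Z W : Subgroup G, Z ≤ Y → W ≤ Y → Z ≤ Subgroup.normalizer (W : Set G) →
        im Z ≤ Subgroup.normalizer (im W : Set (Y ⧸ Φ.subgroupOf Y)) := by
      intro Z W hZ hW hn
      refine le_trans (Subgroup.map_mono (fun z hz => ?_)) (Subgroup.le_normalizer_map π)
      rw [Subgroup.mem_normalizer_iff]
      intro w
      simpa [Subgroup.mem_subgroupOf] using Subgroup.mem_normalizer_iff.1 (hn hz) (w : G)
    have hqc : ¬ q ∣ Nat.card (R ⊔ B : Subgroup G) := by
      intro hd
      rw [← relIndex_mul_card (H := R) le_sup_left] at hd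
      rcases (Nat.Prime.dvd_mul hq).1 hd with h' | h'
      · rw [sup_comm, Coprime.relIndex_sup_of_le_normalizer hBR] at h'
        exact hq.ne_one (Nat.eq_one_of_dvd_coprimes hcB (h'.trans (Subgroup.relIndex_dvd_card _ _)) hqN)
      · exact hq.ne_one (Nat.eq_one_of_dvd_coprimes hcR h' hqN)
    -- `V = Q/Φ(Q)`
    have hV : IsElementaryAbelian q (im Q₀) := by
      refine ⟨⟨⟨?_⟩⟩, ?_⟩
      · rintro ⟨_, a, ha, rfl⟩ ⟨_, b, hb, rfl⟩
        refine Subtype.ext ?_
        show π a * π b = π b * π a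
        rw [← map_mul, ← map_mul, eq_comm]
        refine QuotientGroup.eq.2 ?_
        rw [Subgroup.mem_subgroupOf]
        refine ⟨⁅(⟨a, ha⟩ : Q₀)⁻¹, (⟨b, hb⟩ : Q₀)⁻¹⁆, PGroup.comm_mem_frattini hQ₀p _ _, ?_⟩
        simp [commutatorElement_def, mul_assoc]
      · rintro _ ⟨a, ha, rfl⟩
        rw [← map_pow]
        refine (QuotientGroup.eq_one_iff _).2 ?_
        rw [Subgroup.mem_subgroupOf]
        exact ⟨(⟨a, ha⟩ : Q₀) ^ q, PGroup.pow_mem_frattini hQ₀p _, by simp⟩
    have hfix' : im Q₀ ⊓ Subgroup.centralizer (im B : Set (Y ⧸ Φ.subgroupOf Y)) = ⊥ := by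
      rw [eq_bot_iff]
      rintro _ ⟨⟨a, ha, rfl⟩, hc⟩
      rw [Subgroup.mem_bot]
      refine (QuotientGroup.eq_one_iff _).2 ?_
      rw [Subgroup.mem_subgroupOf]
      obtain ⟨n, hn, hac⟩ := Coprime.exists_fixed_in_coset_of_normal B Φ
        (hBN.trans (hNQ.trans hQΦ)) (hcB.coprime_dvd_right
          (Subgroup.card_dvd_of_le (hΦQ.trans hQ₀N)))
        (Or.inr (Coprime.solvable_of_le hΦQ
          (Coprime.isSolvable_of_isNilpotent' hQ₀p.isNilpotent))) (a : G)
        (hQΦ (Subgroup.le_normalizer ha)) (fun b hb => by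
          have h1 := Subgroup.mem_centralizer_iff.1 hc (π ⟨b, hBY hb⟩) ⟨⟨b, hBY hb⟩, hb, rfl⟩
          have h2 : π (⟨b, hBY hb⟩ * a * (⟨b, hBY hb⟩)⁻¹ * a⁻¹) = 1 := by
            rw [map_mul, map_mul, map_mul, h1, map_inv, map_inv]; group
          simpa [Subgroup.mem_subgroupOf] using (QuotientGroup.eq_one_iff _).1 h2)
      have : (a : G) * n ∈ N ⊓ Subgroup.centralizer (B : Set G) :=
        ⟨hQ₀N (Q₀.mul_mem ha (hΦQ hn)), hac⟩
      rw [hfix, Subgroup.mem_bot] at this
      rw [eq_inv_of_mul_eq_one_left this]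
      exact Φ.inv_mem hn
    have hBc : Nat.card (im B) = Nat.card B := by
      rcases (Nat.dvd_prime hB).1 (him B hBY) with h | h
      · exfalso
        obtain ⟨b', hb'⟩ := Subgroup.ne_bot_iff_exists_ne_one.1 (show B ≠ ⊥ from fun h' =>
          hB.ne_one (by rw [h', Subgroup.card_bot]))
        obtain ⟨b, hb, hb1⟩ : ∃ b : G, b ∈ B ∧ b ≠ 1 :=
          ⟨b', b'.2, fun h => hb' (Subtype.ext h)⟩
        have hm : π ⟨b, hBY hb⟩ ∈ im B := ⟨_, hb, rfl⟩
        rw [Subgroup.eq_bot_of_card_eq _ h, Subgroup.mem_bot] at hm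
        have hbΦ : b ∈ Φ := by simpa [Subgroup.mem_subgroupOf] using (QuotientGroup.eq_one_iff _).1 hm
        have h0 : B ⊓ Φ = ⊥ := Subgroup.inf_eq_bot_of_coprime
          (hcB.coprime_dvd_right (Subgroup.card_dvd_of_le (hΦQ.trans hQ₀N)))
        exact hb1 (Subgroup.mem_bot.1 (h0 ▸ ⟨hb, hbΦ⟩))
      · exact h
    have hres := hfp (Y ⧸ Φ.subgroupOf Y) (im (R ⊔ B)) ?_ ?_ (im Q₀) q hq hV ?_ ?_ (im R) (im B)
      ?_ ?_ ?_ ?_ (hBc ▸ hB) ?_ (him' R B hRY hBY).symm hfix'
    rotate_left
    · haveI := hs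
      exact Group.isSolvable_of_surjective (f := ((π.subgroupMap ((R ⊔ B).subgroupOf Y)).comp
        (Subgroup.subgroupOfEquivOfLe (sup_le hRY hBY)).symm.toMonoidHom))
        ((π.subgroupMap_surjective _).comp (MulEquiv.surjective _))
    · exact Odd.of_dvd_nat hodd ((him _ (sup_le hRY hBY)).trans (Subgroup.card_subgroup_dvd_card _))
    · exact fun h => hqc (h.trans (him _ (sup_le hRY hBY)))
    · exact himn _ _ (sup_le hRY hBY) hQY (sup_le (hRN.trans hNQ) (hBN.trans hNQ))
    · exact Subgroup.map_mono (Subgroup.comap_mono le_sup_left)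
    · exact himn _ _ (sup_le hRY hBY) hRY (sup_le Subgroup.le_normalizer hBR)
    · refine (hRB.coprime_dvd_left (him R hRY)).coprime_dvd_right ?_
      rw [him' R B hRY hBY, sup_comm, Coprime.relIndex_sup_of_le_normalizer (himn B R hBY hRY hBR)]
      exact (Subgroup.relIndex_dvd_card _ _).trans (him B hBY)
    · exact Subgroup.map_mono (Subgroup.comap_mono le_sup_right)
    · exact Subgroup.inf_eq_bot_of_coprime
        ((hRB.coprime_dvd_left (him R hRY)).coprime_dvd_right (him B hBY))
    rw [hD, Subgroup.le_centralizer_iff]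
    refine Coprime.le_centralizer_of_frattini _ Q₀ ?_ ?_ fun x hx k hk => ?_
    · exact (Subgroup.commutator_le.2 fun r hr b hb => by
        have hr' := hNQ (hRN hr); have hb' := hNQ (hBN hb)
        rw [commutatorElement_def]
        exact mul_mem (mul_mem (mul_mem hr' hb') (inv_mem hr')) (inv_mem hb'))
    · have h1 : Nat.card (⁅R, B⁆ : Subgroup G) ∣ Nat.card R :=
        Subgroup.card_dvd_of_le (Coprime.commutator_le_of_le_normalizer hBR)
      refine (hcR.coprime_dvd_left h1).coprime_dvd_right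
        ((Subgroup.card_subgroup_dvd_card _).trans (Subgroup.card_dvd_of_le hQ₀N))
    · have hxY : x ∈ Y := hRY (Coprime.commutator_le_of_le_normalizer hBR hx)
      have hxim : π ⟨x, hxY⟩ ∈ ⁅im B, im R⁆ := by
        rw [Subgroup.commutator_comm]
        have h2 : (⁅R, B⁆).subgroupOf Y = ⁅R.subgroupOf Y, B.subgroupOf Y⁆ := by
          apply Subgroup.map_injective Y.subtype_injective
          rw [Subgroup.map_commutator, Subgroup.map_subgroupOf_eq_of_le hRY,
            Subgroup.map_subgroupOf_eq_of_le hBY, Subgroup.map_subgroupOf_eq_of_le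
              ((Coprime.commutator_le_of_le_normalizer hBR).trans hRY)]
        show π ⟨x, hxY⟩ ∈ ⁅(R.subgroupOf Y).map π, (B.subgroupOf Y).map π⁆
        rw [← Subgroup.map_commutator]
        exact ⟨⟨x, hxY⟩, h2 ▸ (hx : (⟨x, hxY⟩ : Y) ∈ (⁅R, B⁆).subgroupOf Y), rfl⟩
      have h1 := Subgroup.mem_centralizer_iff.1 (hres hxim) (π ⟨k, hQY hk⟩) ⟨⟨k, hQY hk⟩, hk, rfl⟩
      have h2 : π (⟨x, hxY⟩ * ⟨k, hQY hk⟩ * (⟨x, hxY⟩)⁻¹ * (⟨k, hQY hk⟩)⁻¹) = 1 := by
        rw [map_mul, map_mul, map_mul, ← h1, map_inv, map_inv]; group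
      exact Subgroup.mem_subgroupOf.1 ((QuotientGroup.eq_one_iff _).1 h2)
  -- the Sylow subgroups generate
  have hdvd : Nat.card N ∣ Nat.card (D ⊓ N : Subgroup G) := by
    refine (Nat.factorization_prime_le_iff_dvd Nat.card_pos.ne' Nat.card_pos.ne').mp fun q hq => ?_
    haveI := Fact.mk hq
    let Q : Sylow q N := default
    have hc : Nat.card ((Q : Subgroup N).map N.subtype) = q ^ (Nat.card N).factorization q := by
      rw [Subgroup.card_map_of_injective N.subtype_injective, Q.card_eq_multiplicity]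
    exact (hq.pow_dvd_iff_le_factorization Nat.card_pos.ne').mp
      (hc ▸ Subgroup.card_dvd_of_le (le_inf (key q hq Q) (Subgroup.map_subtype_le _)))
  have := Subgroup.eq_of_le_of_card_ge (inf_le_right : D ⊓ N ≤ N) (Nat.le_of_dvd Nat.card_pos hdvd)
  exact this ▸ inf_le_left

/-- Elements of order prime to `r` in the derived group of an odd group acting on a narrow
`r`-group centralise it. -/
theorem mem_centralizer_of_narrow (hna : NarrowAutomizer.{u}) {r : ℕ} [hr : Fact r.Prime]
    (hr2 : r ≠ 2) {R H : Subgroup G} (hR : IsPGroup r R) (hn : IsNarrow r R)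
    (hH : H ≤ Subgroup.normalizer (R : Set G)) (hHs : Group.IsSolvable H)
    (hodd : Odd (Nat.card G)) {x : G} (hx : x ∈ ⁅H, H⁆) (hxo : (orderOf x).Coprime r) :
    x ∈ Subgroup.centralizer (R : Set G) := by
  let φ : H →* MulAut R := R.normalizerMonoidHom.comp (Subgroup.inclusion hH)
  haveI : Finite (↥R ⋊[φ.range.subtype] φ.range) := Coprime.finite_semidirect φ.range.subtype
  let Γ := ↥R ⋊[φ.range.subtype] φ.range
  let el : R →* Γ := SemidirectProduct.inl
  let er : φ.range →* Γ := SemidirectProduct.inr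
  have hRh : IsPGroup r el.range := hR.of_equiv (MonoidHom.ofInjective SemidirectProduct.inl_injective)
  have hnh : IsNarrow r el.range :=
    isNarrow_of_equiv (MonoidHom.ofInjective SemidirectProduct.inl_injective) hn
  have hnorm : er.range ≤ Subgroup.normalizer (el.range : Set Γ) :=
    Coprime.inrRange_le_normalizer φ.range.subtype
  have hsol : Group.IsSolvable φ.range := by
    haveI := hHs
    exact Group.isSolvable_of_surjective (MonoidHom.rangeRestrict_surjective φ)
  have hsol' : Group.IsSolvable er.range := by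
    haveI := hsol
    exact Group.isSolvable_of_surjective (MonoidHom.rangeRestrict_surjective er)
  have hodd' : Odd (Nat.card er.range) := by
    rw [← Nat.card_congr (MonoidHom.ofInjective (SemidirectProduct.inr_injective
      (φ := φ.range.subtype))).toEquiv]
    exact Odd.of_dvd_nat hodd ((Subgroup.card_range_dvd φ).trans (Subgroup.card_subgroup_dvd_card H))
  have hf : er.range ⊓ Subgroup.centralizer (el.range : Set Γ) = ⊥ := by
    rw [eq_bot_iff]
    rintro _ ⟨⟨f, rfl⟩, hfc⟩
    rw [Subgroup.mem_bot]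
    have : f = 1 := by
      refine Subtype.ext (MulEquiv.ext fun y => ?_)
      have h1 := Subgroup.mem_centralizer_iff.1 hfc (el y) ⟨y, rfl⟩
      show (f : MulAut R) y = y
      have h2 : el ((f : MulAut R) y) = er f * el y * (er f)⁻¹ := by
        rw [← map_inv]; exact SemidirectProduct.inl_aut (φ := φ.range.subtype) f y
      rw [← h1, mul_inv_cancel_right] at h2
      exact SemidirectProduct.inl_injective h2
    rw [this, map_one]
  have hle := hna Γ r hr2 el.range er.range hRh hnh hnorm hsol' hodd' hf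
  obtain ⟨y, hy, rfl⟩ : ∃ y : H, y ∈ commutator H ∧ (y : G) = x := by
    rw [← Subgroup.map_subtype_commutator] at hx
    simpa [Subgroup.mem_map] using hx
  let g : H →* er.range := er.rangeRestrict.comp φ.rangeRestrict
  have hgy : g y ∈ pCore r er.range := hle (by
    have := Subgroup.mem_map_of_mem g hy
    rw [commutator_def, Subgroup.map_commutator] at this
    exact (Subgroup.commutator_mono le_top le_top) this)
  have hco : (orderOf (g y)).Coprime r := hxo.coprime_dvd_left
    ((orderOf_map_dvd g y).trans (by rw [Subgroup.orderOf_coe]))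
  have hg1 : g y = 1 := by
    obtain ⟨j, hj⟩ := (Fitting.pCore_isPGroup (G := er.range) r) ⟨g y, hgy⟩
    have hd : orderOf (g y) ∣ r ^ j := by
      refine orderOf_dvd_of_pow_eq_one ?_
      simpa using congrArg Subtype.val hj
    exact orderOf_eq_one_iff.1 (Nat.eq_one_of_dvd_coprimes (hco.pow_right j) dvd_rfl hd)
  have hφ : φ y = 1 := by
    have h1 : er (φ.rangeRestrict y) = 1 := congrArg Subtype.val hg1
    rw [← map_one er] at h1
    exact congrArg Subtype.val (SemidirectProduct.inr_injective h1)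
  rw [Subgroup.mem_centralizer_iff]
  intro z hz
  have h3 := congrArg Subtype.val (DFunLike.congr_fun hφ ⟨z, hz⟩)
  have h4 : (y : G) * z * (y : G)⁻¹ = z := h3
  calc z * (y : G) = (y : G) * z * (y : G)⁻¹ * (y : G) := by rw [h4]
    _ = (y : G) * z := by group

end Cfsg.Agent.BGSigma
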