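import Cfsg.Agent.BGSigma.Ten
import Cfsg.Agent.BGSigma.SqSylow
import Cfsg.Agent.Lib.Frobenius.Nilpotent

/-!
BG Section 11: exceptional maximal subgroups.
-/

set_option autoImplicit false

namespace Cfsg.Agent.BGSigma

open Cfsg
open scoped Pointwise
open scoped commutatorElement

universe u

variable {G : Type u} [Group G] [Finite G] (hG : IsMinSimpleOddOrder G) (h : LocalInputs G)

/-- `A` is elementary abelian of order `p²` in `M`, and `p ∉ σ(M)`. -/
structure SqPair (p : ℕ) (M A : Subgroup G) : Prop where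
  coatom : IsCoatom M
  not_sigma : p ∉ sigma M
  le : A ≤ M
  elem : IsElementaryAbelian p A
  card : Nat.card A = p ^ 2

/-- Hypothesis 11.1 of BG. -/
structure Exceptional (p : ℕ) (M A A₀ : Subgroup G) : Prop extends SqPair p M A where
  line_le : A₀ ≤ A
  line_card : Nat.card A₀ = p
  normalizer_le : Subgroup.normalizer (A₀ : Set G) ≤ M

theorem Exceptional.centralizer_le {p : ℕ} {M A A₀ : Subgroup G} (e : Exceptional p M A A₀) :
    Subgroup.centralizer (A : Set G) ≤ M :=
  ((centralizer_anti e.line_le).trans (Subgroup.centralizer_le_normalizer _)).trans e.normalizer_le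

/-- A subgroup `A ≤ M` of prime-power order fixes a Sylow subgroup of `M` containing it and moved
outside `M` by some element normalising it. -/
theorem exists_sylow_normalizer_not_le {p : ℕ} [hp : Fact p.Prime] {M A : Subgroup G}
    (hAM : A ≤ M) (hA : IsPGroup p A) (hpM : p ∣ Nat.card M) (hps : p ∉ sigma M) :
    ∃ P : Sylow p M, A ≤ (P : Subgroup M).map M.subtype ∧
      ∃ g ∈ Subgroup.normalizer (((P : Subgroup M).map M.subtype : Subgroup G) : Set G), g ∉ M := by
  obtain ⟨P, hP⟩ := (hA.comap_subtype (K := M)).exists_le_sylow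
  refine ⟨P, fun a ha => ⟨⟨a, hAM ha⟩, hP ha, rfl⟩, ?_⟩
  by_contra hno
  simp only [not_exists, not_and, not_not] at hno
  exact hps ⟨hp.out, hpM, P, fun g hg => hno g hg⟩

omit [Finite G] in
theorem le_normalizer_bot (A : Subgroup G) : A ≤ Subgroup.normalizer ((⊥ : Subgroup G) : Set G) :=
  Subgroup.normalizer_eq_top (⊥ : Subgroup G) ▸ le_top

omit [Finite G] in
theorem map_conj_centralizer (X : Subgroup G) (g : G) :
    Subgroup.centralizer ((X.map (MulAut.conj g).toMonoidHom : Subgroup G) : Set G) =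
      (Subgroup.centralizer (X : Set G)).map (MulAut.conj g).toMonoidHom := by
  ext y
  rw [mem_map_conj, Subgroup.mem_centralizer_iff, Subgroup.mem_centralizer_iff]
  constructor
  · intro hy z hz
    have h1 := hy (g * z * g⁻¹) ⟨z, hz, by simp⟩
    calc z * (g⁻¹ * y * g) = g⁻¹ * ((g * z * g⁻¹) * y) * g := by group
      _ = g⁻¹ * (y * (g * z * g⁻¹)) * g := by rw [h1]
      _ = g⁻¹ * y * g * z := by group
  · rintro hy _ ⟨z, hz, rfl⟩
    show g * z * g⁻¹ * y = y * (g * z * g⁻¹)
    calc g * z * g⁻¹ * y = g * (z * (g⁻¹ * y * g)) * g⁻¹ := by group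
      _ = g * (g⁻¹ * y * g * z) * g⁻¹ := by rw [hy z hz]
      _ = y * (g * z * g⁻¹) := by group

variable {p : ℕ} [hp : Fact p.Prime] {M A : Subgroup G}

omit [Finite G] in
theorem SqPair.isPGroup (s : SqPair p M A) : IsPGroup p A :=
  isPGroup_of_pow_eq_one hp.out s.elem.2

theorem SqPair.dvd (s : SqPair p M A) : p ∣ Nat.card M :=
  (s.card ▸ dvd_pow_self p two_ne_zero).trans (Subgroup.card_dvd_of_le s.le)

omit [Finite G] in
theorem SqPair.ne_bot (s : SqPair p M A) : A ≠ ⊥ := fun h => by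
  have := s.card
  rw [h, Subgroup.card_bot] at this
  exact (Nat.one_lt_pow two_ne_zero hp.out.one_lt).ne this

omit [Finite G] in
theorem SqPair.not_isCyclic (s : SqPair p M A) : ¬ IsCyclic A := by
  intro hc
  obtain ⟨x, hx⟩ := IsCyclic.exists_generator (α := A)
  have h1 : orderOf x = Nat.card A := orderOf_eq_card_of_forall_mem_zpowers hx
  have h2 : orderOf x ∣ p := orderOf_dvd_of_pow_eq_one (Subtype.ext (by simpa using s.elem.2 x x.2))
  rw [h1, s.card] at h2
  exact absurd (Nat.le_of_dvd hp.out.pos h2) (not_le.2 (by nlinarith [hp.out.two_le]))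

theorem SqPair.not_prankLE (s : SqPair p M A) : ¬ PRankLE p 1 M :=
  not_prankLE_of_elemAbelian s.elem s.le (by rw [s.card, pow_one]; nlinarith [hp.out.two_le])

omit [Finite G] hp in
theorem SqPair.isSolvable (s : SqPair p M A) : Group.IsSolvable A :=
  Group.isSolvable_of_comm fun a b => s.elem.1.is_comm.comm a b

theorem SqPair.coprime_sigmaCore (s : SqPair p M A) :
    (Nat.card A).Coprime (Nat.card (sigmaCore M)) := by
  rw [s.card]
  exact (Nat.Prime.coprime_iff_not_dvd hp.out |>.2 fun hd =>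
    s.not_sigma (isPiSub_sigmaCore M p hp.out hd)).pow_left 2

omit [Finite G] in
theorem SqPair.not_dvd_card {q : ℕ} (s : SqPair p M A) (hq : q.Prime) (hqs : q ∈ sigma M) :
    ¬ q ∣ Nat.card A := fun hd => by
  rw [s.card] at hd
  exact s.not_sigma ((Nat.prime_dvd_prime_iff_eq hq hp.out).1 (hq.dvd_of_dvd_pow hd) ▸ hqs)

include hG h

theorem SqPair.prankLE (s : SqPair p M A) : PRankLE p 2 M :=
  not_sigma_rank_two hG h.uniq s.coatom hp.out s.not_sigma

theorem SqPair.maximal (s : SqPair p M A) :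
    ∀ B : Subgroup G, IsElementaryAbelian p B → A ≤ B → B = A :=
  (not_ideal_of_rank_two hG h.uniq s.coatom (s.prankLE hG h) s.not_prankLE).2
    A s.le s.elem s.card

theorem SqPair.transitivity (s : SqPair p M A) : TransitivityHypothesis A :=
  transitivity_of_maximal hG h (s.dvd.trans M.card_subgroup_dvd_card) s.elem (s.maximal hG h)

/-- An invariant Sylow subgroup for a `σ`-prime, inside a conjugate of `M` containing `A`. -/
theorem SqPair.exists_invariant_sylow (s : SqPair p M A) {g : G}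
    (hAg : A ≤ M.map (MulAut.conj g).toMonoidHom) {q : ℕ} [hq : Fact q.Prime] (hqs : q ∈ sigma M)
    {U : Subgroup G} (hU : U ≤ M.map (MulAut.conj g).toMonoidHom) (hUq : IsPGroup q U)
    (hUA : A ≤ Subgroup.normalizer (U : Set G)) :
    ∃ Q : Sylow q G, U ≤ Q ∧ (Q : Subgroup G) ≤ (sigmaCore M).map (MulAut.conj g).toMonoidHom ∧
      A ≤ Subgroup.normalizer ((Q : Subgroup G) : Set G) := by
  have hback : ∀ X : Subgroup G, (X.map (MulAut.conj g⁻¹).toMonoidHom).map
      (MulAut.conj g).toMonoidHom = X := fun X => by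
    rw [map_conj_comp, mul_inv_cancel, map_conj_one]
  have hle : ∀ X : Subgroup G, X ≤ M.map (MulAut.conj g).toMonoidHom →
      X.map (MulAut.conj g⁻¹).toMonoidHom ≤ M := fun X hX => by
    refine (Subgroup.map_mono hX).trans (le_of_eq ?_)
    rw [map_conj_comp, inv_mul_cancel, map_conj_one]
  haveI := s.isSolvable
  have hN := (sigmaCore_hall hG h.uniq smallRankFrattini fittingRankTwoDerived s.coatom).1
  obtain ⟨Q, hUQ, hQM, hQA⟩ := exists_invariant_sylow_in (q := q)
    (A := A.map (MulAut.conj g⁻¹).toMonoidHom) (U := U.map (MulAut.conj g⁻¹).toMonoidHom) hqs hqs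
    hN (le_normalizer_sigmaCore M) (hle A hAg)
    (Group.isSolvable_of_surjective
      (f := (A.equivMapOfInjective _ (MulAut.conj g⁻¹).injective).toMonoidHom)
      (A.equivMapOfInjective _ (MulAut.conj g⁻¹).injective).surjective)
    (by rw [card_map_conj]; exact s.coprime_sigmaCore) (hle U hU) (hUq.map _)
    (by rw [normalizer_map_conj]; exact Subgroup.map_mono hUA)
  refine ⟨g • Q, ?_, ?_, ?_⟩
  all_goals rw [Sylow.coe_subgroup_smul]
  all_goals rw [show (MulAut.conj g • (Q : Subgroup G)) =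
    (Q : Subgroup G).map (MulAut.conj g).toMonoidHom from rfl]
  · exact (hback U).ge.trans (Subgroup.map_mono hUQ)
  · exact Subgroup.map_mono hQM
  · rw [normalizer_map_conj]
    exact (hback A).ge.trans (Subgroup.map_mono hQA)

/-- BG 11.3 (a): trivial intersection. -/
theorem SqPair.inf_conj_eq_bot (s : SqPair p M A) (hCA : Subgroup.centralizer (A : Set G) ≤ M)
    {g : G} (hg : g ∉ M) (hAg : A ≤ M.map (MulAut.conj g).toMonoidHom) :
    sigmaCore M ⊓ M.map (MulAut.conj g).toMonoidHom = ⊥ := by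
  set U₀ := sigmaCore M ⊓ M.map (MulAut.conj g).toMonoidHom with hU₀
  by_contra hne
  obtain ⟨q, hq, hqd⟩ := Nat.exists_prime_and_dvd (fun h1 => hne (Subgroup.eq_bot_of_card_eq _ h1))
  haveI : Fact q.Prime := ⟨hq⟩
  have hqs : q ∈ sigma M :=
    isPiSub_sigmaCore M q hq (hqd.trans (Subgroup.card_dvd_of_le inf_le_left))
  have hAU₀ : A ≤ Subgroup.normalizer (U₀ : Set G) := Coprime.le_normalizer_inf
    (s.le.trans (le_normalizer_sigmaCore M)) (hAg.trans Subgroup.le_normalizer)
  obtain ⟨P, hP⟩ := Coprime.exists_invariant_sylow A U₀ hAU₀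
    (s.coprime_sigmaCore.coprime_dvd_right (Subgroup.card_dvd_of_le inf_le_left))
    (Or.inl s.isSolvable) q
  set U := (P : Subgroup U₀).map U₀.subtype with hU
  have hUne : U ≠ ⊥ := fun hb => P.ne_bot_of_dvd_card hqd
    ((Subgroup.map_eq_bot_iff_of_injective _ U₀.subtype_injective).1 hb)
  have hUU : U ≤ U₀ := Subgroup.map_subtype_le _
  have hUM : U ≤ M := hUU.trans (inf_le_left.trans (sigmaCore_le M))
  have hUMg : U ≤ M.map (MulAut.conj g).toMonoidHom := hUU.trans inf_le_right
  obtain ⟨Q, hUQ, hQM, hQA⟩ := s.exists_invariant_sylow hG h (g := 1)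
    (by rw [map_conj_one]; exact s.le) hqs (by rw [map_conj_one]; exact hUM)
    (P.isPGroup'.map _) hP
  obtain ⟨Q', hUQ', hQ'M, hQ'A⟩ := s.exists_invariant_sylow hG h hAg hqs hUMg
    (P.isPGroup'.map _) hP
  rw [map_conj_one] at hQM
  refine hg (mem_of_meet hG h s.coatom hqs (s.transitivity hG h) (s.not_dvd_card hq hqs) hCA Q Q'
    (hQM.trans (sigmaCore_le M)) (hQ'M.trans (Subgroup.map_mono (sigmaCore_le M))) hQA hQ'A
    (isCoatom_map_conj s.coatom g).1 hAg ?_ ?_)
  · exact fun hb => hUne (eq_bot_iff.2 (hb ▸ le_inf hUMg hUQ))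
  · exact fun hb => hUne (eq_bot_iff.2 (hb ▸ le_inf hUMg hUQ'))

/-- BG 11.3 (b). -/
theorem SqPair.inf_centralizer_eq_bot (s : SqPair p M A)
    (hCA : Subgroup.centralizer (A : Set G) ≤ M) :
    sigmaCore M ⊓ Subgroup.centralizer (A : Set G) = ⊥ := by
  by_contra hne
  obtain ⟨q, hq, hqd⟩ := Nat.exists_prime_and_dvd (fun h1 => hne (Subgroup.eq_bot_of_card_eq _ h1))
  haveI : Fact q.Prime := ⟨hq⟩
  have hqs : q ∈ sigma M :=
    isPiSub_sigmaCore M q hq (hqd.trans (Subgroup.card_dvd_of_le inf_le_left))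
  obtain ⟨P, hAP, g, hgN, hgM⟩ :=
    exists_sylow_normalizer_not_le s.le s.isPGroup s.dvd s.not_sigma
  have hAg : A ≤ M.map (MulAut.conj g).toMonoidHom := hAP.trans
    ((map_conj_eq_self hgN).ge.trans (Subgroup.map_mono (Subgroup.map_subtype_le _)))
  obtain ⟨Q, -, hQM, hQA⟩ := s.exists_invariant_sylow hG h (g := 1) (q := q) (U := ⊥)
    (by rw [map_conj_one]; exact s.le) hqs bot_le IsPGroup.of_bot
    (le_normalizer_bot A)
  obtain ⟨Q', -, hQ'M, hQ'A⟩ := s.exists_invariant_sylow hG h hAg (q := q) (U := ⊥) hqs bot_le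
    IsPGroup.of_bot (le_normalizer_bot A)
  rw [map_conj_one] at hQM
  exact hgM (mem_of_dvd_centralizer hG h s.coatom hqs s.elem s.card (s.transitivity hG h)
    (s.not_dvd_card hq hqs) (hqd.trans (Subgroup.card_dvd_of_le inf_le_right)) hCA Q Q'
    (hQM.trans (sigmaCore_le M)) (hQ'M.trans (Subgroup.map_mono (sigmaCore_le M))) hQA hQ'A)

/-- For a maximal elementary abelian `A` of order `p²` in a Sylow subgroup `S` of `G`, the
centraliser of `A` in `S` is abelian. -/
theorem isMulCommutative_inf_centralizer (S : Sylow p G) (hAS : A ≤ S)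
    (hA : IsElementaryAbelian p A) (hAc : Nat.card A = p ^ 2)
    (hmax : ∀ B : Subgroup G, IsElementaryAbelian p B → A ≤ B → B = A) :
    IsMulCommutative ((S : Subgroup G) ⊓ Subgroup.centralizer (A : Set G) : Subgroup G) := by
  have hpA : p ∣ Nat.card A := hAc ▸ dvd_pow_self p two_ne_zero
  have hp2 : p ≠ 2 := ne_two_of_dvd hG hpA
  have hAa := hA.1
  have key : ∀ {W : Subgroup G}, A ≤ W → W ≤ S → IsMulCommutative W →
      (S : Subgroup G) ⊓ Subgroup.centralizer (A : Set G) ≤ W →
      IsMulCommutative ((S : Subgroup G) ⊓ Subgroup.centralizer (A : Set G) : Subgroup G) :=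
    fun _ _ hW hle => isMulCommutative_of_le_centralizer
      (hle.trans ((le_centralizer_self_of_comm hW).trans (centralizer_anti hle)))
  by_cases hr : PRankLE p 2 (S : Subgroup G)
  · rcases sylow_rank_two_shape hG h.uniq h.plength h.blackburn p S hr with
      hc | ⟨P₁, P₂, hsup, hcomm, -, -, hexp, hcyc, hΩ⟩
    · exact key hAS le_rfl hc inf_le_left
    have h2C : P₂ ≤ Subgroup.centralizer (P₁ : Set G) := fun b hb =>
      Subgroup.mem_centralizer_iff.2 fun a ha => hcomm a ha b hb
    have hsplit : ∀ x ∈ (S : Subgroup G), ∃ a ∈ P₁, ∃ b ∈ P₂, x = a * b := by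
      intro x hx
      rw [← hsup, ← SetLike.mem_coe, Subgroup.coe_mul_of_right_le_normalizer_left P₁ P₂
        (h2C.trans (Subgroup.centralizer_le_normalizer _))] at hx
      obtain ⟨a, ha, b, hb, hab⟩ := hx
      exact ⟨a, ha, b, hb, hab.symm⟩
    have hpow : ∀ a ∈ P₁, a ^ p = 1 := fun a ha => by
      have := Monoid.pow_exponent_eq_one (⟨a, ha⟩ : P₁)
      rw [hexp] at this
      simpa using congrArg Subtype.val this
    have hA1 : A ≤ P₁ := by
      intro x hx
      obtain ⟨a, ha, b, hb, rfl⟩ := hsplit x (hAS hx)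
      have h1 := hA.2 _ hx
      rw [(show Commute a b from hcomm a ha b hb).mul_pow, hpow a ha, one_mul] at h1
      have hb1 : b ∈ P₁ ⊓ Subgroup.centralizer (P₁ : Set G) :=
        hΩ ▸ Subgroup.subset_closure ⟨hb, h1⟩
      exact P₁.mul_mem ha hb1.1
    refine key (W := A ⊔ P₂) le_sup_left (sup_le hAS (le_sup_right.trans hsup.le))
      (isMulCommutative_sup hAa (haveI := hcyc; inferInstance) (h2C.trans (centralizer_anti hA1))) ?_
    rintro x ⟨hxS, hxC⟩
    obtain ⟨a, ha, b, hb, rfl⟩ := hsplit x hxS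
    have hbC : b ∈ Subgroup.centralizer (A : Set G) := centralizer_anti hA1 (h2C hb)
    have haC : a ∈ Subgroup.centralizer (A : Set G) := by
      have := (Subgroup.centralizer (A : Set G)).mul_mem hxC ((Subgroup.centralizer (A : Set G)).inv_mem hbC)
      rwa [mul_inv_cancel_right] at this
    exact Subgroup.mul_mem_sup ((mem_iff_pow_eq_one hA hmax (S := A ⊔ Subgroup.zpowers a) le_sup_left
      (sup_le (le_centralizer_self_of_comm hAa) (Subgroup.zpowers_le.2 haC))
      (Subgroup.mem_sup_right (Subgroup.mem_zpowers a))).1 (hpow a ha)) hb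
  · set E := A.subgroupOf (S : Subgroup G) with hE
    have hEc : Nat.card E = p ^ 2 := by
      rw [hE, Nat.card_congr (Subgroup.subgroupOfEquivOfLe hAS).toEquiv, hAc]
    have hmaxE : ∀ B : Subgroup (S : Subgroup G), IsElementaryAbelian p B → E ≤ B → B = E := by
      intro B hB hEB
      have hmem : ∀ z ∈ B.map (S : Subgroup G).subtype, z ^ p = 1 := by
        rintro _ ⟨z, hz, rfl⟩
        simpa using congrArg Subtype.val (hB.2 z hz)
      have := hmax (B.map (S : Subgroup G).subtype) ⟨?_, hmem⟩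
        (fun a ha => ⟨⟨a, hAS ha⟩, hEB ha, rfl⟩)
      · rw [hE, ← this]
        exact (Subgroup.comap_map_eq_self_of_injective (S : Subgroup G).subtype_injective B).symm
      · haveI := hB.1
        exact isMulCommutative_of_le_centralizer (by
          rintro _ ⟨z, hz, rfl⟩
          rw [Subgroup.mem_centralizer_iff]
          rintro _ ⟨y, hy, rfl⟩
          exact congrArg Subtype.val (congrArg Subtype.val (mul_comm' (⟨y, hy⟩ : B) ⟨z, hz⟩)))
    obtain ⟨hET, -, -, hTc, hTi⟩ := h.narrow (S : Subgroup G) p hp2 S.isPGroup' hr E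
      (elemAbelian_subgroupOf hA hAS) hEc hmaxE
    set T := Subgroup.centralizer ((Subgroup.closure {x : (S : Subgroup G) |
      x ∈ Subgroup.upperCentralSeries (S : Subgroup G) 2 ∧ x ^ p = 1} :
        Subgroup (S : Subgroup G)) : Set (S : Subgroup G))
    haveI := hTc
    have htop : E ⊔ T = ⊤ := by
      rcases (Nat.dvd_prime hp.out).1 (hTi ▸ Subgroup.index_dvd_of_le (le_sup_right : T ≤ E ⊔ T))
        with h1 | h1
      · exact Subgroup.index_eq_one.1 h1
      · exfalso
        have h2 : T.relIndex (E ⊔ T) * p = p := by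
          conv_rhs => rw [← hTi, ← Subgroup.relIndex_mul_index (le_sup_right : T ≤ E ⊔ T)]
          rw [h1]
        exact hET (le_sup_left.trans
          (Subgroup.relIndex_eq_one.1 ((Nat.mul_eq_right hp.out.ne_zero).1 h2)))
    set C : Subgroup G := (T ⊓ Subgroup.centralizer (E : Set (S : Subgroup G))).map
      (S : Subgroup G).subtype with hC
    have hCA : C ≤ Subgroup.centralizer (A : Set G) := by
      rintro _ ⟨c, hc, rfl⟩
      rw [Subgroup.mem_centralizer_iff]
      intro a ha
      exact congrArg Subtype.val (Subgroup.mem_centralizer_iff.1 hc.2 ⟨a, hAS ha⟩ ha)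
    have hCS : C ≤ S := Subgroup.map_subtype_le _
    have hCc : IsCyclic C := by
      refine CharDeep.Zass.isCyclic_of_no_pair (hp.out.odd_of_ne_two hp2) (S.isPGroup'.to_le hCS)
        fun a b _ ha hb => ?_
      have hmem : ∀ c : C, orderOf c = p → (c : G) ∈ (E ⊓ T).map (S : Subgroup G).subtype := by
        intro c hc
        obtain ⟨c', hc', hce⟩ := c.2
        have hcA : (c : G) ∈ A := (mem_iff_pow_eq_one hA hmax (S := A ⊔ C) le_sup_left
          (sup_le (le_centralizer_self_of_comm hAa) hCA) (Subgroup.mem_sup_right c.2)).1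
          (by rw [← hc, ← Subgroup.orderOf_coe, pow_orderOf_eq_one])
        exact ⟨c', ⟨show (c' : G) ∈ A from (show (c' : G) = c from hce) ▸ hcA, hc'.1⟩, hce⟩
      have hsmall : Nat.card ↥((E ⊓ T).map (S : Subgroup G).subtype) ≤ p := by
        rw [Subgroup.card_map_of_injective (S : Subgroup G).subtype_injective]
        obtain ⟨k, hk, hk'⟩ := (Nat.dvd_prime_pow hp.out).1
          (hEc ▸ Subgroup.card_dvd_of_le (inf_le_left : E ⊓ T ≤ E))
        rw [hk']
        refine (Nat.pow_le_pow_right hp.out.pos (show k ≤ 1 from ?_)).trans_eq (pow_one p)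
        by_contra hk1
        refine hET ?_
        have h3 := Subgroup.eq_of_le_of_card_ge (inf_le_left : E ⊓ T ≤ E)
          (by rw [hEc, hk']; exact Nat.pow_le_pow_right hp.out.pos (by omega))
        exact h3 ▸ inf_le_right
      have hbz : Subgroup.zpowers (b : G) = (E ⊓ T).map (S : Subgroup G).subtype :=
        Subgroup.eq_of_le_of_card_ge (Subgroup.zpowers_le.2 (hmem b hb))
          (hsmall.trans (le_of_eq (by rw [Nat.card_zpowers, Subgroup.orderOf_coe, hb])))
      obtain ⟨k, hk⟩ := (hbz ▸ hmem a ha : (a : G) ∈ Subgroup.zpowers (b : G))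
      exact ⟨k, Subtype.ext (by simpa using hk)⟩
    refine key (W := A ⊔ C) le_sup_left (sup_le hAS hCS)
      (isMulCommutative_sup hAa (haveI := hCc; inferInstance) hCA) ?_
    rintro x ⟨hxS, hxC⟩
    obtain ⟨e, he, t, ht, het⟩ := Subgroup.mem_sup_of_normal_right.1
      (htop ▸ Subgroup.mem_top (⟨x, hxS⟩ : (S : Subgroup G)))
    have hx : x = (e : G) * t := (congrArg Subtype.val het).symm
    rw [hx]
    refine Subgroup.mul_mem_sup he ⟨t, ⟨ht, ?_⟩, rfl⟩
    refine Subgroup.mem_centralizer_iff.2 ?_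
    intro a ha
    refine Subtype.ext (Subgroup.mem_centralizer_iff.1 (?_ : (t : G) ∈
      Subgroup.centralizer (A : Set G)) a ha)
    have := (Subgroup.centralizer (A : Set G)).mul_mem ((Subgroup.centralizer (A : Set G)).inv_mem (le_centralizer_self_of_comm hAa (show (e : G) ∈ A from he))) hxC
    rwa [hx, inv_mul_cancel_left] at this

/-- BG 11.4 (i): a normal subgroup of prime-power order `r ∉ σ(M)` centralising `M_σ` is cyclic. -/
theorem isCyclic_of_normal_centralizing (hM : IsCoatom M) {r : ℕ} [hr : Fact r.Prime]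
    (hrs : r ∉ sigma M) {W : Subgroup G} (hWM : W ≤ M) (hWr : IsPGroup r W)
    (hWn : M ≤ Subgroup.normalizer (W : Set G))
    (hWC : W ≤ Subgroup.centralizer (sigmaCore M : Set G)) : IsCyclic W := by
  by_contra hnc
  have hW1 : W ≠ ⊥ := fun hb => hnc (by rw [hb]; exact isCyclic_of_subsingleton)
  haveI : Nontrivial W := (Subgroup.nontrivial_iff_ne_bot _).2 hW1
  haveI := hWr.center_nontrivial
  obtain ⟨z, hz⟩ := exists_prime_orderOf_dvd_card' r (show r ∣ Nat.card (Subgroup.center W) by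
    obtain ⟨j, hj⟩ := (hWr.to_subgroup (Subgroup.center W)).exists_card_eq
    rcases j with _ | j
    · exact absurd hj (by rw [pow_zero]; exact (Finite.one_lt_card (α := Subgroup.center W)).ne')
    · rw [hj]; exact dvd_pow_self r j.succ_ne_zero)
  have hrW : r ∣ Nat.card W := by
    obtain ⟨j, hj⟩ := hWr.exists_card_eq
    rcases j with _ | j
    · exact absurd (Subgroup.eq_bot_of_card_eq _ hj) hW1
    · exact hj ▸ dvd_pow_self r j.succ_ne_zero
  set Z : Subgroup G := Subgroup.closure
    {x : G | x ∈ W ∧ x ∈ Subgroup.centralizer (W : Set G) ∧ x ^ r = 1} with hZ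
  set w : G := ((z : W) : G) with hw
  have hwo : orderOf w = r := by rw [hw, Subgroup.orderOf_coe, Subgroup.orderOf_coe, hz]
  have hwZ : w ∈ Z := Subgroup.subset_closure ⟨z.1.2, Subgroup.mem_centralizer_iff.2 fun y hy =>
    congrArg Subtype.val (Subgroup.mem_center_iff.1 z.2 ⟨y, hy⟩), hwo ▸ pow_orderOf_eq_one w⟩
  have hZne : Z ≠ ⊥ := fun hb => hr.out.ne_one
    (by rw [← hwo, orderOf_eq_one_iff]; exact Subgroup.mem_bot.1 (hb ▸ hwZ))
  have hZW : Z ≤ W := (Subgroup.closure_le _).2 fun x hx => hx.1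
  have hZn : M ≤ Subgroup.normalizer (Z : Set G) := by
    refine Coprime.le_normalizer_of_conj_mem fun m hm => ?_
    intro x hx
    induction hx using Subgroup.closure_induction with
    | mem x hx =>
      obtain ⟨h1, h2, h3⟩ := hx
      refine Subgroup.subset_closure ⟨(Subgroup.mem_normalizer_iff.1 (hWn hm) x).1 h1, ?_, ?_⟩
      · exact Subgroup.mem_normalizer_iff.1
          (Coprime.le_normalizer_centralizer hWn hm) x |>.1 h2
      · rw [← MulAut.conj_apply, ← map_pow, h3, map_one]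
    | one => simp
    | mul x y _ _ hx hy => simpa [mul_assoc] using Z.mul_mem hx hy
    | inv x _ hx => simpa [mul_assoc] using Z.inv_mem hx
  obtain ⟨E, hEW, hEe, hEc⟩ := exists_elemAbelian_sq_le (H := W) (p := r) (fun hr1 => hnc (by
    haveI := isZGroup_of_rankLE_one (H := W) (odd_card_subgroup hG _) (fun q hq => ?_)
    · let S : Sylow r W := default
      haveI := IsZGroup.isZGroup (G := W) r hr.out S
      have hS : (S : Subgroup W) = ⊤ := top_le_iff.1
        (le_of_eq (S.is_maximal' (hWr.to_subgroup ⊤) le_top))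
      exact ((MulEquiv.subgroupCongr hS).trans Subgroup.topEquiv).isCyclic.1 inferInstance
    · by_cases hqp : q = r
      · exact hqp ▸ hr1
      · refine prankLE_of_not_dvd hq fun hd => hqp ?_
        obtain ⟨j, hj⟩ := hWr.exists_card_eq
        exact (Nat.prime_dvd_prime_iff_eq hq hr.out).1 (hq.dvd_of_dvd_pow (hj ▸ hd))))
  have s : SqPair r M E := ⟨hM, hrs, hEW.trans hWM, hEe, hEc⟩
  have hZE : Z ≤ E := by
    refine (Subgroup.closure_le _).2 fun x hx => ?_
    exact (mem_iff_pow_eq_one hEe (s.maximal hG h) (S := E ⊔ Subgroup.zpowers x) le_sup_left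
      (sup_le (le_centralizer_self_of_comm hEe.1)
        (Subgroup.zpowers_le.2 (centralizer_anti hEW hx.2.1)))
      (Subgroup.mem_sup_right (Subgroup.mem_zpowers x))).1 hx.2.2
  have hCE : Subgroup.centralizer (E : Set G) ≤ M :=
    ((centralizer_anti hZE).trans (Subgroup.centralizer_le_normalizer _)).trans
      (normalizer_eq_coatom hG hM (hZW.trans hWM) hZne hZn).le
  have h0 := s.inf_centralizer_eq_bot hG h hCE
  rw [inf_eq_left.2 (Subgroup.le_centralizer_iff.1 (hEW.trans hWC))] at h0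
  exact sigmaCore_ne_bot hG h.uniq smallRankFrattini fittingRankTwoDerived rankTwoLargestPrime hM h0

/-- BG 11.3: conjugates of the distinguished line act without fixed points. -/
theorem Exceptional.inf_centralizer_conj_eq_bot {A₀ : Subgroup G} (e : Exceptional p M A A₀)
    {g : G} (hg : g ∉ M) (hAg : A ≤ M.map (MulAut.conj g).toMonoidHom) :
    sigmaCore M ⊓ Subgroup.centralizer
      ((A₀.map (MulAut.conj g).toMonoidHom : Subgroup G) : Set G) = ⊥ := by
  rw [map_conj_centralizer, eq_bot_iff, ← e.toSqPair.inf_conj_eq_bot hG h e.centralizer_le hg hAg]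
  exact inf_le_inf_left _
    (Subgroup.map_mono ((Subgroup.centralizer_le_normalizer _).trans e.normalizer_le))

/-- BG 11.4: `M_σ` is nilpotent. -/
theorem Exceptional.isNilpotent {A₀ : Subgroup G} (e : Exceptional p M A A₀) :
    Group.IsNilpotent (sigmaCore M) := by
  obtain ⟨P, hAP, g, hgN, hgM⟩ :=
    exists_sylow_normalizer_not_le e.le e.toSqPair.isPGroup e.toSqPair.dvd e.not_sigma
  have hAg : A ≤ M.map (MulAut.conj g).toMonoidHom := hAP.trans
    ((map_conj_eq_self hgN).ge.trans (Subgroup.map_mono (Subgroup.map_subtype_le _)))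
  set B := A₀.map (MulAut.conj g).toMonoidHom with hB
  have hBc : Nat.card B = p := by rw [hB, card_map_conj, e.line_card]
  have hBM : B ≤ M := ((Subgroup.map_mono (e.line_le.trans hAP)).trans
    (map_conj_eq_self hgN).le).trans (Subgroup.map_subtype_le _)
  obtain ⟨b, hb⟩ := (isCyclic_of_prime_card hBc).exists_generator
  have hbN : (b : G) ∈ Subgroup.normalizer (sigmaCore M : Set G) :=
    le_normalizer_sigmaCore M (hBM b.2)
  refine Frobenius.isNilpotent_of_fixedPointFree (sigmaCore M)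
    ((sigmaCore M).normalizerMonoidHom ⟨b, hbN⟩) (fun x hx => ?_) hp.out ?_
  · have h1 : (b : G) * x * (b : G)⁻¹ = x := congrArg Subtype.val hx
    have : (x : G) ∈ sigmaCore M ⊓ Subgroup.centralizer (B : Set G) := by
      refine ⟨x.2, Subgroup.mem_centralizer_iff.2 fun y hy => ?_⟩
      obtain ⟨k, hk⟩ := hb ⟨y, hy⟩
      have hk' : y = (b : G) ^ k := by simpa using congrArg Subtype.val hk.symm
      rw [hk']
      exact ((show Commute (b : G) x from mul_inv_eq_iff_eq_mul.1 h1).zpow_left k).eq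
    rw [hB, e.inf_centralizer_conj_eq_bot hG h hgM hAg, Subgroup.mem_bot] at this
    exact Subtype.ext this
  · rw [← map_pow]
    convert map_one (sigmaCore M).normalizerMonoidHom
    refine Subtype.ext ?_
    have := congrArg Subtype.val (pow_card_eq_one' (G := B) (x := b))
    simpa [hBc] using this

/-- BG 11.4: the Sylow `p`-subgroups of `M` containing `A` are abelian. -/
theorem Exceptional.sylow_comm {A₀ : Subgroup G} (e : Exceptional p M A A₀) (P : Sylow p M)
    (hAP : A ≤ (P : Subgroup M).map M.subtype) :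
    IsMulCommutative ((P : Subgroup M).map M.subtype : Subgroup G) := by
  set P₀ : Subgroup G := (P : Subgroup M).map M.subtype with hP₀
  have hP₀p : IsPGroup p P₀ := P.isPGroup'.map _
  have hP₀M : P₀ ≤ M := Subgroup.map_subtype_le _
  have hAc := e.elem.1
  have hmax := e.toSqPair.maximal hG h
  obtain ⟨S, hS⟩ := hP₀p.exists_le_sylow
  have hCab := isMulCommutative_inf_centralizer hG h S (hAP.trans hS) e.elem e.card hmax
  by_contra hnab
  have hnA : ¬ P₀ ≤ Subgroup.centralizer (A : Set G) := fun hle => hnab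
    (isMulCommutative_of_le_centralizer ((le_inf hS hle).trans
      ((le_centralizer_self_of_comm hCab).trans (centralizer_anti (le_inf hS hle)))))
  -- the unique central line
  set Z := A ⊓ Subgroup.centralizer (P₀ : Set G) with hZ
  have hZne : Z ≠ ⊥ := by
    haveI : Nontrivial P₀ := (Subgroup.nontrivial_iff_ne_bot _).2 fun hb =>
      e.toSqPair.ne_bot (le_bot_iff.1 (hb ▸ hAP))
    haveI := hP₀p.center_nontrivial
    obtain ⟨z, hz⟩ := exists_prime_orderOf_dvd_card' p (show p ∣ Nat.card (Subgroup.center P₀) by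
      obtain ⟨j, hj⟩ := (hP₀p.to_subgroup (Subgroup.center P₀)).exists_card_eq
      rcases j with _ | j
      · exact absurd hj (by rw [pow_zero]; exact (Finite.one_lt_card (α := Subgroup.center P₀)).ne')
      · rw [hj]; exact dvd_pow_self p j.succ_ne_zero)
    have hzo : orderOf ((z : P₀) : G) = p := by rw [Subgroup.orderOf_coe, Subgroup.orderOf_coe, hz]
    have hzC : ((z : P₀) : G) ∈ Subgroup.centralizer (P₀ : Set G) :=
      Subgroup.mem_centralizer_iff.2 fun y hy =>
        congrArg Subtype.val (Subgroup.mem_center_iff.1 z.2 ⟨y, hy⟩)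
    have hzA := (mem_iff_pow_eq_one e.elem hmax (S := A ⊔ Subgroup.zpowers ((z : P₀) : G))
      le_sup_left (sup_le (le_centralizer_self_of_comm hAc)
        (Subgroup.zpowers_le.2 (centralizer_anti hAP hzC)))
      (Subgroup.mem_sup_right (Subgroup.mem_zpowers _))).1 (hzo ▸ pow_orderOf_eq_one _)
    intro hb
    have h' : ((z : P₀) : G) ∈ Z := ⟨hzA, hzC⟩
    rw [hb] at h'
    have := Subgroup.mem_bot.1 h'
    rw [this, orderOf_one] at hzo
    exact hp.out.ne_one hzo.symm
  have hZc : Nat.card Z = p := by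
    obtain ⟨k, hk, hk'⟩ := (Nat.dvd_prime_pow hp.out).1
      (e.card ▸ Subgroup.card_dvd_of_le (inf_le_left : Z ≤ A))
    have hk0 : k ≠ 0 := fun hk0 => hZne (Subgroup.eq_bot_of_card_eq _ (by rw [hk', hk0, pow_zero]))
    have hk2 : k ≠ 2 := fun hk2 => hnA (Subgroup.le_centralizer_iff.1 (by
      have := Subgroup.eq_of_le_of_card_ge (inf_le_left : Z ≤ A) (by rw [hk', hk2, e.card])
      exact this ▸ inf_le_right))
    rw [hk', show k = 1 by omega, pow_one]
  -- an element of `P` moving `A`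
  set C₀ := P₀ ⊓ Subgroup.centralizer (A : Set G) with hC₀
  have hC₀lt : C₀ < P₀ := lt_of_le_of_ne inf_le_left fun hb => hnA (hb ▸ inf_le_right)
  haveI : Group.IsNilpotent P₀ := hP₀p.isNilpotent
  have hlt' : C₀.subgroupOf P₀ < ⊤ := by
    rw [lt_top_iff_ne_top, Ne, Subgroup.subgroupOf_eq_top]
    exact not_le_of_gt hC₀lt
  obtain ⟨y, hy, hyn⟩ := SetLike.exists_of_lt (normalizerCondition_of_isNilpotent (G := P₀) _ hlt')
  have hyA : (y : G) ∈ Subgroup.normalizer (A : Set G) := by
    have hAC : A ≤ C₀ := le_inf hAP (le_centralizer_self_of_comm hAc)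
    refine Coprime.le_normalizer_of_conj_mem (A := Subgroup.zpowers (y : G)) (fun a ha x hx => ?_)
      (Subgroup.mem_zpowers _)
    obtain ⟨k, rfl⟩ := ha
    have hyk : y ^ k ∈ Subgroup.normalizer (C₀.subgroupOf P₀ : Set P₀) := zpow_mem hy k
    have hxC := (Subgroup.mem_normalizer_iff.1 hyk ⟨x, hAP hx⟩).1 (hAC hx)
    refine (mem_iff_pow_eq_one e.elem hmax (S := A ⊔ C₀) le_sup_left
      (sup_le (le_centralizer_self_of_comm hAc) inf_le_right)
      (Subgroup.mem_sup_right (by simpa [Subgroup.mem_subgroupOf] using hxC))).1 ?_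
    rw [← MulAut.conj_apply, ← map_pow, e.elem.2 x hx, map_one]
  have hyC : (y : G) ∉ Subgroup.centralizer (A : Set G) := fun hc => hyn ⟨y.2, hc⟩
  -- the other lines are `P`-conjugate
  obtain ⟨S', hAS', g, hgN, hgM⟩ : ∃ _ : Unit, A ≤ P₀ ∧
      ∃ g ∈ Subgroup.normalizer (P₀ : Set G), g ∉ M := by
    refine ⟨(), hAP, ?_⟩
    by_contra hno
    simp only [not_exists, not_and, not_not] at hno
    exact e.not_sigma ⟨hp.out, e.toSqPair.dvd, P, hno⟩
  have hgZ : Z.map (MulAut.conj g).toMonoidHom = Z := by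
    refine Subgroup.eq_of_le_of_card_ge ?_ (by rw [card_map_conj])
    rintro _ ⟨x, hx, rfl⟩
    have hxP : g * x * g⁻¹ ∈ P₀ := (Subgroup.mem_normalizer_iff.1 hgN x).1 (hAP hx.1)
    have hxC : g * x * g⁻¹ ∈ Subgroup.centralizer (P₀ : Set G) :=
      (Subgroup.mem_normalizer_iff.1 (Coprime.le_normalizer_centralizer
        (A := Subgroup.normalizer (P₀ : Set G)) le_rfl hgN) x).1 hx.2
    refine ⟨(mem_iff_pow_eq_one e.elem hmax (S := A ⊔ Subgroup.zpowers (g * x * g⁻¹)) le_sup_left
      (sup_le (le_centralizer_self_of_comm hAc)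
        (Subgroup.zpowers_le.2 (centralizer_anti hAP hxC)))
      (Subgroup.mem_sup_right (Subgroup.mem_zpowers _))).1 ?_, hxC⟩
    rw [← MulAut.conj_apply, ← map_pow, e.elem.2 x hx.1, map_one]
  have hA₀Z : A₀ ≠ Z := fun hb => hgM (e.normalizer_le (by
    rw [hb, Subgroup.mem_normalizer_iff_map_conj_eq]; exact hgZ))
  haveI := Fact.mk hp.out
  obtain ⟨a₀', ha₀'⟩ := Subgroup.ne_bot_iff_exists_ne_one.1 (show A₀ ≠ ⊥ from fun hb => by
    have := e.line_card; rw [hb, Subgroup.card_bot] at this; exact hp.out.ne_one this.symm)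
  set a₀ : G := (a₀' : G) with ha₀d
  have ha₀ : a₀ ≠ 1 := fun hb => ha₀' (Subtype.ext hb)
  have hA₀z : Subgroup.zpowers a₀ = A₀ := Subgroup.eq_of_le_of_card_ge
    (Subgroup.zpowers_le.2 a₀'.2)
    (by rw [Nat.card_zpowers, orderOf_eq_prime (e.elem.2 _ (e.line_le a₀'.2)) ha₀, e.line_card])
  have ha₀Z : a₀ ∉ Z := fun hb => hA₀Z (Subgroup.eq_of_le_of_card_ge
    (hA₀z ▸ Subgroup.zpowers_le.2 hb) (by rw [e.line_card, hZc]))
  have hsup : A ≤ A₀ ⊔ Z := by
    have hle : A₀ ⊔ Z ≤ A := sup_le e.line_le inf_le_left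
    refine (Subgroup.eq_of_le_of_card_ge hle ?_).ge
    obtain ⟨k, hk, hk'⟩ := (Nat.dvd_prime_pow hp.out).1 (e.card ▸ Subgroup.card_dvd_of_le hle)
    rw [e.card, hk']
    refine Nat.pow_le_pow_right hp.out.pos ?_
    by_contra hk2
    have h1 := Subgroup.eq_of_le_of_card_ge (le_sup_right : Z ≤ A₀ ⊔ Z)
      (by rw [hk', hZc]; exact (Nat.pow_le_pow_right hp.out.pos (by omega)).trans_eq (pow_one p))
    exact ha₀Z (h1.ge (Subgroup.mem_sup_left a₀'.2))
  have hyP : Subgroup.zpowers (y : G) ≤ P₀ := Subgroup.zpowers_le.2 y.2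
  have hord : ∀ x ∈ A, x ≠ 1 → orderOf x = p := fun x hx h1 => orderOf_eq_prime (e.elem.2 x hx) h1
  -- `⁅A, y⁆ = Z`
  set W := A ⊓ Subgroup.centralizer (Subgroup.zpowers (y : G) : Set G) with hW
  have hWZ : W = Z := by
    refine (Subgroup.eq_of_le_of_card_ge (le_inf inf_le_left
      (inf_le_right.trans (centralizer_anti hyP))) ?_).symm
    obtain ⟨k, hk, hk'⟩ := (Nat.dvd_prime_pow hp.out).1
      (e.card ▸ Subgroup.card_dvd_of_le (inf_le_left : W ≤ A))
    rw [hZc, hk']
    refine (Nat.pow_le_pow_right hp.out.pos (show k ≤ 1 from ?_)).trans_eq (pow_one p)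
    by_contra hk1
    refine hyC ?_
    have h1 := Subgroup.eq_of_le_of_card_ge (inf_le_left : W ≤ A)
      (by rw [e.card, hk']; exact Nat.pow_le_pow_right hp.out.pos (by omega))
    exact Subgroup.le_centralizer_iff.1 (h1.ge.trans inf_le_right) (Subgroup.mem_zpowers _)
  set D : Subgroup G := ⁅A, Subgroup.zpowers (y : G)⁆ with hD
  have hyAn : Subgroup.zpowers (y : G) ≤ Subgroup.normalizer (A : Set G) :=
    Subgroup.zpowers_le.2 hyA
  have hDA : D ≤ A := Coprime.commutator_le_of_le_normalizer hyAn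
  have hDne : D ≠ A := fun hb => e.toSqPair.ne_bot
    (Coprime.eq_bot_of_le_commutator P₀ hP₀p.isNilpotent hAP
      (hb.ge.trans (Subgroup.commutator_mono le_rfl hyP)))
  have hDW : D ≤ W := by
    refine le_inf hDA ?_
    obtain ⟨k, hk, hk'⟩ := (Nat.dvd_prime_pow hp.out).1 (e.card ▸ Subgroup.card_dvd_of_le hDA)
    have hk1 : k ≤ 1 := by
      by_contra hk1
      exact hDne (Subgroup.eq_of_le_of_card_ge hDA
        (by rw [e.card, hk']; exact Nat.pow_le_pow_right hp.out.pos (by omega)))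
    set D' : Subgroup G := ⁅D, Subgroup.zpowers (y : G)⁆ with hD'
    have hD'D : D' ≤ D :=
      Coprime.commutator_le_of_le_normalizer (Coprime.le_normalizer_commutator_right _ A)
    have hbot : D' = ⊥ := by
      by_contra hne
      have h2 : D' = D := by
        refine Subgroup.eq_of_le_of_card_ge hD'D (Nat.le_of_dvd Nat.card_pos ?_)
        obtain ⟨i, hi, hi'⟩ := (Nat.dvd_prime_pow hp.out).1 (hk' ▸ Subgroup.card_dvd_of_le hD'D)
        rw [hk', hi']
        rcases i with _ | i
        · exact absurd (Subgroup.eq_bot_of_card_eq _ (by rw [hi', pow_zero])) hne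
        · exact pow_dvd_pow p (by omega)
      exact hne (le_bot_iff.1 (hD'D.trans (Coprime.eq_bot_of_le_commutator P₀ hP₀p.isNilpotent
        (hDA.trans hAP) (h2.ge.trans (Subgroup.commutator_mono le_rfl hyP))).le))
    exact (Subgroup.commutator_eq_bot_iff_le_centralizer).1 hbot
  set c : G := ⁅a₀, (y : G)⁆ with hc
  have hcZ : c ∈ Z := hWZ ▸ hDW
    (Subgroup.commutator_mem_commutator (e.line_le a₀'.2) (Subgroup.mem_zpowers _))
  have hc1 : c ≠ 1 := fun hb => ha₀Z (hWZ ▸ ⟨e.line_le a₀'.2, Subgroup.mem_centralizer_iff.2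
    (fun x hx => by
      obtain ⟨k, rfl⟩ := hx
      exact ((commutatorElement_eq_one_iff_commute.1 hb).symm.zpow_left k).eq)⟩)
  have hcz : Subgroup.zpowers c = Z := Subgroup.eq_of_le_of_card_ge (Subgroup.zpowers_le.2 hcZ)
    (by rw [hZc, Nat.card_zpowers, hord c hcZ.1 hc1])
  have hcy : Commute c (y : G) := (Subgroup.mem_centralizer_iff.1 hcZ.2 (y : G) y.2).symm
  -- `y` moves the lines other than `Z` onto one another
  have hconj : ∀ x ∈ A, x ∉ Z → ∃ m ∈ P₀, ∃ u ∈ A₀, u ≠ 1 ∧ x = m * u * m⁻¹ := by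
    intro x hx hxZ
    have hxS := hsup hx
    rw [← SetLike.mem_coe, Subgroup.coe_mul_of_right_le_normalizer_left A₀ Z
      ((inf_le_left.trans ((le_centralizer_self_of_comm hAc).trans
        (centralizer_anti e.line_le))).trans (Subgroup.centralizer_le_normalizer _))] at hxS
    obtain ⟨u, hu, z, hz, huz⟩ := hxS
    obtain ⟨i, hi⟩ := (mem_powers_iff_mem_zpowers.2 (hA₀z ▸ hu : u ∈ Subgroup.zpowers a₀))
    obtain ⟨j, hj⟩ := (mem_powers_iff_mem_zpowers.2 (hcz ▸ hz : z ∈ Subgroup.zpowers c))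
    simp only at hi hj
    have ho : orderOf c = p := hord c hcZ.1 hc1
    have hu1 : u ≠ 1 := fun hb => hxZ (by rw [← huz, hb]; simpa using hz)
    have hiu : ¬ p ∣ i := fun hd => hu1 (by
      obtain ⟨d, rfl⟩ := hd
      rw [← hi, pow_mul, e.elem.2 _ (e.line_le a₀'.2), one_pow])
    -- solve `(c⁻¹)^(i k) = z`
    haveI : NeZero p := ⟨hp.out.ne_zero⟩
    obtain ⟨k, hk⟩ : ∃ k : ℕ, (c⁻¹) ^ (i * k) = z := by
      refine ⟨(-(j : ZMod p) / (i : ZMod p)).val, ?_⟩
      set k := (-(j : ZMod p) / (i : ZMod p)).val with hkd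
      have hmod : ((i * k + j : ℕ) : ZMod p) = 0 := by
        rw [Nat.cast_add, Nat.cast_mul, hkd, ZMod.natCast_zmod_val, mul_div_cancel₀ _ (by
          rwa [Ne, ZMod.natCast_eq_zero_iff]), neg_add_cancel]
      rw [← hj, inv_pow, inv_eq_iff_mul_eq_one, ← pow_add, ← orderOf_dvd_iff_pow_eq_one, ho,
        ← ZMod.natCast_eq_zero_iff, hmod]
    refine ⟨(y : G) ^ k, pow_mem y.2 k, u, hu, hu1, ?_⟩
    have hyk : ∀ n : ℕ, (y : G) ^ n * a₀ * ((y : G) ^ n)⁻¹ = a₀ * (c⁻¹) ^ n := by
      intro n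
      induction n with
      | zero => simp
      | succ n ih =>
        calc (y : G) ^ (n + 1) * a₀ * ((y : G) ^ (n + 1))⁻¹
            = (y : G) * ((y : G) ^ n * a₀ * ((y : G) ^ n)⁻¹) * (y : G)⁻¹ := by
              rw [pow_succ']; group
          _ = (y : G) * a₀ * (y : G)⁻¹ * ((y : G) * (c⁻¹) ^ n * (y : G)⁻¹) := by rw [ih]; group
          _ = (y : G) * a₀ * (y : G)⁻¹ * (c⁻¹) ^ n := by
              rw [((hcy.inv_left.pow_left n).symm).eq, mul_inv_cancel_right]
          _ = c⁻¹ * a₀ * (c⁻¹) ^ n := by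
              congr 1
              rw [hc, commutatorElement_def]; group
          _ = a₀ * (c⁻¹) ^ (n + 1) := by
              have hac : Commute c⁻¹ a₀ := (show Commute c a₀ from (Subgroup.mem_centralizer_iff.1
                (le_centralizer_self_of_comm hAc (e.line_le a₀'.2)) c hcZ.1)).inv_left
              rw [hac.eq, mul_assoc, pow_succ']
    have hac : Commute a₀ (c⁻¹ ^ k) := ((show Commute c a₀ from (Subgroup.mem_centralizer_iff.1
      (le_centralizer_self_of_comm hAc (e.line_le a₀'.2)) c hcZ.1)).inv_left.pow_left k).symm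
    rw [← huz, ← hi, ← conj_pow, hyk k, hac.mul_pow, ← pow_mul, mul_comm k i, hk]
  -- `C(Z)` meets `M_σ` trivially
  have hgA : A ≤ M.map (MulAut.conj g).toMonoidHom := hAP.trans
    ((map_conj_eq_self hgN).ge.trans (Subgroup.map_mono hP₀M))
  have hZfix : sigmaCore M ⊓ Subgroup.centralizer (Z : Set G) = ⊥ := by
    set H := Subgroup.centralizer (Z : Set G) with hH
    by_contra hne
    obtain ⟨q, hq, hqd⟩ :=
      Nat.exists_prime_and_dvd (fun h1 => hne (Subgroup.eq_bot_of_card_eq _ h1))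
    haveI : Fact q.Prime := ⟨hq⟩
    have hqs : q ∈ sigma M :=
      isPiSub_sigmaCore M q hq (hqd.trans (Subgroup.card_dvd_of_le inf_le_left))
    have hAH : A ≤ H := (le_centralizer_self_of_comm hAc).trans (centralizer_anti inf_le_left)
    have hHtop : H ≠ ⊤ := fun hb => normalizer_ne_top hG hZne
      (fun h1 => hG.2.2.1 ⟨⟨fun a b => congrArg Subtype.val (hAc.is_comm.comm
        (⟨a, top_le_iff.2 (top_le_iff.1 (h1.ge.trans inf_le_left)) (Subgroup.mem_top a)⟩ : A)
        ⟨b, top_le_iff.2 (top_le_iff.1 (h1.ge.trans inf_le_left)) (Subgroup.mem_top b)⟩)⟩⟩)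
      (top_le_iff.1 (hb ▸ Subgroup.centralizer_le_normalizer _))
    have mk : ∀ g' : G, A ≤ M.map (MulAut.conj g').toMonoidHom →
        H.map (MulAut.conj g').toMonoidHom = H → ∃ Q : Sylow q G,
        (Q : Subgroup G) ≤ M.map (MulAut.conj g').toMonoidHom ∧
        A ≤ Subgroup.normalizer ((Q : Subgroup G) : Set G) ∧ H ⊓ Q ≠ ⊥ := by
      intro g' hg' hHg
      set U₀ := (sigmaCore M).map (MulAut.conj g').toMonoidHom ⊓ H with hU₀
      have hd : q ∣ Nat.card U₀ := by
        rw [hU₀, ← hHg, ← Subgroup.map_inf _ _ _ (MulAut.conj g').injective, card_map_conj]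
        exact hqd
      have hco : (Nat.card A).Coprime (Nat.card U₀) :=
        (card_map_conj (sigmaCore M) g' ▸ e.toSqPair.coprime_sigmaCore :
          (Nat.card A).Coprime _).coprime_dvd_right (Subgroup.card_dvd_of_le inf_le_left)
      obtain ⟨R, hR⟩ := Coprime.exists_invariant_sylow A U₀ (Coprime.le_normalizer_inf
        (hg'.trans ((Subgroup.map_mono (le_normalizer_sigmaCore M)).trans
          (normalizer_map_conj _ _).ge)) (hAH.trans Subgroup.le_normalizer)) hco
        (Or.inl e.toSqPair.isSolvable) q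
      have hRU : (R : Subgroup U₀).map U₀.subtype ≤ U₀ := Subgroup.map_subtype_le _
      obtain ⟨Q, hRQ, hQM, hQA⟩ := e.toSqPair.exists_invariant_sylow hG h hg' hqs
        (hRU.trans (inf_le_left.trans (Subgroup.map_mono (sigmaCore_le M)))) (R.isPGroup'.map _) hR
      exact ⟨Q, hQM.trans (Subgroup.map_mono (sigmaCore_le M)), hQA, fun hb =>
        R.ne_bot_of_dvd_card hd ((Subgroup.map_eq_bot_iff_of_injective _ U₀.subtype_injective).1
          (le_bot_iff.1 ((le_inf (hRU.trans inf_le_right) hRQ).trans hb.le)))⟩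
    obtain ⟨Q, hQM, hQA, hHQ⟩ := mk 1 (by rw [map_conj_one]; exact e.le) (map_conj_one H)
    obtain ⟨Q', hQ'M, hQ'A, hHQ'⟩ := mk g hgA (by rw [hH, ← map_conj_centralizer, hgZ])
    rw [map_conj_one] at hQM
    exact hgM (mem_of_meet hG h e.coatom hqs (e.toSqPair.transitivity hG h)
      (e.toSqPair.not_dvd_card hq hqs) e.centralizer_le Q Q' hQM hQ'M hQA hQ'A hHtop hAH hHQ hHQ')
  -- all lines of `A^g` act without fixed points
  set A' := A.map (MulAut.conj g).toMonoidHom with hA'
  have hA'M : A' ≤ M := ((Subgroup.map_mono hAP).trans (map_conj_eq_self hgN).le).trans hP₀M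
  haveI : IsMulCommutative A := hAc
  haveI : IsMulCommutative A' := Subgroup.map_isMulCommutative A _
  have hA'c : ¬ IsCyclic A' := fun hb => e.toSqPair.not_isCyclic
    ((A.equivMapOfInjective _ (MulAut.conj g).injective).isCyclic.2 hb)
  have hfin := Coprime.le_of_centralizer_le A' (sigmaCore M) ⊥ hA'c
    (hA'M.trans (le_normalizer_sigmaCore M)) (by rw [card_map_conj]; exact e.toSqPair.coprime_sigmaCore)
    (fun x hx hx1 => by
      obtain ⟨b, hb, rfl⟩ := hx
      have hb1 : b ≠ 1 := fun h1 => hx1 (by simp [h1])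
      intro v hv
      have hv2 := Subgroup.mem_centralizer_iff.1 hv.2 _ rfl
      by_cases hbZ : b ∈ Z
      · have hbg : Subgroup.zpowers ((MulAut.conj g).toMonoidHom b) = Z := by
          rw [← MonoidHom.map_zpowers, Subgroup.eq_of_le_of_card_ge (Subgroup.zpowers_le.2 hbZ)
            (by rw [hZc, Nat.card_zpowers, hord b hb hb1]), hgZ]
        rw [← hZfix]
        refine ⟨hv.1, Subgroup.mem_centralizer_iff.2 fun w hw => ?_⟩
        obtain ⟨n, rfl⟩ := (hbg ▸ hw : w ∈ Subgroup.zpowers ((MulAut.conj g).toMonoidHom b))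
        exact ((show Commute _ v from hv2).zpow_left n).eq
      · obtain ⟨m, hm, u, hu, hu1, rfl⟩ := hconj b hb hbZ
        set m' := g * m * g⁻¹ with hm'd
        have hm' : m' ∈ M := hP₀M ((Subgroup.mem_normalizer_iff.1 hgN m).1 hm)
        have h0 := e.inf_centralizer_conj_eq_bot hG h hgM hgA
        have hvM : m'⁻¹ * v * m' ∈ sigmaCore M := by
          have := (Subgroup.mem_normalizer_iff.1 (le_normalizer_sigmaCore M (inv_mem hm')) v).1 hv.1
          simpa [mul_assoc] using this
        have hgu : Subgroup.zpowers ((MulAut.conj g).toMonoidHom u) =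
            A₀.map (MulAut.conj g).toMonoidHom := by
          rw [← MonoidHom.map_zpowers, Subgroup.eq_of_le_of_card_ge (Subgroup.zpowers_le.2 hu)
            (by rw [e.line_card, Nat.card_zpowers, hord u (e.line_le hu) hu1])]
        have hcomm : Commute ((MulAut.conj g).toMonoidHom u) (m'⁻¹ * v * m') := by
          show (g * u * g⁻¹) * (m'⁻¹ * v * m') = m'⁻¹ * v * m' * (g * u * g⁻¹)
          have h2 : g * (m * u * m⁻¹) * g⁻¹ * v = v * (g * (m * u * m⁻¹) * g⁻¹) := hv2
          rw [hm'd]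
          calc g * u * g⁻¹ * ((g * m * g⁻¹)⁻¹ * v * (g * m * g⁻¹))
              = (g * m * g⁻¹)⁻¹ * (g * (m * u * m⁻¹) * g⁻¹ * v) * (g * m * g⁻¹) := by group
            _ = (g * m * g⁻¹)⁻¹ * (v * (g * (m * u * m⁻¹) * g⁻¹)) * (g * m * g⁻¹) := by rw [h2]
            _ = _ := by group
        have h3 : m'⁻¹ * v * m' ∈ (⊥ : Subgroup G) := by
          rw [← h0]
          refine ⟨hvM, Subgroup.mem_centralizer_iff.2 fun w hw => ?_⟩
          obtain ⟨n, rfl⟩ := (hgu ▸ hw : w ∈ Subgroup.zpowers ((MulAut.conj g).toMonoidHom u))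
          exact (hcomm.zpow_left n).eq
        rw [Subgroup.mem_bot] at h3 ⊢
        have h4 := congrArg (fun t => m' * t * m'⁻¹) h3
        simpa [mul_assoc] using h4)
  exact sigmaCore_ne_bot hG h.uniq smallRankFrattini fittingRankTwoDerived rankTwoLargestPrime
    e.coatom (le_bot_iff.1 hfin)

end Cfsg.Agent.BGSigma
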