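import Cfsg.Agent.BGSigma.Exceptional
import Cfsg.Agent.BGSigma.Beta
import Cfsg.Agent.Lib.Coprime.Abelian

/-!
BG 11.5: `M_σ A` is normal in an exceptional maximal subgroup.
-/

set_option autoImplicit false

namespace Cfsg.Agent.BGSigma

open Cfsg
open scoped Pointwise
open scoped commutatorElement

universe u

variable {G : Type u} [Group G] [Finite G]

/-- A prime-power element group of order prime to `p (p² - 1)` normalising an elementary abelian
group of order `p²` centralises it. -/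
theorem le_centralizer_of_gt {p r : ℕ} (hpp : p.Prime) (hr : r.Prime) (hpr : p < r) (hp2 : p ≠ 2)
    {A T : Subgroup G} (hA : Nat.card A = p ^ 2) (hT : IsPGroup r T)
    (hTA : T ≤ Subgroup.normalizer (A : Set G)) : T ≤ Subgroup.centralizer (A : Set G) := by
  haveI := Fact.mk hr
  haveI := Fact.mk hpp
  let φ : T →* MulAut A := A.normalizerMonoidHom.comp (Subgroup.inclusion hTA)
  let _inst : MulAction T A := MulAction.compHom A φ
  set C := A ⊓ Subgroup.centralizer (T : Set G) with hC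
  have hfix : Nat.card (MulAction.fixedPoints T A) = Nat.card C := by
    refine Nat.card_congr
      { toFun := fun a => ⟨((a : A) : G), (a : A).2, Subgroup.mem_centralizer_iff.2 fun t ht => ?_⟩
        invFun := fun c => ⟨⟨c, c.2.1⟩, fun t => Subtype.ext (?_)⟩
        left_inv := fun a => rfl
        right_inv := fun c => rfl }
    · have h1 : t * ((a : A) : G) * t⁻¹ = ((a : A) : G) := congrArg Subtype.val (a.2 ⟨t, ht⟩)
      exact mul_inv_eq_iff_eq_mul.1 h1
    · show (t : G) * c * (t : G)⁻¹ = c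
      rw [Subgroup.mem_centralizer_iff.1 c.2.2 t t.2, mul_inv_cancel_right]
  have hmod := hT.card_modEq_card_fixedPoints A
  rw [hfix, hA] at hmod
  obtain ⟨k, hk, hk'⟩ := (Nat.dvd_prime_pow hpp).1
    (hA ▸ Subgroup.card_dvd_of_le (inf_le_left : C ≤ A))
  rw [hk'] at hmod
  have hfin : k = 2 → T ≤ Subgroup.centralizer (A : Set G) := fun hk2 => by
    rw [Subgroup.le_centralizer_iff]
    have := Subgroup.eq_of_le_of_card_ge (inf_le_left : C ≤ A) (by rw [hA, hk', hk2])
    exact this ▸ inf_le_right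
  interval_cases k
  · exfalso
    have h1 : r ∣ p ^ 2 - 1 := (Nat.modEq_iff_dvd' (Nat.one_le_pow _ _ hpp.pos)).1
      (by simpa using hmod.symm)
    have h2 : p ^ 2 - 1 = (p + 1) * (p - 1) := by
      have := Nat.sq_sub_sq p 1
      simpa using this
    rw [h2] at h1
    rcases (Nat.Prime.dvd_mul hr).1 h1 with h3 | h3
    · have hle := Nat.le_of_dvd (by omega) h3
      have hr1 : r = p + 1 := by omega
      rcases hpp.eq_two_or_odd' with h4 | h4
      · exact hp2 h4
      · have h5 : Even r := hr1 ▸ h4.add_one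
        have : r = 2 := hr.eq_two_or_odd'.resolve_right (Nat.not_odd_iff_even.2 h5)
        have := hpp.two_le
        omega
    · have := Nat.le_of_dvd (by have := hpp.two_le; omega) h3
      omega
  · exfalso
    have h1 : r ∣ p ^ 2 - p ^ 1 :=
      (Nat.modEq_iff_dvd' (Nat.pow_le_pow_right hpp.pos one_le_two)).1 hmod.symm
    rw [pow_one, sq, ← Nat.mul_sub_one] at h1
    rcases (Nat.Prime.dvd_mul hr).1 h1 with h3 | h3
    · exact absurd (Nat.le_of_dvd hpp.pos h3) (by omega)
    · have := Nat.le_of_dvd (by have := hpp.two_le; omega) h3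
      omega
  · exact hfin rfl

/-- A prime `p` acting nontrivially on a group of order `r` is less than `r`. -/
theorem lt_of_moved {p r : ℕ} (hpp : p.Prime) (hr : r.Prime) {A X : Subgroup G}
    (hA : ∀ a ∈ A, a ^ p = 1) (hAX : A ≤ Subgroup.normalizer (X : Set G)) (hX : Nat.card X = r)
    (hne : ¬ A ≤ Subgroup.centralizer (X : Set G)) : p < r := by
  haveI := Fact.mk hr
  haveI : IsCyclic X := isCyclic_of_prime_card hX
  obtain ⟨a, ha, haX⟩ := SetLike.not_le_iff_exists.1 hne
  set f := X.normalizerMonoidHom ⟨a, hAX ha⟩ with hf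
  have hf1 : f ≠ 1 := by
    intro hb
    refine haX ?_
    have : (⟨a, hAX ha⟩ : Subgroup.normalizer (X : Set G)) ∈ X.normalizerMonoidHom.ker := hb
    rw [Subgroup.normalizerMonoidHom_ker, Subgroup.mem_subgroupOf] at this
    exact this
  have hfp : f ^ p = 1 := by
    rw [hf, ← map_pow]
    convert map_one X.normalizerMonoidHom
    exact Subtype.ext (by simpa using hA a ha)
  haveI := Fact.mk hpp
  have hd : p ∣ r - 1 := by
    have h1 := orderOf_dvd_natCard f
    rw [orderOf_eq_prime hfp hf1, IsCyclic.card_mulAut, hX, Nat.totient_prime hr] at h1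
    exact h1
  have := Nat.le_of_dvd (by have := hr.two_le; omega) hd
  have := hr.two_le
  omega

variable (hG : IsMinSimpleOddOrder G) (h : LocalInputs G)
include hG h

/-- For `r ∉ β(L)`, commuting in the derived group of a maximal subgroup. -/
theorem le_centralizer_of_not_mem_beta {L A X : Subgroup G} (hL : IsCoatom L) {r : ℕ}
    [hr : Fact r.Prime] (hrb : r ∉ beta L) (hAL : A ≤ ⁅L, L⁆) (hXL : X ≤ ⁅L, L⁆)
    (hA : ¬ r ∣ Nat.card A) (hX : IsPGroup r X) (hAX : A ≤ Subgroup.normalizer (X : Set G)) :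
    X ≤ Subgroup.centralizer (A : Set G) := by
  by_cases hX1 : X = ⊥
  · simp [hX1]
  have hrL : r ∣ Nat.card L := by
    obtain ⟨j, hj⟩ := hX.exists_card_eq
    rcases j with _ | j
    · exact absurd (Subgroup.eq_bot_of_card_eq _ hj) hX1
    · exact ((dvd_pow_self r j.succ_ne_zero).trans (hj ▸ Subgroup.card_dvd_of_le hXL)).trans
        (Subgroup.card_dvd_of_le (Subgroup.commutator_le_self L))
  obtain ⟨P, K, hK, hKP⟩ := (normalPComplement_of_not_mem_beta hG h.uniq h.plength h.narrow
    h.narrowSylow hL hr.out hrL hrb).1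
  have hKr : ¬ r ∣ Nat.card K := hKP.index_eq_card ▸ P.not_dvd_index
  have hAK : ∀ a, ∀ ha : a ∈ A, (⟨a, hAL ha⟩ : (⁅L, L⁆ : Subgroup G)) ∈ K := by
    intro a ha
    haveI := hK
    rw [← QuotientGroup.eq_one_iff, ← orderOf_eq_one_iff]
    have h1 : orderOf ((⟨a, hAL ha⟩ : (⁅L, L⁆ : Subgroup G)) : (⁅L, L⁆ : Subgroup G) ⧸ K) ∣
        Nat.card A := by
      refine (orderOf_map_dvd (QuotientGroup.mk' K) _).trans ?_
      rw [← Subgroup.orderOf_coe, ← Subgroup.orderOf_mk a ha]
      exact orderOf_dvd_natCard _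
    obtain ⟨j, hj⟩ := P.isPGroup'.exists_card_eq
    refine Nat.eq_one_of_dvd_coprimes ((hr.out.coprime_iff_not_dvd.2 hA).pow_left j) ?_ h1
    rw [← hj, ← hKP.symm.index_eq_card, Subgroup.index_eq_card]
    exact orderOf_dvd_natCard _
  rw [← Subgroup.commutator_eq_bot_iff_le_centralizer, eq_bot_iff, Subgroup.commutator_le]
  intro x hx a ha
  rw [Subgroup.mem_bot]
  have hcX : ⁅x, a⁆ ∈ X :=
    Coprime.commutator_le_of_le_normalizer hAX (Subgroup.commutator_mem_commutator hx ha)
  have hcK : (⟨⁅x, a⁆, hXL hcX⟩ : (⁅L, L⁆ : Subgroup G)) ∈ K := by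
    have := K.mul_mem (hK.conj_mem _ (hAK a ha) ⟨x, hXL hx⟩) (K.inv_mem (hAK a ha))
    convert this using 1
    exact Subtype.ext (by simp [commutatorElement_def])
  obtain ⟨j, hj⟩ := hX.exists_card_eq
  rw [← orderOf_eq_one_iff]
  refine Nat.eq_one_of_dvd_coprimes ((hr.out.coprime_iff_not_dvd.2 hKr).pow_left j) ?_ ?_
  · rw [← hj, ← Subgroup.orderOf_mk _ hcX]; exact orderOf_dvd_natCard _
  · have := Subgroup.orderOf_dvd_natCard K hcK
    rwa [← Subgroup.orderOf_coe] at this

/-- For a non-ideal prime, commuting in the derived group of a maximal subgroup. -/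
theorem le_centralizer_of_not_ideal {L A X : Subgroup G} (hL : IsCoatom L) {r : ℕ}
    [hr : Fact r.Prime] (hri : ¬ IsIdealPrime r G) (hAL : A ≤ ⁅L, L⁆) (hXL : X ≤ ⁅L, L⁆)
    (hA : ¬ r ∣ Nat.card A) (hX : IsPGroup r X) (hAX : A ≤ Subgroup.normalizer (X : Set G)) :
    X ≤ Subgroup.centralizer (A : Set G) :=
  le_centralizer_of_not_mem_beta hG h hL (fun hb => hri hb.2) hAL hXL hA hX hAX

omit hG h

/-- The elements of order `r` of a nonidentity cyclic `r`-group form a subgroup of order `r`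
normalised by the normaliser; whoever centralises it centralises the whole group. -/
theorem exists_order_prime_of_cyclic {r : ℕ} [hr : Fact r.Prime] {W : Subgroup G}
    (hW : IsPGroup r W) (hWc : IsCyclic W) (hW1 : W ≠ ⊥) :
    ∃ X ≤ W, Nat.card X = r ∧
      Subgroup.normalizer (W : Set G) ≤ Subgroup.normalizer (X : Set G) ∧
      ∀ B : Subgroup G, B ≤ Subgroup.normalizer (W : Set G) → ¬ r ∣ Nat.card B →
        Group.IsSolvable B → B ≤ Subgroup.centralizer (X : Set G) →
        B ≤ Subgroup.centralizer (W : Set G) := by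
  classical
  haveI := hWc
  haveI : Fintype W := Fintype.ofFinite W
  have hrW : r ∣ Nat.card W := by
    obtain ⟨j, hj⟩ := hW.exists_card_eq
    rcases j with _ | j
    · exact absurd (Subgroup.eq_bot_of_card_eq _ hj) hW1
    · exact hj ▸ dvd_pow_self r j.succ_ne_zero
  obtain ⟨x, hx⟩ := exists_prime_orderOf_dvd_card' r hrW
  set X := Subgroup.zpowers (x : G) with hXd
  have hXW : X ≤ W := Subgroup.zpowers_le.2 x.2
  have hXc : Nat.card X = r := by rw [hXd, Nat.card_zpowers, Subgroup.orderOf_coe, hx]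
  have hmem : ∀ z ∈ W, z ^ r = 1 → z ∈ X := by
    intro z hz hzr
    have hT : ({y : W | y ^ r = 1} : Finset W).card ≤ r := IsCyclic.card_pow_eq_one_le hr.out.pos
    have key : ({y : W | (y : G) ∈ X} : Finset W) = ({y : W | y ^ r = 1} : Finset W) := by
      refine Finset.eq_of_subset_of_card_le (fun y hy => ?_) (hT.trans (le_of_eq ?_))
      · simp only [Finset.mem_filter, Finset.mem_univ, true_and] at hy ⊢
        have := congrArg Subtype.val (pow_card_eq_one' (G := X) (x := ⟨(y : G), hy⟩))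
        ext
        simpa [hXc] using this
      · rw [← Fintype.card_subtype, ← Nat.card_eq_fintype_card, ← hXc]
        exact Nat.card_congr (Subgroup.subgroupOfEquivOfLe hXW).symm.toEquiv
    have h1 := Finset.ext_iff.1 key ⟨z, hz⟩
    simp only [Finset.mem_filter, Finset.mem_univ, true_and] at h1
    exact h1.2 (Subtype.ext hzr)
  refine ⟨X, hXW, hXc, ?_, fun B hB hrB hBs hBX => ?_⟩
  · refine Coprime.le_normalizer_of_conj_mem fun n hn y hy => hmem _
      ((Subgroup.mem_normalizer_iff.1 hn y).1 (hXW hy)) ?_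
    have := congrArg Subtype.val (pow_card_eq_one' (G := X) (x := ⟨y, hy⟩))
    rw [← MulAut.conj_apply, ← map_pow]
    simp only [hXc, SubmonoidClass.coe_pow, OneMemClass.coe_one] at this
    rw [this, map_one]
  · have hco : (Nat.card B).Coprime (Nat.card W) := by
      obtain ⟨j, hj⟩ := hW.exists_card_eq
      rw [hj]
      exact (Nat.Coprime.symm (hr.out.coprime_iff_not_dvd.2 hrB)).pow_right j
    haveI : IsMulCommutative W := inferInstance
    have h0 := Coprime.commutator_inf_centralizer_eq_bot B W hB hco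
    have hle := Coprime.commutator_le_of_le_normalizer hB
    have hbot : ⁅W, B⁆ = ⊥ := by
      by_contra hne
      obtain ⟨z, hz⟩ := exists_prime_orderOf_dvd_card' r (G := ↥⁅W, B⁆) (by
        obtain ⟨j, hj⟩ := (hW.to_le hle).exists_card_eq
        rcases j with _ | j
        · exact absurd (Subgroup.eq_bot_of_card_eq _ hj) hne
        · exact hj ▸ dvd_pow_self r j.succ_ne_zero)
      have hzo : orderOf (z : G) = r := by rw [Subgroup.orderOf_coe, hz]
      have : (z : G) ∈ ⁅W, B⁆ ⊓ Subgroup.centralizer (B : Set G) :=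
        ⟨z.2, Subgroup.le_centralizer_iff.1 hBX (hmem _ (hle z.2) (hzo ▸ pow_orderOf_eq_one _))⟩
      rw [h0, Subgroup.mem_bot] at this
      rw [this, orderOf_one] at hzo
      exact hr.out.ne_one hzo.symm
    rw [Subgroup.le_centralizer_iff]
    exact Subgroup.commutator_eq_bot_iff_le_centralizer.1 hbot

include hG h

/-- In `M' ∩ C(M_σ)`, a nilpotent group, the `r`-part is a normal cyclic subgroup of `M` for each
prime `r ∉ σ(M)`. -/
theorem exists_cyclic_rcore (M : Subgroup G) (hM : IsCoatom M) {r : ℕ} [hr : Fact r.Prime]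
    (hrs : r ∉ sigma M) :
    ∃ W : Subgroup G, W ≤ ⁅M, M⁆ ⊓ Subgroup.centralizer (sigmaCore M : Set G) ∧ IsPGroup r W ∧
      IsCyclic W ∧ M ≤ Subgroup.normalizer (W : Set G) ∧
      ∀ Y : Subgroup G, Y ≤ ⁅M, M⁆ ⊓ Subgroup.centralizer (sigmaCore M : Set G) →
        IsPGroup r Y → Y ≤ W := by
  set N := ⁅M, M⁆ ⊓ Subgroup.centralizer (sigmaCore M : Set G) with hN
  have hNM : N ≤ M := inf_le_left.trans (Subgroup.commutator_le_self M)
  have hNn : M ≤ Subgroup.normalizer (N : Set G) := Coprime.le_normalizer_inf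
    (Coprime.le_normalizer_commutator_left M M)
    (Coprime.le_normalizer_centralizer (le_normalizer_sigmaCore M))
  haveI : (piCore (alpha M) M).Normal :=
    haveI := piCore_characteristic (π := alpha M) (G := M)
    inferInstance
  have hnilN : Group.IsNilpotent N := by
    obtain ⟨-, -, hασ, -, hnil⟩ := alpha_core_stmt hG h.uniq M hM
    let i : N →* M := Subgroup.inclusion hNM
    have hi : ∀ x : N, i x ∈ commutator M := by
      intro x
      have hx : (x : G) ∈ (commutator M).map M.subtype := by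
        rw [Subgroup.map_subtype_commutator]; exact x.2.1
      obtain ⟨y, hy, hyx⟩ := hx
      exact (Subtype.ext hyx : y = i x) ▸ hy
    let f : N →* ↥((commutator ↥M).map (QuotientGroup.mk' (piCore (alpha M) ↥M))) :=
      ((QuotientGroup.mk' (piCore (alpha M) ↥M)).comp i).codRestrict _
        fun x => ⟨i x, hi x, rfl⟩
    haveI := hnil
    refine Subgroup.isNilpotent_of_ker_le_center f (fun x hx => Subgroup.mem_center_iff.2 fun y => ?_)
    have hxα : i x ∈ piCore (alpha M) M := (QuotientGroup.eq_one_iff _).1 (congrArg Subtype.val hx)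
    have hxσ : (x : G) ∈ sigmaCore M := hασ ⟨i x, hxα, rfl⟩
    exact Subtype.ext (Subgroup.mem_centralizer_iff.1 y.2.2 x hxσ).symm
  let S : Sylow r N := default
  haveI : (S : Subgroup N).Normal := Transfer.nilpotent_sylow_normal hnilN S
  haveI : (S : Subgroup N).Characteristic := S.characteristic_of_normal inferInstance
  set W := (S : Subgroup N).map N.subtype with hW
  have hWN : W ≤ N := Subgroup.map_subtype_le _
  have hWn : M ≤ Subgroup.normalizer (W : Set G) :=
    hNn.trans (Coprime.normalizer_le_normalizer_map N _)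
  refine ⟨W, hWN, S.isPGroup'.map _, ?_, hWn, fun Y hYN hY y hy => ?_⟩
  · exact isCyclic_of_normal_centralizing hG h hM hrs (hWN.trans hNM) (S.isPGroup'.map _) hWn
      (hWN.trans inf_le_right)
  · obtain ⟨j, hj⟩ := hY ⟨y, hy⟩
    have hyj : (⟨y, hYN hy⟩ : N) ^ r ^ j = 1 := Subtype.ext (by
      simpa using congrArg Subtype.val hj)
    obtain ⟨k, -, hk⟩ := (Nat.dvd_prime_pow hr.out).1 (orderOf_dvd_of_pow_eq_one hyj)
    exact ⟨⟨y, hYN hy⟩, Transfer.nilpotent_mem_sylow hnilN S hk, rfl⟩

variable {p : ℕ} [hp : Fact p.Prime] {M A A₀ : Subgroup G}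

/-- BG 11.4: every Sylow `p`-subgroup of an exceptional maximal subgroup is abelian. -/
theorem Exceptional.sylow_comm' (e : Exceptional p M A A₀) (P : Sylow p M) :
    IsMulCommutative (P : Subgroup M) := by
  obtain ⟨Q, hQ⟩ := (e.toSqPair.isPGroup.comap_subtype (K := M)).exists_le_sylow
  have hc := e.sylow_comm hG h Q (fun a ha => ⟨⟨a, e.le ha⟩, hQ ha, rfl⟩)
  have hQc : IsMulCommutative (Q : Subgroup M) := ⟨⟨fun a b => Subtype.ext (Subtype.ext
    (by simpa using congrArg Subtype.val (hc.is_comm.comm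
      (⟨_, ⟨a, a.2, rfl⟩⟩ : ((Q : Subgroup M).map M.subtype : Subgroup G))
      ⟨_, ⟨b, b.2, rfl⟩⟩)))⟩⟩
  exact ⟨⟨fun a b => (Q.equiv P).symm.injective (by
    rw [map_mul, map_mul]; exact hQc.is_comm.comm _ _)⟩⟩

/-- `N(P) ≤ N(A)` for a Sylow subgroup `P ⊇ A`. -/
theorem Exceptional.normalizer_sylow_le (e : Exceptional p M A A₀) (P : Sylow p M)
    (hAP : A ≤ (P : Subgroup M).map M.subtype) :
    Subgroup.normalizer (((P : Subgroup M).map M.subtype : Subgroup G) : Set G) ≤
      Subgroup.normalizer (A : Set G) := by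
  have hc := e.sylow_comm hG h P hAP
  refine Coprime.le_normalizer_of_conj_mem fun g hg a ha => ?_
  refine (mem_iff_pow_eq_one e.elem (e.toSqPair.maximal hG h) hAP
    ((le_centralizer_self_of_comm hc).trans (centralizer_anti hAP))
    ((Subgroup.mem_normalizer_iff.1 hg a).1 (hAP ha))).1 ?_
  rw [← MulAut.conj_apply, ← map_pow, e.elem.2 a ha, map_one]

theorem Exceptional.exists_normalizer_not_le (e : Exceptional p M A A₀) :
    ∃ g ∈ Subgroup.normalizer (A : Set G), g ∉ M := by
  obtain ⟨P, hAP, g, hgN, hgM⟩ :=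
    exists_sylow_normalizer_not_le e.le e.toSqPair.isPGroup e.toSqPair.dvd e.not_sigma
  exact ⟨g, e.normalizer_sylow_le hG h P hAP hgN, hgM⟩

/-- BG 11.3 (c): two lines generating `A` act on `M_σ` without fixed points. -/
theorem Exceptional.exists_fpf_lines (e : Exceptional p M A A₀) :
    ∃ B₁ B₂ : Subgroup G, B₁ ≤ A ∧ B₂ ≤ A ∧ Nat.card B₁ = p ∧ Nat.card B₂ = p ∧ B₁ ⊔ B₂ = A ∧
      sigmaCore M ⊓ Subgroup.centralizer (B₁ : Set G) = ⊥ ∧
      sigmaCore M ⊓ Subgroup.centralizer (B₂ : Set G) = ⊥ := by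
  obtain ⟨g, hgA, hgM⟩ := e.exists_normalizer_not_le hG h
  have hAg : ∀ x ∈ Subgroup.normalizer (A : Set G), A ≤ M.map (MulAut.conj x).toMonoidHom :=
    fun x hx => (map_conj_eq_self hx).ge.trans (Subgroup.map_mono e.le)
  have hle : ∀ x ∈ Subgroup.normalizer (A : Set G), A₀.map (MulAut.conj x).toMonoidHom ≤ A :=
    fun x hx => (Subgroup.map_mono e.line_le).trans (map_conj_eq_self hx).le
  set B₁ := A₀.map (MulAut.conj g).toMonoidHom with hB₁
  set B₂ := A₀.map (MulAut.conj g⁻¹).toMonoidHom with hB₂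
  have hne : B₁ ≠ B₂ := by
    intro hb
    have h2 : g * g ∈ Subgroup.normalizer (A₀ : Set G) := by
      rw [Subgroup.mem_normalizer_iff_map_conj_eq]
      change A₀.map (MulAut.conj (g * g)).toMonoidHom = A₀
      rw [← map_conj_comp, ← hB₁, hb, hB₂, map_conj_comp, mul_inv_cancel, map_conj_one]
    obtain ⟨k, hk⟩ := Odd.of_dvd_nat hG.1 (orderOf_dvd_natCard g)
    refine hgM (e.normalizer_le ?_)
    have hgg : g = (g * g) ^ (k + 1) := by
      rw [← sq, ← pow_mul, show 2 * (k + 1) = orderOf g + 1 by omega, pow_succ,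
        pow_orderOf_eq_one, one_mul]
    rw [hgg]
    exact pow_mem h2 _
  have hc₁ : Nat.card B₁ = p := (card_map_conj A₀ g).trans e.line_card
  have hc₂ : Nat.card B₂ = p := (card_map_conj A₀ g⁻¹).trans e.line_card
  refine ⟨B₁, B₂, hle g hgA, hle _ (inv_mem hgA), hc₁, hc₂, ?_,
    e.inf_centralizer_conj_eq_bot hG h hgM (hAg g hgA),
    e.inf_centralizer_conj_eq_bot hG h (fun hb => hgM (M.inv_mem_iff.1 hb)) (hAg _ (inv_mem hgA))⟩
  have hsup : B₁ ⊔ B₂ ≤ A := sup_le (hle g hgA) (hle _ (inv_mem hgA))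
  refine Subgroup.eq_of_le_of_card_ge hsup ?_
  obtain ⟨j, hj, hj'⟩ := (Nat.dvd_prime_pow hp.out).1 (e.card ▸ Subgroup.card_dvd_of_le hsup)
  rw [e.card, hj']
  refine Nat.pow_le_pow_right hp.out.pos ?_
  by_contra hj2
  have hs : Nat.card (B₁ ⊔ B₂ : Subgroup G) ≤ p :=
    hj' ▸ (Nat.pow_le_pow_right hp.out.pos (by omega)).trans_eq (pow_one p)
  have h1 := Subgroup.eq_of_le_of_card_ge (le_sup_left : B₁ ≤ B₁ ⊔ B₂) (hs.trans_eq hc₁.symm)
  have h2 := Subgroup.eq_of_le_of_card_ge (le_sup_right : B₂ ≤ B₁ ⊔ B₂) (hs.trans_eq hc₂.symm)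
  exact hne (h1.trans h2.symm)

/-- The kernel of 11.5: `A` centralises the normal subgroups of prime order `r ∉ σ(M)` that
centralise `M_σ`. -/
theorem Exceptional.le_centralizer_of_normal_prime (e : Exceptional p M A A₀) {r : ℕ}
    [hr : Fact r.Prime] (hrp : r ≠ p) (hrs : r ∉ sigma M) {X : Subgroup G}
    (hXM : X ≤ M) (hX : Nat.card X = r) (hXn : M ≤ Subgroup.normalizer (X : Set G))
    (hXC : X ≤ Subgroup.centralizer (sigmaCore M : Set G)) :
    A ≤ Subgroup.centralizer (X : Set G) := by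
  by_contra hmove
  have hM := e.coatom
  have hAX : A ≤ Subgroup.normalizer (X : Set G) := e.le.trans hXn
  have hpr : p < r := lt_of_moved hp.out hr.out e.elem.2 hAX hX hmove
  have hp2 : p ≠ 2 := ne_two_of_dvd hG e.toSqPair.dvd
  have hXne : X ≠ ⊥ := fun hb => by
    rw [hb, Subgroup.card_bot] at hX; exact hr.out.ne_one hX.symm
  have hNX : Subgroup.normalizer (X : Set G) = M := normalizer_eq_coatom hG hM hXM hXne hXn
  have hrA : ¬ r ∣ Nat.card A := fun hd => by
    rw [e.card] at hd; exact hrp ((Nat.prime_dvd_prime_iff_eq hr.out hp.out).1 (hr.out.dvd_of_dvd_pow hd))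
  have hXr : IsPGroup r X := IsPGroup.of_card (n := 1) (by rw [hX, pow_one])
  have hXA : ⁅X, A⁆ = X := by
    have hle := Coprime.commutator_le_of_le_normalizer hAX
    rcases (Nat.dvd_prime hr.out).1 (hX ▸ Subgroup.card_dvd_of_le hle) with h1 | h1
    · exact absurd (Subgroup.le_centralizer_iff.1 (Subgroup.commutator_eq_bot_iff_le_centralizer.1
        (Subgroup.eq_bot_of_card_eq _ h1))) hmove
    · exact Subgroup.eq_of_le_of_card_ge hle (by rw [h1, hX])
  -- `X` is exceptional
  obtain ⟨⟨hr2, hr1⟩, hri, Ar₀, hArE, hArc, hXAr⟩ :=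
    rank_two_of_normalizer_le hG h.uniq M hM r hrs X hX hNX.le
  have hAr₀M : Ar₀ ≤ M := ((le_centralizer_self_of_comm hArE.1).trans (centralizer_anti hXAr)).trans
    ((Subgroup.centralizer_le_normalizer _).trans hNX.le)
  have e₀ : Exceptional r M Ar₀ X := ⟨⟨hM, hrs, hAr₀M, hArE, hArc⟩, hXAr, hX, hNX.le⟩
  -- a Sylow `r`-subgroup of `M` normalised by `A`
  obtain ⟨P, hAP⟩ : ∃ P : Sylow p M, A ≤ (P : Subgroup M).map M.subtype := by
    obtain ⟨P, hP⟩ := (e.toSqPair.isPGroup.comap_subtype (K := M)).exists_le_sylow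
    exact ⟨P, fun a ha => ⟨⟨a, e.le ha⟩, hP ha, rfl⟩⟩
  set K := (pPrimeCore p M).map M.subtype with hK
  set NA := M ⊓ Subgroup.normalizer (A : Set G) with hNA
  have hKM : K ≤ M := Subgroup.map_subtype_le _
  haveI : (pPrimeCore p M).Normal := inferInstance
  have hKn : M ≤ Subgroup.normalizer (K : Set G) := by
    refine Coprime.le_normalizer_of_conj_mem fun m hm => ?_
    rintro _ ⟨k, hk, rfl⟩
    exact ⟨⟨m, hm⟩ * k * ⟨m, hm⟩⁻¹, (inferInstance : (pPrimeCore p M).Normal).conj_mem k hk _, rfl⟩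
  have hKp : ¬ p ∣ Nat.card K := by
    rw [hK, Subgroup.card_map_of_injective M.subtype_injective]
    exact (hp.out.coprime_iff_not_dvd).1 Thompson.card_pPrimeCore_coprime.symm
  have hXK : X ≤ K := by
    haveI : (X.subgroupOf M).Normal := (Subgroup.normal_subgroupOf_iff_le_normalizer hXM).2 hXn
    have := Thompson.le_pPrimeCore (p := p) (N := X.subgroupOf M) inferInstance (by
      rw [Nat.card_congr (Subgroup.subgroupOfEquivOfLe hXM).toEquiv, hX]
      exact (Nat.coprime_primes hr.out hp.out).2 hrp)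
    exact fun x hx => ⟨⟨x, hXM hx⟩, this hx, rfl⟩
  let T₀ : Sylow r NA := default
  set T := (T₀ : Subgroup NA).map NA.subtype with hT
  have hTNA : T ≤ NA := Subgroup.map_subtype_le _
  have hTC : T ≤ Subgroup.centralizer (A : Set G) :=
    le_centralizer_of_gt hp.out hr.out hpr hp2 e.card (T₀.isPGroup'.map _)
      (hTNA.trans inf_le_right)
  set L := K ⊔ T with hL
  have hLM : L ≤ M := sup_le hKM (hTNA.trans inf_le_left)
  have hAL : A ≤ Subgroup.normalizer (L : Set G) := Coprime.le_normalizer_sup (e.le.trans hKn)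
    ((Subgroup.le_centralizer_iff.1 hTC).trans (Subgroup.centralizer_le_normalizer _))
  have hrelK : ∀ Y : Subgroup G, Y ≤ M → K.relIndex (Y ⊔ K) = K.relIndex Y := fun Y hY =>
    Coprime.relIndex_sup_of_le_normalizer (hY.trans hKn)
  have hLp : ¬ p ∣ Nat.card L := by
    rw [← relIndex_mul_card (H := K) (K := L) le_sup_left,
      show K.relIndex L = K.relIndex T from
        (congrArg K.relIndex (sup_comm K T)).trans (hrelK T (hTNA.trans inf_le_left))]
    intro hd
    rcases (Nat.Prime.dvd_mul hp.out).1 hd with h1 | h1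
    · have h2 := h1.trans (Subgroup.relIndex_dvd_card K T)
      obtain ⟨j, hj⟩ := (T₀.isPGroup'.map NA.subtype).exists_card_eq
      rw [← hT] at hj
      rw [hj] at h2
      exact hrp ((Nat.prime_dvd_prime_iff_eq hp.out hr.out).1 (hp.out.dvd_of_dvd_pow h2)).symm
    · exact hKp h1
  have hKN : M ≤ NA ⊔ K := by
    intro m hm
    have htop := frattini_of_not_dvd_index (plengthLE_one_iff.1 (h.plength p M hM.1)) P
    obtain ⟨k, hk, n, hn, hkn⟩ := Subgroup.mem_sup_of_normal_left.1
      (htop ▸ Subgroup.mem_top (⟨m, hm⟩ : M))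
    have hn' : (n : G) ∈ Subgroup.normalizer (A : Set G) := e.normalizer_sylow_le hG h P hAP
      (Subgroup.le_normalizer_map M.subtype ⟨n, hn, rfl⟩)
    have : m = (k : G) * n := (congrArg Subtype.val hkn).symm
    rw [this]
    exact mul_mem (Subgroup.mem_sup_right ⟨k, hk, rfl⟩) (Subgroup.mem_sup_left ⟨n.2, hn'⟩)
  have hindex : ¬ r ∣ L.relIndex M := by
    have hMeq : NA ⊔ K = M := le_antisymm (sup_le inf_le_left hKM) hKN
    have hLeq : (L ⊓ NA) ⊔ K = L := le_antisymm (sup_le inf_le_left le_sup_left)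
      (sup_le le_sup_right (le_sup_of_le_left (le_inf le_sup_right hTNA)))
    have h1 : K.relIndex L * L.relIndex M = K.relIndex M :=
      Subgroup.relIndex_mul_relIndex K L M le_sup_left hLM
    rw [← hMeq, hrelK NA inf_le_left, hMeq] at h1
    have h3 : K.relIndex L = K.relIndex (L ⊓ NA) := by
      conv_lhs => rw [← hLeq]
      exact hrelK _ (inf_le_left.trans hLM)
    have h4 : (K ⊓ NA).relIndex (L ⊓ NA) * (L ⊓ NA).relIndex NA = (K ⊓ NA).relIndex NA :=
      Subgroup.relIndex_mul_relIndex _ _ _ (inf_le_inf_right _ le_sup_left) inf_le_right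
    rw [Subgroup.inf_relIndex_right, Subgroup.inf_relIndex_right] at h4
    have h5 : (K ⊓ NA).relIndex (L ⊓ NA) = K.relIndex (L ⊓ NA) := by
      have e1 : K ⊓ NA ⊓ (L ⊓ NA) = K ⊓ (L ⊓ NA) :=
        le_antisymm (inf_le_inf_right _ inf_le_left)
          (le_inf (le_inf inf_le_left (inf_le_right.trans inf_le_right)) inf_le_right)
      rw [← Subgroup.inf_relIndex_right (K ⊓ NA), e1, Subgroup.inf_relIndex_right]
    rw [h5] at h4
    rw [h3] at h1
    have h6 : L.relIndex M = L.relIndex NA := Nat.eq_of_mul_eq_mul_left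
      (Nat.pos_of_ne_zero fun h0 => by
        have := (Subgroup.relIndex_dvd_card K (L ⊓ NA)); rw [h0] at this
        exact Nat.card_pos.ne' (Nat.eq_zero_of_zero_dvd this)) (h1.trans h4.symm)
    rw [h6]
    intro hd
    refine T₀.not_dvd_index (hd.trans ?_)
    have hTd : T.subgroupOf NA = (T₀ : Subgroup NA) :=
      Subgroup.comap_map_eq_self_of_injective NA.subtype_injective _
    rw [← hTd, Subgroup.relIndex]
    exact Subgroup.index_dvd_of_le (Subgroup.comap_mono le_sup_right)
  obtain ⟨R₀, hXR, hR₀⟩ := Coprime.exists_invariant_sylow_ge A L hAL (by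
      rw [e.card]; exact ((hp.out.coprime_iff_not_dvd).2 hLp).pow_left 2)
    (Or.inl e.toSqPair.isSolvable) r X (hXK.trans le_sup_left) hXr hAX
  set R := (R₀ : Subgroup L).map L.subtype with hR
  have hRM : R ≤ M := (Subgroup.map_subtype_le _).trans hLM
  have hRr : IsPGroup r R := R₀.isPGroup'.map _
  have hRindex : ¬ r ∣ (R.subgroupOf M).index := by
    show ¬ r ∣ R.relIndex M
    rw [← Subgroup.relIndex_mul_relIndex R L M (Subgroup.map_subtype_le _) hLM]
    intro hd
    rcases (Nat.Prime.dvd_mul hr.out).1 hd with h1 | h1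
    · refine R₀.not_dvd_index ?_
      rwa [hR, Subgroup.relIndex, Subgroup.subgroupOf,
        Subgroup.comap_map_eq_self_of_injective L.subtype_injective] at h1
    · exact hindex h1
  let R' : Sylow r M := (hRr.comap_subtype (K := M)).toSylow hRindex
  have hR' : (R' : Subgroup M).map M.subtype = R := Subgroup.map_subgroupOf_eq_of_le hRM
  -- move `Ar₀` into it
  obtain ⟨T₁, hT₁⟩ := (e₀.toSqPair.isPGroup.comap_subtype (K := M)).exists_le_sylow
  obtain ⟨m, hm⟩ := MulAction.exists_smul_eq M T₁ R'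
  set Ar := Ar₀.map (MulAut.conj (m : G)).toMonoidHom with hAr
  have hArR : Ar ≤ R := by
    rw [← hR', ← hm]
    rintro _ ⟨a, ha, rfl⟩
    refine ⟨m * ⟨a, hAr₀M ha⟩ * m⁻¹, ?_, rfl⟩
    rw [SetLike.mem_coe, Sylow.coe_subgroup_smul, Subgroup.mem_pointwise_smul_iff_inv_smul_mem]
    simpa [mul_assoc] using hT₁ ha
  have e₁ : Exceptional r M Ar X := by
    refine ⟨⟨hM, hrs, hArR.trans hRM, ⟨?_, ?_⟩, ?_⟩, ?_, hX, hNX.le⟩
    · haveI := hArE.1
      exact Subgroup.map_isMulCommutative Ar₀ _
    · rintro _ ⟨a, ha, rfl⟩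
      rw [← map_pow, hArE.2 a ha, map_one]
    · rw [card_map_conj, hArc]
    · exact (map_conj_eq_self (hXn m.2)).ge.trans (Subgroup.map_mono hXAr)
  have hRc : IsMulCommutative R := hR' ▸ e₁.sylow_comm hG h R' (hR' ▸ hArR)
  have hAAr : A ≤ Subgroup.normalizer (Ar : Set G) := by
    refine Coprime.le_normalizer_of_conj_mem fun a ha x hx => ?_
    refine (mem_iff_pow_eq_one e₁.elem (e₁.toSqPair.maximal hG h) hArR
      ((le_centralizer_self_of_comm hRc).trans (centralizer_anti hArR))
      ((Subgroup.mem_normalizer_iff.1 (hR₀ ha) x).1 (hArR hx))).1 ?_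
    rw [← MulAut.conj_apply, ← map_pow, e₁.elem.2 x hx, map_one]
  have hr2' : r ≠ 2 := ne_two_of_dvd hG e₁.toSqPair.dvd
  -- `⁅Ar, A⁆ ≤ X`
  have hσ0 := sigmaCore_ne_bot hG h.uniq smallRankFrattini fittingRankTwoDerived
    rankTwoLargestPrime hM
  have hArC : Ar ⊓ Subgroup.centralizer (sigmaCore M : Set G) = X := by
    refine (Subgroup.eq_of_le_of_card_ge (le_inf e₁.line_le hXC) ?_).symm
    obtain ⟨j, hj, hj'⟩ := (Nat.dvd_prime_pow hr.out).1 (e₁.card ▸ Subgroup.card_dvd_of_le
      (inf_le_left : Ar ⊓ Subgroup.centralizer (sigmaCore M : Set G) ≤ Ar))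
    rw [hX, hj']
    refine (Nat.pow_le_pow_right hr.out.pos (show j ≤ 1 from ?_)).trans_eq (pow_one r)
    by_contra hj1
    have h1 := Subgroup.eq_of_le_of_card_ge
      (inf_le_left : Ar ⊓ Subgroup.centralizer (sigmaCore M : Set G) ≤ Ar)
      (by rw [e₁.card, hj']; exact Nat.pow_le_pow_right hr.out.pos (by omega))
    have h0 := e₁.toSqPair.inf_centralizer_eq_bot hG h e₁.centralizer_le
    rw [inf_eq_left.2 (Subgroup.le_centralizer_iff.1 (h1.ge.trans inf_le_right))] at h0
    exact hσ0 h0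
  obtain ⟨B₁, B₂, hB₁A, hB₂A, hB₁c, hB₂c, hBsup, hf₁, hf₂⟩ := e.exists_fpf_lines hG h
  have hcoAr : (Nat.card Ar).Coprime (Nat.card A) := by
    rw [e₁.card, e.card]; exact ((Nat.coprime_primes hr.out hp.out).2 hrp).pow 2 2
  have hline : ∀ B : Subgroup G, B ≤ A → Nat.card B = p →
      sigmaCore M ⊓ Subgroup.centralizer (B : Set G) = ⊥ → ⁅Ar, B⁆ ≤ X := by
    intro B hBA hBc hBf
    rw [← hArC]
    refine le_inf (Coprime.commutator_le_of_le_normalizer (hBA.trans hAAr)) ?_
    refine commutator_le_centralizer_of_fpf h.fixedPoint hG.1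
      (e.isNilpotent hG h) ((hArR.trans hRM).trans (le_normalizer_sigmaCore M))
      ((hBA.trans e.le).trans (le_normalizer_sigmaCore M)) (hBA.trans hAAr) (hBc ▸ hp.out) ?_
      (e.toSqPair.coprime_sigmaCore.coprime_dvd_left (Subgroup.card_dvd_of_le hBA))
      (hcoAr.coprime_dvd_right (Subgroup.card_dvd_of_le hBA))
      (isSolvable_of_ne_top hG fun hb => hM.1 (top_le_iff.1
        (hb ▸ sup_le (hArR.trans hRM) (hBA.trans e.le)))) hBf
    exact e₁.toSqPair.coprime_sigmaCore
  have hcomm : ⁅Ar, A⁆ ≤ X := by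
    rw [Subgroup.commutator_le]
    intro x hx a ha
    rw [← hBsup, ← SetLike.mem_coe, Subgroup.coe_mul_of_right_le_normalizer_left B₁ B₂
      ((hB₂A.trans ((le_centralizer_self_of_comm e.elem.1).trans (centralizer_anti hB₁A))).trans
        (Subgroup.centralizer_le_normalizer _))] at ha
    obtain ⟨b₁, hb₁, b₂, hb₂, rfl⟩ := ha
    have h1 := hline B₁ hB₁A hB₁c hf₁ (Subgroup.commutator_mem_commutator hx hb₁)
    have h2 := hline B₂ hB₂A hB₂c hf₂ (Subgroup.commutator_mem_commutator hx hb₂)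
    have h3 := (Subgroup.mem_normalizer_iff.1 (hXn (e.le (hB₁A hb₁))) _).1 h2
    have := X.mul_mem h1 h3
    convert this using 1
    simp [commutatorElement_def, mul_assoc]
  -- `r` divides `|C(A)|`
  have hrC : r ∣ Nat.card (Subgroup.centralizer (A : Set G)) := by
    have hne : Ar ⊓ Subgroup.centralizer (A : Set G) ≠ ⊥ := by
      intro hb
      have h1 := Coprime.commutator_sup_centralizer A Ar hAAr hcoAr.symm (Or.inl e.toSqPair.isSolvable)
      rw [hb, sup_bot_eq] at h1
      have h2 := Subgroup.card_dvd_of_le (h1.ge.trans hcomm)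
      rw [e₁.card, hX] at h2
      exact absurd (Nat.le_of_dvd hr.out.pos h2) (not_le.2 (by nlinarith [hr.out.two_le]))
    obtain ⟨j, hj⟩ := (e₁.toSqPair.isPGroup.to_le
      (inf_le_left : Ar ⊓ Subgroup.centralizer (A : Set G) ≤ Ar)).exists_card_eq
    rcases j with _ | j
    · exact absurd (Subgroup.eq_bot_of_card_eq _ hj) hne
    · exact (hj ▸ dvd_pow_self r j.succ_ne_zero).trans (Subgroup.card_dvd_of_le inf_le_right)
  -- a maximal `A`-invariant `r`-subgroup above `R`
  obtain ⟨S, hRS, hS⟩ : ∃ S, R ≤ S ∧ S ∈ maxInvSubgroups ⊤ A {r} := by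
    let Ss : Set (Subgroup G) := {R' | R' ≤ (⊤ : Subgroup G) ∧ IsPiSub ({r} : Set ℕ) R' ∧
      A ≤ Subgroup.normalizer (R' : Set G)}
    have hRmem : R ∈ Ss := ⟨le_top, isPiSub_of_isPGroup hr.out hRr rfl, hR₀⟩
    obtain ⟨S, hRS, hSmax⟩ := (Ss.toFinite).exists_le_maximal hRmem
    refine ⟨S, hRS, hSmax.prop, ?_⟩
    intro T hT hle
    exact le_antisymm (hSmax.le_of_ge hT hle) hle
  have hSr : IsPGroup r S := by
    refine IsPGroup.of_card (n := (Nat.card S).factorization r) ?_
    have hn := Nat.eq_prime_pow_of_unique_prime_dvd (p := r) (Nat.card_pos (α := S)).ne'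
      fun {q} hq hqd => Set.mem_singleton_iff.1 (hS.1.2.1 q hq hqd)
    conv_rhs => rw [hn, Nat.Prime.factorization_pow hr.out]
    simpa using hn
  have hArS : Ar ≤ S := hArR.trans hRS
  have hSn : IsNarrow r S := by
    refine isNarrow_of_maximal_sq h.narrow hr2' hSr (Ar.subgroupOf S)
      (elemAbelian_subgroupOf e₁.elem hArS)
      (by rw [Nat.card_congr (Subgroup.subgroupOfEquivOfLe hArS).toEquiv, e₁.card]) ?_
    intro B hB hle
    have hmem : ∀ z ∈ B.map S.subtype, z ^ r = 1 := by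
      rintro _ ⟨z, hz, rfl⟩
      simpa using congrArg Subtype.val (hB.2 z hz)
    haveI := hB.1
    have := e₁.toSqPair.maximal hG h (B.map S.subtype) ⟨Subgroup.map_isMulCommutative B _, hmem⟩
      (fun a ha => ⟨⟨a, hArS ha⟩, hle ha, rfl⟩)
    rw [← this]
    exact (Subgroup.comap_map_eq_self_of_injective S.subtype_injective B).symm
  have hSne : S ≠ ⊥ := fun hb => hXne (le_bot_iff.1 (hb ▸ (hXR.trans hRS)))
  have hStop : S ≠ ⊤ := fun hb => not_isSolvable hG (by
    have : IsPGroup r G := hSr.of_equiv ((MulEquiv.subgroupCongr hb).trans Subgroup.topEquiv)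
    haveI := this.isNilpotent
    infer_instance)
  set H := Subgroup.normalizer (A : Set G) ⊓ Subgroup.normalizer (S : Set G) with hH
  have hAH : A ≤ H := le_inf Subgroup.le_normalizer hS.1.2.2
  have hTH := e.toSqPair.transitivity hG h
  have hrA1 : ¬ RankLE 1 ↥(A ⊓ Subgroup.centralizer (A : Set G)) :=
    not_rankLE_of_not_prankLE hp.out (not_prankLE_of_elemAbelian e.elem
      (le_inf le_rfl (le_centralizer_self_of_comm e.elem.1))
      (by rw [e.card, pow_one]; nlinarith [hp.out.two_le]))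
  set a := A ⊓ Subgroup.centralizer (S : Set G) with ha
  have key : ∀ n ∈ Subgroup.normalizer (A : Set G), ∃ k ∈ Subgroup.centralizer (A : Set G),
      k⁻¹ * n ∈ H ∧ ∀ x ∈ A, ⁅x, k⁻¹ * n⁆ ∈ a := by
    intro n hn
    have hSn' : S.map (MulAut.conj n).toMonoidHom ∈ maxInvSubgroups ⊤ A {r} := by
      refine ⟨⟨le_top, IsPiSub.map hS.1.2.1 _, ?_⟩, ?_⟩
      · rw [normalizer_map_conj]
        exact (map_conj_eq_self hn).ge.trans (Subgroup.map_mono hS.1.2.2)
      · rintro T ⟨-, hTπ, hTA⟩ hle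
        have h1 := hS.2 (T.map (MulAut.conj n⁻¹).toMonoidHom) ⟨le_top, IsPiSub.map hTπ _, by
          rw [normalizer_map_conj]
          exact (map_conj_eq_self (inv_mem hn)).ge.trans (Subgroup.map_mono hTA)⟩ (by
            refine le_trans (le_of_eq ?_) (Subgroup.map_mono hle)
            rw [map_conj_comp, inv_mul_cancel, map_conj_one])
        rw [← h1, map_conj_comp, mul_inv_cancel, map_conj_one]
    obtain ⟨k, hk, hk'⟩ := h.transCentral A hTH hrA1 r hr.out hrA hrC S hS _ hSn'
    have hkC : k ∈ Subgroup.centralizer (A : Set G) := piCoreOf_le_centralizer A hk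
    have hn' : k⁻¹ * n ∈ H := by
      refine Subgroup.mem_inf.2 ⟨mul_mem (inv_mem (Subgroup.centralizer_le_normalizer _ hkC)) hn, ?_⟩
      rw [Subgroup.mem_normalizer_iff_map_conj_eq]
      change S.map (MulAut.conj (k⁻¹ * n)).toMonoidHom = S
      rw [← map_conj_comp, hk', map_conj_comp, inv_mul_cancel, map_conj_one]
    refine ⟨k, hkC, hn', fun x hx => ?_⟩
    have hxA : ⁅x, k⁻¹ * n⁆ ∈ A := Coprime.commutator_le_of_le_normalizer
      (A := Subgroup.zpowers (k⁻¹ * n)) (Subgroup.zpowers_le.2 hn'.1)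
      (Subgroup.commutator_mem_commutator hx (Subgroup.mem_zpowers _))
    refine ⟨hxA, ?_⟩
    refine mem_centralizer_of_narrow h.narrowAut hr2' hSr hSn inf_le_right ?_ hG.1
      (Subgroup.commutator_mem_commutator (hAH hx) hn') ?_
    · exact Coprime.solvable_of_le inf_le_right
        (isSolvable_of_ne_top hG (normalizer_ne_top hG hSne hStop))
    · exact Nat.Coprime.coprime_dvd_left (orderOf_dvd_of_pow_eq_one (e.elem.2 _ hxA))
        ((Nat.coprime_primes hp.out hr.out).2 (Ne.symm hrp))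
  have hane : a ≠ ⊥ := by
    obtain ⟨g, hgA, hgM⟩ := e.exists_normalizer_not_le hG h
    intro hb
    obtain ⟨k, hk, hn', hx⟩ := key g hgA
    have hC : k⁻¹ * g ∈ Subgroup.centralizer (A : Set G) := by
      rw [Subgroup.mem_centralizer_iff]
      intro x hxA
      have := hx x hxA
      rw [hb, Subgroup.mem_bot] at this
      exact (commutatorElement_eq_one_iff_commute.1 this).eq
    exact hgM (by simpa using M.mul_mem (e.centralizer_le hk) (e.centralizer_le hC))
  have haA : a ≠ A := fun hb => hmove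
    (((inf_eq_left.1 hb : A ≤ Subgroup.centralizer (S : Set G))).trans
      (centralizer_anti (hXR.trans hRS)))
  have hac : Nat.card a = p := by
    obtain ⟨j, hj, hj'⟩ := (Nat.dvd_prime_pow hp.out).1
      (e.card ▸ Subgroup.card_dvd_of_le (inf_le_left : a ≤ A))
    have hj0 : j ≠ 0 := fun h0 => hane (Subgroup.eq_bot_of_card_eq _ (by rw [hj', h0, pow_zero]))
    have hj2 : j ≠ 2 := fun h2 =>
      haA (Subgroup.eq_of_le_of_card_ge inf_le_left (by rw [e.card, hj', h2]))
    rw [hj', show j = 1 by omega, pow_one]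
  have hNAa : Subgroup.normalizer (A : Set G) ≤ Subgroup.normalizer (a : Set G) := by
    intro n hn
    obtain ⟨k, hk, hn', hx⟩ := key n hn
    have hka : k ∈ Subgroup.normalizer (a : Set G) :=
      Subgroup.centralizer_le_normalizer _ (centralizer_anti (inf_le_left : a ≤ A) hk)
    have hna : k⁻¹ * n ∈ Subgroup.normalizer (a : Set G) := by
      refine Coprime.le_normalizer_of_conj_mem (A := H) (H := a)
        (fun m hm x hxa => ⟨(Subgroup.mem_normalizer_iff.1 hm.1 x).1 hxa.1,
          (Subgroup.mem_normalizer_iff.1 (Coprime.le_normalizer_centralizer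
            (A := Subgroup.normalizer (S : Set G)) le_rfl hm.2) x).1 hxa.2⟩) hn'
    simpa using mul_mem hka hna
  have haTop : a ≠ ⊤ := fun hb => hM.1 (top_le_iff.1 (hb ▸ (inf_le_left.trans e.le)))
  obtain ⟨L', hL', hle'⟩ := exists_coatom_ge hG (normalizer_ne_top hG hane haTop)
  have hAL' : A ≤ L' := (Subgroup.le_normalizer.trans hNAa).trans hle'
  have hXL' : X ≤ L' := ((Subgroup.le_centralizer_iff.1 ((inf_le_right : a ≤ _).trans
    (centralizer_anti (hXR.trans hRS)))).trans (Subgroup.centralizer_le_normalizer _)).trans hle'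
  by_cases hpL : p ∈ sigma L'
  · obtain ⟨hHall, -, hder⟩ := sigmaCore_hall hG h.uniq smallRankFrattini fittingRankTwoDerived hL'
    have hAσ : A ≤ ⁅L', L'⁆ := (le_of_normal_hall hHall (le_normalizer_sigmaCore L') hAL'
      (isPiSub_of_isPGroup hp.out e.toSqPair.isPGroup hpL)).trans hder
    have hXd : X ≤ ⁅L', L'⁆ := hXA ▸ Subgroup.commutator_mono hXL' hAL'
    exact hmove (Subgroup.le_centralizer_iff.1
      (le_centralizer_of_not_ideal hG h hL' hri hAσ hXd hrA hXr hAX))
  · have eL : Exceptional p L' A a :=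
      ⟨⟨hL', hpL, hAL', e.elem, e.card⟩, inf_le_left, hac, hle'⟩
    obtain ⟨g, hgA, hgL⟩ := eL.exists_normalizer_not_le hG h
    exact hgL (hle' (hNAa hgA))

/-- BG 11.5. -/
theorem Exceptional.le_normalizer_sup (e : Exceptional p M A A₀) :
    M ≤ Subgroup.normalizer ((sigmaCore M ⊔ A : Subgroup G) : Set G) := by
  have hM := e.coatom
  obtain ⟨hHall, -, -⟩ := sigmaCore_hall hG h.uniq smallRankFrattini fittingRankTwoDerived hM
  obtain ⟨P, hP⟩ := (e.toSqPair.isPGroup.comap_subtype (K := M)).exists_le_sylow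
  have hAP : A ≤ (P : Subgroup M).map M.subtype := fun a ha => ⟨⟨a, e.le ha⟩, hP ha, rfl⟩
  set K := (pPrimeCore p M).map M.subtype with hK
  have hKM : K ≤ M := Subgroup.map_subtype_le _
  have hKn : M ≤ Subgroup.normalizer (K : Set G) := by
    refine Coprime.le_normalizer_of_conj_mem fun m hm => ?_
    rintro _ ⟨k, hk, rfl⟩
    exact ⟨⟨m, hm⟩ * k * ⟨m, hm⟩⁻¹, (inferInstance : (pPrimeCore p M).Normal).conj_mem k hk _, rfl⟩
  have hKp : ¬ p ∣ Nat.card K := by
    rw [hK, Subgroup.card_map_of_injective M.subtype_injective]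
    exact (hp.out.coprime_iff_not_dvd).1 Thompson.card_pPrimeCore_coprime.symm
  have hcop : (Nat.card A).Coprime (Nat.card K) := by
    rw [e.card]; exact ((hp.out.coprime_iff_not_dvd).2 hKp).pow_left 2
  set D := sigmaCore M ⊔ (K ⊓ Subgroup.centralizer (A : Set G)) with hD
  have hkey : ∀ r : ℕ, r.Prime → ∀ R : Subgroup G, R ≤ K → IsPGroup r R →
      A ≤ Subgroup.normalizer (R : Set G) → R ≤ D := by
    intro r hr R hRK hRr hRA
    haveI := Fact.mk hr
    by_cases hrs : r ∈ sigma M
    · exact le_sup_of_le_left (le_of_normal_hall hHall (le_normalizer_sigmaCore M) (hRK.trans hKM)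
        (isPiSub_of_isPGroup hr hRr hrs))
    refine le_sup_of_le_right (le_inf hRK ?_)
    by_cases hR1 : R = ⊥
    · simp [hR1]
    have hrR : r ∣ Nat.card R := by
      obtain ⟨j, hj⟩ := hRr.exists_card_eq
      rcases j with _ | j
      · exact absurd (Subgroup.eq_bot_of_card_eq _ hj) hR1
      · exact hj ▸ dvd_pow_self r j.succ_ne_zero
    have hrp : r ≠ p := fun hb => hKp (hb ▸ hrR.trans (Subgroup.card_dvd_of_le hRK))
    have hcoR : (Nat.card A).Coprime (Nat.card R) :=
      hcop.coprime_dvd_right (Subgroup.card_dvd_of_le hRK)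
    obtain ⟨B₁, B₂, hB₁A, hB₂A, hB₁c, hB₂c, hBsup, hf₁, hf₂⟩ := e.exists_fpf_lines hG h
    obtain ⟨W, hWN, hWr, hWc, hWn, hWmax⟩ := exists_cyclic_rcore hG h M hM hrs
    have hAW : A ≤ Subgroup.centralizer (W : Set G) := by
      by_cases hW1 : W = ⊥
      · rw [Subgroup.le_centralizer_iff, hW1]; exact bot_le
      obtain ⟨X, hXW, hXc, hXn, hXl⟩ := exists_order_prime_of_cyclic hWr hWc hW1
      have hXM : X ≤ M := hXW.trans (hWN.trans (inf_le_left.trans (Subgroup.commutator_le_self M)))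
      refine hXl A (e.le.trans hWn) ?_ e.toSqPair.isSolvable
        (e.le_centralizer_of_normal_prime hG h hrp hrs hXM hXc (hWn.trans hXn)
          (hXW.trans (hWN.trans inf_le_right)))
      intro hd
      rw [e.card] at hd
      exact hrp ((Nat.prime_dvd_prime_iff_eq hr hp.out).1 (hr.dvd_of_dvd_pow hd))
    have hline : ∀ B : Subgroup G, B ≤ A → Nat.card B = p →
        sigmaCore M ⊓ Subgroup.centralizer (B : Set G) = ⊥ → B ≤ Subgroup.centralizer (R : Set G) := by
      intro B hBA hBc hBf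
      have hBR : B ≤ Subgroup.normalizer (R : Set G) := hBA.trans hRA
      have hcoB : (Nat.card B).Coprime (Nat.card R) :=
        hcoR.coprime_dvd_left (Subgroup.card_dvd_of_le hBA)
      have hc : ⁅R, B⁆ ≤ Subgroup.centralizer (sigmaCore M : Set G) := by
        refine commutator_le_centralizer_of_fpf h.fixedPoint hG.1
          (e.isNilpotent hG h) ((hRK.trans hKM).trans (le_normalizer_sigmaCore M))
          ((hBA.trans e.le).trans (le_normalizer_sigmaCore M)) hBR (hBc ▸ hp.out) ?_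
          (e.toSqPair.coprime_sigmaCore.coprime_dvd_left (Subgroup.card_dvd_of_le hBA)) hcoB.symm
          (isSolvable_of_ne_top hG fun hb => hM.1 (top_le_iff.1
            (hb ▸ sup_le (hRK.trans hKM) (hBA.trans e.le)))) hBf
        obtain ⟨j, hj⟩ := hRr.exists_card_eq
        rw [hj]
        exact ((hr.coprime_iff_not_dvd).2 fun hd =>
          hrs (isPiSub_sigmaCore M r hr hd)).pow_left j
      have hle := Coprime.commutator_le_of_le_normalizer hBR
      have hW0 : ⁅R, B⁆ ≤ W := hWmax _ (le_inf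
        (Subgroup.commutator_mono (hRK.trans hKM) (hBA.trans e.le)) hc) (hRr.to_le hle)
      have hself := Coprime.commutator_commutator_eq B R hBR hcoB
        (Or.inl (Coprime.solvable_of_le hBA e.toSqPair.isSolvable))
      have hbot : ⁅⁅R, B⁆, B⁆ = ⊥ := Subgroup.commutator_eq_bot_iff_le_centralizer.2
        (hW0.trans ((Subgroup.le_centralizer_iff.1 hAW).trans (centralizer_anti hBA)))
      rw [hself] at hbot
      exact Subgroup.le_centralizer_iff.1 (Subgroup.commutator_eq_bot_iff_le_centralizer.1 hbot)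
    rw [Subgroup.le_centralizer_iff, ← hBsup]
    exact sup_le (hline B₁ hB₁A hB₁c hf₁) (hline B₂ hB₂A hB₂c hf₂)
  have hKD : K ≤ D := by
    have hdvd : Nat.card K ∣ Nat.card (D ⊓ K : Subgroup G) := by
      refine (Nat.factorization_prime_le_iff_dvd Nat.card_pos.ne' Nat.card_pos.ne').mp fun r hr => ?_
      haveI := Fact.mk hr
      obtain ⟨R, hR⟩ := Coprime.exists_invariant_sylow A K (e.le.trans hKn) hcop
        (Or.inl e.toSqPair.isSolvable) r
      have hc : Nat.card ((R : Subgroup K).map K.subtype) = r ^ (Nat.card K).factorization r := by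
        rw [Subgroup.card_map_of_injective K.subtype_injective, R.card_eq_multiplicity]
      exact (hr.pow_dvd_iff_le_factorization Nat.card_pos.ne').mp (hc ▸ Subgroup.card_dvd_of_le
        (le_inf (hkey r hr _ (Subgroup.map_subtype_le _) (R.isPGroup'.map _) hR)
          (Subgroup.map_subtype_le _)))
    have := Subgroup.eq_of_le_of_card_ge (inf_le_right : D ⊓ K ≤ K)
      (Nat.le_of_dvd Nat.card_pos hdvd)
    exact this ▸ inf_le_left
  have hKN : K ≤ Subgroup.normalizer ((sigmaCore M ⊔ A : Subgroup G) : Set G) :=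
    hKD.trans (sup_le (le_sup_left.trans Subgroup.le_normalizer) (Coprime.le_normalizer_sup
      ((inf_le_left.trans hKM).trans (le_normalizer_sigmaCore M))
      (inf_le_right.trans (Subgroup.centralizer_le_normalizer _))))
  intro m hm
  have htop := frattini_of_not_dvd_index (plengthLE_one_iff.1 (h.plength p M hM.1)) P
  obtain ⟨k, hk, n, hn, hkn⟩ := Subgroup.mem_sup_of_normal_left.1
    (htop ▸ Subgroup.mem_top (⟨m, hm⟩ : M))
  have hn' : (n : G) ∈ Subgroup.normalizer (A : Set G) := e.normalizer_sylow_le hG h P hAP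
    (Subgroup.le_normalizer_map M.subtype ⟨n, hn, rfl⟩)
  have hm' : m = (k : G) * n := (congrArg Subtype.val hkn).symm
  rw [hm']
  exact mul_mem (hKN ⟨k, hk, rfl⟩) (Coprime.le_normalizer_sup (A := M ⊓ Subgroup.normalizer (A : Set G))
    (inf_le_left.trans (le_normalizer_sigmaCore M)) inf_le_right ⟨n.2, hn'⟩)

end Cfsg.Agent.BGSigma
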