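import Mathlib
import Cfsg.Prelude.Def_OddOrderLocal

/-!
Transport of `Cfsg.PRankLE` and `Cfsg.RankLE`.
-/

set_option autoImplicit false

namespace Cfsg.Agent.BGSigma

open Cfsg

variable {G : Type*} [Group G] {p k : ℕ}

theorem prankLE_of_injective {H : Type*} [Group H] (f : H →* G) (hf : Function.Injective f)
    (h : PRankLE p k G) : PRankLE p k H := by
  intro A hA hpow
  have h1 : IsMulCommutative (A.map f) := by
    refine ⟨⟨?_⟩⟩
    rintro ⟨-, a, ha, rfl⟩ ⟨-, b, hb, rfl⟩
    haveI := hA
    have hab : a * b = b * a := congrArg Subtype.val (mul_comm' (⟨a, ha⟩ : A) ⟨b, hb⟩)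
    ext
    show f a * f b = f b * f a
    rw [← map_mul, ← map_mul, hab]
  have h2 : ∀ x ∈ A.map f, x ^ p = 1 := by
    rintro _ ⟨a, ha, rfl⟩
    rw [← map_pow, hpow a ha, map_one]
  have := h _ h1 h2
  rwa [Subgroup.card_map_of_injective hf] at this

theorem prankLE_mono (hp : p.Prime) {l : ℕ} (hkl : k ≤ l) (h : PRankLE p k G) :
    PRankLE p l G :=
  fun A h1 h2 => (h A h1 h2).trans (Nat.pow_le_pow_right hp.pos hkl)

theorem rankLE_of_injective {H : Type*} [Group H] (f : H →* G) (hf : Function.Injective f)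
    (h : RankLE k G) : RankLE k H :=
  fun p hp => prankLE_of_injective f hf (h p hp)

theorem rankLE_mono {l : ℕ} (hkl : k ≤ l) (h : RankLE k G) : RankLE l G :=
  fun p hp => prankLE_mono hp hkl (h p hp)

theorem not_rankLE_of_not_prankLE (hp : p.Prime) (h : ¬ PRankLE p k G) : ¬ RankLE k G :=
  fun h' => h (h' p hp)

theorem prankLE_subgroup {H K : Subgroup G} (hle : H ≤ K) (h : PRankLE p k K) : PRankLE p k H :=
  prankLE_of_injective (Subgroup.inclusion hle) (Subgroup.inclusion_injective hle) h

theorem prankLE_subgroup_self (H : Subgroup G) (h : PRankLE p k G) : PRankLE p k H :=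
  prankLE_of_injective H.subtype H.subtype_injective h

theorem prankLE_congr {H : Type*} [Group H] (e : H ≃* G) : PRankLE p k H ↔ PRankLE p k G :=
  ⟨prankLE_of_injective e.symm.toMonoidHom e.symm.injective,
    prankLE_of_injective e.toMonoidHom e.injective⟩

theorem prankLE_map_subtype {M : Subgroup G} (H : Subgroup M) :
    PRankLE p k (H.map M.subtype) ↔ PRankLE p k H :=
  (prankLE_congr (H.equivMapOfInjective M.subtype M.subtype_injective)).symm

theorem isPGroup_of_pow_eq_one (hp : p.Prime) {A : Subgroup G} (h : ∀ a ∈ A, a ^ p = 1) :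
    IsPGroup p A :=
  fun a => ⟨1, by ext; simpa using h a a.2⟩

/-- The `p`-rank is attained inside any one Sylow `p`-subgroup. -/
theorem prankLE_iff_sylow [Finite G] [Fact p.Prime] (P : Sylow p G) :
    PRankLE p k G ↔ PRankLE p k (P : Subgroup G) := by
  refine ⟨prankLE_subgroup_self _, fun h A hA hpow => ?_⟩
  obtain ⟨Q, hQ⟩ := (isPGroup_of_pow_eq_one (Fact.out : p.Prime) hpow).exists_le_sylow
  have hQ' : PRankLE p k (Q : Subgroup G) := (prankLE_congr (Sylow.equiv Q P)).2 h
  have h1 : IsMulCommutative (A.subgroupOf (Q : Subgroup G)) := by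
    haveI := hA
    refine ⟨⟨fun a b => ?_⟩⟩
    have := congrArg Subtype.val (mul_comm' (⟨_, a.2⟩ : A) ⟨_, b.2⟩)
    ext
    exact this
  have h2 : ∀ x ∈ A.subgroupOf (Q : Subgroup G), x ^ p = 1 := fun x hx => by
    ext
    simpa using hpow _ hx
  have := hQ' _ h1 h2
  rwa [Nat.card_congr (Subgroup.subgroupOfEquivOfLe hQ).toEquiv] at this

/-- Passing to a quotient by a normal subgroup of order prime to `p` does not raise the
`p`-rank. -/
theorem prankLE_quotient [Finite G] [Fact p.Prime] (N : Subgroup G) [N.Normal]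
    (hN : ¬ p ∣ Nat.card N) (h : PRankLE p k G) : PRankLE p k (G ⧸ N) := by
  let P : Sylow p G := default
  have hπ : Function.Surjective (QuotientGroup.mk' N) := QuotientGroup.mk'_surjective N
  rw [prankLE_iff_sylow (P.mapSurjective hπ)]
  have hinj : Function.Injective ((QuotientGroup.mk' N).subgroupMap (P : Subgroup G)) := by
    rw [injective_iff_map_eq_one]
    intro x hx
    have hxN : (x : G) ∈ N := (QuotientGroup.eq_one_iff _).1 (congrArg Subtype.val hx)
    obtain ⟨j, hj⟩ := (P.isPGroup').exists_card_eq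
    have h1 : orderOf (x : G) ∣ p ^ j := by
      rw [Subgroup.orderOf_coe, ← hj]
      exact orderOf_dvd_natCard x
    have h2 : orderOf (x : G) ∣ Nat.card N := by
      exact (Subgroup.orderOf_mk (x : G) hxN) ▸ orderOf_dvd_natCard (⟨(x : G), hxN⟩ : N)
    have hco : (p ^ j).Coprime (Nat.card N) :=
      (((Fact.out : p.Prime).coprime_iff_not_dvd).2 hN).pow_left _
    have : orderOf (x : G) = 1 := Nat.eq_one_of_dvd_coprimes hco h1 h2
    exact Subtype.ext (orderOf_eq_one_iff.1 this)
  rw [show ((P.mapSurjective hπ : Sylow p (G ⧸ N)) : Subgroup (G ⧸ N)) =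
    (P : Subgroup G).map (QuotientGroup.mk' N) from rfl]
  exact (prankLE_congr (MulEquiv.ofBijective _
    ⟨hinj, MonoidHom.subgroupMap_surjective _ _⟩)).1 ((prankLE_iff_sylow P).1 h)

end Cfsg.Agent.BGSigma
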