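import Cfsg.Agent.BGSigma.PiCore
import Cfsg.Agent.BGSigma.Rank

/-!
BG 10.1: fusion of `p`-subgroups of `M` for `p ∈ σ(M)`.

The two inputs from earlier sections are taken as hypotheses: the Uniqueness Theorem, in the form
of the statement `S1403`, and `p`-length one for solvable groups of odd order and `p`-rank at
most `2`.
-/

set_option autoImplicit false

namespace Cfsg.Agent.BGSigma

open Cfsg

universe u

/-- The Uniqueness Theorem for `G`, in the form of the statement `S1403`. -/
def UniquenessTheorem (G : Type u) [Group G] : Prop :=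
  ∀ K : Subgroup G, K ≠ ⊤ → ¬ RankLE 1 K →
    ¬ RankLE 2 K ∨ ¬ RankLE 2 (Subgroup.centralizer (K : Set G)) → InUniqueMaximal K

/-- Solvable groups of odd order and `p`-rank at most two have `p`-length one, in Frattini
form: the group is `O_{p'}(H) N_H(S)`. -/
def SmallRankFrattini : Prop :=
  ∀ (H : Type u) [Group H] [Finite H] (p : ℕ) [Fact p.Prime], Group.IsSolvable H →
    Odd (Nat.card H) → PRankLE p 2 H →
    ∀ S : Sylow p H, pPrimeCore p H ⊔ Subgroup.normalizer ((S : Subgroup H) : Set H) = ⊤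

variable {G : Type u} [Group G]

theorem odd_card_subgroup (hG : IsMinSimpleOddOrder G) (H : Subgroup G) : Odd (Nat.card H) :=
  Odd.of_dvd_nat hG.1 H.card_subgroup_dvd_card

theorem uniq_of_pgroup (hU : UniquenessTheorem G) {p : ℕ} (hp : p.Prime) {R M L : Subgroup G}
    (hR : ¬ PRankLE p 2 R) (hM : IsCoatom M) (hL : IsCoatom L) (hRM : R ≤ M) (hRL : R ≤ L) :
    M = L := by
  have h2 : ¬ RankLE 2 R := not_rankLE_of_not_prankLE hp hR
  exact (hU R (fun h => hM.1 (top_le_iff.1 (h ▸ hRM))) (fun h => h2 (rankLE_mono (by decide) h))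
    (Or.inl h2)).unique ⟨hM, hRM⟩ ⟨hL, hRL⟩

theorem isCoatom_map_conj {M : Subgroup G} (hM : IsCoatom M) (g : G) :
    IsCoatom (M.map (MulAut.conj g).toMonoidHom) :=
  ((MulEquiv.mapSubgroup (MulAut.conj g)).isCoatom_iff M).2 hM

theorem card_map_conj (M : Subgroup G) (g : G) :
    Nat.card (M.map (MulAut.conj g).toMonoidHom) = Nat.card M :=
  Subgroup.card_map_of_injective (MulAut.conj g).injective

theorem map_conj_eq_self {X : Subgroup G} {g : G} (hg : g ∈ Subgroup.normalizer (X : Set G)) :
    X.map (MulAut.conj g).toMonoidHom = X :=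
  (Subgroup.mem_normalizer_iff_map_conj_eq).1 hg

theorem normalizer_map_conj (X : Subgroup G) (g : G) :
    Subgroup.normalizer ((X.map (MulAut.conj g).toMonoidHom : Subgroup G) : Set G) =
      (Subgroup.normalizer (X : Set G)).map (MulAut.conj g).toMonoidHom :=
  (Subgroup.map_equiv_normalizer_eq X (MulAut.conj g)).symm

theorem le_map_conj_iff {X M : Subgroup G} {g : G} :
    X ≤ M.map (MulAut.conj g).toMonoidHom ↔ ∀ x ∈ X, g⁻¹ * x * g ∈ M :=
  ⟨fun h x hx => mem_map_conj.1 (h hx), fun h x hx => mem_map_conj.2 (h x hx)⟩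

theorem map_conj_le_iff {X M : Subgroup G} {g : G} :
    X.map (MulAut.conj g).toMonoidHom ≤ M ↔ ∀ x ∈ X, g * x * g⁻¹ ∈ M := by
  simp [SetLike.le_def]

variable [Finite G]

/-- A `p`-subgroup lies in a conjugate of every maximal subgroup with `p` in its `σ`. -/
theorem exists_conj_ge_of_isPGroup {M X : Subgroup G} {p : ℕ} (hp : p ∈ sigma M)
    (hX : IsPGroup p X) : ∃ g : G, X ≤ M.map (MulAut.conj g).toMonoidHom := by
  haveI : Fact p.Prime := ⟨hp.1⟩
  obtain ⟨Q, hQ⟩ := exists_sylow_of_mem_sigma hp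
  obtain ⟨R, hR⟩ := hX.exists_le_sylow
  obtain ⟨g, hg⟩ := MulAction.exists_smul_eq G Q R
  refine ⟨g, fun x hx => ?_⟩
  have h1 := hR hx
  rw [← hg, Sylow.coe_subgroup_smul, Subgroup.mem_pointwise_smul_iff_inv_smul_mem] at h1
  rw [mem_map_conj]
  refine hQ (Subgroup.le_normalizer ?_)
  simpa [mul_assoc] using h1

/-- In a group containing `X` properly as a `p`-subgroup that is not Sylow there, the normaliser
of `X` holds a strictly larger `p`-subgroup. -/
theorem exists_lt_pgroup_normalizer {M X : Subgroup G} {p : ℕ} [Fact p.Prime]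
    (hX : IsPGroup p X) (hXM : X ≤ M) (hd : p ∣ X.relIndex M) :
    ∃ Q : Subgroup G, IsPGroup p Q ∧ X < Q ∧ Q ≤ M ⊓ Subgroup.normalizer (X : Set G) := by
  obtain ⟨n, hn⟩ := hX.exists_card_eq
  let H : Subgroup M := X.subgroupOf M
  have hH : Nat.card H = p ^ n := by
    rw [← hn]; exact Nat.card_congr (Subgroup.subgroupOfEquivOfLe hXM).toEquiv
  have hdvd : p ^ (n + 1) ∣ Nat.card M := by
    rw [← H.card_mul_index, hH, pow_succ]
    exact Nat.mul_dvd_mul_left _ hd
  have hlarge : p ^ (n + 1) ∣ Nat.card (Subgroup.normalizer (H : Set M)) :=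
    Sylow.prime_pow_dvd_card_normalizer hdvd hH
  have hH' : Nat.card (H.subgroupOf (Subgroup.normalizer (H : Set M))) = p ^ n := by
    rw [← hH]; exact Nat.card_congr (Subgroup.subgroupOfEquivOfLe Subgroup.le_normalizer).toEquiv
  obtain ⟨K, hK, hle⟩ := Sylow.exists_subgroup_card_pow_succ hlarge hH'
  set Q : Subgroup G := (K.map (Subgroup.normalizer (H : Set M)).subtype).map M.subtype with hQdef
  have hcard : Nat.card Q = p ^ (n + 1) := by
    rw [hQdef, Subgroup.card_map_of_injective M.subtype_injective,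
      Subgroup.card_map_of_injective (Subgroup.subtype_injective _), hK]
  have hXQ : X ≤ Q := by
    intro x hx
    have h1 : (⟨x, hXM hx⟩ : M) ∈ H := hx
    exact ⟨_, ⟨⟨_, Subgroup.le_normalizer h1⟩, hle (Subgroup.mem_subgroupOf.2 h1), rfl⟩, rfl⟩
  refine ⟨Q, IsPGroup.of_card hcard, lt_of_le_of_ne hXQ ?_, le_inf (Subgroup.map_subtype_le _) ?_⟩
  · intro h
    have := congrArg (fun S : Subgroup G => Nat.card S) h
    simp only [hn, hcard] at this
    exact absurd (Nat.pow_right_injective (Fact.out : p.Prime).two_le this) (by omega)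
  · rintro _ ⟨m, ⟨k, -, rfl⟩, rfl⟩
    rw [Subgroup.mem_normalizer_iff]
    intro x
    have hk := Subgroup.mem_normalizer_iff.1 k.2
    constructor
    · intro hx
      exact (hk ⟨x, hXM hx⟩).1 hx
    · intro hx
      have hxM : x ∈ M := by
        have h1 := M.mul_mem (M.mul_mem (M.inv_mem (k : M).2) (hXM hx)) (k : M).2
        simpa [mul_assoc] using h1
      exact (hk ⟨x, hxM⟩).2 hx

theorem centralizer_anti {X Y : Subgroup G} (h : X ≤ Y) :
    Subgroup.centralizer (Y : Set G) ≤ Subgroup.centralizer (X : Set G) :=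
  Subgroup.centralizer_le h

theorem normal_coprime_le_centralizer {X Y N : Subgroup G} (hXN : X ≤ N) (hYN : Y ≤ N)
    (hnX : N ≤ Subgroup.normalizer (X : Set G)) (hnY : N ≤ Subgroup.normalizer (Y : Set G))
    (hco : (Nat.card X).Coprime (Nat.card Y)) : Y ≤ Subgroup.centralizer (X : Set G) := by
  intro y hy
  rw [Subgroup.mem_centralizer_iff]
  intro x hx
  have h1 : x * y * x⁻¹ * y⁻¹ ∈ X ⊓ Y := by
    refine ⟨?_, ?_⟩
    · have := X.mul_mem hx ((Subgroup.mem_normalizer_iff.1 (hnX (hYN hy)) x⁻¹).1 (X.inv_mem hx))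
      simpa [mul_assoc] using this
    · exact Y.mul_mem ((Subgroup.mem_normalizer_iff.1 (hnY (hXN hx)) y).1 hy) (Y.inv_mem hy)
  rw [Subgroup.inf_eq_bot_of_coprime hco, Subgroup.mem_bot] at h1
  calc x * y = x * y * x⁻¹ * y⁻¹ * (y * x) := by group
    _ = y * x := by rw [h1, one_mul]

theorem exists_conj_eq_of_le_aux (hG : IsMinSimpleOddOrder G) (hU : UniquenessTheorem G)
    (hR2 : SmallRankFrattini.{u}) {p : ℕ} [Fact p.Prime] {M : Subgroup G} (hM : IsCoatom M)
    (hp : p ∈ sigma M) (X : Subgroup G) :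
    IsPGroup p X → X ≠ ⊥ → ∀ a b : G, X ≤ M.map (MulAut.conj a).toMonoidHom →
      X ≤ M.map (MulAut.conj b).toMonoidHom →
      ∃ c ∈ Subgroup.centralizer (X : Set G),
        M.map (MulAut.conj b).toMonoidHom = M.map (MulAut.conj (c * a)).toMonoidHom := by
  induction X using WellFoundedGT.induction with
  | ind X IH =>
  intro hXp hX1 a b ha hb
  have hmul : ∀ s t : G, (M.map (MulAut.conj t).toMonoidHom).map (MulAut.conj s).toMonoidHom =
      M.map (MulAut.conj (s * t)).toMonoidHom := by
    intro s t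
    rw [Subgroup.map_map]
    congr 1
    ext x
    simp [mul_assoc]
  have hcar : ∀ a : G, Nat.card (M.map (MulAut.conj a).toMonoidHom) = Nat.card M :=
    card_map_conj M
  by_cases hsyl : p ∣ X.relIndex (M.map (MulAut.conj a).toMonoidHom)
  · -- `X` is not Sylow in the conjugates of `M`
    have hsylb : p ∣ X.relIndex (M.map (MulAut.conj b).toMonoidHom) := by
      have : X.relIndex (M.map (MulAut.conj a).toMonoidHom) =
          X.relIndex (M.map (MulAut.conj b).toMonoidHom) := by
        have h1 := Subgroup.card_mul_index (X.subgroupOf (M.map (MulAut.conj a).toMonoidHom))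
        have h2 := Subgroup.card_mul_index (X.subgroupOf (M.map (MulAut.conj b).toMonoidHom))
        rw [Nat.card_congr (Subgroup.subgroupOfEquivOfLe ha).toEquiv, hcar] at h1
        rw [Nat.card_congr (Subgroup.subgroupOfEquivOfLe hb).toEquiv, hcar] at h2
        exact Nat.eq_of_mul_eq_mul_left Nat.card_pos (h1.trans h2.symm)
      rwa [← this]
    set N := Subgroup.normalizer (X : Set G) with hN
    have hNtop : N ≠ ⊤ := normalizer_ne_top hG hX1
      (fun h => hM.1 (by
        have := (isCoatom_map_conj hM a).1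
        exact absurd (top_le_iff.1 (h ▸ ha)) this))
    haveI : Group.IsSolvable N := isSolvable_of_ne_top hG hNtop
    obtain ⟨Q, hQp, hXQ, hQle⟩ := exists_lt_pgroup_normalizer hXp ha hsyl
    obtain ⟨Q', hQ'p, hXQ', hQ'le⟩ := exists_lt_pgroup_normalizer hXp hb hsylb
    have hQN : Q ≤ N := hQle.trans inf_le_right
    have hQ'N : Q' ≤ N := hQ'le.trans inf_le_right
    obtain ⟨R₀, hR₀⟩ := (hQp.comap_subtype (K := N)).exists_le_sylow
    obtain ⟨R₁, hR₁⟩ := (hQ'p.comap_subtype (K := N)).exists_le_sylow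
    obtain ⟨n, hn⟩ := MulAction.exists_smul_eq N R₀ R₁
    set R : Subgroup G := (R₀ : Subgroup N).map N.subtype with hR
    have hQR : Q ≤ R := fun x hx => ⟨⟨x, hQN hx⟩, hR₀ hx, rfl⟩
    have hXR : X < R := hXQ.trans_le hQR
    have hRp : IsPGroup p R := R₀.isPGroup'.map _
    obtain ⟨d, hd⟩ := exists_conj_ge_of_isPGroup hp hRp
    have hQ'R : Q' ≤ R.map (MulAut.conj (n : G)).toMonoidHom := by
      intro x hx
      have h1 : (⟨x, hQ'N hx⟩ : N) ∈ (R₁ : Subgroup N) := hR₁ hx
      rw [← hn, Sylow.coe_subgroup_smul, Subgroup.mem_pointwise_smul_iff_inv_smul_mem] at h1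
      rw [mem_map_conj]
      exact ⟨_, h1, by simp [mul_assoc]⟩
    -- `N = C(X) (N ∩ M^d)`
    have hCN : Subgroup.centralizer (X : Set G) ≤ N := Subgroup.centralizer_le_normalizer _
    have key : ∃ c ∈ Subgroup.centralizer (X : Set G),
        M.map (MulAut.conj ((n : G) * d)).toMonoidHom =
          M.map (MulAut.conj (c * d)).toMonoidHom := by
      by_cases hrk : PRankLE p 2 R
      · have hrkN : PRankLE p 2 N := (prankLE_iff_sylow R₀).2 ((prankLE_map_subtype _).1 hrk)
        have hfr := hR2 N p inferInstance (odd_card_subgroup hG N) hrkN R₀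
        have hOC : (pPrimeCore p N).map N.subtype ≤ Subgroup.centralizer (X : Set G) := by
          refine normal_coprime_le_centralizer Subgroup.le_normalizer (Subgroup.map_subtype_le _)
            le_rfl ?_ ?_
          · exact (Subgroup.normal_subgroupOf_iff_le_normalizer (Subgroup.map_subtype_le _)).1
              (by rw [Subgroup.subgroupOf, Subgroup.comap_map_eq_self_of_injective
                    N.subtype_injective]; infer_instance)
          · obtain ⟨k, hk⟩ := hXp.exists_card_eq
            rw [hk, Subgroup.card_map_of_injective N.subtype_injective]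
            exact (Thompson.card_pPrimeCore_coprime (p := p) (G := N)).symm.pow_left k
        have hmem : n ∈ pPrimeCore p N ⊔ Subgroup.normalizer ((R₀ : Subgroup N) : Set N) := by
          rw [hfr]; exact Subgroup.mem_top n
        obtain ⟨y, hy, z, hz, hyz⟩ := Subgroup.mem_sup_of_normal_left.1 hmem
        have hzR : (z : G) ∈ Subgroup.normalizer (R : Set G) := by
          rw [hR]
          exact Subgroup.le_normalizer_map _ ⟨z, hz, rfl⟩
        have hzd : R ≤ M.map (MulAut.conj ((z : G) * d)).toMonoidHom := by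
          rw [← hmul]
          refine le_trans ?_ (Subgroup.map_mono hd)
          rw [map_conj_eq_self hzR]
        obtain ⟨c, hc, hcd⟩ := IH R hXR hRp (fun h => not_le_of_gt hXR (h ▸ bot_le)) d _ hd hzd
        refine ⟨(y : G) * c, Subgroup.mul_mem _ (hOC ⟨y, hy, rfl⟩)
          (centralizer_anti hXR.le hc), ?_⟩
        calc M.map (MulAut.conj ((n : G) * d)).toMonoidHom
            = (M.map (MulAut.conj ((z : G) * d)).toMonoidHom).map
                (MulAut.conj (y : G)).toMonoidHom := by
              rw [hmul, ← mul_assoc, ← hyz]; rfl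
          _ = M.map (MulAut.conj ((y : G) * c * d)).toMonoidHom := by rw [hcd, hmul, mul_assoc]
      · have hmax := isCoatom_map_conj hM d
        obtain ⟨L, hL, hNL⟩ := exists_coatom_ge hG hNtop
        have hLd : M.map (MulAut.conj d).toMonoidHom = L :=
          uniq_of_pgroup hU (Fact.out : p.Prime) hrk hmax hL hd
            ((Subgroup.map_subtype_le _).trans hNL)
        refine ⟨1, Subgroup.one_mem _, ?_⟩
        rw [one_mul, ← hmul, hLd]
        exact map_conj_eq_self (Subgroup.le_normalizer (hNL n.2))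
    obtain ⟨c₀, hc₀, hc₀d⟩ := key
    -- the two sides
    obtain ⟨c₁, hc₁, hc₁d⟩ := IH Q hXQ hQp (fun h => not_le_of_gt hXQ (h ▸ bot_le)) a d
      (hQle.trans inf_le_left) (hQR.trans hd)
    obtain ⟨c₂, hc₂, hc₂d⟩ := IH Q' hXQ' hQ'p (fun h => not_le_of_gt hXQ' (h ▸ bot_le))
      ((n : G) * d) b (hQ'R.trans (by rw [← hmul]; exact Subgroup.map_mono hd))
      (hQ'le.trans inf_le_left)
    refine ⟨c₂ * c₀ * c₁, Subgroup.mul_mem _ (Subgroup.mul_mem _
      (centralizer_anti hXQ'.le hc₂) hc₀) (centralizer_anti hXQ.le hc₁), ?_⟩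
    calc M.map (MulAut.conj b).toMonoidHom
        = (M.map (MulAut.conj ((n : G) * d)).toMonoidHom).map
            (MulAut.conj c₂).toMonoidHom := by rw [hc₂d, hmul]
      _ = ((M.map (MulAut.conj d).toMonoidHom).map (MulAut.conj c₀).toMonoidHom).map
            (MulAut.conj c₂).toMonoidHom := by rw [hc₀d, hmul c₀ d]
      _ = M.map (MulAut.conj (c₂ * c₀ * c₁ * a)).toMonoidHom := by
            rw [hc₁d, hmul, hmul, ← mul_assoc, ← mul_assoc]
  · -- `X` is a Sylow subgroup of `G`
    refine ⟨1, Subgroup.one_mem _, ?_⟩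
    obtain ⟨Q, hQ⟩ := exists_sylow_of_mem_sigma hp
    obtain ⟨S, hS⟩ := hXp.exists_le_sylow
    have hXS : X = (S : Subgroup G) := by
      refine Subgroup.eq_of_le_of_card_ge hS ?_
      rw [Sylow.card_eq_multiplicity]
      have h1 : p ^ (Nat.card G).factorization p ∣ Nat.card X := by
        have h2 : p ^ (Nat.card G).factorization p ∣
            Nat.card (M.map (MulAut.conj a).toMonoidHom) := by
          rw [hcar, ← Sylow.card_eq_multiplicity Q]
          exact Subgroup.card_dvd_of_le (Subgroup.le_normalizer.trans hQ)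
        rw [← Subgroup.card_mul_index (X.subgroupOf (M.map (MulAut.conj a).toMonoidHom)),
          Nat.card_congr (Subgroup.subgroupOfEquivOfLe ha).toEquiv] at h2
        exact ((((Fact.out : p.Prime).coprime_iff_not_dvd).2 hsyl).pow_left _).dvd_of_dvd_mul_right h2
      exact Nat.le_of_dvd Nat.card_pos h1
    -- both conjugates contain the normaliser of `X`
    obtain ⟨e, he⟩ := MulAction.exists_smul_eq G Q S
    have hXe : X = (Q : Subgroup G).map (MulAut.conj e).toMonoidHom := by
      rw [hXS, ← he]; rfl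
    have hQM : (Q : Subgroup G) ≤ M := Subgroup.le_normalizer.trans hQ
    have key : ∀ t : G, X ≤ M.map (MulAut.conj t).toMonoidHom →
        M.map (MulAut.conj t).toMonoidHom = M.map (MulAut.conj e).toMonoidHom := by
      intro t ht
      have h1 : (Q : Subgroup G).map (MulAut.conj (t⁻¹ * e)).toMonoidHom ≤ M := by
        rw [map_conj_le_iff]
        intro x hx
        have h2 : e * x * e⁻¹ ∈ X := by rw [hXe]; exact ⟨x, hx, rfl⟩
        have := mem_map_conj.1 (ht h2)
        simpa [mul_assoc] using this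
      obtain ⟨m, hm⟩ := MulAction.exists_smul_eq M (Q.subtype hQM)
        (((t⁻¹ * e) • Q : Sylow p G).subtype (by exact h1))
      have hkM : (m : G)⁻¹ * (t⁻¹ * e) ∈ M := by
        refine hQ ?_
        have h3 : (((m : G) • Q : Sylow p G) : Subgroup G) =
            (((t⁻¹ * e) • Q : Sylow p G) : Subgroup G) := by
          rw [Sylow.smul_subtype] at hm
          exact congrArg (fun S : Sylow p G => (S : Subgroup G)) (Sylow.subtype_injective hm)
        refine Sylow.smul_eq_iff_mem_normalizer.1 ?_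
        rw [mul_smul, ← Sylow.ext h3]
        exact inv_smul_smul (m : G) Q
      have hte : t⁻¹ * e ∈ M := by
        have := M.mul_mem m.2 hkM
        simpa using this
      conv_rhs => rw [show e = t * (t⁻¹ * e) by group, ← hmul,
        map_conj_eq_self (Subgroup.le_normalizer hte)]
    rw [one_mul, key a ha, key b hb]

/-- BG 10.1. -/
theorem sigma_fusion (hG : IsMinSimpleOddOrder G) (hU : UniquenessTheorem G)
    (hR2 : SmallRankFrattini.{u}) {p : ℕ} [Fact p.Prime] {M : Subgroup G} (hM : IsCoatom M)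
    (hp : p ∈ sigma M) {X : Subgroup G} (hXp : IsPGroup p X) (hX1 : X ≠ ⊥) (hXM : X ≤ M)
    {g : G} (hg : X.map (MulAut.conj g).toMonoidHom ≤ M) :
    ∃ m ∈ M, ∃ c ∈ Subgroup.centralizer (X : Set G), g = m * c := by
  have h1 : X ≤ M.map (MulAut.conj (1 : G)).toMonoidHom := by
    simpa [le_map_conj_iff, SetLike.le_def] using hXM
  have h2 : X ≤ M.map (MulAut.conj g⁻¹).toMonoidHom := by
    rw [le_map_conj_iff]
    rw [map_conj_le_iff] at hg
    simpa using hg
  obtain ⟨c, hc, he⟩ := exists_conj_eq_of_le_aux hG hU hR2 hM hp X hXp hX1 1 g⁻¹ h1 h2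
  refine ⟨g * c, ?_, c⁻¹, Subgroup.inv_mem _ hc, by simp⟩
  rw [← coatom_self_normalizing hG hM, Subgroup.mem_normalizer_iff]
  intro x
  have := SetLike.ext_iff.1 he (c * x * c⁻¹)
  rw [mem_map_conj, mem_map_conj] at this
  simpa [mul_assoc] using this.symm

end Cfsg.Agent.BGSigma
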