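import Cfsg.Agent.BGSigma.KappaPlane

/-!
BG 14: lines of `τ₁(M) ∪ τ₃(M)` with fixed points on `M_σ`, their partners, and `κ(M)`.
-/

set_option autoImplicit false

namespace Cfsg.Agent.BGSigma

open Cfsg Subgroup
open scoped commutatorElement Pointwise

universe u

variable {G : Type u} [Group G] [Finite G]

theorem eq_of_pow_card {X : Subgroup G} {s l n : ℕ} (hs : s.Prime) (hl : l.Prime)
    (hd : l ∣ Nat.card X) (hc : Nat.card X = s ^ n) : l = s :=
  (Nat.prime_dvd_prime_iff_eq hl hs).1 (hl.dvd_of_dvd_pow (hc ▸ hd))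

theorem le_of_conj_map {X H : Subgroup G} {g : G} (h : X.map (MulAut.conj g).toMonoidHom ≤ H)
    {x : G} (hx : x ∈ X) : g * x * g⁻¹ ∈ H := map_conj_le_iff.1 h x hx

/-- The `p`-group of an element of prime power order fixes what its line fixes. -/
theorem isCyclic_zpowers' (x : G) : IsCyclic (zpowers x) := inferInstance

variable (hG : IsMinSimpleOddOrder G)
include hG

theorem sigma_disjoint {M L : Subgroup G} (hM : IsCoatom M) (hL : IsCoatom L) {p : ℕ}
    (hpL : p ∈ sigma L) (hpM : p ∉ sigma M) {s : ℕ} (hsM : s ∈ sigma M) : s ∉ sigma L := fun hs => by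
  obtain ⟨g, rfl⟩ := conj_of_sigma hG (localInputs hG) (twelveInputs hG) hM hL hsM hs
  exact hpM (sigma_of_conj hpL)

theorem sigmaCore_inf_sigmaCore {M L : Subgroup G} (hM : IsCoatom M) (hL : IsCoatom L) {p : ℕ}
    (hpL : p ∈ sigma L) (hpM : p ∉ sigma M) : sigmaCore M ⊓ sigmaCore L = ⊥ :=
  isPiSub_inf_eq_bot (isPiSub_sigmaCore M) (isPiSub_sigmaCore L)
    fun _ _ h1 => sigma_disjoint hG hM hL hpL hpM h1

/-- A line of `τ₁(M) ∪ τ₃(M)` with fixed points on `M_σ` has its prime in `σ(L)` for every maximal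
`L` over its normalizer. -/
theorem mem_sigma_of_nonregular {M P L : Subgroup G} {p : ℕ} [hp : Fact p.Prime] (hM : IsCoatom M)
    (hps : p ∉ sigma M) (hr : PRankLE p 1 M) (hPM : P ≤ M) (hPc : Nat.card P = p)
    (hne : sigmaCore M ⊓ centralizer (P : Set G) ≠ ⊥) (hL : IsCoatom L)
    (hNL : normalizer (P : Set G) ≤ L) : p ∈ sigma L := by
  have h := localInputs hG
  have hT := twelveInputs hG
  by_contra hpL
  have hPL : P ≤ L := le_normalizer.trans hNL
  have hr1 : ¬ PRankLE p 1 L := fun h1 =>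
    normalizer_not_le_conj hG h hL hpL h1 hPc (g := 1) (by rwa [map_conj_one])
  have hp2 : p ∈ tau2 L := ⟨hp.out, hpL, not_sigma_rank_two hG h.uniq hL hp.out hpL, hr1⟩
  obtain ⟨s, hs, y, hy, hyo⟩ := exists_prime_line hne
  haveI := Fact.mk hs
  have hsM : s ∈ sigma M :=
    isPiSub_sigmaCore M s hs (hyo ▸ Subgroup.orderOf_dvd_natCard _ hy.1)
  have hsL : s ∉ sigma L := fun h0 => by
    obtain ⟨g, rfl⟩ := conj_of_sigma hG h hT hM hL hsM h0
    exact normalizer_not_le_conj hG h hM hps hr hPc hNL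
  set Y := zpowers y with hY
  have hYc : Nat.card Y = s := by rw [hY, Nat.card_zpowers, hyo]
  have hYC : Y ≤ centralizer (P : Set G) := zpowers_le.2 hy.2
  have hYL : Y ≤ L := (hYC.trans (centralizer_le_normalizer _)).trans hNL
  obtain ⟨E, hE, hYE⟩ := exists_compl_ge hG hL (sup_le hPL hYL : P ⊔ Y ≤ L) fun l hl hd => by
    rcases prime_dvd_sup (hYC.trans (centralizer_le_normalizer _)) hl hd with h1 | h1
    · rw [eq_of_dvd_card_pgroup (isPGroup_of_prime_card hPc) hl h1]; exact hpL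
    · rw [eq_of_dvd_card_pgroup (isPGroup_of_prime_card hYc) hl h1]; exact hsL
  obtain ⟨A, hA⟩ := BGTwelve.exists_sq_le_compl hG hL hE hp2
  have hPA : P ≤ A := BGTwelve.le_sq_of_card hG h hL hE hp2 hA (le_sup_left.trans hYE) hPc
  have hyA := le_centralizer_plane_of_fixed hG hL hE hp2 hA hPA hPc hNL hs
    (hYE (mem_sup_right (mem_zpowers y))) hyo hy.2
  have hb := inf_centralizer_plane_eq_bot hG h hT hM hps hr hPM hPc hPA hA.2.1 hA.2.2
    (not_ideal_of_rank_two hG h.uniq hL hp2.2.2.1 hr1).1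
  have : y = 1 := Subgroup.mem_bot.1 (hb ▸ ⟨hy.1, hyA⟩)
  rw [this, orderOf_one] at hyo
  exact hs.ne_one hyo.symm

/-- The partner of a line. -/
theorem exists_partner {M P : Subgroup G} {p : ℕ} [hp : Fact p.Prime] (hM : IsCoatom M)
    (hps : p ∉ sigma M) (hr : PRankLE p 1 M) (hPM : P ≤ M) (hPc : Nat.card P = p)
    (hne : sigmaCore M ⊓ centralizer (P : Set G) ≠ ⊥) :
    ∃ L : Subgroup G, IsCoatom L ∧ normalizer (P : Set G) ≤ L ∧ p ∈ sigma L ∧
      P ≤ sigmaCore L := by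
  obtain ⟨L, hL, hNL, -⟩ := exists_coatom_normalizer hG (localInputs hG) hM hps hr hPM hPc
  have hpL := mem_sigma_of_nonregular hG hM hps hr hPM hPc hne hL hNL
  exact ⟨L, hL, hNL, hpL, le_sigmaCore_of_pgroup hG hL hpL (isPGroup_of_prime_card hPc)
    (le_normalizer.trans hNL)⟩

/-- In `L` a line of `M_σ` centralising a line `P ≤ L_σ ∩ M` has prime outside `σ(L)`, rank one. -/
theorem fixer_rank_one {M L P X : Subgroup G} {p s : ℕ} [hp : Fact p.Prime] [hs : Fact s.Prime]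
    (hM : IsCoatom M) (hL : IsCoatom L) (hps : p ∉ sigma M) (hpL : p ∈ sigma L) (hPM : P ≤ M)
    (hPc : Nat.card P = p) (hXM : X ≤ sigmaCore M) (hXc : Nat.card X = s)
    (hXP : X ≤ centralizer (P : Set G)) (hXL : X ≤ L) (hPL : P ≤ L) :
    s ∉ sigma L ∧ PRankLE s 1 L ∧ sigmaCore L ⊓ centralizer (X : Set G) ≠ ⊥ := by
  have h := localInputs hG
  have hT := twelveInputs hG
  have hsM : s ∈ sigma M :=
    isPiSub_sigmaCore M s hs.out (hXc ▸ card_dvd_of_le hXM)
  have hsL := sigma_disjoint hG hM hL hpL hps hsM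
  have hPσ : P ≤ sigmaCore L := le_sigmaCore_of_pgroup hG hL hpL (isPGroup_of_prime_card hPc) hPL
  have hne : sigmaCore L ⊓ centralizer (X : Set G) ≠ ⊥ := fun h0 =>
    ne_bot_of_prime_card hp.out hPc
      (le_bot_iff.1 ((le_inf hPσ (le_centralizer_iff.1 hXP)).trans h0.le))
  refine ⟨hsL, ?_, hne⟩
  by_contra hr
  have hs2 : s ∈ tau2 L := ⟨hs.out, hsL, not_sigma_rank_two hG h.uniq hL hs.out hsL, hr⟩
  obtain ⟨E, hE, hXE⟩ := exists_compl_ge hG hL hXL fun l hl hd => by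
    rw [eq_of_dvd_card_pgroup (isPGroup_of_prime_card hXc) hl hd]; exact hsL
  obtain ⟨A, hA⟩ := BGTwelve.exists_sq_le_compl hG hL hE hs2
  have hXA := BGTwelve.le_sq_of_card hG h hL hE hs2 hA hXE hXc
  have hu := ((BGTwelve.tau_two_compl_stmt hG h hL hE hs2 hA).2.2 X hXA hXc hne).2
  have hLM : L ≠ M := fun h0 => hps (h0 ▸ hpL)
  have hb := inf_sigmaCore_eq_bot_of_meet hG h hT hM hL hsM hs2 (isPGroup_of_prime_card hXc)
    (ne_bot_of_prime_card hs.out hXc) (hXM.trans (sigmaCore_le M)) hLM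
    (normalizer_le_of_centralizer_uniq hG (ne_bot_of_prime_card hs.out hXc)
      (isCoatom_ne_top hL hXL) hu)
  exact ne_bot_of_prime_card hp.out hPc (le_bot_iff.1 ((le_inf hPσ hPM).trans hb.le))

/-- Lines of `M_σ` fixed by a line of `τ₁(M) ∪ τ₃(M)` have their normalizer in `M`. -/
theorem normalizer_le_of_fixed {M P X : Subgroup G} {p s : ℕ} [hp : Fact p.Prime] [hs : Fact s.Prime]
    (hM : IsCoatom M) (hps : p ∉ sigma M) (hr : PRankLE p 1 M) (hPM : P ≤ M)
    (hPc : Nat.card P = p) (hXM : X ≤ sigmaCore M) (hXc : Nat.card X = s)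
    (hXP : X ≤ centralizer (P : Set G)) : normalizer (X : Set G) ≤ M := by
  have hne : sigmaCore M ⊓ centralizer (P : Set G) ≠ ⊥ := fun h0 =>
    ne_bot_of_prime_card hs.out hXc (le_bot_iff.1 ((le_inf hXM hXP).trans h0.le))
  obtain ⟨L, hL, hNL, hpL, hPσ⟩ := exists_partner hG hM hps hr hPM hPc hne
  have hXL : X ≤ L := (hXP.trans (centralizer_le_normalizer _)).trans hNL
  obtain ⟨hsL, hsr, hne'⟩ := fixer_rank_one hG hM hL hps hpL hPM hPc hXM hXc hXP hXL
    (hPσ.trans (sigmaCore_le L))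
  obtain ⟨H, hH, hNH, hsH, -⟩ := exists_partner hG hL hsL hsr hXL hXc hne'
  have hsM : s ∈ sigma M :=
    isPiSub_sigmaCore M s hs.out (hXc ▸ card_dvd_of_le hXM)
  rw [eq_of_sigma_line hG hH hM hsH hsM hXc ((centralizer_le_normalizer _).trans hNH)
    (hXM.trans (sigmaCore_le M))]
  exact hNH

/-- `p`-elements fix what their lines fix. -/
theorem fixed_le_of_pgroup {M P W : Subgroup G} {p : ℕ} [Fact p.Prime] (hM : IsCoatom M)
    (hps : p ∉ sigma M) (hr : PRankLE p 1 M) (hPM : P ≤ M) (hPc : Nat.card P = p)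
    (hWp : IsPGroup p W) (hWM : W ≤ M) (hWP : W ≤ centralizer (P : Set G)) :
    sigmaCore M ⊓ centralizer (P : Set G) ≤ centralizer (W : Set G) :=
  inf_centralizer_le_of_pgroup hG (localInputs hG) (twelveInputs hG) hM hps hr hPM hPc hWp hWM hWP

theorem tau13_cases {M : Subgroup G} {p : ℕ} (hp : p.Prime) (hps : p ∉ sigma M)
    (hd : p ∣ Nat.card M) (hr : PRankLE p 1 M) : p ∈ tau1 M ∨ p ∈ tau3 M := by
  by_cases h : p ∣ Nat.card ↥⁅M, M⁆
  · exact Or.inr ⟨hp, hps, h, hr⟩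
  · exact Or.inl ⟨hp, hps, hd, h, hr⟩

/-- `κ(M)` through lines. -/
theorem mem_kappa_iff {M : Subgroup G} (hM : IsCoatom M) {p : ℕ} :
    p ∈ kappa M ↔ p.Prime ∧ p ∉ sigma M ∧ PRankLE p 1 M ∧
      ∃ P : Subgroup G, P ≤ M ∧ Nat.card P = p ∧ sigmaCore M ⊓ centralizer (P : Set G) ≠ ⊥ := by
  constructor
  · rintro ⟨hp, hd, hps, hS⟩
    haveI := Fact.mk hp
    refine ⟨hp, hps, prankLE_one_of_cyclic_sylow' default (hS default).1, ?_⟩
    obtain ⟨-, x, hxS, hx1, y, hy, hy1, hxy⟩ := hS default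
    have hxp : IsPGroup p (zpowers (x : G)) :=
      ((default : Sylow p M).isPGroup'.map M.subtype).to_le (zpowers_le.2 ⟨x, hxS, rfl⟩)
    obtain ⟨P, hP, hPc, -, -⟩ := exists_order_prime_of_cyclic hxp inferInstance
      (fun h0 => hx1 (Subtype.ext (Subgroup.mem_bot.1 (h0 ▸ mem_zpowers (x : G)))))
    refine ⟨P, hP.trans (zpowers_le.2 x.2), hPc, fun h0 => hy1 ?_⟩
    refine Subgroup.mem_bot.1 (h0 ▸ ⟨hy, centralizer_anti hP ?_⟩)
    rw [BGTwelve.centralizer_zpowers_eq, mem_centralizer_singleton_iff]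
    exact hxy.symm
  · rintro ⟨hp, hps, hr, P, hPM, hPc, hne⟩
    haveI := Fact.mk hp
    refine ⟨hp, hPc ▸ card_dvd_of_le hPM, hps, fun S => ?_⟩
    have hcyc : IsCyclic ((S : Subgroup M).map M.subtype : Subgroup G) :=
      isCyclic_of_prankLE_one hG hr (S.isPGroup'.map _) (map_subtype_le _)
    refine ⟨((S : Subgroup M).equivMapOfInjective M.subtype M.subtype_injective).isCyclic.2 hcyc, ?_⟩
    obtain ⟨x₀, hx₀⟩ := exists_prime_orderOf_dvd_card' p (show p ∣ Nat.card (S : Subgroup M) from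
      Sylow.dvd_card_of_dvd_card S (hPc ▸ card_dvd_of_le hPM))
    set X := zpowers ((x₀ : M) : G) with hX
    have hXc : Nat.card X = p := by
      rw [hX, Nat.card_zpowers, Subgroup.orderOf_coe, Subgroup.orderOf_coe, hx₀]
    obtain ⟨m, hm, hmP⟩ := exists_conj_line hG hr (zpowers_le.2 (x₀ : M).2) hXc hPM hPc
    obtain ⟨y, hy, hy1⟩ := ((sigmaCore M ⊓ centralizer (P : Set G)).bot_or_exists_ne_one).resolve_left hne
    refine ⟨x₀, x₀.2, fun h0 => ?_, m * y * m⁻¹,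
      (mem_normalizer_iff.1 (le_normalizer_sigmaCore M hm) y).1 hy.1,
      fun h0 => hy1 (by simpa using h0), ?_⟩
    · rw [hX, h0, OneMemClass.coe_one, zpowers_one_eq_bot, card_bot] at hXc
      exact hp.ne_one hXc.symm
    · obtain ⟨w, hw, hwx⟩ : ((x₀ : M) : G) ∈ P.map (MulAut.conj m).toMonoidHom :=
        hmP.symm ▸ mem_zpowers _
      have h2 : w * y = y * w := mem_centralizer_iff.1 hy.2 w hw
      have hwx' : m * w * m⁻¹ = ((x₀ : M) : G) := hwx
      rw [← hwx']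
      calc m * w * m⁻¹ * (m * y * m⁻¹) = m * (w * y) * m⁻¹ := by group
        _ = m * (y * w) * m⁻¹ := by rw [h2]
        _ = m * y * m⁻¹ * (m * w * m⁻¹) := by group

theorem nonregular_of_kappa {M P : Subgroup G} (hM : IsCoatom M) {p : ℕ} [hp : Fact p.Prime]
    (hk : p ∈ kappa M) (hPM : P ≤ M) (hPc : Nat.card P = p) :
    sigmaCore M ⊓ centralizer (P : Set G) ≠ ⊥ := by
  obtain ⟨-, hps, hr, X, hXM, hXc, hne⟩ := (mem_kappa_iff hG hM).1 hk
  obtain ⟨m, hm, rfl⟩ := exists_conj_line hG hr hPM hPc hXM hXc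
  intro h0
  refine hne ((map_eq_bot_iff_of_injective _ (MulAut.conj m).injective).1 (?_ :
    (sigmaCore M ⊓ centralizer (X : Set G)).map (MulAut.conj m).toMonoidHom = ⊥))
  rwa [Subgroup.map_inf _ _ _ (MulAut.conj m).injective, ← map_conj_centralizer,
    map_conj_eq_self (le_normalizer_sigmaCore M hm)]

/-- A complement normalises its lines of `τ₃(M)`. -/
theorem compl_le_normalizer_tau3 {M E Q : Subgroup G} {q : ℕ} (hM : IsCoatom M)
    (hE : IsComplIn E (sigmaCore M) M) (hq : q ∈ tau3 M) (hQE : Q ≤ E) (hQc : Nat.card Q = q) :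
    E ≤ normalizer (Q : Set G) := by
  haveI := BGTwelve.compl_isSolvable hG hM hE
  obtain ⟨F', hF', hQF⟩ := Solvable.exists_isPiHall_ge (G := E) (π := tau3 M)
    (Q.subgroupOf E) (fun l hl hd => by
      rw [Nat.card_congr (subgroupOfEquivOfLe hQE).toEquiv, hQc,
        Nat.prime_dvd_prime_iff_eq hl hq.1] at hd
      exact hd ▸ hq)
  obtain ⟨hFc, -, hFn⟩ := BGTwelve.hall_tau3 hG hM hE (Coprime.isPiHallOf_map_subtype hF')
  exact hFn.trans (BGTwelve.normalizer_le_of_isCyclic hFc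
    fun x hx => ⟨⟨x, hQE hx⟩, hQF hx, rfl⟩)

/-- A line of `τ₃(M)` with fixed points leaves `τ₂(M)` empty. -/
theorem tau2_empty_of_tau3 {M Q : Subgroup G} {q : ℕ} [hq : Fact q.Prime] (hM : IsCoatom M)
    (hq3 : q ∈ tau3 M) (hQM : Q ≤ M) (hQc : Nat.card Q = q)
    (hne : sigmaCore M ⊓ centralizer (Q : Set G) ≠ ⊥) (p : ℕ) : p ∉ tau2 M := fun hp => by
  haveI := Fact.mk hp.1
  obtain ⟨L, hL, hNL, hqL, -⟩ := exists_partner hG hM hq3.2.1 hq3.2.2.2 hQM hQc hne
  obtain ⟨E, hE, hQE⟩ := exists_compl_ge hG hM hQM fun l hl hd => by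
    rw [eq_of_dvd_card_pgroup (isPGroup_of_prime_card hQc) hl hd]; exact hq3.2.1
  obtain ⟨A, hA⟩ := BGTwelve.exists_sq_le_compl hG hM hE hp
  have hAL : A ≤ L := hA.1.trans ((compl_le_normalizer_tau3 hG hM hE hq3 hQE hQc).trans hNL)
  obtain ⟨-, -, -, -, he, -⟩ :=
    tau_two_stmt hG (localInputs hG) M hM hp A ⟨hA.1.trans hE.1, hA.2⟩
  exact hne (le_bot_iff.1 ((le_inf inf_le_left
    (inf_le_right.trans ((centralizer_le_normalizer _).trans hNL))).trans
    (he L hL (fun h0 => hq3.2.1 (h0 ▸ hqL)) hAL).le))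

end Cfsg.Agent.BGSigma
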