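import Cfsg.Agent.BGSigma.SupportR

/-!
BG 14: the sets `M̃` of nonconjugate maximal subgroups are disjoint.
-/

set_option autoImplicit false

namespace Cfsg.Agent.BGSigma

open Cfsg Subgroup
open scoped commutatorElement Pointwise

universe u

variable {G : Type u} [Group G] [Finite G] (hG : IsMinSimpleOddOrder G)
include hG

theorem supportR_map_conj {M : Subgroup G} (hM : IsCoatom M) {a : G} (ha : a ∈ sigmaCore M)
    (ha1 : a ≠ 1) (g : G) {r : G} (hr : r ∈ supportR M a) :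
    g * r * g⁻¹ ∈ supportR (M.map (MulAut.conj g).toMonoidHom) (g * a * g⁻¹) := by
  by_cases hC : centralizer ({a} : Set G) ≤ M
  · rw [supportR_of_le hG hC, Subgroup.mem_bot] at hr
    simp [hr]
  · obtain ⟨L, E, hL, -, -, -, hCL, -, -, hR⟩ := supportR_of_not_le hG hM ha ha1 hC
    rw [hR] at hr
    have hb : g * a * g⁻¹ ∈ sigmaCore (M.map (MulAut.conj g).toMonoidHom) := by
      rw [sigmaCore_map_conj hG hM]; exact ⟨a, ha, rfl⟩
    have hb1 : g * a * g⁻¹ ≠ 1 := fun h0 => ha1 (by simpa using h0)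
    have hC' : ¬ centralizer ({g * a * g⁻¹} : Set G) ≤ M.map (MulAut.conj g).toMonoidHom := by
      rw [← map_conj_centralizer_one]
      exact fun h0 => hC ((map_le_map_iff_of_injective (MulAut.conj g).injective).1 h0)
    obtain ⟨L', E', hL', -, -, -, -, hu', -, hR'⟩ :=
      supportR_of_not_le hG (isCoatom_map_conj hM g) hb hb1 hC'
    have heq : L.map (MulAut.conj g).toMonoidHom = L' := hu' _ (isCoatom_map_conj hL g)
      (by rw [← map_conj_centralizer_one]; exact map_mono hCL)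
    rw [hR', ← heq, sigmaCore_map_conj hG hL, ← map_conj_centralizer_one]
    exact ⟨⟨r, hr.1, rfl⟩, ⟨r, hr.2, rfl⟩⟩

/-- `S1379`, first part. -/
theorem tilde_disjoint {M N : Subgroup G} (hM : IsCoatom M) (hN : IsCoatom N)
    (hne : ∀ g : G, N ≠ M.map (MulAut.conj g).toMonoidHom) :
    tildeOf M ((sigmaCore M : Set G) \ {1}) ∩ tildeOf N ((sigmaCore N : Set G) \ {1}) = ∅ := by
  refine Set.eq_empty_iff_forall_notMem.2 ?_
  rintro _ ⟨⟨a, ⟨ha, ha1⟩, r, hr, y, rfl⟩, b, ⟨hb, hb1⟩, s, hs, z, he⟩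
  set w := y⁻¹ * z with hw
  have hb' : w * b * w⁻¹ ∈ sigmaCore (N.map (MulAut.conj w).toMonoidHom) := by
    rw [sigmaCore_map_conj hG hN]; exact ⟨b, hb, rfl⟩
  have hb1' : w * b * w⁻¹ ≠ 1 := fun h0 => hb1 (show b = 1 by simpa using h0)
  refine cosets_disjoint_stmt hG M _ hM (isCoatom_map_conj hN w) a _ ha hb' ha1 hb1' (fun h0 => ?_)
    r hr _ (supportR_map_conj hG hN hb hb1 w hs) ?_
  · obtain ⟨q, hq, hqd⟩ := Nat.exists_prime_and_dvd (fun h1 => ha1 (orderOf_eq_one_iff.1 h1))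
    obtain ⟨g, hg⟩ := conj_of_sigma hG (localInputs hG) (twelveInputs hG) hM hN
      (isPiSub_sigmaCore M q hq (hqd.trans (Subgroup.orderOf_dvd_natCard _ ha)))
      (sigma_conj_iff.1 (isPiSub_sigmaCore _ q hq
        (hqd.trans (h0 ▸ Subgroup.orderOf_dvd_natCard _ hb'))))
    exact hne g hg
  · calc a * r = y⁻¹ * (y * (a * r) * y⁻¹) * y := by group
      _ = y⁻¹ * (z * (b * s) * z⁻¹) * y := by rw [he]
      _ = w * b * w⁻¹ * (w * s * w⁻¹) := by rw [hw]; group

end Cfsg.Agent.BGSigma
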