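import Cfsg.Agent.BGSigma.KappaPair
import Cfsg.Agent.BGSigma.TildeDisjoint

/-!
BG 14.7: the count showing that some pair has nontrivial `U`.
-/

set_option autoImplicit false

namespace Cfsg.Agent.BGSigma

open Cfsg Subgroup
open scoped commutatorElement Pointwise

universe u

variable {G : Type u} [Group G] [Finite G]

local notation:max "K⋆[" M ", " K "]" => sigmaCore M ⊓ centralizer (SetLike.coe K)

/-- `H` sees `Z` as its `K × K*`. -/
def SeesPair (Z H : Subgroup G) : Prop :=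
  IsCoatom H ∧ ∃ E K U : Subgroup G, KappaShape H E K U ∧ K ≠ ⊥ ∧ K ⊔ K⋆[H, K] = Z

variable (hG : IsMinSimpleOddOrder G)
include hG

/-- Each prime of `Z` is in `σ` of someone seeing `Z`. -/
theorem SeesPair.cover {Z M : Subgroup G} (h : SeesPair Z M) {u : ℕ} (hu : u.Prime)
    (hd : u ∣ Nat.card Z) : ∃ H : Subgroup G, SeesPair Z H ∧ u ∈ sigma H := by
  obtain ⟨hM, E, K, U, s, hK1, hZ⟩ := id h
  rw [← hZ, s.card_sup_star hG hM] at hd
  rcases hu.dvd_mul.1 hd with h1 | h1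
  · haveI := Fact.mk hu
    obtain ⟨P, hP, hPc⟩ := exists_order_prime_line hu h1
    obtain ⟨-, hps, hr1, hne⟩ := s.line_data hG hM hP hPc
    obtain ⟨L, hL, hNL, huL, -⟩ := exists_partner hG hM hps hr1 (hP.trans s.hallK.1) hPc hne
    obtain ⟨E', K', U', s', hK'1, he, -⟩ := s.exists_pair hG hM hK1 hP hPc hL hNL
    exact ⟨L, ⟨hL, E', K', U', s', hK'1, he ▸ hZ⟩, huL⟩
  · exact ⟨M, h, isPiSub_sigmaCore M u hu (h1.trans (card_dvd_of_le inf_le_left))⟩

/-- Not everyone seeing `Z` has trivial `U`. -/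
theorem exists_sees_nontrivial {Z M : Subgroup G} (hZM : SeesPair Z M)
    (hall : ∀ H : Subgroup G, SeesPair Z H → ∀ q : ℕ, q.Prime → q ∣ Nat.card H → q ∉ sigma H →
      q ∈ kappa H) : False := by
  classical
  haveI : Fintype (Subgroup G) := Fintype.ofFinite _
  set I : Finset (Set ℕ) := (Finset.univ.filter (SeesPair Z)).image sigma with hI
  have hrep : ∀ i : I, ∃ H : Subgroup G, SeesPair Z H ∧ sigma H = i := fun i => by
    obtain ⟨H, hH, he⟩ := Finset.mem_image.1 i.2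
    exact ⟨H, (Finset.mem_filter.1 hH).2, he⟩
  choose Hf hHf hσf using hrep
  choose Ef Kf Uf sf hKf hZf using fun i => (hHf i).2
  have hHc : ∀ i, IsCoatom (Hf i) := fun i => (hHf i).1
  have mem_I : ∀ H : Subgroup G, SeesPair Z H → sigma H ∈ I := fun H hH =>
    Finset.mem_image.2 ⟨H, Finset.mem_filter.2 ⟨Finset.mem_univ _, hH⟩, rfl⟩
  have hdisj : ∀ i j : I, ∀ q : ℕ, q ∈ sigma (Hf i) → q ∈ sigma (Hf j) → i = j := by
    intro i j q hi hj
    obtain ⟨g, hg⟩ := conj_of_sigma hG (localInputs hG) (twelveInputs hG) (hHc i) (hHc j) hi hj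
    refine Subtype.ext ((hσf i).symm.trans (Eq.trans ?_ (hσf j)))
    ext l
    rw [hg]
    exact sigma_conj_iff.symm
  set T : Set G := {t | t ∈ Z ∧ t ≠ 1 ∧
    ∀ H : Subgroup G, SeesPair Z H → ¬ ∀ p : ℕ, p.Prime → p ∣ orderOf t → p ∈ sigma H} with hT
  have hti : ∀ t ∈ T, ∀ g : G, g * t * g⁻¹ ∈ Z → g ∈ Z := by
    rintro t ⟨htZ, ht1, hall'⟩ g hg
    obtain ⟨u, hu, hd⟩ := Nat.exists_prime_and_dvd (fun h0 => ht1 (orderOf_eq_one_iff.1 h0))
    obtain ⟨H, hH, huH⟩ := hZM.cover hG hu (hd.trans (Subgroup.orderOf_dvd_natCard Z htZ))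
    obtain ⟨hHc', E, K, U, s, hK1, hZ⟩ := id hH
    rw [← hZ] at htZ hg ⊢
    exact s.ti hG hHc' hK1 htZ (fun h0 => s.not_mem_sigma hG hHc' h0 hu hd huH)
      (fun h0 => hall' H hH fun p hp hp' => mem_sigma_of_star h0 hp hp') hg
  -- the partition of the nonidentity elements of `Z`
  let B : I → Set G := fun i => ((K⋆[Hf i, Kf i] : Subgroup G) : Set G) \ {1}
  have hpart : Nat.card T + ∑ i : I, Nat.card (B i) = Nat.card Z - 1 := by
    have hf : ∀ x : T ⊕ Σ i : I, B i, (Sum.elim (fun t : T => (t : G))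
        (fun b : Σ i : I, B i => (b.2 : G)) x) ∈ (Z : Set G) \ {1} := by
      rintro (⟨t, ht⟩ | ⟨i, b, hb⟩)
      · exact ⟨ht.1, ht.2.1⟩
      · exact ⟨hZf i ▸ mem_sup_right hb.1, hb.2⟩
    have hbij : Function.Bijective (fun x => (⟨_, hf x⟩ : ↥((Z : Set G) \ {1}))) := by
      refine ⟨fun x x' he => ?_, fun ⟨z, hz, hz1⟩ => ?_⟩
      · have he' := congrArg Subtype.val he
        rcases x with ⟨t, ht⟩ | ⟨i, b, hb⟩ <;> rcases x' with ⟨t', ht'⟩ | ⟨j, b', hb'⟩ <;>
          simp only [Sum.elim_inl, Sum.elim_inr] at he'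
        · subst he'; rfl
        · subst he'
          exact absurd (fun p hp hd => mem_sigma_of_star hb'.1 hp hd) (ht.2.2 _ (hHf j))
        · subst he'
          exact absurd (fun p hp hd => mem_sigma_of_star hb.1 hp hd) (ht'.2.2 _ (hHf i))
        · subst he'
          obtain ⟨q, hq, hd⟩ := Nat.exists_prime_and_dvd (fun h0 => hb.2 (orderOf_eq_one_iff.1 h0))
          obtain rfl := hdisj i j q (mem_sigma_of_star hb.1 hq hd) (mem_sigma_of_star hb'.1 hq hd)
          rfl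
      · by_cases hzT : z ∈ T
        · exact ⟨Sum.inl ⟨z, hzT⟩, rfl⟩
        · simp only [hT, Set.mem_setOf_eq, not_and] at hzT
          have hzT' := hzT hz hz1
          push Not at hzT'
          obtain ⟨H, hH, hp⟩ := hzT'
          set i : I := ⟨sigma H, mem_I H hH⟩
          refine ⟨Sum.inr ⟨i, z, ?_, hz1⟩, rfl⟩
          exact (sf i).mem_star_of_primes hG (hHc i) (by rw [hZf i]; exact hz) fun p hp' hd => by
            rw [hσf i]; exact hp p hp' hd
    have h1 := Nat.card_eq_of_bijective _ hbij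
    rw [Nat.card_sum, Nat.card_sigma] at h1
    rw [h1, Nat.card_coe_set_eq, Set.ncard_sdiff_singleton_of_mem (one_mem _), ← Nat.card_coe_set_eq]
    rfl
  -- the disjoint sets
  have hne1 : ∀ i, ∀ x ∈ tildeOf (Hf i) ((sigmaCore (Hf i) : Set G) \ {1}), x ≠ 1 := by
    rintro i _ ⟨a, ⟨ha, ha1⟩, r, hr, y, rfl⟩ h0
    obtain ⟨hc, hr'⟩ := supportR_mem hG (hHc i) ha ha1 hr
    have h1 : a * r = 1 * 1 := by
      rw [mul_one, ← conj_eq_one_iff (a := y)]; exact h0
    exact ha1 (part_unique h1 hc (Commute.one_right _)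
      (fun p hp hd => isPiSub_sigmaCore (Hf i) p hp (hd.trans (Subgroup.orderOf_dvd_natCard _ ha)))
      (fun p hp hd => absurd (orderOf_one (G := G) ▸ hd) hp.not_dvd_one) hr'
      (fun p hp hd => absurd (orderOf_one (G := G) ▸ hd) hp.not_dvd_one)).1
  have hTd : ∀ i, ∀ t ∈ T, ∀ g : G, g * t * g⁻¹ ∉ tildeOf (Hf i) ((sigmaCore (Hf i) : Set G) \ {1}) := by
    rintro i t ⟨htZ, -, hall'⟩ g ⟨a, ⟨ha, ha1⟩, r, hr, y, he⟩
    obtain ⟨hc, hr'⟩ := supportR_mem hG (hHc i) ha ha1 hr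
    have haσ : ∀ p : ℕ, p.Prime → p ∣ orderOf a → p ∈ sigma (Hf i) := fun p hp hd =>
      isPiSub_sigmaCore (Hf i) p hp (hd.trans (Subgroup.orderOf_dvd_natCard _ ha))
    have ho : orderOf t = orderOf a * orderOf r := by
      rw [← hc.orderOf_mul_eq_mul_orderOf_of_coprime (Nat.coprime_of_dvd fun p hp h1 h2 =>
        hr' p hp h2 (haσ p hp h1)), ← MulEquiv.orderOf_eq (MulAut.conj g) t,
        ← MulEquiv.orderOf_eq (MulAut.conj y) (a * r)]
      exact congrArg orderOf he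
    by_cases hr1 : r = 1
    · refine hall' _ (hHf i) fun p hp hd => haσ p hp ?_
      rwa [ho, hr1, orderOf_one, mul_one] at hd
    have hC : ¬ centralizer ({a} : Set G) ≤ Hf i := fun h0 =>
      hr1 (by rwa [supportR_of_le hG h0, Subgroup.mem_bot] at hr)
    obtain ⟨L, E, hL, -, -, -, hCL, hu, -, hR⟩ := supportR_of_not_le hG (hHc i) ha ha1 hC
    obtain ⟨L', E', hL', -, -, -, hCL', -, haE, -, h2, -⟩ := exists_support hG (hHc i) ha ha1 hC
    obtain rfl := hu L' hL' hCL'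
    rw [hR] at hr
    obtain ⟨v, hv, hvd⟩ := Nat.exists_prime_and_dvd (fun h0 => hr1 (orderOf_eq_one_iff.1 h0))
    obtain ⟨q, hq, hqd⟩ := Nat.exists_prime_and_dvd (fun h0 => ha1 (orderOf_eq_one_iff.1 h0))
    obtain ⟨H', hH', hvH⟩ := hZM.cover hG hv ((hvd.trans (dvd_mul_left _ _)).trans
      (ho ▸ Subgroup.orderOf_dvd_natCard Z htZ))
    obtain ⟨c, rfl⟩ := conj_of_sigma hG (localInputs hG) (twelveInputs hG) hH'.1 hL hvH
      (isPiSub_sigmaCore _ v hv (hvd.trans (Subgroup.orderOf_dvd_natCard _ hr.1)))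
    obtain ⟨-, hqs, -, hq1⟩ := h2 q hq hqd
    have hqH : q ∣ Nat.card H' := by
      rw [← card_map_conj H' c]
      exact hqd.trans (Subgroup.orderOf_dvd_natCard _ (hCL' (mem_centralizer_singleton_iff.2 rfl)))
    exact hq1 ((prankLE_conj H' c).2 ((mem_kappa_iff hG hH'.1).1
      (hall H' hH' q hq hqH fun h0 => hqs (sigma_conj_iff.2 h0))).2.2.1)
  -- the count
  let W := ((G ⧸ Z) × T) ⊕ Σ i : I, ↥(tildeOf (Hf i) ((sigmaCore (Hf i) : Set G) \ {1}))
  let f : W → G := Sum.elim (fun p => p.1.out * p.2 * p.1.out⁻¹) (fun b => b.2)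
  have hf1 : ∀ x, f x ∈ ({1}ᶜ : Set G) := by
    rintro (⟨q, t, ht⟩ | ⟨i, b, hb⟩)
    · exact fun h0 => ht.2.1 (conj_eq_one_iff.1 h0)
    · exact hne1 i b hb
  have hinj : Function.Injective f := by
    rintro (⟨q, t, ht⟩ | ⟨i, b, hb⟩) (⟨q', t', ht'⟩ | ⟨j, b', hb'⟩) he <;>
      simp only [f, Sum.elim_inl, Sum.elim_inr] at he
    · have hmem : q'.out⁻¹ * q.out ∈ Z := hti t ht _ (by
        rw [show q'.out⁻¹ * q.out * t * (q'.out⁻¹ * q.out)⁻¹ =
          q'.out⁻¹ * (q.out * t * q.out⁻¹) * q'.out by group, he]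
        simpa [mul_assoc] using ht'.1)
      have hq : q = q' := by
        rw [← q.out_eq, ← q'.out_eq]
        exact (QuotientGroup.eq.2 hmem).symm
      subst hq
      simp only [mul_left_inj, mul_right_inj] at he
      subst he
      rfl
    · exact absurd (he ▸ hb' : q.out * t * q.out⁻¹ ∈ _) (hTd j t ht q.out)
    · exact absurd (he ▸ hb : q'.out * t' * q'.out⁻¹ ∈ _) (hTd i t' ht' q'.out)
    · subst he
      obtain rfl : i = j := by
        by_contra hij
        refine Set.eq_empty_iff_forall_notMem.1 (tilde_disjoint hG (hHc i) (hHc j) ?_) b ⟨hb, hb'⟩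
        intro g hg
        obtain ⟨l, hl, t, ht, hto⟩ := exists_prime_line (sf i).fixed_ne
        have hls : l ∈ sigma (Hf i) := mem_sigma_of_star ht hl hto.symm.dvd
        exact hij (hdisj i j l hls (hg ▸ sigma_conj_iff.2 hls))
      rfl
  have htotal : Nat.card W ≤ Nat.card G - 1 := by
    have h1 : Nat.card W ≤ Nat.card ↥({1}ᶜ : Set G) :=
      Nat.card_le_card_of_injective (fun x => ⟨f x, hf1 x⟩)
        fun x y h0 => hinj (congrArg Subtype.val h0)
    have h2 : Set.ncard ({1}ᶜ : Set G) = Nat.card G - 1 := by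
      rw [Set.ncard_compl, Set.ncard_singleton]
    rwa [Nat.card_coe_set_eq, h2] at h1
  rw [Nat.card_sum, Nat.card_prod, Nat.card_sigma, ← Subgroup.index] at htotal
  -- each class gives more than `(2a - 1)/2z`
  have hclass : ∀ i : I, Nat.card G * (2 * Nat.card (B i) + 1) + 1 ≤
      2 * Nat.card Z * Nat.card ↥(tildeOf (Hf i) ((sigmaCore (Hf i) : Set G) \ {1})) := by
    intro i
    have s := sf i
    have hU : Uf i = ⊥ := (s.U_eq_bot_iff hG).2 (hall _ (hHf i))
    have hEK : Ef i = Kf i := le_antisymm (fun e he => by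
      obtain ⟨u, hu, k, hk, rfl⟩ := s.decomp e he
      rw [hU, Subgroup.mem_bot] at hu
      rwa [hu, one_mul]) s.le_E
    have hGc : Nat.card G = Nat.card (Kf i) * Nat.card (sigmaCore (Hf i)) * (Hf i).index := by
      rw [← hEK, BGTwelve.card_compl_mul s.compl, card_mul_index]
    have hBc : Nat.card (B i) + 1 = Nat.card ↥(K⋆[Hf i, Kf i]) := by
      rw [Nat.card_coe_set_eq, Set.ncard_sdiff_singleton_of_mem (one_mem _), ← Nat.card_coe_set_eq]
      exact Nat.sub_add_cancel (Nat.card_pos (α := ↥(K⋆[Hf i, Kf i])))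
    have hlt : 2 * Nat.card ↥(K⋆[Hf i, Kf i]) + 1 ≤ Nat.card (sigmaCore (Hf i)) := by
      obtain ⟨m, hm⟩ := card_dvd_of_le (inf_le_left : K⋆[Hf i, Kf i] ≤ sigmaCore (Hf i))
      have hodd := odd_card_subgroup hG (sigmaCore (Hf i))
      rw [hm, Nat.odd_mul] at hodd
      obtain ⟨m', rfl⟩ := hodd.2
      rcases Nat.eq_zero_or_pos m' with rfl | hm'
      · exfalso
        rw [mul_zero, zero_add, mul_one] at hm
        obtain ⟨l, hl, hd⟩ := Nat.exists_prime_and_dvd (fun h0 => s.fixed_ne (eq_bot_of_card_eq _ h0))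
        haveI := Fact.mk hl
        refine s.sylow_not_le_star hG (hHc i) (hKf i) (hm ▸ hd) default ?_
        exact (map_subtype_le _).trans (eq_of_le_of_card_ge inf_le_left hm.le).ge
      · rw [hm]
        have := Nat.card_pos (α := ↥(K⋆[Hf i, Kf i]))
        nlinarith
    rw [Nat.card_coe_set_eq (tildeOf _ _), card_tilde_stmt hG _ (hHc i), hGc, ← hZf i,
      s.card_sup_star hG (hHc i), ← hBc]
    have hk0 := Nat.card_pos (α := Kf i)
    have hi0 : 0 < (Hf i).index := Nat.pos_of_ne_zero index_ne_zero_of_finite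
    obtain ⟨d, hd⟩ := Nat.exists_eq_add_of_le (hBc.symm ▸ hlt :
      2 * (Nat.card (B i) + 1) + 1 ≤ Nat.card (sigmaCore (Hf i)))
    rw [hd, show 2 * (Nat.card (B i) + 1) + 1 + d - 1 = 2 * (Nat.card (B i) + 1) + d by omega]
    generalize Nat.card (B i) = b, Nat.card (Kf i) = k, (Hf i).index = n at hk0 hi0 ⊢
    nlinarith [Nat.mul_pos hk0 hi0]
  have hsum := Finset.sum_le_sum fun i (_ : i ∈ (Finset.univ : Finset I)) => hclass i
  rw [Finset.sum_add_distrib, ← Finset.mul_sum, ← Finset.mul_sum, Finset.sum_add_distrib,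
    ← Finset.mul_sum, Finset.sum_const, Finset.card_univ, Fintype.card_coe] at hsum
  simp only [smul_eq_mul, mul_one] at hsum
  have hI2 : 2 ≤ I.card := by
    obtain ⟨hM, E, K, U, s, hK1, hZ⟩ := id hZM
    obtain ⟨r, P, hr, hP, hPc⟩ := s.exists_line hG hK1
    haveI := Fact.mk hr
    obtain ⟨H, hH, hrH⟩ := hZM.cover hG hr (hPc ▸ card_dvd_of_le (hP.trans (hZ ▸ le_sup_left)))
    exact Finset.one_lt_card.2 ⟨sigma M, mem_I M hZM, sigma H, mem_I H hH,
      fun h0 => (s.line_data hG hM hP hPc).2.1 (h0 ▸ hrH)⟩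
  have hGz : Nat.card G = Nat.card Z * Z.index := Z.card_mul_index.symm
  have hz := Nat.card_pos (α := Z)
  have hg := Nat.card_pos (α := G)
  have h3 : 2 * Nat.card Z * (Z.index * Nat.card T) = Nat.card G * (2 * Nat.card T) := by
    rw [hGz]; ring
  have h4 := Nat.mul_le_mul_left (2 * Nat.card Z) htotal
  rw [mul_add, h3] at h4
  have h5 : Nat.card G * (2 * Nat.card T) + Nat.card G * (2 * (∑ i : I, Nat.card (B i)) + I.card) +
      I.card ≤ 2 * Nat.card Z * (Nat.card G - 1) := by omega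
  have h6 : Nat.card G * (2 * Nat.card Z) ≤
      Nat.card G * (2 * Nat.card T) + Nat.card G * (2 * (∑ i : I, Nat.card (B i)) + I.card) := by
    rw [← mul_add]
    exact Nat.mul_le_mul_left _ (by omega)
  have h7 : 2 * Nat.card Z * (Nat.card G - 1) ≤ Nat.card G * (2 * Nat.card Z) := by
    rw [mul_comm]
    exact Nat.mul_le_mul_right _ (Nat.sub_le _ _)
  omega

end Cfsg.Agent.BGSigma
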