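import Cfsg.Agent.BGSigma.KappaParts
import Cfsg.Agent.S1545

/-!
BG 14: the group `Z = K × K*` seen from `M` and from the partners of the lines of `K`.
-/

set_option autoImplicit false

namespace Cfsg.Agent.BGSigma

open Cfsg Subgroup
open scoped commutatorElement Pointwise

universe u

variable {G : Type u} [Group G] [Finite G]

local notation:max "K⋆[" M ", " K "]" => sigmaCore M ⊓ centralizer (SetLike.coe K)

theorem star_le_normalizer (M K : Subgroup G) : K⋆[M, K] ≤ normalizer (K : Set G) :=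
  inf_le_right.trans (centralizer_le_normalizer _)

theorem le_centralizer_star (M K : Subgroup G) : K ≤ centralizer (K⋆[M, K] : Set G) :=
  le_centralizer_iff.1 inf_le_right

/-- The elements of `K ⊔ K*`. -/
theorem exists_star_mul {M K : Subgroup G} {z : G} (hz : z ∈ K ⊔ K⋆[M, K]) :
    ∃ k ∈ K, ∃ w ∈ K⋆[M, K], z = k * w ∧ Commute k w := by
  obtain ⟨k, hk, w, hw, rfl⟩ := Coprime.exists_mul_of_mem_sup (star_le_normalizer M K) hz
  exact ⟨k, hk, w, hw, rfl, mem_centralizer_iff.1 hw.2 k hk⟩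

variable (hG : IsMinSimpleOddOrder G)
include hG

section Shape

variable {M E K U : Subgroup G} (s : KappaShape M E K U) (hM : IsCoatom M)
include s hM

theorem KappaShape.not_mem_sigma {x : G} (hx : x ∈ K) {p : ℕ} (hp : p.Prime) (hd : p ∣ orderOf x) :
    p ∉ sigma M :=
  ((mem_kappa_iff hG hM).1 (s.hallK.2.1 p hp (hd.trans (Subgroup.orderOf_dvd_natCard K hx)))).2.1

omit s hM hG in
theorem mem_sigma_of_star {x : G} (hx : x ∈ K⋆[M, K]) {p : ℕ} (hp : p.Prime) (hd : p ∣ orderOf x) :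
    p ∈ sigma M :=
  isPiSub_sigmaCore M p hp (hd.trans (Subgroup.orderOf_dvd_natCard _ hx.1))

theorem KappaShape.mem_star_of_primes {a : G} (ha : a ∈ K ⊔ K⋆[M, K])
    (hp : ∀ p : ℕ, p.Prime → p ∣ orderOf a → p ∈ sigma M) : a ∈ K⋆[M, K] := by
  obtain ⟨k, hk, w, hw, rfl, hc⟩ := exists_star_mul ha
  rw [(part_unique (r := 1) (y := w) (s := k) (by rw [mul_one, hc.eq]) (Commute.one_right _) hc.symm hp
    (fun p h1 h2 => mem_sigma_of_star hw h1 h2)
    (fun p h1 h2 => absurd (orderOf_one (G := G) ▸ h2) h1.not_dvd_one)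
    (fun p h1 h2 => s.not_mem_sigma hG hM hk h1 h2)).1]
  exact hw

theorem KappaShape.mem_K_of_primes {a : G} (ha : a ∈ K ⊔ K⋆[M, K])
    (hp : ∀ p : ℕ, p.Prime → p ∣ orderOf a → p ∉ sigma M) : a ∈ K := by
  obtain ⟨k, hk, w, hw, rfl, hc⟩ := exists_star_mul ha
  rw [(part_unique (x := 1) (r := k * w) (y := w) (s := k) (π := sigma M) (by rw [one_mul, hc.eq])
    (Commute.one_left _) hc.symm
    (fun p h1 h2 => absurd (orderOf_one (G := G) ▸ h2) h1.not_dvd_one)
    (fun p h1 h2 => mem_sigma_of_star hw h1 h2) hp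
    (fun p h1 h2 => s.not_mem_sigma hG hM hk h1 h2)).2]
  exact hk

theorem KappaShape.inf_star : K ⊓ K⋆[M, K] = ⊥ :=
  le_bot_iff.1 ((le_inf (inf_le_left.trans s.le_E) (inf_le_right.trans inf_le_left)).trans
    s.compl.2.2.1.le)

theorem KappaShape.coprime_star : (Nat.card K).Coprime (Nat.card ↥(K⋆[M, K])) :=
  ((card_compl_coprime hG hM s.compl).coprime_dvd_left (card_dvd_of_le s.le_E)).coprime_dvd_right
    (card_dvd_of_le inf_le_left)

theorem KappaShape.card_sup_star :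
    Nat.card ↥(K ⊔ K⋆[M, K]) = Nat.card K * Nat.card ↥(K⋆[M, K]) := by
  symm
  refine card_mul_of_complIn ⟨le_sup_left, le_sup_right, s.inf_star hG hM, fun z hz => ?_⟩
  obtain ⟨k, hk, w, hw, rfl, -⟩ := exists_star_mul hz
  exact ⟨k, hk, w, hw, rfl⟩

theorem KappaShape.inf_normalizer_line (hK1 : K ≠ ⊥) {P : Subgroup G} (hP : P ≤ K)
    (hPp : (Nat.card P).Prime) : M ⊓ normalizer (P : Set G) = K ⊔ K⋆[M, K] :=
  ((shape_stmt hG M hM K s.hallK hK1).2.2 P hP hPp).1

variable (hK1 : K ≠ ⊥) {r : ℕ} [hr : Fact r.Prime] {P : Subgroup G} (hP : P ≤ K)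
  (hPc : Nat.card P = r) {L : Subgroup G} (hL : IsCoatom L) (hNL : normalizer (P : Set G) ≤ L)
include hK1 hP hPc hL hNL

theorem KappaShape.sup_star_le_partner : K ⊔ K⋆[M, K] ≤ L :=
  ((s.inf_normalizer_line hG hM hK1 hP (hPc.symm ▸ hr.out)).ge.trans inf_le_right).trans hNL

theorem KappaShape.partner_sigma : r ∈ sigma L ∧ P ≤ sigmaCore L := by
  obtain ⟨-, hps, hr1, hne⟩ := s.line_data hG hM hP hPc
  have hrL := mem_sigma_of_nonregular hG hM hps hr1 (hP.trans s.hallK.1) hPc hne hL hNL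
  exact ⟨hrL, le_sigmaCore_of_pgroup hG hL hrL (isPGroup_of_prime_card hPc) (le_normalizer.trans hNL)⟩

theorem KappaShape.star_kappa_partner : ∀ p : ℕ, p.Prime → p ∣ Nat.card ↥(K⋆[M, K]) → p ∈ kappa L := by
  intro l hl hd
  haveI := Fact.mk hl
  obtain ⟨X, hX, hXc⟩ := exists_order_prime_line hl hd
  obtain ⟨-, hps, -, -⟩ := s.line_data hG hM hP hPc
  obtain ⟨hrL, hPσ⟩ := s.partner_sigma hG hM hK1 hP hPc hL hNL
  have hXL : X ≤ L := (hX.trans le_sup_right).trans (s.sup_star_le_partner hG hM hK1 hP hPc hL hNL)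
  obtain ⟨h1, h2, h3⟩ := fixer_rank_one hG hM hL hps hrL (hP.trans s.hallK.1) hPc
    (hX.trans inf_le_left) hXc ((hX.trans inf_le_right).trans (centralizer_anti hP)) hXL
    (hPσ.trans (sigmaCore_le L))
  exact (mem_kappa_iff hG hL).2 ⟨hl, h1, h2, X, hXL, hXc, h3⟩

/-- Lines of `K*` are normal in `K*`. -/
theorem KappaShape.star_lines_normal {X : Subgroup G} (hX : X ≤ K⋆[M, K])
    (hXp : (Nat.card X).Prime) : K⋆[M, K] ≤ normalizer (X : Set G) := by
  haveI := Fact.mk hXp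
  have hYL : K⋆[M, K] ≤ L := le_sup_right.trans (s.sup_star_le_partner hG hM hK1 hP hPc hL hNL)
  have hk := s.star_kappa_partner hG hM hK1 hP hPc hL hNL
  obtain ⟨K', hK', hXK'⟩ := exists_hall_ge (π := kappa L) (coatom_isSolvable hG hL) (hX.trans hYL)
    fun p hp hd => hk p hp (hd.trans (card_dvd_of_le hX))
  obtain ⟨m, -, hmY⟩ := exists_conj_le_hall (coatom_isSolvable hG hL) hK' hYL hk
  have hK'1 : K' ≠ ⊥ := fun h0 => ne_bot_of_prime_card hXp rfl (le_bot_iff.1 (hXK'.trans h0.le))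
  obtain ⟨E', U', s'⟩ := exists_kappaShape_of_hall hG hL hK' hK'1
  have hn : K' ≤ normalizer ((X.map (MulAut.conj m).toMonoidHom : Subgroup G) : Set G) :=
    (s'.lines _ ((map_mono hX).trans hmY) (by rwa [card_map_conj])).ge.trans inf_le_right
  intro w hw
  have h1 : m * w * m⁻¹ ∈ normalizer ((X.map (MulAut.conj m).toMonoidHom : Subgroup G) : Set G) :=
    hn (hmY ⟨w, hw, rfl⟩)
  rw [normalizer_map_conj, mem_map_conj] at h1
  simpa [mul_assoc] using h1

end Shape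

/-- `Z` is the same seen from a partner. -/
theorem KappaShape.exists_pair {M E K U : Subgroup G} (s : KappaShape M E K U) (hM : IsCoatom M)
    (hK1 : K ≠ ⊥) {r : ℕ} [hr : Fact r.Prime] {P : Subgroup G} (hP : P ≤ K) (hPc : Nat.card P = r)
    {L : Subgroup G} (hL : IsCoatom L) (hNL : normalizer (P : Set G) ≤ L) :
    ∃ E' K' U' : Subgroup G, KappaShape L E' K' U' ∧ K' ≠ ⊥ ∧
      K ⊔ K⋆[M, K] = K' ⊔ K⋆[L, K'] ∧ P ≤ K⋆[L, K'] := by
  obtain ⟨l, hl, t, ht, hto⟩ := exists_prime_line s.fixed_ne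
  haveI := Fact.mk hl
  set X := zpowers t
  have hX : X ≤ K⋆[M, K] := zpowers_le.2 ht
  have hXc : Nat.card X = l := by rw [Nat.card_zpowers, hto]
  have hZL := s.sup_star_le_partner hG hM hK1 hP hPc hL hNL
  obtain ⟨K', hK', hXK'⟩ := exists_hall_ge (π := kappa L) (coatom_isSolvable hG hL)
    ((hX.trans le_sup_right).trans hZL) fun p hp hd =>
      s.star_kappa_partner hG hM hK1 hP hPc hL hNL p hp (hd.trans (card_dvd_of_le hX))
  have hK'1 : K' ≠ ⊥ := fun h0 => ne_bot_of_prime_card hl hXc (le_bot_iff.1 (hXK'.trans h0.le))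
  obtain ⟨E', U', s'⟩ := exists_kappaShape_of_hall hG hL hK' hK'1
  have hXP : X ≤ centralizer (P : Set G) := (hX.trans inf_le_right).trans (centralizer_anti hP)
  have hPY : P ≤ K⋆[L, K'] := by
    have ht1 : t ≠ 1 := fun h0 => hl.ne_one (by rw [← hto, h0, orderOf_one])
    rw [← s'.prime t (hXK' (mem_zpowers t)) ht1]
    refine le_inf (s.partner_sigma hG hM hK1 hP hPc hL hNL).2 ?_
    rw [← BGTwelve.centralizer_zpowers_eq t]
    exact le_centralizer_iff.1 hXP
  refine ⟨E', K', U', s', hK'1, le_antisymm ?_ ?_, hPY⟩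
  · rw [← s'.inf_normalizer_line hG hL hK'1 hXK' (hXc.symm ▸ hl)]
    refine le_inf hZL (sup_le ?_ (s.star_lines_normal hG hM hK1 hP hPc hL hNL hX (hXc.symm ▸ hl)))
    exact (le_centralizer_star M K).trans ((centralizer_anti hX).trans (centralizer_le_normalizer _))
  · rw [← s.inf_normalizer_line hG hM hK1 hP (hPc.symm ▸ hr.out)]
    have hNX := s.normalizer_le_star hG hM hK1 hX hXc
    refine le_inf ((s'.sup_star_le_partner hG hL hK'1 hXK' hXc hM hNX)) (sup_le ?_
      (s'.star_lines_normal hG hL hK'1 hXK' hXc hM hNX hPY (hPc.symm ▸ hr.out)))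
    exact (le_centralizer_star L K').trans ((centralizer_anti hPY).trans (centralizer_le_normalizer _))

/-- `U` is trivial exactly when every prime outside `σ(M)` is in `κ(M)`. -/
theorem KappaShape.U_eq_bot_iff {M E K U : Subgroup G} (s : KappaShape M E K U) :
    U = ⊥ ↔ ∀ q : ℕ, q.Prime → q ∣ Nat.card M → q ∉ sigma M → q ∈ kappa M := by
  constructor
  · rintro rfl q hq hd hqs
    by_contra hqk
    refine s.hallU.2.2 q hq ⟨hq, hqk, hqs⟩ ?_
    rwa [relIndex_bot_left]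
  · intro h
    refine eq_bot_of_card_eq _ (Nat.eq_one_iff_not_exists_prime_dvd.2 fun q hq hd => ?_)
    obtain ⟨-, h1, h2⟩ := s.hallU.2.1 q hq hd
    exact h1 (h q hq (hd.trans (card_dvd_of_le s.hallU.1)) h2)

/-- A nontrivial `U` acts nontrivially on `M_σ`. -/
theorem KappaShape.not_sigma_le_centralizer {M E K U : Subgroup G} (s : KappaShape M E K U)
    (hM : IsCoatom M) (hU : U ≠ ⊥) : ¬ sigmaCore M ≤ centralizer (U : Set G) := by
  intro hle
  have h := localInputs hG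
  have hσ1 : sigmaCore M ≠ ⊥ :=
    sigmaCore_ne_bot hG h.uniq smallRankFrattini fittingRankTwoDerived rankTwoLargestPrime hM
  obtain ⟨q, hq, hd⟩ := Nat.exists_prime_and_dvd (fun h0 => hU (eq_bot_of_card_eq _ h0))
  haveI := Fact.mk hq
  obtain ⟨-, hqk, hqs⟩ := s.hallU.2.1 q hq hd
  obtain ⟨W, hW, hWc⟩ := exists_order_prime_line hq hd
  have hfix : sigmaCore M ≤ centralizer (W : Set G) := hle.trans (centralizer_anti hW)
  rcases kappa_or_tau2 hG hM hq hqs (hW.trans s.hallU.1) hWc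
    (fun h0 => hσ1 (by rwa [inf_eq_left.2 hfix] at h0)) with hk | h2
  · exact hqk hk
  obtain ⟨B, hB⟩ := BGTwelve.exists_sq_le_compl hG hM s.compl h2
  have hUE : IsPiHallOf {l | l.Prime ∧ l ∉ kappa M ∧ l ∉ sigma M} U E :=
    ⟨s.U_le, s.hallU.2.1, fun l hl hlπ hd' => s.hallU.2.2 l hl hlπ
      (hd'.trans ⟨_, (relIndex_mul_relIndex U E M s.U_le s.compl.1).symm⟩)⟩
  have hBU : B ≤ U := le_of_normal_hall hUE s.norm hB.1 fun l hl hd' => by
    rw [hB.2.2] at hd'
    rw [(Nat.prime_dvd_prime_iff_eq hl hq).1 (hl.dvd_of_dvd_pow hd')]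
    exact ⟨hq, hqk, hqs⟩
  have h3 := (tau_two_stmt hG h M hM h2 B ⟨hB.1.trans s.compl.1, hB.2⟩).2.2.2.1
  rw [inf_eq_left.2 (hle.trans (centralizer_anti hBU))] at h3
  exact hσ1 h3

/-- `U ≠ 1` forces `|K|` to be a prime. -/
theorem KappaShape.card_K_prime {M E K U : Subgroup G} (s : KappaShape M E K U)
    (hM : IsCoatom M) (hK1 : K ≠ ⊥) (hU : U ≠ ⊥) : (Nat.card K).Prime := by
  obtain ⟨r, X, hr, hX, hXc⟩ := s.exists_line hG hK1
  by_contra hnp
  have hlt : r < Nat.card K := lt_of_le_of_ne (Nat.le_of_dvd Nat.card_pos (hXc ▸ card_dvd_of_le hX))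
    fun h0 => hnp (h0 ▸ hr)
  set N := sigmaCore M with hN
  have hX1 : X ≠ ⊥ := ne_bot_of_prime_card hr hXc
  have hUσ : U ⊔ K ≤ E := sup_le s.U_le s.le_E
  have formula : ∀ H : Subgroup G, H ≤ K → H ≠ ⊥ →
      Nat.card ↥(N ⊓ centralizer ((U ⊔ H : Subgroup G) : Set G)) ^ Nat.card H * Nat.card N =
        Nat.card ↥(N ⊓ centralizer (H : Set G)) ^ Nat.card H *
          Nat.card ↥(N ⊓ centralizer (U : Set G)) := by
    intro H hH hH1
    refine S1545.result U H N hU hH1 (le_bot_iff.1 ((inf_le_inf_left U hH).trans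
      s.inf_eq_bot.le)) (fun e he u hu => (mem_normalizer_iff.1 (s.norm (s.le_E (hH he))) u).1 hu)
      (fun e he he1 u hu hc => ?_) (fun x hx n hn => ?_) ?_
      (Coprime.solvable_of_le (sigmaCore_le M) (coatom_isSolvable hG hM)) ?_
    · exact Subgroup.mem_bot.1 (s.fpf e (hH he) he1 ▸ ⟨hu, mem_centralizer_singleton_iff.2 hc.symm⟩)
    · exact (mem_normalizer_iff.1 (BGTwelve.compl_le_normalizer s.compl
        (hUσ (sup_le_sup_left hH U hx))) n).1 hn
    · rw [inf_comm]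
      exact le_bot_iff.1 ((inf_le_inf_right N ((sup_le_sup_left hH U).trans hUσ)).trans s.compl.2.2.1.le)
    · exact ((card_compl_coprime hG hM s.compl).coprime_dvd_left
        (card_dvd_of_le ((sup_le_sup_left hH U).trans hUσ))).symm
  have hXeq : N ⊓ centralizer (X : Set G) = K⋆[M, K] := by
    obtain ⟨a, ha, ha1⟩ := (X.bot_or_exists_ne_one).resolve_left hX1
    refine le_antisymm ?_ (inf_le_inf_left _ (centralizer_anti hX))
    rw [← s.prime a (hX ha) ha1, ← BGTwelve.centralizer_zpowers_eq a]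
    exact inf_le_inf_left _ (centralizer_anti (zpowers_le.2 ha))
  have hsup : ∀ H : Subgroup G, N ⊓ centralizer ((U ⊔ H : Subgroup G) : Set G) =
      (N ⊓ centralizer (U : Set G)) ⊓ (N ⊓ centralizer (H : Set G)) := fun H => by
    refine le_antisymm (le_inf (inf_le_inf_left _ (centralizer_anti le_sup_left))
      (inf_le_inf_left _ (centralizer_anti le_sup_right))) (le_inf (inf_le_left.trans inf_le_left) ?_)
    rw [le_centralizer_iff]
    exact sup_le (le_centralizer_iff.1 (inf_le_left.trans inf_le_right))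
      (le_centralizer_iff.1 (inf_le_right.trans inf_le_right))
  have e1 := formula K le_rfl hK1
  have e2 := formula X hX hX1
  rw [hsup, hXeq, hXc] at e2
  rw [hsup] at e1
  set a := Nat.card ↥((N ⊓ centralizer (U : Set G)) ⊓ K⋆[M, K]) with ha
  set y := Nat.card ↥(K⋆[M, K]) with hy
  set c := Nat.card ↥(N ⊓ centralizer (U : Set G)) with hc
  have hcle : c ≤ Nat.card N := Nat.le_of_dvd Nat.card_pos (card_dvd_of_le inf_le_left)
  have hclt : c < Nat.card N := lt_of_le_of_ne hcle fun h0 =>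
    s.not_sigma_le_centralizer hG hM hU
      ((eq_of_le_of_card_ge inf_le_left h0.ge : N ⊓ centralizer (U : Set G) = N).ge.trans inf_le_right)
  obtain ⟨d, hd⟩ : ∃ d, Nat.card K = r + (d + 1) := Nat.exists_eq_add_of_lt hlt |>.imp fun d hd => by omega
  rw [hd] at e1
  have hpe : a ^ (d + 1) = y ^ (d + 1) := by
    refine Nat.eq_of_mul_eq_mul_left (show 0 < y ^ r * c from
      Nat.mul_pos (pow_pos (hy ▸ Nat.card_pos) r) (hc ▸ Nat.card_pos)) ?_
    calc y ^ r * c * a ^ (d + 1) = a ^ r * Nat.card N * a ^ (d + 1) := by rw [e2]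
      _ = a ^ (r + (d + 1)) * Nat.card N := by ring
      _ = y ^ (r + (d + 1)) * c := e1
      _ = y ^ r * c * y ^ (d + 1) := by ring
  have hay : a = y := Nat.pow_left_injective (Nat.succ_ne_zero d) hpe
  rw [hay] at e2
  exact hclt.ne (Nat.eq_of_mul_eq_mul_left (pow_pos Nat.card_pos r) e2).symm

/-- Elements of `Z` outside `K ∪ K*` are tame. -/
theorem KappaShape.ti {M E K U : Subgroup G} (s : KappaShape M E K U) (hM : IsCoatom M)
    (hK1 : K ≠ ⊥) {t g : G} (ht : t ∈ K ⊔ K⋆[M, K]) (htK : t ∉ K) (htY : t ∉ K⋆[M, K])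
    (hg : g * t * g⁻¹ ∈ K ⊔ K⋆[M, K]) : g ∈ K ⊔ K⋆[M, K] := by
  obtain ⟨k, hk, w, hw, rfl, hc⟩ := exists_star_mul ht
  obtain ⟨k', hk', w', hw', he, hc'⟩ := exists_star_mul hg
  have hk1 : k ≠ 1 := fun h0 => htY (by rwa [h0, one_mul])
  have hw1 : w ≠ 1 := fun h0 => htK (by rwa [h0, mul_one])
  have hcg : Commute (g * w * g⁻¹) (g * k * g⁻¹) := by
    simpa [MulAut.conj_apply] using hc.symm.map (MulAut.conj g)
  have ho : ∀ x : G, orderOf (g * x * g⁻¹) = orderOf x := fun x => MulEquiv.orderOf_eq (MulAut.conj g) x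
  obtain ⟨ew, ek⟩ := part_unique (π := sigma M) (x := g * w * g⁻¹) (r := g * k * g⁻¹) (y := w')
    (s := k') (by rw [← hc'.eq, ← he, hc.eq]; group) hcg hc'.symm
    (fun p h1 h2 => mem_sigma_of_star hw h1 (ho w ▸ h2))
    (fun p h1 h2 => mem_sigma_of_star hw' h1 h2)
    (fun p h1 h2 => s.not_mem_sigma hG hM hk h1 (ho k ▸ h2))
    (fun p h1 h2 => s.not_mem_sigma hG hM hk' h1 h2)
  obtain ⟨l, X, hl, hX, hXc⟩ := exists_line_of_ne_one hw1
  haveI := Fact.mk hl
  have hXg : X ≤ M.map (MulAut.conj g⁻¹).toMonoidHom := hX.trans (zpowers_le.2 (mem_map_conj.2 (by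
    rw [inv_inv, ew]; exact sigmaCore_le M hw'.1)))
  have hgM : g ∈ M := (Subgroup.inv_mem_iff M).1
    (s.mem_of_star_meet hG hM hK1 (hX.trans (zpowers_le.2 hw)) hXc hXg)
  obtain ⟨q, X', hq, hX', hX'c⟩ := exists_line_of_ne_one hk1
  haveI := Fact.mk hq
  have hX'K : X' ≤ K := hX'.trans (zpowers_le.2 hk)
  have hmap : X'.map (MulAut.conj g).toMonoidHom ≤ K := (map_mono hX').trans (by
    rw [MonoidHom.map_zpowers, zpowers_le]
    exact (ek.symm ▸ hk' : g * k * g⁻¹ ∈ K))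
  rw [← s.inf_normalizer_line hG hM hK1 hX'K (hX'c.symm ▸ hq)]
  exact ⟨hgM, mem_normalizer_iff_map_conj_eq.2
    (s.line_unique hG hM hX'K hX'c hmap ((card_map_conj X' g).trans hX'c))⟩

end Cfsg.Agent.BGSigma
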