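import Cfsg.Agent.BGSigma.KappaCount

/-!
BG 14.7: the partner of a maximal subgroup with nonempty `κ`.
-/

set_option autoImplicit false

namespace Cfsg.Agent.BGSigma

open Cfsg Subgroup
open scoped commutatorElement Pointwise

universe u

variable {G : Type u} [Group G] [Finite G]

local notation:max "K⋆[" M ", " K "]" => sigmaCore M ⊓ centralizer (SetLike.coe K)

/-- `M` with `K` and `L` with `K*` are partners. -/
structure Partners (M K L : Subgroup G) : Prop where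
  hM : IsCoatom M
  hL : IsCoatom L
  hallK : IsPiHallOf (kappa M) K M
  hallY : IsPiHallOf (kappa L) (K⋆[M, K]) L
  ne_bot : K ≠ ⊥
  ne_bot' : K⋆[M, K] ≠ ⊥
  eq : K = K⋆[L, K⋆[M, K]]
  cycK : IsCyclic K
  cycY : IsCyclic ↥(K⋆[M, K])
  tauM : kappa M = tau1 M
  tauL : kappa L = tau1 L
  sigmaL : ∀ r : ℕ, r.Prime → r ∣ Nat.card K → r ∈ sigma L
  nontriv : ¬ (∀ q : ℕ, q.Prime → q ∣ Nat.card M → q ∉ sigma M → q ∈ kappa M) ∨
    ¬ (∀ q : ℕ, q.Prime → q ∣ Nat.card L → q ∉ sigma L → q ∈ kappa L)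

variable (hG : IsMinSimpleOddOrder G)
include hG

theorem sigma_mem_of_common {H L : Subgroup G} (hH : IsCoatom H) (hL : IsCoatom L) {r t : ℕ}
    (hrH : r ∈ sigma H) (hrL : r ∈ sigma L) (ht : t ∈ sigma H) : t ∈ sigma L := by
  obtain ⟨g, rfl⟩ := conj_of_sigma hG (localInputs hG) (twelveInputs hG) hH hL hrH hrL
  exact sigma_conj_iff.2 ht

/-- All primes of `K` go to one partner. -/
theorem KappaShape.primes_in_partner {M E K U : Subgroup G} (s : KappaShape M E K U) (hM : IsCoatom M)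
    (hK1 : K ≠ ⊥) {r : ℕ} [hr : Fact r.Prime] {P : Subgroup G} (hP : P ≤ K) (hPc : Nat.card P = r)
    {L : Subgroup G} (hL : IsCoatom L) (hNL : normalizer (P : Set G) ≤ L) :
    ∀ t : ℕ, t.Prime → t ∣ Nat.card K → t ∈ sigma L := by
  have hrL := (s.partner_sigma hG hM hK1 hP hPc hL hNL).1
  have hZM : SeesPair (K ⊔ K⋆[M, K]) M := ⟨hM, E, K, U, s, hK1, rfl⟩
  obtain ⟨H, hH, hU⟩ : ∃ H : Subgroup G, SeesPair (K ⊔ K⋆[M, K]) H ∧
      ¬ ∀ q : ℕ, q.Prime → q ∣ Nat.card H → q ∉ sigma H → q ∈ kappa H := by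
    by_contra h0
    push Not at h0
    exact exists_sees_nontrivial hG hZM h0
  obtain ⟨hHc, E', K', U', s', hK'1, hZ⟩ := id hH
  have hpr : (Nat.card K').Prime :=
    s'.card_K_prime hG hHc hK'1 fun h0 => hU ((s'.U_eq_bot_iff hG).1 h0)
  have hcases : ∀ t : ℕ, t.Prime → t ∣ Nat.card ↥(K ⊔ K⋆[M, K]) → t ∈ sigma H ∨ t = Nat.card K' := by
    intro t ht hd
    rw [← hZ, s'.card_sup_star hG hHc] at hd
    rcases ht.dvd_mul.1 hd with h1 | h1
    · exact Or.inr ((Nat.prime_dvd_prime_iff_eq ht hpr).1 h1)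
    · exact Or.inl (isPiSub_sigmaCore H t ht (h1.trans (card_dvd_of_le inf_le_left)))
  have hKd : ∀ t : ℕ, t ∣ Nat.card K → t ∣ Nat.card ↥(K ⊔ K⋆[M, K]) := fun t h =>
    h.trans (card_dvd_of_le le_sup_left)
  obtain ⟨l, hl, w, hw, hwo⟩ := exists_prime_line s.fixed_ne
  have hlM : l ∈ sigma M := mem_sigma_of_star hw hl hwo.symm.dvd
  have hrd : r ∣ Nat.card K := hPc ▸ card_dvd_of_le hP
  have hrM : r ∉ sigma M := (s.line_data hG hM hP hPc).2.1
  intro t ht hd
  haveI := Fact.mk ht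
  obtain ⟨W, hW, hWc⟩ := exists_order_prime_line ht hd
  have htM : t ∉ sigma M := (s.line_data hG hM hW hWc).2.1
  have hlH := hcases l hl (hwo ▸ (Subgroup.orderOf_dvd_natCard _ hw).trans (card_dvd_of_le le_sup_right))
  rcases hcases r hr.out (hKd r hrd) with hrH | hr'
  · rcases hlH with hlH | hl'
    · exact absurd (sigma_mem_of_common hG hHc hM hlH hlM hrH) hrM
    · rcases hcases t ht (hKd t hd) with htH | ht'
      · exact sigma_mem_of_common hG hHc hL hrH hrL htH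
      · exact absurd (ht'.trans hl'.symm ▸ hlM) htM
  · rcases hcases t ht (hKd t hd) with htH | ht'
    · rcases hlH with hlH | hl'
      · exact absurd (sigma_mem_of_common hG hHc hM hlH hlM htH) htM
      · exact absurd (hr'.trans hl'.symm ▸ hlM) hrM
    · exact (ht'.trans hr'.symm) ▸ hrL

/-- A nilpotent `K` is cyclic. -/
theorem KappaShape.caseI_of_nilpotent {M E K U : Subgroup G} (s : KappaShape M E K U) (hM : IsCoatom M)
    (hn : Group.IsNilpotent K) : IsCyclic K ∧ kappa M = tau1 M := by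
  rcases s.cyc with h | ⟨-, hKE, q, hqk, hq3⟩
  · exact h
  · exfalso
    have hd := BGTwelve.dvd_derived_of_mem_tau3 hG hM s.compl hq3
    haveI hc := BGTwelve.isMulCommutative_of_nilpotent_sigma' hG (localInputs hG) hM s.hallK.1 hn
      fun l hl hd' => ((mem_kappa_iff hG hM).1 (s.hallK.2.1 l hl hd')).2.1
    rw [← hKE, commutator_eq_bot_iff_le_centralizer.2 (le_centralizer_self_of_comm hc), card_bot] at hd
    exact hq3.1.ne_one (Nat.dvd_one.1 hd)

theorem KappaShape.caseI_of_U_ne {M E K U : Subgroup G} (s : KappaShape M E K U) (hU : U ≠ ⊥) :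
    IsCyclic K ∧ kappa M = tau1 M :=
  s.cyc.resolve_right fun h => hU h.1

theorem KappaShape.sigma_nilpotent_of_U_ne {M E K U : Subgroup G} (s : KappaShape M E K U)
    (hM : IsCoatom M) (hU : U ≠ ⊥) : Group.IsNilpotent (sigmaCore M) := by
  have h0 : ¬ ∀ q : ℕ, q.Prime → q ∣ Nat.card M → q ∉ sigma M → q ∈ kappa M :=
    fun h => hU ((s.U_eq_bot_iff hG).2 h)
  have h1 := h0
  push Not at h1
  obtain ⟨q, hq, hqM, hqs, hqk⟩ := h1
  haveI := Fact.mk hq
  exact (not_P1_stmt hG M hM h0 q hqM (by rw [Set.mem_union, not_or]; exact ⟨hqs, hqk⟩) default).2.2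

/-- The partner exists. -/
theorem exists_partners {M K : Subgroup G} (hM : IsCoatom M) (hK : IsPiHallOf (kappa M) K M)
    (hK1 : K ≠ ⊥) : ∃ L : Subgroup G, Partners M K L := by
  obtain ⟨E, U, s⟩ := exists_kappaShape_of_hall hG hM hK hK1
  obtain ⟨r, P, hr, hP, hPc⟩ := s.exists_line hG hK1
  haveI := Fact.mk hr
  obtain ⟨-, hps, hr1, hne⟩ := s.line_data hG hM hP hPc
  obtain ⟨L, hL, hNL, hrL, -⟩ := exists_partner hG hM hps hr1 (hP.trans hK.1) hPc hne
  obtain ⟨E', K', U', s', hK'1, hZ, -⟩ := s.exists_pair hG hM hK1 hP hPc hL hNL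
  have hprimes := s.primes_in_partner hG hM hK1 hP hPc hL hNL
  have hdis : ∀ {t : ℕ}, t ∈ sigma M → t ∉ sigma L := fun {t} ht =>
    sigma_disjoint hG hM hL hrL hps ht
  have hKY : K = K⋆[L, K'] := by
    refine le_antisymm (fun a ha => s'.mem_star_of_primes hG hL (hZ ▸ mem_sup_left ha)
      fun p hp hd => hprimes p hp (hd.trans (Subgroup.orderOf_dvd_natCard K ha))) fun a ha => ?_
    exact s.mem_K_of_primes hG hM (hZ ▸ mem_sup_right ha) fun p hp hd h0 =>
      hdis h0 (mem_sigma_of_star ha hp hd)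
  have hYK : K⋆[M, K] = K' := by
    refine le_antisymm (fun a ha => s'.mem_K_of_primes hG hL (hZ ▸ mem_sup_right ha)
      fun p hp hd => hdis (mem_sigma_of_star ha hp hd)) fun a ha => ?_
    refine s.mem_star_of_primes hG hM (hZ ▸ mem_sup_left ha) fun p hp hd => ?_
    have hpL : p ∉ sigma L := s'.not_mem_sigma hG hL ha hp hd
    have hd' : p ∣ Nat.card K * Nat.card ↥(K⋆[M, K]) := by
      rw [← s.card_sup_star hG hM, hZ]
      exact (hd.trans (Subgroup.orderOf_dvd_natCard K' ha)).trans (card_dvd_of_le le_sup_left)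
    rcases hp.dvd_mul.1 hd' with h1 | h1
    · exact absurd (hprimes p hp h1) hpL
    · exact isPiSub_sigmaCore M p hp (h1.trans (card_dvd_of_le inf_le_left))
  have hnt : U ≠ ⊥ ∨ U' ≠ ⊥ := by
    by_contra h0
    push Not at h0
    refine exists_sees_nontrivial hG (Z := K ⊔ K⋆[M, K]) ⟨hM, E, K, U, s, hK1, rfl⟩ ?_
    rintro H ⟨hH, E₂, K₂, U₂, s₂, hK₂, hZ₂⟩ q hq hqH hqs
    -- `H` is conjugate to `M` or to `L`
    obtain ⟨l, hl, w, hw, hwo⟩ := exists_prime_line s₂.fixed_ne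
    have hd : l ∣ Nat.card K * Nat.card ↥(K⋆[M, K]) := by
      rw [← s.card_sup_star hG hM, ← hZ₂, ← hwo]
      exact (Subgroup.orderOf_dvd_natCard _ hw).trans (card_dvd_of_le le_sup_right)
    have hlH : l ∈ sigma H := mem_sigma_of_star hw hl hwo.symm.dvd
    have key : ∀ {N : Subgroup G}, IsCoatom N → l ∈ sigma N →
        (∀ q : ℕ, q.Prime → q ∣ Nat.card N → q ∉ sigma N → q ∈ kappa N) → q ∈ kappa H := by
      intro N hN hlN hallN
      obtain ⟨g, rfl⟩ := conj_of_sigma hG (localInputs hG) (twelveInputs hG) hN hH hlN hlH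
      have hqN := hallN q hq (card_map_conj N g ▸ hqH) fun h1 => hqs (sigma_conj_iff.2 h1)
      obtain ⟨-, h1, h2, X, hX, hXc, hX'⟩ := (mem_kappa_iff hG hN).1 hqN
      refine (mem_kappa_iff hG hH).2 ⟨hq, hqs, (prankLE_conj N g).2 h2,
        X.map (MulAut.conj g).toMonoidHom, map_mono hX, (card_map_conj X g).trans hXc, ?_⟩
      rw [sigmaCore_map_conj hG hN, map_conj_centralizer,
        ← Subgroup.map_inf _ _ _ (MulAut.conj g).injective]
      exact fun h0 => hX' ((map_eq_bot_iff_of_injective _ (MulAut.conj g).injective).1 h0)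
    rcases hl.dvd_mul.1 hd with h1 | h1
    · exact key hL (hprimes l hl h1) ((s'.U_eq_bot_iff hG).1 h0.2)
    · exact key hM (isPiSub_sigmaCore M l hl (h1.trans (card_dvd_of_le inf_le_left)))
        ((s.U_eq_bot_iff hG).1 h0.1)
  have hnilK : Group.IsNilpotent K ∧ Group.IsNilpotent K' := by
    rcases hnt with hU | hU
    · haveI := (s.caseI_of_U_ne hG hU).1
      letI := IsCyclic.commGroup (α := K)
      exact ⟨CommGroup.isNilpotent, Fitting.isNilpotent_of_le
        (s.sigma_nilpotent_of_U_ne hG hM hU) (hYK.ge.trans inf_le_left)⟩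
    · haveI := (s'.caseI_of_U_ne hG hU).1
      letI := IsCyclic.commGroup (α := K')
      exact ⟨Fitting.isNilpotent_of_le (s'.sigma_nilpotent_of_U_ne hG hL hU)
        (hKY.le.trans inf_le_left), CommGroup.isNilpotent⟩
  obtain ⟨hKc, hτM⟩ := s.caseI_of_nilpotent hG hM hnilK.1
  obtain ⟨hK'c, hτL⟩ := s'.caseI_of_nilpotent hG hL hnilK.2
  refine ⟨L, hM, hL, hK, hYK ▸ s'.hallK, hK1, s.fixed_ne, ?_, hKc, hYK ▸ hK'c, hτM, hτL, hprimes, ?_⟩
  · rw [hYK]; exact hKY
  · exact hnt.imp (fun h h' => h ((s.U_eq_bot_iff hG).2 h'))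
      (fun h h' => h ((s'.U_eq_bot_iff hG).2 h'))

/-- Lines of `K` have their centralizers in the partner only. -/
theorem Partners.line_uniq {M K L : Subgroup G} (p : Partners M K L) {X : Subgroup G} (hX : X ≤ K)
    (hXp : (Nat.card X).Prime) : centralizer (X : Set G) ≤ L ∧
      ∀ H : Subgroup G, IsCoatom H → centralizer (X : Set G) ≤ H → H = L := by
  haveI := Fact.mk hXp
  obtain ⟨E', U', s'⟩ := exists_kappaShape_of_hall hG p.hL p.hallY p.ne_bot'
  exact (s'.star_uniq hG p.hL (p.eq ▸ hX) rfl default).1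

/-- The partner is unique. -/
theorem Partners.unique {M K L N : Subgroup G} (p : Partners M K L) (hN : IsCoatom N)
    (hKN : K = K⋆[N, K⋆[M, K]]) : N = L := by
  obtain ⟨r, hr, w, hw, hwo⟩ := exists_prime_line p.ne_bot
  haveI := Fact.mk hr
  have hXc : Nat.card (zpowers w) = r := by rw [Nat.card_zpowers, hwo]
  have hX : zpowers w ≤ K := zpowers_le.2 hw
  exact eq_of_sigma_line hG p.hL hN (p.sigmaL r hr (hXc ▸ card_dvd_of_le hX))
    (mem_sigma_of_star (hKN ▸ hw) hr hwo.symm.dvd) hXc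
    (p.line_uniq hG hX (hXc.symm ▸ hr)).1 ((hX.trans (hKN.le.trans inf_le_left)).trans (sigmaCore_le N))

theorem Partners.sigma_disjoint {M K L : Subgroup G} (p : Partners M K L) {t : ℕ} (ht : t ∈ sigma M) :
    t ∉ sigma L := by
  obtain ⟨r, hr, w, hw, hwo⟩ := exists_prime_line p.ne_bot
  have hd : r ∣ Nat.card K := hwo ▸ Subgroup.orderOf_dvd_natCard K hw
  exact BGSigma.sigma_disjoint hG p.hM p.hL (p.sigmaL r hr hd)
    ((mem_kappa_iff hG p.hM).1 (p.hallK.2.1 r hr hd)).2.1 ht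

/-- The partnership is symmetric. -/
theorem Partners.symm {M K L : Subgroup G} (p : Partners M K L) : Partners L (K⋆[M, K]) M where
  hM := p.hL
  hL := p.hM
  hallK := p.hallY
  hallY := p.eq ▸ p.hallK
  ne_bot := p.ne_bot'
  ne_bot' := p.eq ▸ p.ne_bot
  eq := by rw [← p.eq]
  cycK := p.cycY
  cycY := p.eq ▸ p.cycK
  tauM := p.tauL
  tauL := p.tauM
  sigmaL := fun r hr hd => isPiSub_sigmaCore M r hr (hd.trans (card_dvd_of_le inf_le_left))
  nontriv := p.nontriv.symm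

/-- The primes of `L` in `σ(M)` are in `κ(L)`. -/
theorem Partners.kappa_of_sigma {M K L : Subgroup G} (p : Partners M K L) {q : ℕ} (hq : q.Prime)
    (hd : q ∣ Nat.card L) (hqM : q ∈ sigma M) : q ∈ kappa L := by
  by_contra hqk
  haveI := Fact.mk hq
  have h := localInputs hG
  obtain ⟨E, U, s⟩ := exists_kappaShape_of_hall hG p.hM p.hallK p.ne_bot
  obtain ⟨E', U', s'⟩ := exists_kappaShape_of_hall hG p.hL p.hallY p.ne_bot'
  have hqL := p.sigma_disjoint hG hqM
  have hqU : q ∣ Nat.card U' := by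
    by_contra h0
    refine s'.hallU.2.2 q hq ⟨hq, hqk, hqL⟩ ((hq.dvd_mul.1 ?_).resolve_right h0)
    rw [relIndex_mul_card s'.hallU.1]
    exact hd
  haveI := s'.comm
  have hY'U : K⋆[M, K] ≤ normalizer (U' : Set G) := s'.le_E.trans s'.norm
  have hco : (Nat.card ↥(K⋆[M, K])).Coprime (Nat.card U') := Nat.coprime_of_dvd fun t ht h1 h2 =>
    (s'.hallU.2.1 t ht h2).2.1 (p.hallY.2.1 t ht h1)
  obtain ⟨Q, hQ, hQn⟩ := Coprime.exists_invariant_hall (K⋆[M, K]) U' hY'U hco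
    (Coprime.solvable_of_le s'.hallU.1 (coatom_isSolvable hG p.hL)) {q}
  have hQp : ∀ t : ℕ, t.Prime → t ∣ Nat.card Q → t = q := fun t ht h1 => hQ.2.1 t ht h1
  have hQL : Q ≤ L := hQ.1.trans s'.hallU.1
  have hQM : Q ≤ sigmaCore M := by
    refine le_sup_left.trans (s.le_sigmaCore_of_meet hG p.hM p.ne_bot (Y := Q ⊔ K⋆[M, K])
      (fun t ht h1 => ?_) ?_)
    · rcases prime_dvd_sup hQn ht h1 with h2 | h2
      · exact hQp t ht h2 ▸ hqM
      · exact isPiSub_sigmaCore M t ht (h2.trans (card_dvd_of_le inf_le_left))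
    · rw [inf_eq_right.2 le_sup_right]
      exact p.ne_bot'
  have hKL : K ≤ sigmaCore L := p.eq.le.trans inf_le_left
  obtain ⟨r, hr, w, hw, hwo⟩ := exists_prime_line p.ne_bot
  have hdK : r ∣ Nat.card K := hwo ▸ Subgroup.orderOf_dvd_natCard K hw
  have hbot := sigmaCore_inf_sigmaCore hG p.hM p.hL (p.sigmaL r hr hdK)
    ((mem_kappa_iff hG p.hM).1 (p.hallK.2.1 r hr hdK)).2.1
  have hKQ : K ≤ centralizer (Q : Set G) := fun k hk => mem_centralizer_iff.2 fun a ha => by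
    have h1 : a * k * a⁻¹ * k⁻¹ ∈ sigmaCore M ⊓ sigmaCore L := by
      refine ⟨?_, (sigmaCore L).mul_mem ((mem_normalizer_iff.1 (le_normalizer_sigmaCore L (hQL ha)) k).1
        (hKL hk)) ((sigmaCore L).inv_mem (hKL hk))⟩
      rw [show a * k * a⁻¹ * k⁻¹ = a * (k * a⁻¹ * k⁻¹) by group]
      exact (sigmaCore M).mul_mem (hQM ha) ((mem_normalizer_iff.1
        (le_normalizer_sigmaCore M (p.hallK.1 hk)) _).1 ((sigmaCore M).inv_mem (hQM ha)))
    rw [hbot, Subgroup.mem_bot, mul_inv_eq_one, mul_inv_eq_iff_eq_mul] at h1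
    exact h1
  obtain ⟨W, hW, hWc⟩ := exists_order_prime_line hq (show q ∣ Nat.card Q from by
    by_contra h0
    refine hQ.2.2 q hq rfl ((hq.dvd_mul.1 ?_).resolve_right h0)
    rw [relIndex_mul_card hQ.1]
    exact hqU)
  have hfix : K ≤ sigmaCore L ⊓ centralizer (W : Set G) :=
    le_inf hKL (hKQ.trans (centralizer_anti hW))
  rcases kappa_or_tau2 hG p.hL hq hqL (hW.trans hQL) hWc
    (fun h0 => p.ne_bot (le_bot_iff.1 (hfix.trans h0.le))) with hk | h2
  · exact hqk hk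
  obtain ⟨B, hB⟩ := BGTwelve.exists_sq_le_compl hG p.hL s'.compl h2
  have hUE : IsPiHallOf {l | l.Prime ∧ l ∉ kappa L ∧ l ∉ sigma L} U' E' :=
    ⟨s'.U_le, s'.hallU.2.1, fun l hl hlπ hd' => s'.hallU.2.2 l hl hlπ
      (hd'.trans ⟨_, (relIndex_mul_relIndex U' E' L s'.U_le s'.compl.1).symm⟩)⟩
  have hBp : ∀ l : ℕ, l.Prime → l ∣ Nat.card B → l = q := fun l hl hd' => by
    rw [hB.2.2] at hd'
    exact (Nat.prime_dvd_prime_iff_eq hl hq).1 (hl.dvd_of_dvd_pow hd')
  have hBU : B ≤ U' := le_of_normal_hall hUE s'.norm hB.1 fun l hl hd' =>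
    (hBp l hl hd').symm ▸ ⟨hq, hqk, hqL⟩
  have hBQ : B ≤ Q := le_of_normal_hall hQ
    (((le_centralizer_self_of_comm s'.comm).trans (centralizer_anti hQ.1)).trans
      (centralizer_le_normalizer _)) hBU hBp
  have h3 := (tau_two_stmt hG h L p.hL h2 B ⟨hB.1.trans s'.compl.1, hB.2⟩).2.2.2.1
  exact p.ne_bot (le_bot_iff.1 ((le_inf hKL (hKQ.trans (centralizer_anti hBQ))).trans h3.le))

/-- `M ∩ L = K × K*`. -/
theorem Partners.inf_eq {M K L : Subgroup G} (p : Partners M K L) :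
    M ⊓ L = K ⊔ K⋆[M, K] := by
  obtain ⟨E', U', s'⟩ := exists_kappaShape_of_hall hG p.hL p.hallY p.ne_bot'
  set Y := K⋆[M, K] with hY
  have hYK : Y ⊔ K⋆[L, Y] = K ⊔ Y := by rw [← p.eq, sup_comm]
  have hZ : L ⊓ normalizer (Y : Set G) = K ⊔ Y := by
    obtain ⟨r, hr, w, hw, hwo⟩ := exists_prime_line p.ne_bot'
    rw [← hYK]
    exact ((shape_stmt hG L p.hL Y p.hallY p.ne_bot').2.2 (zpowers w) (zpowers_le.2 hw)
      (by rw [Nat.card_zpowers, hwo]; exact hr)).2.1
  refine le_antisymm ?_ (le_inf (sup_le p.hallK.1 (inf_le_left.trans (sigmaCore_le M))) ?_)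
  · set V := sigmaCore M ⊓ L with hV
    have hYV : Y ≤ V := le_inf inf_le_left p.hallY.1
    obtain ⟨m, -, hmV⟩ := exists_conj_le_hall (coatom_isSolvable hG p.hL) p.hallY
      (inf_le_right : V ≤ L) fun q hq hd => p.kappa_of_sigma hG hq
        (hd.trans (card_dvd_of_le inf_le_right))
        (isPiSub_sigmaCore M q hq (hd.trans (card_dvd_of_le inf_le_left)))
    have hVY : V = Y := (eq_of_le_of_card_ge hYV
      ((card_map_conj V m).ge.trans (Nat.le_of_dvd Nat.card_pos (card_dvd_of_le hmV)))).symm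
    rw [← hZ, ← hVY]
    exact le_inf inf_le_right (Coprime.le_normalizer_inf
      (inf_le_left.trans (le_normalizer_sigmaCore M)) (inf_le_right.trans le_normalizer))
  · exact sup_le (p.eq.le.trans (inf_le_left.trans (sigmaCore_le L))) p.hallY.1

end Cfsg.Agent.BGSigma
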