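import Cfsg.Agent.BGSigma.SupportR

/-!
General tools for the pairs of BG 14.
-/

set_option autoImplicit false

namespace Cfsg.Agent.BGSigma

open Cfsg Subgroup
open scoped commutatorElement Pointwise

universe u

variable {G : Type u} [Group G] [Finite G]

/-- Every element splits along a set of primes, within its cyclic group. -/
theorem exists_parts (π : Set ℕ) (t : G) : ∃ a b : G, a ∈ zpowers t ∧ b ∈ zpowers t ∧ t = a * b ∧
    (∀ p : ℕ, p.Prime → p ∣ orderOf a → p ∈ π) ∧ (∀ p : ℕ, p.Prime → p ∣ orderOf b → p ∉ π) := by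
  haveI : Group.IsSolvable (zpowers t) := inferInstance
  obtain ⟨H, hH⟩ := Solvable.exists_isPiHall (G := zpowers t) π
  have hco : (Nat.card H).Coprime H.index := Solvable.coprime_card_index_of_isPiHall hH
  have hmul : orderOf t = Nat.card H * H.index := by rw [H.card_mul_index, Nat.card_zpowers]
  obtain ⟨i, hia, hib⟩ := Nat.chineseRemainder hco 1 0
  obtain ⟨j, hja, hjb⟩ := Nat.chineseRemainder hco 0 1
  refine ⟨t ^ i, t ^ j, npow_mem_zpowers t i, npow_mem_zpowers t j, ?_, ?_, ?_⟩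
  · rw [← pow_add]
    conv_lhs => rw [← pow_one t]
    refine (pow_eq_pow_iff_modEq.2 ?_).symm
    rw [hmul]
    refine (Nat.modEq_and_modEq_iff_modEq_mul hco).1 ⟨?_, ?_⟩
    · simpa using hia.add hja
    · simpa using hib.add hjb
  · intro p hp hd
    refine hH.1 p hp (hd.trans (orderOf_dvd_of_pow_eq_one ?_))
    rw [← pow_mul, ← orderOf_dvd_iff_pow_eq_one, hmul, mul_comm i]
    exact Nat.mul_dvd_mul_left _ (Nat.modEq_zero_iff_dvd.1 hib)
  · intro p hp hd hπ
    refine hH.2 p hp hπ (hd.trans (orderOf_dvd_of_pow_eq_one ?_))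
    rw [← pow_mul, ← orderOf_dvd_iff_pow_eq_one, hmul]
    exact Nat.mul_dvd_mul_right (Nat.modEq_zero_iff_dvd.1 hja) _

/-- `π`-subgroups are conjugate into a Hall `π`-subgroup. -/
theorem exists_conj_le_hall {M H A : Subgroup G} {π : Set ℕ} (hsolv : Group.IsSolvable M)
    (hH : IsPiHallOf π H M) (hA : A ≤ M) (hAπ : ∀ p : ℕ, p.Prime → p ∣ Nat.card A → p ∈ π) :
    ∃ m ∈ M, A.map (MulAut.conj m).toMonoidHom ≤ H := by
  haveI := hsolv
  obtain ⟨g, hg⟩ := Solvable.le_conj_isPiHall (Coprime.isPiHall_subgroupOf hH) (A.subgroupOf M)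
    fun p hp hd => hAπ p hp (by rwa [Nat.card_congr (subgroupOfEquivOfLe hA).toEquiv] at hd)
  refine ⟨(g : G)⁻¹, M.inv_mem g.2, ?_⟩
  rintro _ ⟨a, ha, rfl⟩
  have h1 : (⟨a, hA ha⟩ : M) ∈ MulAut.conj g • H.subgroupOf M := hg ha
  rw [mem_pointwise_smul_iff_inv_smul_mem, mem_subgroupOf] at h1
  show (g : G)⁻¹ * a * (g : G)⁻¹⁻¹ ∈ H
  simpa [mul_assoc] using h1

/-- A Hall subgroup containing a given `π`-subgroup. -/
theorem exists_hall_ge {M A : Subgroup G} {π : Set ℕ} (hsolv : Group.IsSolvable M) (hA : A ≤ M)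
    (hAπ : ∀ p : ℕ, p.Prime → p ∣ Nat.card A → p ∈ π) :
    ∃ H : Subgroup G, IsPiHallOf π H M ∧ A ≤ H := by
  haveI := hsolv
  obtain ⟨H, hH, hAH⟩ := Solvable.exists_isPiHall_ge (G := M) (π := π) (A.subgroupOf M)
    fun p hp hd => hAπ p hp (by rwa [Nat.card_congr (subgroupOfEquivOfLe hA).toEquiv] at hd)
  exact ⟨H.map M.subtype, Coprime.isPiHallOf_map_subtype hH, fun a ha => ⟨⟨a, hA ha⟩, hAH ha, rfl⟩⟩

/-- The product of two commuting cyclic subgroups of coprime orders is cyclic. -/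
theorem isCyclic_sup_of_coprime {A B : Subgroup G} [hA : IsCyclic A] [hB : IsCyclic B]
    (hc : B ≤ centralizer (A : Set G)) (hco : (Nat.card A).Coprime (Nat.card B)) :
    IsCyclic ↥(A ⊔ B) := by
  obtain ⟨a, ha⟩ := hA.exists_generator
  obtain ⟨b, hb⟩ := hB.exists_generator
  have hab : Commute (a : G) (b : G) := mem_centralizer_iff.1 (hc b.2) a a.2
  have hoa : orderOf (a : G) = Nat.card A := by
    rw [orderOf_coe, orderOf_eq_card_of_forall_mem_zpowers ha]
  have hob : orderOf (b : G) = Nat.card B := by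
    rw [orderOf_coe, orderOf_eq_card_of_forall_mem_zpowers hb]
  have ho : orderOf ((a : G) * b) = Nat.card A * Nat.card B := by
    rw [hab.orderOf_mul_eq_mul_orderOf_of_coprime (by rwa [hoa, hob]), hoa, hob]
  have hle : zpowers ((a : G) * b) ≤ A ⊔ B := zpowers_le.2 (mul_mem_sup a.2 b.2)
  have hcard : Nat.card ↥(A ⊔ B) ≤ Nat.card A * Nat.card B := by
    rw [← Nat.card_prod]
    refine Nat.card_le_card_of_surjective
      (fun x : A × B => (⟨(x.1 : G) * x.2, mul_mem_sup x.1.2 x.2.2⟩ : ↥(A ⊔ B))) ?_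
    rintro ⟨z, hz⟩
    obtain ⟨x, hx, y, hy, rfl⟩ :=
      Coprime.exists_mul_of_mem_sup (hc.trans (centralizer_le_normalizer _)) hz
    exact ⟨(⟨x, hx⟩, ⟨y, hy⟩), rfl⟩
  rw [← eq_of_le_of_card_ge hle (by rw [Nat.card_zpowers, ho]; exact hcard)]
  infer_instance

end Cfsg.Agent.BGSigma
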