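import Cfsg.Agent.BGSigma.KappaTools

/-!
BG 13/14: elements fixing a line of a plane of `τ₂(M)` whose normalizer lies in `M`.
-/

set_option autoImplicit false

namespace Cfsg.Agent.BGSigma

open Cfsg Subgroup
open scoped commutatorElement Pointwise

universe u

variable {G : Type u} [Group G] [Finite G] (hG : IsMinSimpleOddOrder G)
include hG

theorem coatom_isSolvable_le {M X : Subgroup G} (hM : IsCoatom M) (hX : X ≤ M) :
    Group.IsSolvable X := Coprime.solvable_of_le hX (coatom_isSolvable hG hM)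

/-- BG: a maximal subgroup over `N(A)` has all of `τ₂(M)` in its `σ`. -/
theorem tau2_subset_sigma {M E A L : Subgroup G} {p : ℕ} [hp : Fact p.Prime] (hM : IsCoatom M)
    (hE : IsComplIn E (sigmaCore M) M) (hp2 : p ∈ tau2 M)
    (hA : A ≤ E ∧ IsElementaryAbelian p A ∧ Nat.card A = p ^ 2) (hL : IsCoatom L)
    (hNL : normalizer (A : Set G) ≤ L) {q : ℕ} (hq : q ∈ tau2 M) : q ∈ sigma L := by
  have h := localInputs hG
  have hAL : A ≤ L := le_normalizer.trans hNL
  obtain ⟨⟨hEA, -⟩, -, -⟩ := BGTwelve.tau_two_compl_stmt hG h hM hE hp2 hA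
  -- `p ∈ σ(L)`
  have hpL : p ∈ sigma L := by
    by_contra hps
    have hr1 : ¬ PRankLE p 1 L := not_prankLE_of_elemAbelian hA.2.1 hAL (by
      rw [hA.2.2, pow_one]; exact lt_self_pow₀ hp.out.one_lt one_lt_two)
    have hp2L : p ∈ tau2 L := ⟨hp.out, hps, not_sigma_rank_two hG h.uniq hL hp.out hps, hr1⟩
    obtain ⟨EL, hEL, hAEL⟩ := exists_compl_ge hG hL hAL fun l hl hd => by
      rw [hA.2.2] at hd
      rw [(Nat.prime_dvd_prime_iff_eq hl hp.out).1 (hl.dvd_of_dvd_pow hd)]
      exact hps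
    exact (BGTwelve.tau_two_compl_stmt hG h hL hEL hp2L ⟨hAEL, hA.2⟩).2.1.2.2 hNL
  by_contra hqs
  have hqp : q ≠ p := fun h0 => hqs (h0 ▸ hpL)
  haveI := Fact.mk hq.1
  obtain ⟨B, hB⟩ := BGTwelve.exists_sq_le_compl hG hM hE hq
  obtain ⟨⟨hEB, -⟩, -, -⟩ := BGTwelve.tau_two_compl_stmt hG h hM hE hq hB
  have hcop : (Nat.card A).Coprime (Nat.card B) := by
    rw [hA.2.2, hB.2.2]
    exact ((Nat.coprime_primes hp.out hq.1).2 hqp.symm).pow 2 2
  have hBA : B ≤ centralizer (A : Set G) :=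
    normal_coprime_le_centralizer hA.1 hB.1 hEA hEB hcop
  have hBL : B ≤ L := hBA.trans ((centralizer_le_normalizer _).trans hNL)
  have hq2L : q ∈ tau2 L := ⟨hq.1, hqs, not_sigma_rank_two hG h.uniq hL hq.1 hqs,
    not_prankLE_of_elemAbelian hB.2.1 hBL (by
      rw [hB.2.2, pow_one]; exact lt_self_pow₀ hq.1.one_lt one_lt_two)⟩
  obtain ⟨-, -, -, hC, -, -⟩ := tau_two_stmt hG h L hL hq2L B ⟨hBL, hB.2⟩
  refine (fun h0 => ?_) hC
  have hAσ : A ≤ sigmaCore L :=
    le_sigmaCore_of_pgroup hG hL hpL (isPGroup_of_pow_eq_one hp.out hA.2.1.2) hAL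
  have hA1 : A = ⊥ := le_bot_iff.1 ((le_inf hAσ (le_centralizer_iff.1 hBA)).trans h0.le)
  have h2 := hA.2.2
  rw [hA1, card_bot] at h2
  exact (Nat.one_lt_pow two_ne_zero hp.out.one_lt).ne h2

/-- `not_prankLE` for a plane. -/
theorem not_le_of_plane {M B : Subgroup G} {r : ℕ} [hr : Fact r.Prime]
    (hB : IsElementaryAbelian r B) (hBc : Nat.card B = r ^ 2) (h1 : PRankLE r 1 M) : ¬ B ≤ M :=
  fun hle => not_prankLE_of_elemAbelian hB hle
    (by rw [hBc, pow_one]; exact lt_self_pow₀ hr.out.one_lt one_lt_two) h1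

/-- A line of a plane fixed pointwise by `y` is all of the fixed points, unless `y` fixes all. -/
theorem inf_centralizer_eq_line {A P : Subgroup G} {p : ℕ} [hp : Fact p.Prime] {y : G}
    (hAc : Nat.card A = p ^ 2) (hPA : P ≤ A) (hPc : Nat.card P = p)
    (hyP : y ∈ centralizer (P : Set G)) (hyA : y ∉ centralizer (A : Set G)) :
    A ⊓ centralizer ({y} : Set G) = P := by
  have hle : P ≤ A ⊓ centralizer ({y} : Set G) := le_inf hPA fun a ha =>
    mem_centralizer_singleton_iff.2 (mem_centralizer_iff.1 hyP a ha)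
  symm
  refine eq_of_le_of_card_ge hle ?_
  rw [hPc]
  refine (BGTwelve.card_eq_prime_of_sq hAc inf_le_left (fun h0 => ?_) fun h0 => hyA ?_).le
  · exact ne_bot_of_prime_card hp.out hPc (le_bot_iff.1 (hle.trans h0.le))
  · exact mem_centralizer_iff.2 fun a ha => mem_centralizer_singleton_iff.1 ((h0.ge ha).2)

/-- The case of abelian Sylow subgroups. -/
theorem le_centralizer_plane_of_abelian {M E A P : Subgroup G} {p : ℕ} [hp : Fact p.Prime]
    (hM : IsCoatom M) (hE : IsComplIn E (sigmaCore M) M) (hp2 : p ∈ tau2 M)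
    (hA : A ≤ E ∧ IsElementaryAbelian p A ∧ Nat.card A = p ^ 2)
    (hab : ∀ S : Sylow p G, IsMulCommutative (S : Subgroup G))
    (hPA : P ≤ A) (hPc : Nat.card P = p) (hNP : normalizer (P : Set G) ≤ M) {y : G} (hy : y ∈ E)
    (hyP : y ∈ centralizer (P : Set G)) : y ∈ centralizer (A : Set G) := by
  by_contra hyA
  obtain ⟨⟨hEA, -⟩, ⟨-, -, hNA⟩, -⟩ := BGTwelve.tau_two_compl_stmt hG (localInputs hG) hM hE hp2 hA
  obtain ⟨g, hg, hgM⟩ := SetLike.not_le_iff_exists.1 hNA
  have hAp : IsPGroup p A := isPGroup_of_pow_eq_one hp.out hA.2.1.2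
  have hN : normalizer (A : Set G) ≠ ⊤ := normalizer_ne_top hG (fun h0 => by
      have h2 := hA.2.2
      rw [h0, card_bot] at h2
      exact (Nat.one_lt_pow two_ne_zero hp.out.one_lt).ne h2)
    (fun h0 => hM.1 (top_le_iff.1 (h0 ▸ hA.1.trans hE.1)))
  refine hgM (hNP ?_)
  refine mem_normalizer_iff_map_conj_eq.2 (eq_of_le_of_card_ge ?_ (card_map_conj P g).ge)
  rintro _ ⟨a, ha, rfl⟩
  rw [← inf_centralizer_eq_line hG hA.2.2 hPA hPc hyP hyA]
  refine ⟨(mem_normalizer_iff.1 hg a).1 (hPA ha), ?_⟩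
  exact conj_mem_centralizer_of_comm hG hab hAp (ne_two_of_dvd hG (H := A)
      (hA.2.2 ▸ dvd_pow_self p two_ne_zero))
    (prankLE_subgroup (hA.1.trans hE.1) hp2.2.2.1) hN hg (hEA hy) (hPA ha)
    (mem_centralizer_singleton_iff.2 (mem_centralizer_iff.1 hyP a ha))

/-- Two lines of a plane of `τ₂(M)` with fixed points on `M_σ`: the Sylow subgroups are abelian,
so elements fixing one of them fix the plane. -/
theorem le_centralizer_plane_of_two_lines {M E A P Q : Subgroup G} {p : ℕ} [hp : Fact p.Prime]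
    (hM : IsCoatom M) (hE : IsComplIn E (sigmaCore M) M) (hp2 : p ∈ tau2 M)
    (hA : A ≤ E ∧ IsElementaryAbelian p A ∧ Nat.card A = p ^ 2)
    (hPA : P ≤ A) (hPc : Nat.card P = p) (hQA : Q ≤ A) (hQc : Nat.card Q = p) (hPQ : P ≠ Q)
    (hP : sigmaCore M ⊓ centralizer (P : Set G) ≠ ⊥)
    (hQ : sigmaCore M ⊓ centralizer (Q : Set G) ≠ ⊥) {y : G} (hy : y ∈ E)
    (hyP : y ∈ centralizer (P : Set G)) : y ∈ centralizer (A : Set G) := by
  have h := localInputs hG
  by_cases hab : ∀ S : Sylow p G, IsMulCommutative (S : Subgroup G)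
  · refine le_centralizer_plane_of_abelian hG hM hE hp2 hA hab hPA hPc ?_ hy hyP
    obtain ⟨-, -, hu⟩ := BGTwelve.tau_two_compl_stmt hG h hM hE hp2 hA
    exact normalizer_le_of_centralizer_uniq hG (ne_bot_of_prime_card hp.out hPc)
      (isCoatom_ne_top hM (hPA.trans (hA.1.trans hE.1))) (hu P hPA hPc hP).2
  · exfalso
    have hna : ∀ S : Sylow p G, ¬ IsMulCommutative (S : Subgroup G) := fun S hS =>
      hab fun T => sylow_comm_of_comm S T hS
    obtain ⟨-, -, hreg⟩ := BGTwelve.nonabelian_tau_two_stmt hG h hM hE hp2 hna hA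
    refine hPQ (Eq.trans (b := A ⊓ centralizer (sigmaCore M : Set G)) ?_ ?_)
    · exact by_contra fun hne => hP (hreg P (hPA.trans hA.1) hPc hne).1
    · exact by_contra fun hne => hQ (hreg Q (hQA.trans hA.1) hQc (Ne.symm hne)).1

/-- The nonabelian case. -/
theorem le_centralizer_plane_of_nonabelian {M E A U : Subgroup G} {p : ℕ} [hp : Fact p.Prime]
    (hM : IsCoatom M) (hE : IsComplIn E (sigmaCore M) M) (hp2 : p ∈ tau2 M)
    (hA : A ≤ E ∧ IsElementaryAbelian p A ∧ Nat.card A = p ^ 2)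
    (hna : ∀ S : Sylow p G, ¬ IsMulCommutative (S : Subgroup G))
    (hU : U = A ⊓ centralizer (sigmaCore M : Set G)) {y : G} {s : ℕ} (hs : s.Prime) (hy : y ∈ E)
    (hyo : orderOf y = s) (hyU : y ∈ centralizer (U : Set G)) : y ∈ centralizer (A : Set G) := by
  have h := localInputs hG
  have hT := twelveInputs hG
  by_contra hyA
  haveI := Fact.mk hs
  have hp2' : p ≠ 2 := ne_two_of_dvd hG (H := A) (hA.2.2 ▸ dvd_pow_self p two_ne_zero)
  have hAp : IsPGroup p A := isPGroup_of_pow_eq_one hp.out hA.2.1.2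
  haveI hAa := hA.2.1.1
  obtain ⟨hτ, ⟨hUc', -⟩, -⟩ := BGTwelve.nonabelian_tau_two_stmt hG h hM hE hp2 hna hA
  have hUA : U ≤ A := hU ▸ inf_le_left
  have hUc : Nat.card U = p := by rw [hU]; exact hUc'
  have hA' : A ≤ M ∧ IsElementaryAbelian p A ∧ Nat.card A = p ^ 2 := ⟨hA.1.trans hE.1, hA.2⟩
  obtain ⟨⟨hEA, -⟩, ⟨-, hMN, -⟩, hu⟩ := BGTwelve.tau_two_compl_stmt hG h hM hE hp2 hA
  have hUσ : sigmaCore M ⊓ centralizer (U : Set G) ≠ ⊥ := by
    rw [inf_eq_left.2 (le_centralizer_iff.1 (hU ▸ inf_le_right))]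
    exact sigmaCore_ne_bot hG h.uniq smallRankFrattini fittingRankTwoDerived rankTwoLargestPrime hM
  have hCU := (hu U hUA hUc hUσ).1
  have hNU : normalizer (U : Set G) ≤ M :=
    normalizer_le_of_centralizer_uniq hG (ne_bot_of_prime_card hp.out hUc)
      (isCoatom_ne_top hM (hUA.trans hA'.1)) (hu U hUA hUc hUσ).2
  have hEU : E ≤ normalizer (U : Set G) := hU ▸ Coprime.le_normalizer_inf hEA
    (Coprime.le_normalizer_centralizer (BGTwelve.compl_le_normalizer hE))
  have hsp : s ≠ p := fun h0 => hyA (BGTwelve.pgroup_le_centralizer_sq hG h hM hE hp2 hA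
    (T := zpowers y) (IsPGroup.of_card (n := 1) (by rw [Nat.card_zpowers, hyo, pow_one, h0]))
    (zpowers_le.2 hy) (mem_zpowers y))
  have hmax := (not_ideal_of_rank_two hG h.uniq hM hp2.2.2.1 hp2.2.2.2).2 A hA'.1 hA.2.1 hA.2.2
  have hpi := (not_ideal_of_rank_two hG h.uniq hM hp2.2.2.1 hp2.2.2.2).1
  -- a maximal subgroup over `N(A)` and a `y`-invariant Sylow subgroup there
  have hA1 : A ≠ ⊥ := fun h0 => by
    have h2 := hA.2.2
    rw [h0, card_bot] at h2
    exact (Nat.one_lt_pow two_ne_zero hp.out.one_lt).ne h2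
  obtain ⟨L, hL, hNL⟩ := exists_coatom_ge hG (normalizer_ne_top hG hA1 (isCoatom_ne_top hM hA'.1))
  have hEL : E ≤ L := hEA.trans hNL
  have hAL : A ≤ L := le_normalizer.trans hNL
  have hpL : p ∈ sigma L := tau2_subset_sigma hG hM hE hp2 hA hL hNL hp2
  have hpb : p ∉ beta L := fun hb => hpi hb.2
  -- elements of `E` in `L'` of order prime to `p` centralise `A`
  have hder : ∀ e ∈ E, e ∈ ⁅L, L⁆ → ¬ p ∣ orderOf e → e ∈ centralizer (A : Set G) := by
    intro e he hed hep
    exact le_centralizer_iff.1 (le_centralizer_of_derived hG h hL hpb (B := zpowers e) (X := A)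
      (zpowers_le.2 hed) (by rwa [Nat.card_zpowers]) hAL hAp (zpowers_le.2 (hEA he))) (mem_zpowers e)
  obtain ⟨hHall, -, hσd⟩ := sigmaCore_hall hG h.uniq smallRankFrattini fittingRankTwoDerived hL
  have hsL : s ∉ sigma L := fun h0 => hyA (hder y hy
    (hσd (le_sigmaCore_of_pgroup hG hL h0 (IsPGroup.of_card (n := 1)
      (by rw [Nat.card_zpowers, hyo, pow_one])) (zpowers_le.2 (hEL hy)) (mem_zpowers y)))
    (hyo ▸ fun hd => hsp ((Nat.prime_dvd_prime_iff_eq hp.out hs).1 hd).symm))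
  obtain ⟨S, hAS, hSσ, hyS⟩ := exists_invariant_sylow_in hpL hpL hHall (le_normalizer_sigmaCore L)
    (zpowers_le.2 (hEL hy) : zpowers y ≤ L) (coatom_isSolvable_le hG hL (zpowers_le.2 (hEL hy)))
    (by
      rw [Nat.card_zpowers, hyo]
      exact (hs.coprime_iff_not_dvd).2 fun hd => hsL (isPiSub_sigmaCore L s hs hd))
    hAL hAp (zpowers_le.2 (hEA hy))
  have hSL : (S : Subgroup G) ≤ L := hSσ.trans (sigmaCore_le L)
  -- elements of order `p` of `S` in `M` lie in `A`
  have hSMA : ∀ x ∈ (S : Subgroup G), x ∈ M → x ^ p = 1 → x ∈ A := by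
    intro x hxS hxM hxp
    obtain ⟨P, hP, -, hΩ⟩ := BGTwelve.exists_tau2_sylow hG h hM hp2 hA'
      (S.isPGroup'.to_le inf_le_left : IsPGroup p ↥((S : Subgroup G) ⊓ M)) inf_le_right
      (le_inf hAS hA'.1)
    exact (hΩ x (hP ⟨hxS, hxM⟩)).1 hxp
  have hUC : ¬ (S : Subgroup G) ≤ centralizer (U : Set G) := fun hle => by
    obtain ⟨P, hP, hPc, -⟩ := BGTwelve.exists_tau2_sylow hG h hM hp2 hA' S.isPGroup'
      (hle.trans hCU) hAS
    exact hna S (isMulCommutative_of_le_centralizer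
      ((hP.trans (le_centralizer_self_of_comm hPc)).trans (centralizer_anti hP)))
  -- the line of `A` in the centre of `S`
  set Z := A ⊓ centralizer ((S : Subgroup G) : Set G) with hZ
  have hcentre : ∀ c ∈ centralizer ((S : Subgroup G) : Set G), c ∈ (S : Subgroup G) → c ^ p = 1 →
      c ∈ Z := fun c hc hcS hcp =>
    ⟨hSMA c hcS (hCU (centralizer_anti (hUA.trans hAS) hc)) hcp, hc⟩
  have hZ1 : Z ≠ ⊥ := by
    haveI : Nontrivial (S : Subgroup G) :=
      (nontrivial_iff_ne_bot _).2 fun h0 => hna S (h0 ▸ inferInstance)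
    haveI := S.isPGroup'.center_nontrivial
    obtain ⟨z, hz⟩ := exists_prime_orderOf_dvd_card' p
      (show p ∣ Nat.card (center (S : Subgroup G)) from
        (S.isPGroup'.to_subgroup _).card_eq_or_dvd.resolve_left Finite.one_lt_card.ne')
    intro h0
    have hzo : orderOf ((z : (S : Subgroup G)) : G) = p := by
      rw [Subgroup.orderOf_coe, Subgroup.orderOf_coe, hz]
    have := hcentre _ (mem_centralizer_iff.2 fun b hb =>
      congrArg Subtype.val (mem_center_iff.1 z.2 ⟨b, hb⟩)) z.1.2 (orderOf_dvd_iff_pow_eq_one.1 hzo.dvd)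
    rw [h0, Subgroup.mem_bot] at this
    rw [this, orderOf_one] at hzo
    exact hp.out.ne_one hzo.symm
  have hZA : Z ≠ A := fun h0 =>
    hUC (le_centralizer_iff.1 (hUA.trans (h0.ge.trans inf_le_right)))
  have hZc : Nat.card Z = p := BGTwelve.card_eq_prime_of_sq hA.2.2 inf_le_left hZ1 hZA
  haveI : IsCyclic Z := isCyclic_of_prime_card hZc
  have hZn : normalizer ((S : Subgroup G) : Set G) ≤ normalizer (Z : Set G) :=
    Coprime.le_normalizer_of_conj_mem fun b hb z hz => by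
      refine hcentre _ ?_ ((mem_normalizer_iff.1 hb z).1 (hAS hz.1)) ?_
      · exact (mem_normalizer_iff.1
          (Coprime.le_normalizer_centralizer (le_refl (normalizer ((S : Subgroup G) : Set G))) hb) z).1 hz.2
      · rw [← MulAut.conj_apply, ← map_pow, hA.2.1.2 z hz.1, map_one]
  -- the only line of `C_S(y)` is `U`
  have hD : ∀ x ∈ (S : Subgroup G), x ∈ centralizer ({y} : Set G) → x ^ p = 1 → x ∈ U := by
    have hAy := inf_centralizer_eq_line hG hA.2.2 hUA hUc hyU hyA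
    have step : ∀ x ∈ (S : Subgroup G), x ∈ centralizer ({y} : Set G) →
        x ∈ centralizer (U : Set G) → x ^ p = 1 → x ∈ U := fun x hxS hxy hxU hxp =>
      hAy.le ⟨hSMA x hxS (hCU hxU) hxp, hxy⟩
    intro x hxS hxy hxp
    refine step x hxS hxy ?_ hxp
    set D := (S : Subgroup G) ⊓ centralizer ({y} : Set G) with hD0
    have hUD : U ≤ D := le_inf (hUA.trans hAS) (fun a ha =>
      mem_centralizer_singleton_iff.2 (mem_centralizer_iff.1 hyU a ha))
    haveI : Nontrivial D := (nontrivial_iff_ne_bot _).2 fun h0 =>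
      ne_bot_of_prime_card hp.out hUc (le_bot_iff.1 (hUD.trans h0.le))
    have hDp : IsPGroup p D := S.isPGroup'.to_le inf_le_left
    haveI := hDp.center_nontrivial
    obtain ⟨c, hc⟩ := exists_prime_orderOf_dvd_card' p (show p ∣ Nat.card (center D) from
      (hDp.to_subgroup _).card_eq_or_dvd.resolve_left Finite.one_lt_card.ne')
    have hco : orderOf ((c : D) : G) = p := by rw [Subgroup.orderOf_coe, Subgroup.orderOf_coe, hc]
    have hcD : ∀ d ∈ D, d * ((c : D) : G) = ((c : D) : G) * d := fun d hd =>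
      congrArg Subtype.val (mem_center_iff.1 c.2 ⟨d, hd⟩)
    have hcU : ((c : D) : G) ∈ U := step _ c.1.2.1 c.1.2.2
      (mem_centralizer_iff.2 fun a ha => hcD a (hUD ha)) (hco ▸ pow_orderOf_eq_one _)
    have hUz : zpowers ((c : D) : G) = U := eq_of_le_of_card_ge (zpowers_le.2 hcU)
      (by rw [hUc, Nat.card_zpowers, hco])
    rw [← hUz, BGTwelve.centralizer_zpowers_eq, mem_centralizer_singleton_iff]
    exact hcD x ⟨hxS, hxy⟩
  have hUy : U ≤ centralizer ({y} : Set G) := fun a ha =>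
    mem_centralizer_singleton_iff.2 (mem_centralizer_iff.1 hyU a ha)
  have hfixU : ∀ b ∈ normalizer ((S : Subgroup G) : Set G),
      (∀ a ∈ U, b * a * b⁻¹ ∈ centralizer ({y} : Set G)) → b ∈ normalizer (U : Set G) := by
    intro b hb hby
    refine mem_normalizer_iff_map_conj_eq.2 (eq_of_le_of_card_ge ?_ (card_map_conj U b).ge)
    rintro _ ⟨a, ha, rfl⟩
    refine hD _ ((mem_normalizer_iff.1 hb a).1 (hAS (hUA ha))) (hby a ha) ?_
    show (MulAut.conj b a) ^ p = 1
    rw [← map_pow, hA.2.1.2 a (hUA ha), map_one]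
  -- an element of `E` moving `U`
  obtain ⟨u, hu', hu1⟩ := (U.bot_or_exists_ne_one).resolve_left (ne_bot_of_prime_card hp.out hUc)
  have hUz : zpowers u = U := eq_of_le_of_card_ge (zpowers_le.2 hu') (by
    rw [hUc, Nat.card_zpowers, orderOf_eq_prime (hA.2.1.2 u (hUA hu')) hu1])
  have huS : u ∈ (S : Subgroup G) := hAS (hUA hu')
  have hcentral : ∀ w ∈ (S : Subgroup G), w ∈ centralizer ((S : Subgroup G) : Set G) → w ≠ u :=
    fun w _ hw h0 => hUC (le_centralizer_iff.1 (by rw [← hUz, zpowers_le]; exact h0 ▸ hw))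
  have hud : u ∉ ⁅(S : Subgroup G), (S : Subgroup G)⁆ := by
    intro hud
    by_cases hr : PRankLE p 2 (S : Subgroup G)
    · rcases sylow_rank_two_shape hG h.uniq h.plength h.blackburn p S hr with
        hc | ⟨P₁, P₂, hsup, hcomm, hna₁, hc₁, -, hcyc, -⟩
      · exact hna S hc
      have h2C : P₂ ≤ centralizer (P₁ : Set G) := fun b hb =>
        mem_centralizer_iff.2 fun a ha => hcomm a ha b hb
      refine hcentral u huS (?_ : _) rfl
      refine (?_ : ⁅(S : Subgroup G), (S : Subgroup G)⁆ ≤ centralizer ((S : Subgroup G) : Set G)) hud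
      rw [commutator_le]
      intro a ha b hb
      rw [← hsup] at ha hb
      obtain ⟨a₁, ha₁, a₂, ha₂, rfl⟩ :=
        Coprime.exists_mul_of_mem_sup (h2C.trans (centralizer_le_normalizer _)) ha
      obtain ⟨b₁, hb₁, b₂, hb₂, rfl⟩ :=
        Coprime.exists_mul_of_mem_sup (h2C.trans (centralizer_le_normalizer _)) hb
      haveI := hcyc
      have c22 : Commute a₂ b₂ :=
        congrArg Subtype.val (mul_comm' (⟨a₂, ha₂⟩ : P₂) ⟨b₂, hb₂⟩)
      have e : ⁅a₁ * a₂, b₁ * b₂⁆ = ⁅a₁, b₁⁆ := by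
        have c1 : Commute a₂ (b₁ * b₂) := (show Commute a₂ b₁ from (hcomm b₁ hb₁ a₂ ha₂).symm).mul_right c22
        have c2 : Commute b₂ a₁⁻¹ := (show Commute b₂ a₁ from (hcomm a₁ ha₁ b₂ hb₂).symm).inv_right
        rw [commutatorElement_def, commutatorElement_def]
        calc a₁ * a₂ * (b₁ * b₂) * (a₁ * a₂)⁻¹ * (b₁ * b₂)⁻¹
            = a₁ * (a₂ * (b₁ * b₂) * a₂⁻¹) * a₁⁻¹ * (b₁ * b₂)⁻¹ := by group
          _ = a₁ * b₁ * (b₂ * a₁⁻¹ * b₂⁻¹) * b₁⁻¹ := by rw [c1.eq, mul_inv_cancel_right]; group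
          _ = a₁ * b₁ * a₁⁻¹ * b₁⁻¹ := by rw [c2.eq, mul_inv_cancel_right]
      rw [e]
      have h1 : ⁅a₁, b₁⁆ ∈ P₁ ⊓ centralizer (P₁ : Set G) :=
        commutator_eq_center_of_card_prime_cube P₁ hna₁ hc₁ ▸ commutator_mem_commutator ha₁ hb₁
      have h2 : ⁅a₁, b₁⁆ ∈ centralizer (P₂ : Set G) :=
        mem_centralizer_iff.2 fun b hb => (hcomm _ h1.1 b hb).symm
      refine mem_centralizer_iff.2 fun x hx => ?_
      rw [SetLike.mem_coe, ← hsup] at hx
      obtain ⟨x₁, hx₁, x₂, hx₂, rfl⟩ :=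
        Coprime.exists_mul_of_mem_sup (h2C.trans (centralizer_le_normalizer _)) hx
      exact ((show Commute x₁ ⁅a₁, b₁⁆ from mem_centralizer_iff.1 h1.2 x₁ hx₁).mul_left
        (show Commute x₂ ⁅a₁, b₁⁆ from mem_centralizer_iff.1 h2 x₂ hx₂)).eq
    · set E' := A.subgroupOf (S : Subgroup G) with hE'
      have hEc : Nat.card E' = p ^ 2 := by
        rw [hE', Nat.card_congr (subgroupOfEquivOfLe hAS).toEquiv, hA.2.2]
      have hmaxE : ∀ B : Subgroup (S : Subgroup G), IsElementaryAbelian p B → E' ≤ B → B = E' := by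
        intro B hB hEB
        have hel : IsElementaryAbelian p (B.map (S : Subgroup G).subtype) := by
          refine ⟨isMulCommutative_of_le_centralizer ?_, ?_⟩
          · rintro _ ⟨z, hz, rfl⟩
            rw [mem_centralizer_iff]
            rintro _ ⟨w, hw, rfl⟩
            haveI := hB.1
            exact congrArg Subtype.val (congrArg Subtype.val (mul_comm' (⟨w, hw⟩ : B) ⟨z, hz⟩))
          · rintro _ ⟨z, hz, rfl⟩
            simpa using congrArg Subtype.val (hB.2 z hz)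
        rw [hE', ← hmax _ hel (fun a ha => ⟨⟨a, hAS ha⟩, hEB ha, rfl⟩)]
        exact (comap_map_eq_self_of_injective (S : Subgroup G).subtype_injective B).symm
      obtain ⟨hET, -, -, hTc, hTi⟩ := h.narrow (S : Subgroup G) p hp2' S.isPGroup' hr E'
        (elemAbelian_subgroupOf hA.2.1 hAS) hEc hmaxE
      set T := Subgroup.centralizer ((Subgroup.closure {x : (S : Subgroup G) |
        x ∈ Subgroup.upperCentralSeries (S : Subgroup G) 2 ∧ x ^ p = 1} :
          Subgroup (S : Subgroup G)) : Set (S : Subgroup G))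
      haveI := hTc
      have hder' : commutator (S : Subgroup G) ≤ T := by
        haveI : IsCyclic ((S : Subgroup G) ⧸ T) := isCyclic_of_prime_card (p := p) hTi
        exact (Subgroup.Normal.quotient_commutative_iff_commutator_le (N := T)).1 inferInstance
      rw [← Subgroup.map_subtype_commutator] at hud
      obtain ⟨u', hu'T, he⟩ := hud
      have hZT : Z.subgroupOf (S : Subgroup G) ≤ T := fun z hz => by
        refine mem_centralizer_iff.2 fun w _ => Subtype.ext ?_
        exact mem_centralizer_iff.1 hz.2 (w : G) w.2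
      refine hET fun a ha => ?_
      have hsup : U ⊔ Z = A := by
        by_contra hne
        have hc := BGTwelve.card_eq_prime_of_sq hA.2.2 (sup_le hUA inf_le_left)
          (fun h0 => hZ1 (le_bot_iff.1 (le_sup_right.trans h0.le))) hne
        have e1 : U = U ⊔ Z := eq_of_le_of_card_ge le_sup_left (by rw [hc, hUc])
        exact hUC (le_centralizer_iff.1 (by
          rw [eq_of_le_of_card_ge (e1 ▸ le_sup_right : Z ≤ U) (by rw [hZc, hUc]) |>.symm]
          exact inf_le_right))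
      have h1 : (U.subgroupOf (S : Subgroup G)) ⊔ Z.subgroupOf (S : Subgroup G) ≤ T := by
        refine sup_le ?_ hZT
        intro x hx
        rw [mem_subgroupOf, ← hUz] at hx
        obtain ⟨i, hi⟩ := hx
        rw [show x = u' ^ i from Subtype.ext (by rw [← hi, ← he]; simp)]
        exact T.zpow_mem (hder' hu'T) i
      rw [← subgroupOf_sup (hUA.trans hAS) (inf_le_left.trans hAS), hsup] at h1
      exact h1 ha
  haveI : Group.IsSolvable (normalizer ((S : Subgroup G) : Set G)) := isSolvable_of_ne_top hG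
    (normalizer_ne_top hG (fun h0 => hA1 (le_bot_iff.1 (hAS.trans h0.le)))
      (isCoatom_ne_top hL hSL))
  set NS := normalizer ((S : Subgroup G) : Set G) with hNS
  have hyNS : y ∈ NS := hyS (mem_zpowers y)
  obtain ⟨K', hK', hyK'⟩ := Solvable.exists_isPiHall_ge (G := NS) (π := {l | l ≠ p})
    ((zpowers y).subgroupOf NS) (fun l hl hd => by
      rw [Nat.card_congr (subgroupOfEquivOfLe (zpowers_le.2 hyNS)).toEquiv, Nat.card_zpowers, hyo,
        Nat.prime_dvd_prime_iff_eq hl hs] at hd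
      exact hd ▸ hsp)
  set K := K'.map NS.subtype with hK0
  have hKH : IsPiHallOf {l | l ≠ p} K NS := Coprime.isPiHallOf_map_subtype hK'
  have hKp : ¬ p ∣ Nat.card K := fun hd => hKH.2.1 p hp.out hd rfl
  have hyK : y ∈ K := ⟨⟨y, hyNS⟩, hyK' (mem_zpowers y), rfl⟩
  obtain ⟨k, hkK, ⟨r, n, hr, hko⟩, hknd⟩ :=
    exists_moving_derived hG S hKH.1 (le_sup_of_hall S hKH) hKp huS hud
  have hkS : k ∈ NS := hKH.1 hkK
  have hnar : IsNarrow p (S : Subgroup G) := by
    refine isNarrow_of_maximal_sq h.narrow hp2' S.isPGroup' (A.subgroupOf (S : Subgroup G))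
      (elemAbelian_subgroupOf hA.2.1 hAS)
      (by rw [Nat.card_congr (subgroupOfEquivOfLe hAS).toEquiv, hA.2.2]) fun B hB hEB => ?_
    have hel : IsElementaryAbelian p (B.map (S : Subgroup G).subtype) := by
      refine ⟨isMulCommutative_of_le_centralizer ?_, ?_⟩
      · rintro _ ⟨z, hz, rfl⟩
        rw [mem_centralizer_iff]
        rintro _ ⟨w, hw, rfl⟩
        haveI := hB.1
        exact congrArg Subtype.val (congrArg Subtype.val (mul_comm' (⟨w, hw⟩ : B) ⟨z, hz⟩))
      · rintro _ ⟨z, hz, rfl⟩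
        simpa using congrArg Subtype.val (hB.2 z hz)
    rw [← hmax _ hel (fun a ha => ⟨⟨a, hAS ha⟩, hEB ha, rfl⟩)]
    exact (comap_map_eq_self_of_injective (S : Subgroup G).subtype_injective B).symm
  have hkU : k ∈ normalizer (U : Set G) := hfixU k hkS fun a ha => by
    refine conj_mem_centralizer_of_commutator ?_ (hUy ha)
    have hd : ⁅k, y⁆ ∈ centralizer ((S : Subgroup G) : Set G) :=
      mem_centralizer_of_narrow h.narrowAut hp2' S.isPGroup' hnar hKH.1
        (Coprime.solvable_of_le hKH.1 inferInstance) hG.1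
        (commutator_mem_commutator hkK hyK) (by
          refine Nat.Coprime.coprime_dvd_left (Subgroup.orderOf_dvd_natCard ⁅K, K⁆ (commutator_mem_commutator hkK hyK)) ?_
          refine (hp.out.coprime_iff_not_dvd.2 fun hd => hKp (hd.trans
            (card_dvd_of_le (commutator_le_self K)))).symm)
    exact mem_centralizer_singleton_iff.2
      (mem_centralizer_iff.1 hd _ ((mem_normalizer_iff.1 hkS a).1 (hAS (hUA ha))))
  have hkM : k ∈ M := hNU hkU
  have hkA : k ∈ normalizer (A : Set G) := by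
    refine mem_normalizer_iff_map_conj_eq.2 (eq_of_le_of_card_ge ?_ (card_map_conj A k).ge)
    rintro _ ⟨a, ha, rfl⟩
    refine hSMA _ ((mem_normalizer_iff.1 hkS a).1 (hAS ha))
      (M.mul_mem (M.mul_mem hkM (hA'.1 ha)) (M.inv_mem hkM)) ?_
    show (MulAut.conj k a) ^ p = 1
    rw [← map_pow, hA.2.1.2 a ha, map_one]
  have hkE : k ∈ E := hMN.le ⟨hkM, hkA⟩
  have hkne : k ∉ centralizer (U : Set G) := fun hc => hknd (by
    rw [(mem_centralizer_iff.1 hc u hu').symm]
    simpa using one_mem ⁅(S : Subgroup G), (S : Subgroup G)⁆)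
  have hn0 : n ≠ 0 := by
    rintro rfl
    rw [pow_zero, orderOf_eq_one_iff] at hko
    exact hkne (hko ▸ one_mem _)
  haveI := Fact.mk hr
  have hrp : r ≠ p := fun h0 => hKp (h0 ▸ ((hko ▸ dvd_pow_self r hn0).trans
    (Subgroup.orderOf_dvd_natCard K hkK)))
  have htau : ∀ {e : G} {l m : ℕ}, l.Prime → e ∈ E → orderOf e = l ^ m → m ≠ 0 → l ≠ p →
      e ∉ centralizer (A : Set G) → l ∈ tau1 M := by
    intro e l m hl he heo hm hlp hne
    have hls : l ∉ sigma M := BGTwelve.not_mem_sigma_of_dvd hG hM hE hl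
      ((heo ▸ dvd_pow_self l hm).trans (Subgroup.orderOf_dvd_natCard E he))
    have hr1 : PRankLE l 1 M := by
      by_contra hc
      have : l ∈ tau2 M := ⟨hl, hls, not_sigma_rank_two hG h.uniq hM hl hls, hc⟩
      rw [hτ] at this
      exact hlp this
    have hlM : l ∣ Nat.card M :=
      (heo ▸ dvd_pow_self l hm).trans (Subgroup.orderOf_dvd_natCard M (hE.1 he))
    refine ⟨hl, hls, hlM, fun hd => hne ?_, hr1⟩
    exact mem_centralizer_of_tau3 hG hM hE hp2 hA ⟨hl, hls, hd, hr1⟩ he heo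
  have hs1 : s ∈ tau1 M := htau hs hy (by rw [hyo, pow_one]) one_ne_zero hsp hyA
  have hr1 : r ∈ tau1 M := htau hr hkE hko hn0 hrp fun hc => hkne (centralizer_anti hUA hc)
  -- conjugate it into a cyclic group with `y`
  haveI := BGTwelve.compl_isSolvable hG hM hE
  obtain ⟨F', hF', hyF'⟩ := Solvable.exists_isPiHall_ge (G := E) (π := tau1 M)
    ((zpowers y).subgroupOf E) (fun l hl hd => by
      rw [Nat.card_congr (subgroupOfEquivOfLe (zpowers_le.2 hy)).toEquiv, Nat.card_zpowers, hyo,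
        Nat.prime_dvd_prime_iff_eq hl hs] at hd
      exact hd ▸ hs1)
  obtain ⟨b, hb⟩ := Solvable.le_conj_isPiHall (G := E) hF' ((zpowers k).subgroupOf E)
    (fun l hl hd => by
      rw [Nat.card_congr (subgroupOfEquivOfLe (zpowers_le.2 hkE)).toEquiv, Nat.card_zpowers, hko] at hd
      rw [(Nat.prime_dvd_prime_iff_eq hl hr).1 (hl.dvd_of_dvd_pow hd)]
      exact hr1)
  set F := F'.map E.subtype with hF
  haveI : IsCyclic F := isCyclic_of_tau1 hG ((map_subtype_le _).trans hE.1) fun l hl hd => by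
    rw [hF, card_map_of_injective E.subtype_injective] at hd
    exact hF'.1 l hl hd
  set v := (b : G)⁻¹ * k * b with hv
  have hvF : v ∈ F := by
    have h1 := hb (show (⟨k, hkE⟩ : E) ∈ (zpowers k).subgroupOf E from mem_zpowers k)
    rw [mem_pointwise_smul_iff_inv_smul_mem] at h1
    exact ⟨_, h1, by simp [hv, mul_assoc]⟩
  have hyF : y ∈ F := ⟨⟨y, hy⟩, hyF' (mem_zpowers y), rfl⟩
  have hvy : Commute y v :=
    congrArg Subtype.val (mul_comm' (⟨y, hyF⟩ : F) ⟨v, hvF⟩)
  have hvE : v ∈ E := map_subtype_le _ hvF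
  have hvo : orderOf v = r ^ n := by
    rw [hv, show (b : G)⁻¹ * k * b = MulAut.conj (b : G)⁻¹ k by simp, MulEquiv.orderOf_eq, hko]
  have hvne : v ∉ centralizer (U : Set G) := fun hc => hkne (mem_centralizer_iff.2 fun a ha => by
    have h1 : (b : G)⁻¹ * a * b ∈ U := by
      simpa using (mem_normalizer_iff.1 (hEU (inv_mem b.2)) a).1 ha
    have h2 := mem_centralizer_iff.1 hc _ h1
    calc a * k = (b : G) * ((b : G)⁻¹ * a * b * v) * (b : G)⁻¹ := by rw [hv]; group
      _ = (b : G) * (v * ((b : G)⁻¹ * a * b)) * (b : G)⁻¹ := by rw [h2]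
      _ = k * a := by rw [hv]; group)
  set W := zpowers v with hW
  have hWp : IsPGroup r W := IsPGroup.of_card (n := n) (by rw [hW, Nat.card_zpowers, hvo])
  have hWL : W ≤ L := zpowers_le.2 (hEL hvE)
  have hUσL : U ≤ sigmaCore L := (hUA.trans hAS).trans hSσ
  have hrL : r ∉ sigma L := fun h0 => hvne (centralizer_anti hUA (hder v hvE
    (hσd (le_sigmaCore_of_pgroup hG hL h0 hWp hWL (mem_zpowers v)))
    (hvo ▸ fun hd => hrp ((Nat.prime_dvd_prime_iff_eq hp.out hr).1 (hp.out.dvd_of_dvd_pow hd)).symm)))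
  set Y := zpowers y with hY
  have hYc : Nat.card Y = s := by rw [hY, Nat.card_zpowers, hyo]
  have hYL : Y ≤ L := zpowers_le.2 (hEL hy)
  have hCY : centralizer (Y : Set G) = centralizer ({y} : Set G) :=
    BGTwelve.centralizer_zpowers_eq y
  have hvY : W ≤ centralizer (Y : Set G) := zpowers_le.2 (by
    rw [hCY, mem_centralizer_singleton_iff]; exact hvy.symm.eq)
  have hYW : ∀ l : ℕ, l.Prime → l ∣ Nat.card (Y ⊔ W : Subgroup G) → l ∉ sigma L := fun l hl hd => by
    rcases prime_dvd_sup (hvY.trans (centralizer_le_normalizer _)) hl hd with h1 | h1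
    · rw [eq_of_dvd_card_pgroup (isPGroup_of_prime_card hYc) hl h1]; exact hsL
    · rw [eq_of_dvd_card_pgroup hWp hl h1]; exact hrL
  obtain ⟨EL, hEL', hYEL⟩ := exists_compl_ge hG hL (sup_le hYL hWL) hYW
  -- a plane of `L` centralising `y` would normalise `U`
  have hnoB : ∀ {l : ℕ} [Fact l.Prime], l ∈ tau1 M → l ∈ tau2 L → ∀ B : Subgroup G, B ≤ EL →
      IsElementaryAbelian l B → Nat.card B = l ^ 2 → y ∉ centralizer (B : Set G) := by
    intro l _ hl1 hl2 B hBE hB hBc hyB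
    refine not_le_of_plane hG hB hBc hl1.2.2.2.2 (fun b hb => hNU (hfixU b ?_ fun a ha => ?_))
    · have hnil := (tau_two_stmt hG h L hL hl2 B ⟨hBE.trans hEL'.1, hB, hBc⟩).1
      obtain ⟨Q, -, hQn, hQ⟩ := exists_normal_sylow hG h hL hpL hnil
      have hSQ : (S : Subgroup G) = (Q : Subgroup G) :=
        (S.is_maximal' Q.isPGroup' (hQ _ hSL S.isPGroup')).symm
      rw [hNS, hSQ]; exact hQn (hEL'.1 (hBE hb))
    · have hby : Commute b y := mem_centralizer_iff.1 hyB b hb
      have hay : Commute a y := mem_centralizer_iff.1 hyU a ha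
      exact mem_centralizer_singleton_iff.2 ((hby.mul_left hay).mul_left hby.inv_left).eq
  have hsr1 : PRankLE s 1 L := by
    by_contra hc
    have hs2 : s ∈ tau2 L := ⟨hs, hsL, not_sigma_rank_two hG h.uniq hL hs hsL, hc⟩
    obtain ⟨B, hB⟩ := BGTwelve.exists_sq_le_compl hG hL hEL' hs2
    haveI := hB.2.1.1
    exact hnoB hs1 hs2 B hB.1 hB.2.1 hB.2.2
      (centralizer_anti le_rfl (le_centralizer_self_of_comm hB.2.1.1
        (BGTwelve.le_sq_of_card hG h hL hEL' hs2 hB (le_sup_left.trans hYEL) hYc (mem_zpowers y))))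
  have hfix : U ≤ sigmaCore L ⊓ centralizer (Y : Set G) := le_inf hUσL (hCY.symm ▸ hUy)
  rcases eq_or_ne r s with rfl | hrs
  · exact hvne (le_centralizer_iff.1
      (hfix.trans (inf_centralizer_le_of_pgroup hG h hT hL hsL hsr1 hYL hYc hWp hWL hvY)) (mem_zpowers v))
  have hsd : ¬ s ∣ Nat.card ↥⁅L, L⁆ := fun hd => by
    obtain ⟨X, hXd, hXc⟩ := exists_order_prime_line hs hd
    obtain ⟨m, hm, hmX⟩ := exists_conj_line hG hsr1 hYL hYc (hXd.trans (commutator_le_self L)) hXc
    refine hyA (hder y hy ?_ (hyo ▸ fun hd' => hsp ((Nat.prime_dvd_prime_iff_eq hp.out hs).1 hd').symm))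
    have h1 : Y ≤ ⁅L, L⁆ := by
      rw [← hmX]
      refine (map_mono hXd).trans (le_of_eq ?_)
      rw [map_commutator, map_conj_eq_self (le_normalizer hm)]
    exact h1 (mem_zpowers y)
  have hsL1 : s ∈ tau1 L := ⟨hs, hsL, hYc ▸ card_dvd_of_le hYL, hsd, hsr1⟩
  haveI : IsCyclic W := by rw [hW]; infer_instance
  obtain ⟨V, hVW, hVc, -, -⟩ := exists_order_prime_of_cyclic hWp inferInstance
    (fun h0 => hvne (by
      have : v ∈ W := mem_zpowers v
      rw [h0, Subgroup.mem_bot] at this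
      rw [this]; exact one_mem _))
  have hVfix : U ≤ sigmaCore L ⊓ centralizer (V : Set G) := le_inf hUσL (hfix.trans
    (fixed_le_of_tau1 hG hL hsL1 hYL hYc (hVW.trans hWL) (hVW.trans hvY) hVc hrL))
  by_cases hrr : PRankLE r 1 L
  · exact hvne (le_centralizer_iff.1 (hVfix.trans (inf_centralizer_le_of_pgroup hG h hT hL hrL hrr
      (hVW.trans hWL) hVc hWp hWL ((le_centralizer_self_of_comm inferInstance).trans
        (centralizer_anti hVW)))) (mem_zpowers v))
  -- a plane of `τ₂(L)` through the line of `v`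
  have hr2 : r ∈ tau2 L := ⟨hr, hrL, not_sigma_rank_two hG h.uniq hL hr hrL, hrr⟩
  obtain ⟨B, hB⟩ := BGTwelve.exists_sq_le_compl hG hL hEL' hr2
  have hVB : V ≤ B := BGTwelve.le_sq_of_card hG h hL hEL' hr2 hB
    (hVW.trans (le_sup_right.trans hYEL)) hVc
  have hyB := hnoB hr1 hr2 B hB.1 hB.2.1 hB.2.2
  have hyV : y ∈ centralizer (V : Set G) :=
    le_centralizer_iff.1 (hVW.trans hvY) (mem_zpowers y)
  have hBy : ⁅B, Y⁆ ≠ ⊥ := fun h0 =>
    hyB (le_centralizer_iff.1 (commutator_eq_bot_iff_le_centralizer.1 h0) (mem_zpowers y))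
  have hyEL : Y ≤ EL := le_sup_left.trans hYEL
  have hBn : Y ≤ normalizer (B : Set G) :=
    hyEL.trans (BGTwelve.compl_le_normalizer_sq hG h hL hEL' hr2 hB)
  have hBS : B ≤ NS := by
    obtain ⟨Q, -, hQn, hQ⟩ := exists_normal_sylow hG h hL hpL
      (tau_two_stmt hG h L hL hr2 B ⟨hB.1.trans hEL'.1, hB.2⟩).1
    have hSQ : (S : Subgroup G) = (Q : Subgroup G) :=
      (S.is_maximal' Q.isPGroup' (hQ _ hSL S.isPGroup')).symm
    exact fun b hb => by rw [hNS, hSQ]; exact hQn (hEL'.1 (hB.1 hb))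
  have hBZ : ⁅B, Y⁆ ≤ centralizer (Z : Set G) := by
    rw [commutator_le]
    exact fun a ha c hc =>
      commutator_mem_centralizer_cyclic (hZn (hBS ha)) (hZn (hyS hc))
  have hBYB : ⁅B, Y⁆ ≤ B := Coprime.commutator_le_of_le_normalizer hBn
  obtain ⟨Q, hQ, hQc⟩ : ∃ Q ≤ ⁅B, Y⁆, Nat.card Q = r :=
    exists_order_prime_line hr (dvd_card_of_ne_bot
      ((isPGroup_of_pow_eq_one hr hB.2.1.2).to_le hBYB) hBy)
  haveI := hB.2.1.1
  have hVQ : V ≠ Q := by
    intro h0
    have h1 : V ≤ ⁅B, Y⁆ ⊓ centralizer (Y : Set G) := le_inf (h0 ▸ hQ) (hVW.trans hvY)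
    rw [Coprime.commutator_inf_centralizer_eq_bot Y B hBn (by
      rw [hYc, hB.2.2]; exact ((Nat.coprime_primes hs hr).2 hrs.symm).pow_right 2)] at h1
    exact ne_bot_of_prime_card hr hVc (le_bot_iff.1 h1)
  refine hyB (le_centralizer_plane_of_two_lines hG hL hEL' hr2 hB hVB hVc (hQ.trans hBYB) hQc hVQ
    (fun h0 => ne_bot_of_prime_card hp.out hUc (le_bot_iff.1 (hVfix.trans h0.le)))
    (fun h0 => hZ1 (le_bot_iff.1 (le_trans (le_inf ((inf_le_left.trans hAS).trans hSσ)
      (le_centralizer_iff.1 (hQ.trans hBZ))) h0.le))) (hyEL (mem_zpowers y)) hyV)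

/-- An element of prime order of `E` fixing pointwise a line of `A` whose normalizer lies in `M`
centralises `A`. -/
theorem le_centralizer_plane_of_fixed {M E A P : Subgroup G} {p : ℕ} [hp : Fact p.Prime]
    (hM : IsCoatom M) (hE : IsComplIn E (sigmaCore M) M) (hp2 : p ∈ tau2 M)
    (hA : A ≤ E ∧ IsElementaryAbelian p A ∧ Nat.card A = p ^ 2) (hPA : P ≤ A)
    (hPc : Nat.card P = p) (hNP : normalizer (P : Set G) ≤ M) {y : G} {s : ℕ} (hs : s.Prime)
    (hy : y ∈ E) (hyo : orderOf y = s) (hyP : y ∈ centralizer (P : Set G)) :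
    y ∈ centralizer (A : Set G) := by
  by_cases hab : ∀ S : Sylow p G, IsMulCommutative (S : Subgroup G)
  · exact le_centralizer_plane_of_abelian hG hM hE hp2 hA hab hPA hPc hNP hy hyP
  · have hna : ∀ S : Sylow p G, ¬ IsMulCommutative (S : Subgroup G) := fun S hS =>
      hab fun T => sylow_comm_of_comm S T hS
    obtain ⟨-, -, hreg⟩ :=
      BGTwelve.nonabelian_tau_two_stmt hG (localInputs hG) hM hE hp2 hna hA
    refine le_centralizer_plane_of_nonabelian hG hM hE hp2 hA hna ?_ hs hy hyo hyP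
    exact by_contra fun hne => (hreg P (hPA.trans hA.1) hPc hne).2
      ((centralizer_le_normalizer _).trans hNP)

end Cfsg.Agent.BGSigma
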