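import Cfsg.Agent.BGSigma.KappaTauThree

/-!
BG 14.1/14.2: the shape of a complement of `M_σ` when `κ(M)` is nonempty.
-/

set_option autoImplicit false

namespace Cfsg.Agent.BGSigma

open Cfsg Subgroup
open scoped commutatorElement Pointwise

universe u

variable {G : Type u} [Group G] [Finite G]

/-- What a Hall `κ(M)`-subgroup `K` and its normal complement `U` in `E` satisfy. -/
structure KappaShape (M E K U : Subgroup G) : Prop where
  compl : IsComplIn E (sigmaCore M) M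
  le_E : K ≤ E
  U_le : U ≤ E
  norm : E ≤ normalizer (U : Set G)
  hallK : IsPiHallOf (kappa M) K M
  hallU : IsPiHallOf {q | q.Prime ∧ q ∉ kappa M ∧ q ∉ sigma M} U M
  comm : IsMulCommutative U
  derived : U ≤ ⁅E, E⁆
  decomp : ∀ e ∈ E, ∃ u ∈ U, ∃ k ∈ K, e = u * k
  prime : ∀ k ∈ K, k ≠ 1 → sigmaCore M ⊓ centralizer ({k} : Set G) =
    sigmaCore M ⊓ centralizer (K : Set G)
  fixed_ne : sigmaCore M ⊓ centralizer (K : Set G) ≠ ⊥
  fpf : ∀ k ∈ K, k ≠ 1 → U ⊓ centralizer ({k} : Set G) = ⊥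
  lines : ∀ X : Subgroup G, X ≤ K → (Nat.card X).Prime → E ⊓ normalizer (X : Set G) = K
  cyc : (IsCyclic K ∧ kappa M = tau1 M) ∨ (U = ⊥ ∧ K = E ∧ ∃ q ∈ kappa M, q ∈ tau3 M)

theorem exists_line_of_ne_one {k : G} (hk : k ≠ 1) :
    ∃ (r : ℕ) (X : Subgroup G), r.Prime ∧ X ≤ zpowers k ∧ Nat.card X = r := by
  obtain ⟨r, hr, hd⟩ := Nat.exists_prime_and_dvd (n := Nat.card (zpowers k))
    (by rw [Nat.card_zpowers]; exact fun h => hk (orderOf_eq_one_iff.1 h))
  obtain ⟨X, hX, hXc⟩ := exists_order_prime_line hr hd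
  exact ⟨r, X, hr, hX, hXc⟩

theorem dvd_relIndex_of_le_sup {H K E : Subgroup G} (hH : H ≤ E) (hK : K ≤ E) {l : ℕ}
    (hd : l ∣ (H ⊔ K).relIndex E) : l ∣ H.relIndex E ∧ l ∣ K.relIndex E :=
  ⟨hd.trans ⟨_, (relIndex_mul_relIndex H _ _ le_sup_left (sup_le hH hK)).symm.trans (mul_comm _ _)⟩,
    hd.trans ⟨_, (relIndex_mul_relIndex K _ _ le_sup_right (sup_le hH hK)).symm.trans (mul_comm _ _)⟩⟩

variable (hG : IsMinSimpleOddOrder G)
include hG

theorem dvd_compl {M E : Subgroup G} (hM : IsCoatom M) (hE : IsComplIn E (sigmaCore M) M) {l : ℕ}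
    (hl : l.Prime) (hls : l ∉ sigma M) (hd : l ∣ Nat.card M) : l ∣ Nat.card E := by
  rw [← relIndex_mul_card hE.1] at hd
  exact (hl.dvd_mul.1 hd).resolve_left (BGTwelve.not_dvd_relIndex_compl hG hM hE hl hls)

theorem isPiHallOf_of_compl {M E H : Subgroup G} {π : Set ℕ} (hM : IsCoatom M)
    (hE : IsComplIn E (sigmaCore M) M) (hπ : ∀ l : ℕ, l.Prime → l ∈ π → l ∉ sigma M)
    (hH : IsPiHallOf π H E) : IsPiHallOf π H M := by
  refine ⟨hH.1.trans hE.1, hH.2.1, fun l hl hlπ hd => ?_⟩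
  rw [← relIndex_mul_relIndex H E M hH.1 hE.1] at hd
  exact (hl.dvd_mul.1 hd).elim (hH.2.2 l hl hlπ)
    (BGTwelve.not_dvd_relIndex_compl hG hM hE hl (hπ l hl hlπ))

/-- `C(M_σ ∩ C(K))` holds `K` once the lines have common fixed points. -/
theorem fixed_le_centralizer {M K Y : Subgroup G} (hM : IsCoatom M) (hKM : K ≤ M)
    (hK : ∀ r : ℕ, r.Prime → r ∣ Nat.card K → r ∉ sigma M ∧ PRankLE r 1 M)
    (hY : ∀ (r : ℕ) (X : Subgroup G), r.Prime → X ≤ K → Nat.card X = r →
      sigmaCore M ⊓ centralizer (X : Set G) = Y) : Y ≤ centralizer (K : Set G) := by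
  rw [le_centralizer_iff]
  refine le_of_sylow_le fun r hr hd => ?_
  haveI := Fact.mk hr
  refine ⟨default, ?_⟩
  set T := ((default : Sylow r K) : Subgroup K).map K.subtype with hT
  obtain ⟨hrs, hr1⟩ := hK r hr hd
  have hTK : T ≤ K := map_subtype_le _
  have hTp : IsPGroup r T := (default : Sylow r K).isPGroup'.map _
  haveI := isCyclic_of_prankLE_one hG hr1 hTp (hTK.trans hKM)
  obtain ⟨X, hXT, hXc⟩ := exists_order_prime_line hr (show r ∣ Nat.card T by
    rw [hT, card_map_of_injective K.subtype_injective]; exact Sylow.dvd_card_of_dvd_card _ hd)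
  rw [← hY r X hr (hXT.trans hTK) hXc, le_centralizer_iff]
  exact fixed_le_of_pgroup hG hM hrs hr1 ((hXT.trans hTK).trans hKM) hXc hTp (hTK.trans hKM)
    ((le_centralizer_self_of_comm inferInstance).trans (centralizer_anti hXT))

theorem prime_of_lines {M K Y : Subgroup G} (hM : IsCoatom M) (hKM : K ≤ M)
    (hK : ∀ r : ℕ, r.Prime → r ∣ Nat.card K → r ∉ sigma M ∧ PRankLE r 1 M)
    (hY : ∀ (r : ℕ) (X : Subgroup G), r.Prime → X ≤ K → Nat.card X = r →
      sigmaCore M ⊓ centralizer (X : Set G) = Y) (hYσ : Y ≤ sigmaCore M) {k : G} (hk : k ∈ K)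
    (hk1 : k ≠ 1) :
    sigmaCore M ⊓ centralizer ({k} : Set G) = sigmaCore M ⊓ centralizer (K : Set G) := by
  refine le_antisymm (le_inf inf_le_left ?_) (inf_le_inf_left _ ?_)
  · obtain ⟨r, X, hr, hX, hXc⟩ := exists_line_of_ne_one hk1
    refine le_trans ?_ (fixed_le_centralizer hG hM hKM hK hY)
    rw [← hY r X hr (hX.trans (zpowers_le.2 hk)) hXc, ← BGTwelve.centralizer_zpowers_eq k]
    exact inf_le_inf_left _ (centralizer_anti hX)
  · rw [← BGTwelve.centralizer_zpowers_eq k]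
    exact centralizer_anti (zpowers_le.2 hk)

/-- Case of a prime of `κ(M)` in `τ₃(M)`. -/
theorem exists_kappaShape_tau3 {M E K : Subgroup G} (hM : IsCoatom M)
    (hE : IsComplIn E (sigmaCore M) M) (hK : IsPiHallOf (kappa M) K M) (hKE : K ≤ E) {q : ℕ}
    (hqk : q ∈ kappa M) (hq3 : q ∈ tau3 M) : KappaShape M E K ⊥ := by
  haveI := Fact.mk hq3.1
  have hqE : q ∣ Nat.card E := dvd_compl hG hM hE hq3.1 hq3.2.1
    (hq3.2.2.1.trans (card_dvd_of_le (commutator_le_self M)))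
  obtain ⟨Q, hQE, hQc⟩ := exists_order_prime_line hq3.1 hqE
  have hne := nonregular_of_kappa hG hM hqk (hQE.trans hE.1) hQc
  have hτ := tau2_empty_of_tau3 hG hM hq3 (hQE.trans hE.1) hQc hne
  set Y := sigmaCore M ⊓ centralizer (Q : Set G) with hY
  have hlines : ∀ (r : ℕ) (X : Subgroup G), r.Prime → X ≤ E → Nat.card X = r →
      sigmaCore M ⊓ centralizer (X : Set G) = Y := fun r X hr hX hXc => by
    haveI := Fact.mk hr
    exact fixed_eq_of_tau3 hG hM hE hq3 hQE hQc hne hX hXc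
  have hprimes : ∀ r : ℕ, r.Prime → r ∣ Nat.card E → r ∉ sigma M ∧ PRankLE r 1 M := fun r hr hd => by
    have hrs := BGTwelve.not_mem_sigma_of_dvd hG hM hE hr hd
    exact ⟨hrs, by_contra fun hc =>
      hτ r ⟨hr, hrs, not_sigma_rank_two hG (localInputs hG).uniq hM hr hrs, hc⟩⟩
  have hkappa : ∀ r : ℕ, r.Prime → r ∣ Nat.card E → r ∈ kappa M := fun r hr hd => by
    obtain ⟨X, hX, hXc⟩ := exists_order_prime_line hr hd
    exact (mem_kappa_iff hG hM).2 ⟨hr, (hprimes r hr hd).1, (hprimes r hr hd).2, X, hX.trans hE.1, hXc,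
      by rw [hlines r X hr hX hXc]; exact hne⟩
  have hKE' : K = E := by
    refine le_antisymm hKE (relIndex_eq_one.1 (Nat.eq_one_iff_not_exists_prime_dvd.2 fun r hr hd => ?_))
    refine hK.2.2 r hr (hkappa r hr (hd.trans (relIndex_dvd_card _ _))) ?_
    rw [← relIndex_mul_relIndex K E M hKE hE.1]
    exact hd.mul_right _
  subst hKE'
  refine ⟨hE, le_rfl, bot_le, le_normalizer_bot _, hK, ⟨bot_le, fun l hl hd => ?_,
    fun l hl hlπ hd => ?_⟩, inferInstance, bot_le, fun e he => ⟨1, one_mem _, e, he, (one_mul e).symm⟩,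
    fun k hk hk1 => prime_of_lines hG hM hE.1 hprimes hlines inf_le_left hk hk1, fun h0 => hne ?_,
    fun k _ _ => bot_inf_eq _, fun X hX hXp => ?_, Or.inr ⟨rfl, rfl, q, hqk, hq3⟩⟩
  · rw [card_bot, Nat.dvd_one] at hd
    exact absurd hd hl.ne_one
  · rw [relIndex_bot_left] at hd
    exact hlπ.2.1 (hkappa l hl (dvd_compl hG hM hE hl hlπ.2.2 hd))
  · exact le_bot_iff.1 ((le_inf inf_le_left
      (fixed_le_centralizer hG hM hE.1 hprimes hlines)).trans h0.le)
  · haveI := Fact.mk hXp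
    refine inf_eq_left.2 ?_
    set r := Nat.card X with hr
    have hrK : r ∣ Nat.card K := card_dvd_of_le hX
    obtain ⟨hrs, hr1⟩ := hprimes r hXp hrK
    rcases tau13_cases hG hXp hrs (hrK.trans (card_dvd_of_le hE.1)) hr1 with h1 | h3
    · obtain ⟨F, hF, hFc, hXF, -⟩ := exists_tau1_hall hG hM hE hX fun l hl hd => by
        rw [Nat.prime_dvd_prime_iff_eq hl hXp] at hd
        exact hd ▸ h1
      refine le_of_sylow_le fun l hl hd => ?_
      haveI := Fact.mk hl
      obtain ⟨hls, hl1⟩ := hprimes l hl hd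
      rcases tau13_cases hG hl hls (hd.trans (card_dvd_of_le hE.1)) hl1 with h1' | h3'
      · obtain ⟨T, hT⟩ := exists_sylow_le (M := K) hF.1 (hF.2.2 l hl h1')
        exact ⟨T, hT.trans (le_normalizer.trans (BGTwelve.normalizer_le_of_isCyclic hFc hXF))⟩
      · refine ⟨default, le_trans ?_ (centralizer_le_normalizer _)⟩
        set T := ((default : Sylow l K) : Subgroup K).map K.subtype with hT
        have hTp : IsPGroup l T := (default : Sylow l K).isPGroup'.map _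
        have hTK : T ≤ K := map_subtype_le _
        haveI hTc := isCyclic_of_prankLE_one hG hl1 hTp (hTK.trans hE.1)
        obtain ⟨R, hRT, hRc, hNT, hcent⟩ := exists_order_prime_of_cyclic hTp hTc (fun h0 => by
          have := Sylow.dvd_card_of_dvd_card (default : Sylow l K) hd
          rw [← card_map_of_injective (K := ((default : Sylow l K) : Subgroup K)) K.subtype_injective,
            ← hT, h0, card_bot, Nat.dvd_one] at this
          exact hl.ne_one this)
        rw [le_centralizer_iff]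
        refine hcent X (hX.trans ?_) (fun hd' => ?_) (coatom_isSolvable_le hG hM (hX.trans hE.1)) ?_
        · haveI := BGTwelve.compl_isSolvable hG hM hE
          obtain ⟨F₃', hF₃'⟩ := Solvable.exists_isPiHall (G := K) (tau3 M)
          obtain ⟨hF₃c, -, hF₃n⟩ := BGTwelve.hall_tau3 hG hM hE (Coprime.isPiHallOf_map_subtype hF₃')
          exact hF₃n.trans (BGTwelve.normalizer_le_of_isCyclic hF₃c (le_of_normal_hall
            (Coprime.isPiHallOf_map_subtype hF₃') hF₃n hTK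
            (isPiSub_of_isPGroup hl hTp h3')))
        · rw [Nat.prime_dvd_prime_iff_eq hl hXp] at hd'
          exact h1.2.2.2.1 (hd' ▸ h3'.2.2.1)
        · have hneR : sigmaCore M ⊓ centralizer (R : Set G) ≠ ⊥ := by
            rw [hlines l R hl (hRT.trans hTK) hRc]; exact hne
          exact no_mover hG hM hE h3' (hRT.trans hTK) hRc hneR h1 hX rfl
    · exact compl_le_normalizer_tau3 hG hM hE h3 hX rfl

/-- Case `κ(M) ⊆ τ₁(M)`. -/
theorem exists_kappaShape_tau1 {M E K : Subgroup G} (hM : IsCoatom M)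
    (hE : IsComplIn E (sigmaCore M) M) (hK : IsPiHallOf (kappa M) K M) (hKE : K ≤ E) (hK1 : K ≠ ⊥)
    (hsub : ∀ q ∈ kappa M, q ∉ tau3 M) : ∃ U : Subgroup G, KappaShape M E K U := by
  have h := localInputs hG
  haveI := BGTwelve.compl_isSolvable hG hM hE
  have hk1 : ∀ l : ℕ, l ∈ kappa M → l ∈ tau1 M := fun l hl => by
    obtain ⟨hlp, hls, hlr, -⟩ := (mem_kappa_iff hG hM).1 hl
    exact (tau13_cases hG hlp hls hl.2.1 hlr).resolve_right (hsub l hl)
  obtain ⟨F, hF, hFc, hKF, -⟩ := exists_tau1_hall hG hM hE hKE fun l hl hd => hk1 l (hK.2.1 l hl hd)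
  haveI := hFc
  have hFF : F ≤ centralizer (F : Set G) := le_centralizer_self_of_comm inferInstance
  obtain ⟨p, P, hp, hPK, hPc⟩ : ∃ (p : ℕ) (P : Subgroup G), p.Prime ∧ P ≤ K ∧ Nat.card P = p := by
    obtain ⟨p, hp, hd⟩ := Nat.exists_prime_and_dvd (fun h1 => hK1 (eq_bot_of_card_eq _ h1))
    obtain ⟨P, hP, hPc⟩ := exists_order_prime_line hp hd
    exact ⟨p, P, hp, hP, hPc⟩
  haveI := Fact.mk hp
  have hpk : p ∈ kappa M := hK.2.1 p hp (hPc ▸ card_dvd_of_le hPK)
  have hPF : P ≤ F := hPK.trans hKF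
  have hne := nonregular_of_kappa hG hM hpk (hPF.trans (hF.1.trans hE.1)) hPc
  set Y := sigmaCore M ⊓ centralizer (P : Set G) with hY
  have hFM : F ≤ M := hF.1.trans hE.1
  have hlines : ∀ (r : ℕ) (X : Subgroup G), r.Prime → X ≤ F → Nat.card X = r →
      sigmaCore M ⊓ centralizer (X : Set G) = Y := fun r X hr hX hXc => by
    haveI := Fact.mk hr
    have hr1 : r ∈ tau1 M := hF.2.1 r hr (hXc ▸ card_dvd_of_le hX)
    refine le_antisymm (le_inf inf_le_left ?_) (le_inf inf_le_left ?_)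
    · exact fixed_le_of_tau1 hG hM hr1 (hX.trans hFM) hXc (hPF.trans hFM)
        ((hPF.trans hFF).trans (centralizer_anti hX)) hPc (hk1 p hpk).2.1
    · exact fixed_le_of_tau1 hG hM (hk1 p hpk) (hPF.trans hFM) hPc (hX.trans hFM)
        ((hX.trans hFF).trans (centralizer_anti hPF)) hXc hr1.2.1
  have h1k : ∀ l : ℕ, l ∈ tau1 M → l ∈ kappa M := fun l hl => by
    have hlE := dvd_compl hG hM hE hl.1 hl.2.1 hl.2.2.1
    have hlF : l ∣ Nat.card F := by
      rw [← relIndex_mul_card hF.1] at hlE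
      exact (hl.1.dvd_mul.1 hlE).resolve_left (hF.2.2 l hl.1 hl)
    obtain ⟨X, hX, hXc⟩ := exists_order_prime_line hl.1 hlF
    exact (mem_kappa_iff hG hM).2 ⟨hl.1, hl.2.1, hl.2.2.2.2, X, hX.trans hFM, hXc,
      by rw [hlines l X hl.1 hX hXc]; exact hne⟩
  have hkt : kappa M = tau1 M := Set.ext fun l => ⟨hk1 l, h1k l⟩
  have hKF' : K = F := by
    refine le_antisymm hKF (relIndex_eq_one.1 (Nat.eq_one_iff_not_exists_prime_dvd.2 fun r hr hd => ?_))
    refine hK.2.2 r hr (h1k r (hF.2.1 r hr (hd.trans (relIndex_dvd_card _ _)))) ?_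
    rw [← relIndex_mul_relIndex K F M hKF hFM]
    exact hd.mul_right _
  subst hKF'
  have hprimes : ∀ r : ℕ, r.Prime → r ∣ Nat.card K → r ∉ sigma M ∧ PRankLE r 1 M := fun r hr hd =>
    ⟨(hF.2.1 r hr hd).2.1, (hF.2.1 r hr hd).2.2.2.2⟩
  have hfix : Y ≤ centralizer (K : Set G) := fixed_le_centralizer hG hM hFM hprimes hlines
  -- the normal Hall subgroup over `E'`
  obtain ⟨U', hU', hDU⟩ := Solvable.exists_isPiHall_ge (G := E) (π := {q | q ∉ tau1 M})
    ((⁅E, E⁆).subgroupOf E) (fun l hl hd hl1 => by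
      rw [Nat.card_congr (subgroupOfEquivOfLe (commutator_le_self E)).toEquiv] at hd
      exact hl1.2.2.2.1 (hd.trans (card_dvd_of_le (commutator_mono hE.1 hE.1))))
  set U := U'.map E.subtype with hU0
  have hUH : IsPiHallOf {q | q ∉ tau1 M} U E := Coprime.isPiHallOf_map_subtype hU'
  have hDU' : ⁅E, E⁆ ≤ U := fun x hx => ⟨⟨x, commutator_le_self E hx⟩, hDU hx, rfl⟩
  have hnU : E ≤ normalizer (U : Set G) := Subgroup.le_normalizer_iff_commutator_le_right.2
    ((commutator_mono le_rfl hUH.1).trans hDU')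
  have hcop : (Nat.card K).Coprime (Nat.card U) := Nat.coprime_of_dvd fun l hl h1 h2 =>
    hUH.2.1 l hl h2 (hF.2.1 l hl h1)
  have hfpf : ∀ k ∈ K, k ≠ 1 → U ⊓ centralizer ({k} : Set G) = ⊥ := by
    intro k hk hk'
    by_contra h0
    obtain ⟨r, X, hr, hX, hXc⟩ := exists_line_of_ne_one hk'
    haveI := Fact.mk hr
    have hXK : X ≤ K := hX.trans (zpowers_le.2 hk)
    obtain ⟨s, hs, w, hw, hwo⟩ := exists_prime_line h0
    haveI := Fact.mk hs
    set W := zpowers w with hW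
    have hWc : Nat.card W = s := by rw [hW, Nat.card_zpowers, hwo]
    have hWE : W ≤ E := zpowers_le.2 (hUH.1 hw.1)
    have hWX : W ≤ centralizer (X : Set G) := by
      refine le_trans (zpowers_le.2 ?_) (centralizer_anti hX)
      rw [BGTwelve.centralizer_zpowers_eq]
      exact hw.2
    have hs1 : s ∉ tau1 M := hUH.2.1 s hs (hwo ▸ Subgroup.orderOf_dvd_natCard U hw.1)
    have hss : s ∉ sigma M :=
      BGTwelve.not_mem_sigma_of_dvd hG hM hE hs (hWc ▸ card_dvd_of_le hWE)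
    have hr1 : r ∈ tau1 M := hF.2.1 r hr (hXc ▸ card_dvd_of_le hXK)
    have hYW : Y ≤ centralizer (W : Set G) := by
      rw [← hlines r X hr hXK hXc]
      exact fixed_le_of_tau1 hG hM hr1 (hXK.trans hFM) hXc (hWE.trans hE.1) hWX hWc hss
    have hneW : sigmaCore M ⊓ centralizer (W : Set G) ≠ ⊥ := fun h' =>
      hne (le_bot_iff.1 ((le_inf inf_le_left hYW).trans h'.le))
    by_cases hs1r : PRankLE s 1 M
    · refine hsub s ((mem_kappa_iff hG hM).2 ⟨hs, hss, hs1r, W, hWE.trans hE.1, hWc, hneW⟩) ?_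
      exact (tau13_cases hG hs hss (hWc ▸ card_dvd_of_le (hWE.trans hE.1)) hs1r).resolve_left hs1
    · have hs2 : s ∈ tau2 M := ⟨hs, hss, not_sigma_rank_two hG h.uniq hM hs hss, hs1r⟩
      obtain ⟨A, hA⟩ := BGTwelve.exists_sq_le_compl hG hM hE hs2
      obtain ⟨-, -, hu⟩ := BGTwelve.tau_two_compl_stmt hG h hM hE hs2 hA
      have hWA := BGTwelve.le_sq_of_card hG h hM hE hs2 hA hWE hWc
      obtain ⟨x, hx1, hxX⟩ : ∃ x, x ≠ 1 ∧ zpowers x = X := by
        obtain ⟨x, hx, hx1⟩ := (X.bot_or_exists_ne_one).resolve_left (ne_bot_of_prime_card hr hXc)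
        refine ⟨x, hx1, eq_of_le_of_card_ge (zpowers_le.2 hx) ?_⟩
        rw [hXc, Nat.card_zpowers]
        exact ((hr.eq_one_or_self_of_dvd _ (hXc ▸ Subgroup.orderOf_dvd_natCard X hx)).resolve_left
          fun h' => hx1 (orderOf_eq_one_iff.1 h')).ge
      have hxX' : x ∈ X := hxX ▸ mem_zpowers x
      have hxA := le_centralizer_plane_of_fixed hG hM hE hs2 hA hWA hWc
        (normalizer_le_of_centralizer_uniq hG (ne_bot_of_prime_card hs hWc)
          (isCoatom_ne_top hM (hWE.trans hE.1)) (hu W hWA hWc hneW).2) hr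
        (hKE (hXK hxX')) (by rw [← Nat.card_zpowers, hxX, hXc])
        (le_centralizer_iff.1 hWX hxX')
      have hXA : X ≤ centralizer (A : Set G) := hxX ▸ zpowers_le.2 hxA
      obtain ⟨-, -, -, hC, -, -⟩ := tau_two_stmt hG h M hM hs2 A ⟨hA.1.trans hE.1, hA.2⟩
      refine hne (le_bot_iff.1 ((le_inf inf_le_left ?_).trans hC.le))
      rw [le_centralizer_iff]
      intro a ha
      by_cases ha1 : a = 1
      · rw [ha1]; exact one_mem _
      have hac : Nat.card (zpowers a) = s := by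
        rw [Nat.card_zpowers]; exact orderOf_eq_prime (hA.2.1.2 a ha) ha1
      refine le_centralizer_iff.1 ?_ (mem_zpowers a)
      show Y ≤ _
      rw [← hlines r X hr hXK hXc]
      exact fixed_le_of_tau1 hG hM hr1 (hXK.trans hFM) hXc ((zpowers_le.2 (hA.1 ha)).trans hE.1)
        ((zpowers_le.2 ha).trans (le_centralizer_iff.1 hXA)) hac hss
  have hUd : U ≤ ⁅E, E⁆ := by
    intro u hu
    obtain ⟨x, hx, c, hc, rfl⟩ := Coprime.exists_commutator_mul_centralizer K U (hKE.trans hnU) hcop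
      (Or.inl (coatom_isSolvable_le hG hM hFM)) u hu
    have hc' : c = 1 := by
      obtain ⟨x₀, hx₀, hx₀1⟩ := (K.bot_or_exists_ne_one).resolve_left hK1
      exact Subgroup.mem_bot.1 (hfpf x₀ hx₀ hx₀1 ▸
        ⟨hc.1, mem_centralizer_singleton_iff.2 (mem_centralizer_iff.1 hc.2 x₀ hx₀).symm⟩)
    rw [hc', mul_one]
    exact commutator_mono hUH.1 hKE hx
  refine ⟨U, hE, hKE, hUH.1, hnU, hK, ⟨hUH.1.trans hE.1, fun l hl hd => ⟨hl, ?_, ?_⟩, ?_⟩, ?_, hUd,
    ?_, fun k hk hk' => prime_of_lines hG hM hFM hprimes hlines inf_le_left hk hk',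
    fun h0 => hne (le_bot_iff.1 ((le_inf inf_le_left hfix).trans h0.le)), hfpf, fun X hX hXp => ?_,
    Or.inl ⟨hFc, hkt⟩⟩
  · rw [hkt]; exact hUH.2.1 l hl hd
  · exact BGTwelve.not_mem_sigma_of_dvd hG hM hE hl (hd.trans (card_dvd_of_le hUH.1))
  · rintro l hl ⟨-, hlk, hls⟩ hd
    rw [← relIndex_mul_relIndex U E M hUH.1 hE.1] at hd
    exact (hl.dvd_mul.1 hd).elim (hUH.2.2 l hl (hkt ▸ hlk))
      (BGTwelve.not_dvd_relIndex_compl hG hM hE hl hls)
  · haveI := BGTwelve.isMulCommutative_derived_compl hG h hM hE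
    exact isMulCommutative_of_le_centralizer ((hUd.trans
      (le_centralizer_self_of_comm inferInstance)).trans (centralizer_anti hUd))
  · intro e he
    have hsup : E ≤ U ⊔ K := relIndex_eq_one.1 (Nat.eq_one_iff_not_exists_prime_dvd.2 fun l hl hd => by
      obtain ⟨h1, h2⟩ := dvd_relIndex_of_le_sup hUH.1 hKE hd
      by_cases hl1 : l ∈ tau1 M
      · exact hF.2.2 l hl hl1 h2
      · exact hUH.2.2 l hl hl1 h1)
    exact Coprime.exists_mul_of_mem_sup (hKE.trans hnU) (hsup he)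
  · refine le_antisymm ?_ (le_inf hKE
      (le_normalizer.trans (BGTwelve.normalizer_le_of_isCyclic hFc hX)))
    rintro e ⟨he, heX⟩
    have hsup : E ≤ U ⊔ K := relIndex_eq_one.1 (Nat.eq_one_iff_not_exists_prime_dvd.2 fun l hl hd => by
      obtain ⟨h1, h2⟩ := dvd_relIndex_of_le_sup hUH.1 hKE hd
      by_cases hl1 : l ∈ tau1 M
      · exact hF.2.2 l hl hl1 h2
      · exact hUH.2.2 l hl hl1 h1)
    obtain ⟨u, hu, k, hk, rfl⟩ := Coprime.exists_mul_of_mem_sup (hKE.trans hnU) (hsup he)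
    have hkX : k ∈ normalizer (X : Set G) :=
      le_normalizer.trans (BGTwelve.normalizer_le_of_isCyclic hFc hX) hk
    have huX : u ∈ normalizer (X : Set G) := by
      have := (normalizer (X : Set G)).mul_mem heX ((normalizer (X : Set G)).inv_mem hkX)
      rwa [mul_inv_cancel_right] at this
    obtain ⟨x, hx, hx1⟩ :=
      (X.bot_or_exists_ne_one).resolve_left (fun h0 => hXp.ne_one (by rw [h0, card_bot]))
    have h1 : u * x * u⁻¹ * x⁻¹ ∈ U ⊓ K := by
      refine ⟨?_, hX (X.mul_mem ((mem_normalizer_iff.1 huX x).1 hx) (X.inv_mem hx))⟩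
      rw [show u * x * u⁻¹ * x⁻¹ = u * (x * u⁻¹ * x⁻¹) by group]
      exact U.mul_mem hu ((mem_normalizer_iff.1 (hnU (hKE (hX hx))) _).1 (U.inv_mem hu))
    rw [inf_eq_bot_of_coprime hcop.symm, Subgroup.mem_bot, mul_inv_eq_one,
      mul_inv_eq_iff_eq_mul] at h1
    have : u = 1 := Subgroup.mem_bot.1 (hfpf x (hX hx) hx1 ▸
      ⟨hu, mem_centralizer_singleton_iff.2 h1⟩)
    rw [this, one_mul]
    exact hk

/-- BG 14.1/14.2: the shape of a complement over a nontrivial Hall `κ(M)`-subgroup. -/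
theorem exists_kappaShape {M E K : Subgroup G} (hM : IsCoatom M)
    (hE : IsComplIn E (sigmaCore M) M) (hK : IsPiHallOf (kappa M) K M) (hKE : K ≤ E) (hK1 : K ≠ ⊥) :
    ∃ U : Subgroup G, KappaShape M E K U := by
  by_cases hq : ∃ q ∈ kappa M, q ∈ tau3 M
  · obtain ⟨q, hqk, hq3⟩ := hq
    exact ⟨⊥, exists_kappaShape_tau3 hG hM hE hK hKE hqk hq3⟩
  · exact exists_kappaShape_tau1 hG hM hE hK hKE hK1 fun q h1 h3 => hq ⟨q, h1, h3⟩

theorem exists_kappaShape_of_hall {M K : Subgroup G} (hM : IsCoatom M)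
    (hK : IsPiHallOf (kappa M) K M) (hK1 : K ≠ ⊥) : ∃ E U : Subgroup G, KappaShape M E K U := by
  obtain ⟨E, hE, hKE⟩ := exists_compl_ge hG hM hK.1 fun l hl hd =>
    ((mem_kappa_iff hG hM).1 (hK.2.1 l hl hd)).2.1
  exact ⟨E, exists_kappaShape hG hM hE hK hKE hK1⟩

end Cfsg.Agent.BGSigma
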