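import Cfsg.Agent.BGSigma.KappaBasic

/-!
BG 14: a line of `τ₃(M)` with fixed points on `M_σ` makes the complement act in a prime manner.
-/

set_option autoImplicit false

namespace Cfsg.Agent.BGSigma

open Cfsg Subgroup
open scoped commutatorElement Pointwise

universe u

variable {G : Type u} [Group G] [Finite G]

omit [Finite G] in
/-- Commutators with an element centralising `V` centralise `V`. -/
theorem commutator_le_centralizer_of_centralizing {A B V : Subgroup G}
    (hA : A ≤ normalizer (V : Set G)) (hB : B ≤ centralizer (V : Set G)) :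
    ⁅A, B⁆ ≤ centralizer (V : Set G) := by
  rw [commutator_le]
  intro a ha b hb
  rw [commutatorElement_def]
  exact mul_mem ((mem_normalizer_iff.1
    (Coprime.le_normalizer_centralizer (le_refl (normalizer (V : Set G))) (hA ha)) b).1 (hB hb))
    (inv_mem (hB hb))

theorem commutator_eq_of_moved {Q f : Subgroup G} {q : ℕ} (hq : q.Prime) (hQc : Nat.card Q = q)
    (hn : f ≤ normalizer (Q : Set G)) (hmove : ¬ f ≤ centralizer (Q : Set G)) : ⁅Q, f⁆ = Q := by
  haveI := Fact.mk hq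
  have hle := Coprime.commutator_le_of_le_normalizer hn
  refine eq_of_le_of_card_ge hle ?_
  rcases (Nat.dvd_prime hq).1 (hQc ▸ card_dvd_of_le hle) with h1 | h1
  · exact absurd (le_centralizer_iff.1 (commutator_eq_bot_iff_le_centralizer.1
      (eq_bot_of_card_eq _ h1))) hmove
  · rw [hQc, h1]

variable (hG : IsMinSimpleOddOrder G)
include hG

/-- BG 3.4 on `M_σ`. -/
theorem commutator_le_centralizer_core {M W R : Subgroup G} (hM : IsCoatom M) (hWR : W ⊔ R ≤ M)
    (hWs : ∀ l : ℕ, l.Prime → l ∣ Nat.card (W ⊔ R : Subgroup G) → l ∉ sigma M)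
    (hRW : R ≤ normalizer (W : Set G)) (hR : (Nat.card R).Prime)
    (hco : (Nat.card W).Coprime (Nat.card R))
    (hfix : sigmaCore M ⊓ centralizer (R : Set G) ≤ centralizer (W : Set G)) :
    ⁅W, R⁆ ≤ centralizer (sigmaCore M : Set G) := by
  have hs : Group.IsSolvable (W ⊔ R : Subgroup G) := coatom_isSolvable_le hG hM hWR
  rw [le_centralizer_iff]
  refine le_of_sylow_le fun s hs' hd => ?_
  haveI := Fact.mk hs'
  have hsM : s ∈ sigma M := isPiSub_sigmaCore M s hs' hd
  have hnσ := hWR.trans (le_normalizer_sigmaCore M)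
  obtain ⟨T, hT⟩ := Coprime.exists_invariant_sylow (W ⊔ R) (sigmaCore M) hnσ
    (Nat.coprime_of_dvd fun l hl h1 h2 => hWs l hl h1 (isPiSub_sigmaCore M l hl h2))
    (Or.inl hs) s
  refine ⟨T, le_centralizer_iff.1 (commutator_le_centralizer_of_pgroup_fixed
    (localInputs hG).fixedPoint hG.1 (T.isPGroup'.map _) (le_sup_left.trans hT)
    (le_sup_right.trans hT) hRW hR
    (fun h0 => hWs s hs' (h0.trans (card_dvd_of_le le_sup_left)) hsM)
    (fun h0 => hWs s hs' (h0.trans (card_dvd_of_le le_sup_right)) hsM) hco hs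
    ((inf_le_inf_right _ (map_subtype_le _)).trans hfix))⟩

/-- A line moving a line `Q` of `τ₃(M)` has fixed points on `M_σ` that `Q` moves. -/
theorem moving_not_le {M E Q f : Subgroup G} {p q : ℕ} [hp : Fact p.Prime] [hq : Fact q.Prime]
    (hM : IsCoatom M) (hE : IsComplIn E (sigmaCore M) M) (hq3 : q ∈ tau3 M) (hQE : Q ≤ E)
    (hQc : Nat.card Q = q) (hfE : f ≤ E) (hfc : Nat.card f = p)
    (hmove : ¬ f ≤ centralizer (Q : Set G)) :
    ¬ sigmaCore M ⊓ centralizer (f : Set G) ≤ centralizer (Q : Set G) := fun hle => by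
  have hEQ := compl_le_normalizer_tau3 hG hM hE hq3 hQE hQc
  have hqp : q ≠ p := fun h0 => hmove (by
    subst h0
    haveI := isCyclic_of_prankLE_one hG hq3.2.2.2
      (IsPGroup.to_sup_of_normal_left' (isPGroup_of_prime_card hQc) (isPGroup_of_prime_card hfc)
        (hfE.trans hEQ)) ((sup_le hQE hfE).trans hE.1)
    exact (le_sup_right.trans (le_centralizer_self_of_comm inferInstance)).trans
      (centralizer_anti le_sup_left))
  have h1 := commutator_le_centralizer_core hG hM ((sup_le hQE hfE).trans hE.1)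
    (fun l hl hd => BGTwelve.not_mem_sigma_of_dvd hG hM hE hl (hd.trans
      (card_dvd_of_le (sup_le hQE hfE)))) (hfE.trans hEQ) (hfc ▸ hp.out)
    (by rw [hQc, hfc]; exact (Nat.coprime_primes hq.out hp.out).2 hqp) hle
  rw [commutator_eq_of_moved hq.out hQc (hfE.trans hEQ) hmove, le_centralizer_iff] at h1
  have hne : sigmaCore M ⊓ centralizer (Q : Set G) ≠ ⊥ := by
    rw [inf_eq_left.2 h1]
    exact sigmaCore_ne_bot hG (localInputs hG).uniq smallRankFrattini fittingRankTwoDerived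
      rankTwoLargestPrime hM
  obtain ⟨L, hL, hNL, hqL, -⟩ :=
    exists_partner hG hM hq3.2.1 hq3.2.2.2 (hQE.trans hE.1) hQc hne
  have hML : M ≤ L := by
    rw [← BGTwelve.compl_sup_eq hE]
    exact sup_le (hEQ.trans hNL) ((h1.trans (centralizer_le_normalizer _)).trans hNL)
  exact hq3.2.1 (((hM.le_iff.1 hML).resolve_left hL.1) ▸ hqL)

/-- Conjugate a `σ(M)'`-subgroup into the complement without moving `P ≤ E`. -/
theorem exists_conj_fixing {M E P R : Subgroup G} (hM : IsCoatom M)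
    (hE : IsComplIn E (sigmaCore M) M) (hPE : P ≤ E) (hRM : R ≤ M)
    (hRP : R ≤ centralizer (P : Set G))
    (hs : ∀ l : ℕ, l.Prime → l ∣ Nat.card R → l ∉ sigma M) :
    ∃ m ∈ sigmaCore M ⊓ centralizer (P : Set G),
      R.map (MulAut.conj m).toMonoidHom ≤ E ⊓ centralizer (P : Set G) := by
  obtain ⟨m, hm, hmY⟩ := BGTwelve.exists_conj_le_compl hG hM hE
    (sup_le (hPE.trans hE.1) hRM : P ⊔ R ≤ M) fun l hl hd => by
      rcases prime_dvd_sup (hRP.trans (centralizer_le_normalizer _)) hl hd with h1 | h1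
      · exact BGTwelve.not_mem_sigma_of_dvd hG hM hE hl (h1.trans (card_dvd_of_le hPE))
      · exact hs l hl h1
  have hmC : m ∈ centralizer (P : Set G) := mem_centralizer_iff.2 fun x hx => by
    have h1 : m * x * m⁻¹ * x⁻¹ ∈ E ⊓ sigmaCore M := by
      refine ⟨E.mul_mem (hmY x (mem_sup_left hx)) (E.inv_mem (hPE hx)), ?_⟩
      rw [show m * x * m⁻¹ * x⁻¹ = m * (x * m⁻¹ * x⁻¹) by group]
      exact (sigmaCore M).mul_mem hm ((mem_normalizer_iff.1
        (le_normalizer_sigmaCore M (hE.1 (hPE hx))) _).1 ((sigmaCore M).inv_mem hm))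
    rw [hE.2.2.1, Subgroup.mem_bot, mul_inv_eq_one, mul_inv_eq_iff_eq_mul] at h1
    exact h1.symm
  refine ⟨m, ⟨hm, hmC⟩, ?_⟩
  rintro _ ⟨x, hx, rfl⟩
  exact ⟨hmY x (mem_sup_right hx),
    (centralizer (P : Set G)).mul_mem ((centralizer (P : Set G)).mul_mem hmC (hRP hx))
      ((centralizer (P : Set G)).inv_mem hmC)⟩

/-- The `τ₃(M)`-subgroups of a complement commute. -/
theorem le_centralizer_tau3 {M E A B : Subgroup G} (hM : IsCoatom M)
    (hE : IsComplIn E (sigmaCore M) M) (hAE : A ≤ E) (hBE : B ≤ E)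
    (hA : ∀ l : ℕ, l.Prime → l ∣ Nat.card A → l ∈ tau3 M)
    (hB : ∀ l : ℕ, l.Prime → l ∣ Nat.card B → l ∈ tau3 M) : A ≤ centralizer (B : Set G) := by
  haveI := BGTwelve.compl_isSolvable hG hM hE
  obtain ⟨F', hF'⟩ := Solvable.exists_isPiHall (G := E) (tau3 M)
  have hF := Coprime.isPiHallOf_map_subtype hF'
  obtain ⟨hFc, -, hFn⟩ := BGTwelve.hall_tau3 hG hM hE hF
  haveI := hFc
  exact ((le_of_normal_hall hF hFn hAE hA).trans (le_centralizer_self_of_comm inferInstance)).trans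
    (centralizer_anti (le_of_normal_hall hF hFn hBE hB))

/-- The cyclic Hall `τ₁(M)`-subgroup of `E` over a given `τ₁(M)`-subgroup. -/
theorem exists_tau1_hall {M E A : Subgroup G} (hM : IsCoatom M)
    (hE : IsComplIn E (sigmaCore M) M) (hAE : A ≤ E)
    (hA : ∀ l : ℕ, l.Prime → l ∣ Nat.card A → l ∈ tau1 M) :
    ∃ F : Subgroup G, IsPiHallOf (tau1 M) F E ∧ IsCyclic F ∧ A ≤ F ∧
      ∀ B : Subgroup G, B ≤ E → (∀ l : ℕ, l.Prime → l ∣ Nat.card B → l ∈ tau1 M) →
        ∃ b ∈ E, B.map (MulAut.conj b).toMonoidHom ≤ F := by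
  haveI := BGTwelve.compl_isSolvable hG hM hE
  obtain ⟨F', hF', hAF⟩ := Solvable.exists_isPiHall_ge (G := E) (π := tau1 M) (A.subgroupOf E)
    (fun l hl hd => hA l hl (by rwa [Nat.card_congr (subgroupOfEquivOfLe hAE).toEquiv] at hd))
  set F := F'.map E.subtype with hF
  have hFH : IsPiHallOf (tau1 M) F E := Coprime.isPiHallOf_map_subtype hF'
  refine ⟨F, hFH, isCyclic_of_tau1 hG (hFH.1.trans hE.1) hFH.2.1,
    fun x hx => ⟨⟨x, hAE hx⟩, hAF hx, rfl⟩, fun B hBE hB => ?_⟩
  obtain ⟨b, hb⟩ := Solvable.le_conj_isPiHall (G := E) hF' (B.subgroupOf E)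
    (fun l hl hd => hB l hl (by rwa [Nat.card_congr (subgroupOfEquivOfLe hBE).toEquiv] at hd))
  refine ⟨(b : G)⁻¹, inv_mem b.2, ?_⟩
  rintro _ ⟨x, hx, rfl⟩
  have h1 := hb (show (⟨x, hBE hx⟩ : E) ∈ B.subgroupOf E from hx)
  rw [mem_pointwise_smul_iff_inv_smul_mem] at h1
  exact ⟨_, h1, by simp [mul_assoc]⟩

/-- Some element of `τ₁(M)` of the complement moves each line of `τ₃(M)`. -/
theorem exists_mover_tau3 {M E Q : Subgroup G} {q : ℕ} [hq : Fact q.Prime] (hM : IsCoatom M)
    (hE : IsComplIn E (sigmaCore M) M) (hq3 : q ∈ tau3 M) (hQE : Q ≤ E) (hQc : Nat.card Q = q)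
    (hne : sigmaCore M ⊓ centralizer (Q : Set G) ≠ ⊥) :
    ∃ e ∈ E, (∃ r n : ℕ, r ∈ tau1 M ∧ orderOf e = r ^ n ∧ n ≠ 0) ∧
      e ∉ centralizer (Q : Set G) := by
  haveI := BGTwelve.compl_isSolvable hG hM hE
  have hτ := tau2_empty_of_tau3 hG hM hq3 (hQE.trans hE.1) hQc hne
  by_contra hno
  push Not at hno
  have hEQ : E ≤ centralizer (Q : Set G) := le_of_sylow_le fun r hr hd => by
    haveI := Fact.mk hr
    refine ⟨default, ?_⟩
    set T := ((default : Sylow r E) : Subgroup E).map E.subtype with hT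
    have hTE : T ≤ E := map_subtype_le _
    have hTp : IsPGroup r T := (default : Sylow r E).isPGroup'.map _
    have hrs : r ∉ sigma M := BGTwelve.not_mem_sigma_of_dvd hG hM hE hr hd
    have hr1 : PRankLE r 1 M := by_contra fun hc =>
      hτ r ⟨hr, hrs, not_sigma_rank_two hG (localInputs hG).uniq hM hr hrs, hc⟩
    rcases tau13_cases hG hr hrs (hd.trans (card_dvd_of_le hE.1)) hr1 with h1 | h3
    · intro e he
      obtain ⟨n, hn⟩ := IsPGroup.iff_orderOf.1 hTp ⟨e, he⟩
      rw [Subgroup.orderOf_mk] at hn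
      rcases Nat.eq_zero_or_pos n with rfl | hn0
      · rw [pow_zero, orderOf_eq_one_iff] at hn
        rw [hn]; exact one_mem _
      · exact hno e (hTE he) ⟨r, n, h1, hn, hn0.ne'⟩
    · refine le_centralizer_tau3 hG hM hE hTE hQE (fun l hl hl' => ?_) (fun l hl hl' => ?_)
      · rw [eq_of_dvd_card_pgroup hTp hl hl']; exact h3
      · rw [hQc, Nat.prime_dvd_prime_iff_eq hl hq.out] at hl'
        exact hl' ▸ hq3
  obtain ⟨F₁', hF₁'⟩ := Solvable.exists_isPiHall (G := E) (tau1 M)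
  obtain ⟨F₃', hF₃'⟩ := Solvable.exists_isPiHall (G := E) (tau3 M)
  set F₁ := F₁'.map E.subtype with hF₁0
  set F₃ := F₃'.map E.subtype with hF₃0
  have hF₁ : IsPiHallOf (tau1 M) F₁ E := Coprime.isPiHallOf_map_subtype hF₁'
  have hF₃ : IsPiHallOf (tau3 M) F₃ E := Coprime.isPiHallOf_map_subtype hF₃'
  haveI : IsCyclic F₁ := isCyclic_of_tau1 hG (hF₁.1.trans hE.1) hF₁.2.1
  obtain ⟨hF₃c, hF₃d, hF₃n⟩ := BGTwelve.hall_tau3 hG hM hE hF₃
  haveI := hF₃c
  have hn : F₁ ≤ normalizer (F₃ : Set G) := hF₁.1.trans hF₃n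
  have hsup : E ≤ F₁ ⊔ F₃ := by
    rw [← relIndex_eq_one, Nat.eq_one_iff_not_exists_prime_dvd]
    intro l hl hd
    have hlE : l ∣ Nat.card E := hd.trans (relIndex_dvd_card _ _)
    have hls : l ∉ sigma M := BGTwelve.not_mem_sigma_of_dvd hG hM hE hl hlE
    have hl1 : PRankLE l 1 M := by_contra fun hc =>
      hτ l ⟨hl, hls, not_sigma_rank_two hG (localInputs hG).uniq hM hl hls, hc⟩
    rcases tau13_cases hG hl hls (hlE.trans (card_dvd_of_le hE.1)) hl1 with h1 | h3
    · exact hF₁.2.2 l hl h1 (hd.trans ⟨_, (relIndex_mul_relIndex F₁ _ _ le_sup_left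
        (sup_le hF₁.1 hF₃.1)).symm.trans (mul_comm _ _)⟩)
    · exact hF₃.2.2 l hl h3 (hd.trans ⟨_, (relIndex_mul_relIndex F₃ _ _ le_sup_right
        (sup_le hF₁.1 hF₃.1)).symm.trans (mul_comm _ _)⟩)
  have hd : ⁅E, E⁆ ≤ ⁅F₃, F₁⁆ := by
    refine (commutator_mono hsup hsup).trans ((BGTwelve.derived_sup_le hn).trans ?_)
    rw [commutator_eq_bot_iff_le_centralizer.2 (le_centralizer_self_of_comm (inferInstance : IsMulCommutative F₁)),
      commutator_eq_bot_iff_le_centralizer.2 (le_centralizer_self_of_comm (inferInstance : IsMulCommutative F₃)),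
      bot_sup_eq, bot_sup_eq]
  have hQF : Q ≤ F₃ := le_of_normal_hall hF₃ hF₃n hQE fun l hl hl' => by
    rw [hQc, Nat.prime_dvd_prime_iff_eq hl hq.out] at hl'
    exact hl' ▸ hq3
  have hQ : Q ≤ ⁅F₃, F₁⁆ ⊓ centralizer (F₁ : Set G) :=
    le_inf ((hQF.trans hF₃d).trans hd) (le_centralizer_iff.1 (hF₁.1.trans hEQ))
  rw [Coprime.commutator_inf_centralizer_eq_bot F₁ F₃ hn (Nat.coprime_of_dvd fun l hl h1 h3 =>
    (hF₁.2.1 l hl h1).2.2.2.1 (hF₃.2.1 l hl h3).2.2.1)] at hQ
  exact ne_bot_of_prime_card hq.out hQc (le_bot_iff.1 hQ)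

/-- A line of `τ₁(M)` fixing a line `Q` of `τ₃(M)` with fixed points has the same fixed points. -/
theorem fixed_eq_of_fix {M E Q f : Subgroup G} {p q : ℕ} [hp : Fact p.Prime] [hq : Fact q.Prime]
    (hM : IsCoatom M) (hE : IsComplIn E (sigmaCore M) M) (hq3 : q ∈ tau3 M) (hQE : Q ≤ E)
    (hQc : Nat.card Q = q) (hne : sigmaCore M ⊓ centralizer (Q : Set G) ≠ ⊥) (hp1 : p ∈ tau1 M)
    (hfE : f ≤ E) (hfc : Nat.card f = p) (hfix : f ≤ centralizer (Q : Set G)) :
    sigmaCore M ⊓ centralizer (f : Set G) = sigmaCore M ⊓ centralizer (Q : Set G) := by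
  have hEQ := compl_le_normalizer_tau3 hG hM hE hq3 hQE hQc
  have hle : sigmaCore M ⊓ centralizer (f : Set G) ≤ centralizer (Q : Set G) :=
    fixed_le_of_tau1 hG hM hp1 (hfE.trans hE.1) hfc (hQE.trans hE.1)
      (le_centralizer_iff.1 hfix) hQc hq3.2.1
  refine le_antisymm (le_inf inf_le_left hle) ?_
  obtain ⟨e, he, ⟨r, n, hr1, heo, hn⟩, hemove⟩ := exists_mover_tau3 hG hM hE hq3 hQE hQc hne
  haveI := Fact.mk hr1.1
  obtain ⟨F, hFH, hFc, hfF, hconj⟩ := exists_tau1_hall hG hM hE hfE fun l hl hd => by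
    rw [hfc, Nat.prime_dvd_prime_iff_eq hl hp.out] at hd
    exact hd ▸ hp1
  haveI := hFc
  obtain ⟨b, hb, hbF⟩ := hconj (zpowers e) (zpowers_le.2 he) fun l hl hd => by
    rw [Nat.card_zpowers, heo] at hd
    rw [(Nat.prime_dvd_prime_iff_eq hl hr1.1).1 (hl.dvd_of_dvd_pow hd)]
    exact hr1
  set v := b * e * b⁻¹ with hv
  have hvF : v ∈ F := le_of_conj_map hbF (mem_zpowers e)
  have hvE : v ∈ E := hFH.1 hvF
  have hvmove : v ∉ centralizer (Q : Set G) := fun hc => hemove (by
    have h1 := (mem_normalizer_iff.1 (Coprime.le_normalizer_centralizer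
      (le_refl (normalizer (Q : Set G))) (inv_mem (hEQ hb))) v).1 hc
    rwa [show b⁻¹ * v * b⁻¹⁻¹ = e by rw [hv]; group] at h1)
  set W := zpowers v with hW
  have hWp : IsPGroup r W := IsPGroup.of_card (n := n) (by
    rw [hW, Nat.card_zpowers, hv, show b * e * b⁻¹ = MulAut.conj b e from rfl, MulEquiv.orderOf_eq, heo])
  haveI : IsCyclic W := by rw [hW]; infer_instance
  obtain ⟨g, hgW, hgc, -, -⟩ := exists_order_prime_of_cyclic hWp inferInstance
    (fun h0 => hvmove (by
      have : v ∈ W := mem_zpowers v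
      rw [h0, Subgroup.mem_bot] at this
      rw [this]; exact one_mem _))
  have hWF : W ≤ F := zpowers_le.2 hvF
  have hgF : g ≤ F := hgW.trans hWF
  have hFF : F ≤ centralizer (F : Set G) := le_centralizer_self_of_comm inferInstance
  have hgE : g ≤ E := hgF.trans hFH.1
  have hgM : g ≤ M := hgE.trans hE.1
  -- the two lines have the same fixed points
  have hfg : sigmaCore M ⊓ centralizer (g : Set G) ≤ centralizer (f : Set G) :=
    fixed_le_of_tau1 hG hM hr1 hgM hgc (hfE.trans hE.1)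
      ((hfF.trans hFF).trans (centralizer_anti hgF)) hfc hp1.2.1
  have hgfix : g ≤ centralizer (Q : Set G) := by_contra fun hmove =>
    moving_not_le hG hM hE hq3 hQE hQc hgE hgc hmove ((le_inf inf_le_left hfg).trans hle)
  refine le_inf inf_le_left ((le_inf inf_le_left ?_).trans hfg)
  -- `g` centralises the fixed points of `Q`
  obtain ⟨L, hL, hNL, hqL, hQσ⟩ :=
    exists_partner hG hM hq3.2.1 hq3.2.2.2 (hQE.trans hE.1) hQc hne
  set Y := sigmaCore M ⊓ centralizer (Q : Set G) with hY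
  have hgL : g ≤ L := (hgfix.trans (centralizer_le_normalizer _)).trans hNL
  have hYL : Y ≤ L := (inf_le_right.trans (centralizer_le_normalizer _)).trans hNL
  have hgY : g ≤ normalizer (Y : Set G) := Coprime.le_normalizer_inf
    (hgM.trans (le_normalizer_sigmaCore M))
    ((hgE.trans hEQ).trans (Coprime.le_normalizer_centralizer le_rfl))
  by_cases hrL : r ∈ sigma L
  · refine commutator_eq_bot_iff_le_centralizer.1 (le_bot_iff.1 ?_)
    rw [← sigmaCore_inf_sigmaCore hG hM hL hqL hq3.2.1]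
    refine le_inf ((Coprime.commutator_le_of_le_normalizer hgY).trans inf_le_left) ?_
    exact (commutator_mono le_rfl (le_sigmaCore_of_pgroup hG hL hrL
      (isPGroup_of_prime_card hgc) hgL)).trans (Subgroup.le_normalizer_iff_commutator_le_right.1
        (hYL.trans (le_normalizer_sigmaCore L)))
  · by_cases hr : PRankLE r 1 L
    · exfalso
      have hWL : W ≤ L := zpowers_le.2 (hNL (hEQ hvE))
      exact hvmove (le_centralizer_iff.1 ((le_inf hQσ (le_centralizer_iff.1 hgfix)).trans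
        (fixed_le_of_pgroup hG hL hrL hr hgL hgc hWp hWL
          ((hWF.trans hFF).trans (centralizer_anti hgF)))) (mem_zpowers v))
    · exact le_centralizer_of_tau2 hG (localInputs hG) hL
        ⟨hr1.1, hrL, not_sigma_rank_two hG (localInputs hG).uniq hL hr1.1 hrL, hr⟩ hgL hgc hYL
        (fun hd => hr1.2.1 (isPiSub_sigmaCore M r hr1.1 (hd.trans (card_dvd_of_le inf_le_left))))
        (fun l hl hd => sigma_disjoint hG hM hL hqL hq3.2.1
          (isPiSub_sigmaCore M l hl (hd.trans (card_dvd_of_le inf_le_left)))) hgY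

/-- The fixed points of a mover are not inside a partner of `Q` containing `E`. -/
theorem false_of_fixed_le {M E L Q f : Subgroup G} {p q : ℕ} [hp : Fact p.Prime] [hq : Fact q.Prime]
    (hM : IsCoatom M) (hE : IsComplIn E (sigmaCore M) M) (hL : IsCoatom L) (hq3 : q ∈ tau3 M)
    (hQE : Q ≤ E) (hQc : Nat.card Q = q) (hNL : normalizer (Q : Set G) ≤ L) (hqL : q ∈ sigma L)
    (hfE : f ≤ E) (hfc : Nat.card f = p) (hmove : ¬ f ≤ centralizer (Q : Set G))
    (hle : sigmaCore M ⊓ centralizer (f : Set G) ≤ L) : False := by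
  refine moving_not_le hG hM hE hq3 hQE hQc hfE hfc hmove ?_
  refine commutator_eq_bot_iff_le_centralizer.1 (le_bot_iff.1 ?_)
  rw [← sigmaCore_inf_sigmaCore hG hM hL hqL hq3.2.1]
  refine le_inf ((commutator_mono inf_le_left le_rfl).trans
    (Coprime.commutator_le_of_le_normalizer ((hQE.trans hE.1).trans (le_normalizer_sigmaCore M)))) ?_
  exact (commutator_mono le_rfl (le_sigmaCore_of_pgroup hG hL hqL (isPGroup_of_prime_card hQc)
    (le_normalizer.trans hNL))).trans (Subgroup.le_normalizer_iff_commutator_le_right.1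
      (hle.trans (le_normalizer_sigmaCore L)))

/-- A line of `τ₁` in both `M` and `L` with fixed points in both, when `E ≤ L`. -/
theorem fixed_le_of_both {M E L f : Subgroup G} {p : ℕ} [hp : Fact p.Prime] (hM : IsCoatom M)
    (hE : IsComplIn E (sigmaCore M) M) (hL : IsCoatom L) (hEL : E ≤ L)
    (hdis : ∀ l : ℕ, l ∈ sigma L → l ∉ sigma M) (hp1 : p ∈ tau1 M) (hp1L : p ∈ tau1 L)
    (hfE : f ≤ E) (hfc : Nat.card f = p)
    (hYM : sigmaCore M ⊓ centralizer (f : Set G) ≠ ⊥)
    (hYL : sigmaCore L ⊓ centralizer (f : Set G) ≠ ⊥) :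
    sigmaCore M ⊓ centralizer (f : Set G) ≤ L := by
  have hfM : f ≤ M := hfE.trans hE.1
  have hfL : f ≤ L := hfE.trans hEL
  obtain ⟨Lf, hLf, hNf, hpLf, hfσ⟩ := exists_partner hG hM hp1.2.1 hp1.2.2.2.2 hfM hfc hYM
  obtain ⟨t, ht, w, hw, hwo⟩ := exists_prime_line hYM
  obtain ⟨l, hl, z, hz, hzo⟩ := exists_prime_line hYL
  haveI := Fact.mk ht
  haveI := Fact.mk hl
  have htM : t ∈ sigma M :=
    isPiSub_sigmaCore M t ht (hwo ▸ Subgroup.orderOf_dvd_natCard _ hw.1)
  have hlL : l ∈ sigma L :=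
    isPiSub_sigmaCore L l hl (hzo ▸ Subgroup.orderOf_dvd_natCard _ hz.1)
  have hlM : l ∉ sigma M := hdis l hlL
  have htl : t ≠ l := fun h0 => hlM (h0 ▸ htM)
  set C := centralizer (f : Set G) with hC
  have hCLf : C ≤ Lf := (centralizer_le_normalizer _).trans hNf
  have hW : Nat.card (zpowers w) = t := by rw [Nat.card_zpowers, hwo]
  have hZ : Nat.card (zpowers z) = l := by rw [Nat.card_zpowers, hzo]
  have htr := (fixer_rank_one hG hM hLf hp1.2.1 hpLf hfM hfc (zpowers_le.2 hw.1) hW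
    (zpowers_le.2 hw.2) (zpowers_le.2 (hCLf hw.2)) (le_normalizer.trans hNf)).2.1
  have hlr := (fixer_rank_one hG hL hLf hp1L.2.1 hpLf hfL hfc (zpowers_le.2 hz.1) hZ
    (zpowers_le.2 hz.2) (zpowers_le.2 (hCLf hz.2)) (le_normalizer.trans hNf)).2.1
  have hNw : normalizer (zpowers w : Set G) ≤ M := normalizer_le_of_fixed hG hM hp1.2.1
    hp1.2.2.2.2 hfM hfc (zpowers_le.2 hw.1) hW (zpowers_le.2 hw.2)
  have hNz : normalizer (zpowers z : Set G) ≤ L := normalizer_le_of_fixed hG hL hp1L.2.1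
    hp1L.2.2.2.2 hfL hfc (zpowers_le.2 hz.1) hZ (zpowers_le.2 hz.2)
  haveI : Group.IsSolvable C := coatom_isSolvable_le hG hLf hCLf
  set π : Set ℕ := {t, l} with hπ
  obtain ⟨H', hH', hwH'⟩ := Solvable.exists_isPiHall_ge (G := C) (π := π)
    ((zpowers w).subgroupOf C) (fun k hk hd => by
      rw [Nat.card_congr (subgroupOfEquivOfLe (zpowers_le.2 hw.2)).toEquiv, hW,
        Nat.prime_dvd_prime_iff_eq hk ht] at hd
      exact Or.inl hd)
  obtain ⟨b, hb⟩ := Solvable.le_conj_isPiHall (G := C) hH' ((zpowers z).subgroupOf C)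
    (fun k hk hd => by
      rw [Nat.card_congr (subgroupOfEquivOfLe (zpowers_le.2 hz.2)).toEquiv, hZ,
        Nat.prime_dvd_prime_iff_eq hk hl] at hd
      exact Or.inr hd)
  set H := H'.map C.subtype with hH
  have hHC : H ≤ C := map_subtype_le _
  have hwH : w ∈ H := ⟨⟨w, hw.2⟩, hwH' (mem_zpowers w), rfl⟩
  set z' := (b : G)⁻¹ * z * b with hz'
  have hz'H : z' ∈ H := by
    have h1 := hb (show (⟨z, hz.2⟩ : C) ∈ (zpowers z).subgroupOf C from mem_zpowers z)
    rw [mem_pointwise_smul_iff_inv_smul_mem] at h1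
    exact ⟨_, h1, by simp [hz', mul_assoc]⟩
  have hz'o : orderOf z' = l := by
    rw [hz', show (b : G)⁻¹ * z * b = MulAut.conj (b : G)⁻¹ z by simp, MulEquiv.orderOf_eq, hzo]
  have hHr : RankLE 1 H := fun k hk => by
    by_cases hd : k ∣ Nat.card H
    · rw [hH, card_map_of_injective C.subtype_injective] at hd
      rcases hH'.1 k hk hd with rfl | h1
      · exact prankLE_subgroup (hHC.trans hCLf) htr
      · rw [Set.mem_singleton_iff.1 h1]
        exact prankLE_subgroup (hHC.trans hCLf) hlr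
    · exact prankLE_of_not_dvd hk hd
  obtain ⟨D, hDH, hDp, hHD, hDu⟩ := exists_normal_prime hG (H := H)
    (fun h0 => ht.ne_one (by
      rw [h0, Subgroup.mem_bot] at hwH; rw [← hwo, hwH, orderOf_one])) hHr
  have hz'M : z' ∈ M := by
    have hDl : Nat.card D ∈ π := by
      refine hH'.1 _ hDp ?_
      rw [← card_map_of_injective (K := H') C.subtype_injective]
      exact card_dvd_of_le hDH
    rcases hDl with hD1 | hD1
    · rw [← hDu _ (zpowers_le.2 hwH) (hW.trans hD1.symm)] at hHD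
      exact hNw (hHD hz'H)
    · have hD1' : Nat.card D = l := hD1
      rw [← hDu _ (zpowers_le.2 hz'H) (by rw [Nat.card_zpowers, hz'o, hD1'])] at hHD
      set w' := (b : G) * w * (b : G)⁻¹ with hw'
      have hw'L : w' ∈ L := by
        refine hNz ?_
        rw [mem_normalizer_iff_map_conj_eq]
        have h1 := map_conj_eq_self (hHD hwH)
        have h2 : zpowers z' = (zpowers z).map (MulAut.conj (b : G)⁻¹).toMonoidHom := by
          rw [MonoidHom.map_zpowers]; simp [hz']
        rw [h2, map_conj_comp] at h1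
        have h3 := congrArg (fun X => X.map (MulAut.conj (b : G)).toMonoidHom) h1
        simp only [map_conj_comp, mul_inv_cancel, map_conj_one] at h3
        rwa [show (b : G) * (w * (b : G)⁻¹) = w' by rw [hw', mul_assoc]] at h3
      have hw'C : zpowers w' ≤ C := zpowers_le.2 (C.mul_mem (C.mul_mem b.2 hw.2) (C.inv_mem b.2))
      have hw'o : Nat.card (zpowers w') = t := by
        rw [Nat.card_zpowers, hw', show (b : G) * w * (b : G)⁻¹ = MulAut.conj (b : G) w from rfl,
          MulEquiv.orderOf_eq, hwo]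
      have hzc := fixed_le_of_tau1 hG hL hp1L hfL hfc (zpowers_le.2 hw'L) hw'C hw'o
        (fun h0 => hdis t h0 htM) hz
      have hcomm : w' * z = z * w' := mem_centralizer_iff.1 hzc w' (mem_zpowers w')
      refine hNw (centralizer_le_normalizer _ ?_)
      rw [BGTwelve.centralizer_zpowers_eq, mem_centralizer_singleton_iff]
      calc z' * w = (b : G)⁻¹ * (z * w') * b := by rw [hz', hw']; group
        _ = (b : G)⁻¹ * (w' * z) * b := by rw [hcomm]
        _ = w * z' := by rw [hz', hw']; group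
  set R := zpowers z' with hR
  have hRC : R ≤ C := zpowers_le.2 (hHC hz'H)
  have hRc : Nat.card R = l := by rw [hR, Nat.card_zpowers, hz'o]
  obtain ⟨m, hm, hmR⟩ := exists_conj_fixing hG hM hE hfE (zpowers_le.2 hz'M : R ≤ M) hRC
    fun k hk hd => by
      rw [eq_of_dvd_card_pgroup (isPGroup_of_prime_card hRc) hk hd]; exact hlM
  set R' := R.map (MulAut.conj m).toMonoidHom with hR'
  have hR'c : Nat.card R' = l := (card_map_conj R m).trans hRc
  have hkey := fixed_le_of_tau1 hG hM hp1 hfM hfc ((hmR.trans inf_le_left).trans hE.1)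
    (hmR.trans inf_le_right) hR'c hlM
  refine hkey.trans ?_
  set g := m * (b : G)⁻¹ with hg
  have hR'z : R' = (zpowers z).map (MulAut.conj g).toMonoidHom := by
    have h2 : R = (zpowers z).map (MulAut.conj (b : G)⁻¹).toMonoidHom := by
      rw [hR, MonoidHom.map_zpowers]; simp [hz']
    rw [hR', h2, map_conj_comp]
  have hCg : centralizer (R' : Set G) ≤ L.map (MulAut.conj g).toMonoidHom := by
    rw [hR'z, map_conj_centralizer]
    exact map_mono ((centralizer_le_normalizer _).trans hNz)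
  rwa [← eq_of_sigma_line hG (isCoatom_map_conj hL g) hL (sigma_conj_iff.2 hlL) hlL hR'c hCg
    ((hmR.trans inf_le_left).trans hEL)] at hCg

/-- A mover of `Q` commutes with no line of `τ₃(M)`. -/
theorem false_of_commuting_tau3 {M E Q f R : Subgroup G} {p q l : ℕ} [hp : Fact p.Prime]
    [hq : Fact q.Prime] [hl : Fact l.Prime] (hM : IsCoatom M) (hE : IsComplIn E (sigmaCore M) M)
    (hq3 : q ∈ tau3 M) (hQE : Q ≤ E) (hQc : Nat.card Q = q) (hp1 : p ∈ tau1 M)
    (hfE : f ≤ E) (hfc : Nat.card f = p) (hmove : ¬ f ≤ centralizer (Q : Set G))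
    (hRM : R ≤ M) (hRc : Nat.card R = l) (hl3 : l ∈ tau3 M) (hRf : R ≤ centralizer (f : Set G)) :
    False := by
  have hEQ := compl_le_normalizer_tau3 hG hM hE hq3 hQE hQc
  obtain ⟨m, -, hmR⟩ := exists_conj_fixing hG hM hE hfE hRM hRf fun k hk hd => by
    rw [eq_of_dvd_card_pgroup (isPGroup_of_prime_card hRc) hk hd]; exact hl3.2.1
  set R' := R.map (MulAut.conj m).toMonoidHom with hR'
  have hR'c : Nat.card R' = l := (card_map_conj R m).trans hRc
  have hR'E : R' ≤ E := hmR.trans inf_le_left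
  have hle := fixed_le_of_tau1 hG hM hp1 (hfE.trans hE.1) hfc (hR'E.trans hE.1)
    (hmR.trans inf_le_right) hR'c hl3.2.1
  have hnotle := moving_not_le hG hM hE hq3 hQE hQc hfE hfc hmove
  have hne : sigmaCore M ⊓ centralizer (R' : Set G) ≠ ⊥ := fun h0 =>
    hnotle ((le_inf inf_le_left hle).trans (h0.le.trans bot_le))
  have heq := fixed_eq_of_fix hG hM hE hl3 hR'E hR'c hne hp1 hfE hfc
    (le_centralizer_iff.1 (hmR.trans inf_le_right))
  have hQR : Q ≤ centralizer (R' : Set G) := le_centralizer_tau3 hG hM hE hQE hR'E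
    (fun k hk hd => by rw [eq_of_dvd_card_pgroup (isPGroup_of_prime_card hQc) hk hd]; exact hq3)
    (fun k hk hd => by rw [eq_of_dvd_card_pgroup (isPGroup_of_prime_card hR'c) hk hd]; exact hl3)
  set V := sigmaCore M ⊓ centralizer (f : Set G) with hV
  have hQV : Q ≤ normalizer (V : Set G) := by
    rw [heq]
    exact Coprime.le_normalizer_inf ((hQE.trans hE.1).trans (le_normalizer_sigmaCore M))
      (Coprime.le_normalizer_centralizer (hQR.trans (centralizer_le_normalizer _)))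
  refine hnotle (le_centralizer_iff.1 ?_)
  rw [← commutator_eq_of_moved hq.out hQc (hfE.trans hEQ) hmove]
  exact commutator_le_centralizer_of_centralizing hQV (le_centralizer_iff.1 inf_le_right)

/-- A mover of `Q` lies in `τ₃(L)` and centralises a line of `τ₃(L)` fixed by `Q`. -/
theorem moving_cases {M E L Q f : Subgroup G} {p q : ℕ} [hp : Fact p.Prime] [hq : Fact q.Prime]
    (hM : IsCoatom M) (hE : IsComplIn E (sigmaCore M) M) (hL : IsCoatom L) (hq3 : q ∈ tau3 M)
    (hQE : Q ≤ E) (hQc : Nat.card Q = q) (hne : sigmaCore M ⊓ centralizer (Q : Set G) ≠ ⊥)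
    (hNL : normalizer (Q : Set G) ≤ L) (hqL : q ∈ sigma L) (hp1 : p ∈ tau1 M)
    (hfE : f ≤ E) (hfc : Nat.card f = p) (hmove : ¬ f ≤ centralizer (Q : Set G)) :
    p ∈ tau3 L ∧ ∃ (s : ℕ) (X : Subgroup G), s ∈ tau3 L ∧ X ≤ sigmaCore M ∧ X ≤ L ∧
      Nat.card X = s ∧ X ≤ centralizer (Q : Set G) ∧ X ≤ centralizer (f : Set G) := by
  have h := localInputs hG
  have hEQ := compl_le_normalizer_tau3 hG hM hE hq3 hQE hQc
  have hEL : E ≤ L := hEQ.trans hNL
  have hfL : f ≤ L := hfE.trans hEL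
  have hfM : f ≤ M := hfE.trans hE.1
  have hQσ : Q ≤ sigmaCore L :=
    le_sigmaCore_of_pgroup hG hL hqL (isPGroup_of_prime_card hQc) (le_normalizer.trans hNL)
  have hYne : sigmaCore M ⊓ centralizer (f : Set G) ≠ ⊥ := fun h0 =>
    moving_not_le hG hM hE hq3 hQE hQc hfE hfc hmove (h0.le.trans bot_le)
  have hpL : p ∉ sigma L := fun hpL => by
    obtain ⟨Lf, hLf, hNf, hpLf, -⟩ := exists_partner hG hM hp1.2.1 hp1.2.2.2.2 hfM hfc hYne
    refine false_of_fixed_le hG hM hE hL hq3 hQE hQc hNL hqL hfE hfc hmove ?_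
    rw [eq_of_sigma_line hG hLf hL hpLf hpL hfc ((centralizer_le_normalizer _).trans hNf) hfL]
    exact inf_le_right.trans ((centralizer_le_normalizer _).trans hNf)
  -- an invariant line of the fixed points of `Q`
  set Y := sigmaCore M ⊓ centralizer (Q : Set G) with hY
  have hfY : f ≤ normalizer (Y : Set G) := Coprime.le_normalizer_inf
    (hfM.trans (le_normalizer_sigmaCore M))
    ((hfE.trans hEQ).trans (Coprime.le_normalizer_centralizer le_rfl))
  obtain ⟨s, hs, hsd⟩ := Nat.exists_prime_and_dvd (fun h1 => hne (eq_bot_of_card_eq _ h1))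
  haveI := Fact.mk hs
  have hsM : s ∈ sigma M :=
    isPiSub_sigmaCore M s hs (hsd.trans (card_dvd_of_le inf_le_left))
  obtain ⟨T', hT'⟩ := Coprime.exists_invariant_sylow f Y hfY (by
      rw [hfc]
      exact hp.out.coprime_iff_not_dvd.2 fun hd => hp1.2.1
        (isPiSub_sigmaCore M p hp.out (hd.trans (card_dvd_of_le inf_le_left))))
    (Or.inl (coatom_isSolvable_le hG hM hfM)) s
  set T := (T' : Subgroup Y).map Y.subtype with hT
  have hTY : T ≤ Y := map_subtype_le _
  have hYL : Y ≤ L := (inf_le_right.trans (centralizer_le_normalizer _)).trans hNL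
  obtain ⟨W, hWT, hWc⟩ := exists_order_prime_line hs (show s ∣ Nat.card T by
    rw [hT, card_map_of_injective Y.subtype_injective]; exact Sylow.dvd_card_of_dvd_card T' hsd)
  obtain ⟨hsL, hsr, -⟩ := fixer_rank_one hG hM hL hq3.2.1 hqL (hQE.trans hE.1) hQc
    ((hWT.trans hTY).trans inf_le_left) hWc ((hWT.trans hTY).trans inf_le_right)
    ((hWT.trans hTY).trans hYL) (le_normalizer.trans hNL)
  haveI hTc : IsCyclic T := isCyclic_of_prankLE_one hG hsr (T'.isPGroup'.map _) (hTY.trans hYL)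
  set X := W with hX
  have hfX : f ≤ normalizer (X : Set G) := hT'.trans (BGTwelve.normalizer_le_of_isCyclic hTc hWT)
  have hXσ : X ≤ sigmaCore M := (hWT.trans hTY).trans inf_le_left
  have hXQ : X ≤ centralizer (Q : Set G) := (hWT.trans hTY).trans inf_le_right
  have hXL : X ≤ L := (hWT.trans hTY).trans hYL
  have hQX : Q ≤ sigmaCore L ⊓ centralizer (X : Set G) := le_inf hQσ (le_centralizer_iff.1 hXQ)
  have hneX : sigmaCore L ⊓ centralizer (X : Set G) ≠ ⊥ := fun h0 =>
    ne_bot_of_prime_card hq.out hQc (le_bot_iff.1 (hQX.trans h0.le))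
  have hs3 : s ∈ tau3 L := by
    rcases tau13_cases hG hs hsL (hWc ▸ card_dvd_of_le hXL) hsr with h1 | h3
    · exfalso
      by_cases hfixX : f ≤ centralizer (X : Set G)
      · exact hmove (le_centralizer_iff.1 (hQX.trans
          (fixed_le_of_tau1 hG hL h1 hXL hWc hfL hfixX hfc hpL)))
      · refine h1.2.2.2.1 (hWc ▸ card_dvd_of_le ?_)
        rw [← commutator_eq_of_moved hs hWc hfX hfixX]
        exact commutator_mono hXL hfL
    · exact h3
  have hτL := tau2_empty_of_tau3 hG hL hs3 hXL hWc hneX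
  have hpr : PRankLE p 1 L := by_contra fun hc =>
    hτL p ⟨hp.out, hpL, not_sigma_rank_two hG h.uniq hL hp.out hpL, hc⟩
  obtain ⟨EL, hEL', hYEL⟩ := exists_compl_ge hG hL (sup_le hXL hfL : X ⊔ f ≤ L) fun k hk hd => by
    rcases prime_dvd_sup hfX hk hd with h1 | h1
    · rw [eq_of_dvd_card_pgroup (isPGroup_of_prime_card hWc) hk h1]; exact hsL
    · rw [eq_of_dvd_card_pgroup (isPGroup_of_prime_card hfc) hk h1]; exact hpL
  have hXE : X ≤ EL := le_sup_left.trans hYEL
  have hfEL : f ≤ EL := le_sup_right.trans hYEL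
  rcases tau13_cases hG hp.out hpL (hfc ▸ card_dvd_of_le hfL) hpr with h1 | h3
  · exfalso
    by_cases hfixX : f ≤ centralizer (X : Set G)
    · have heq := fixed_eq_of_fix hG hL hEL' hs3 hXE hWc hneX h1 hfEL hfc hfixX
      exact hmove (le_centralizer_iff.1 ((hQX.trans heq.ge).trans inf_le_right))
    · refine false_of_fixed_le hG hM hE hL hq3 hQE hQc hNL hqL hfE hfc hmove
        (fixed_le_of_both hG hM hE hL hEL (fun k hk hkM => sigma_disjoint hG hM hL hqL hq3.2.1 hkM hk)
          hp1 h1 hfE hfc hYne fun h0 => ?_)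
      exact moving_not_le hG hL hEL' hs3 hXE hWc hfEL hfc hfixX (h0.le.trans bot_le)
  · refine ⟨h3, s, X, hs3, hXσ, hXL, hWc, hXQ, ?_⟩
    exact le_centralizer_tau3 hG hL hEL' hXE hfEL
      (fun k hk hd => by rw [eq_of_dvd_card_pgroup (isPGroup_of_prime_card hWc) hk hd]; exact hs3)
      (fun k hk hd => by rw [eq_of_dvd_card_pgroup (isPGroup_of_prime_card hfc) hk hd]; exact h3)

/-- The lines of `τ₁(M)` fix the lines of `τ₃(M)` with fixed points. -/
theorem no_mover {M E Q f : Subgroup G} {p q : ℕ} [hp : Fact p.Prime] [hq : Fact q.Prime]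
    (hM : IsCoatom M) (hE : IsComplIn E (sigmaCore M) M) (hq3 : q ∈ tau3 M) (hQE : Q ≤ E)
    (hQc : Nat.card Q = q) (hne : sigmaCore M ⊓ centralizer (Q : Set G) ≠ ⊥) (hp1 : p ∈ tau1 M)
    (hfE : f ≤ E) (hfc : Nat.card f = p) : f ≤ centralizer (Q : Set G) := by
  by_contra hmove
  have hQM : Q ≤ M := hQE.trans hE.1
  have hfM : f ≤ M := hfE.trans hE.1
  obtain ⟨L, hL, hNL, hqL, hQσ⟩ := exists_partner hG hM hq3.2.1 hq3.2.2.2 hQM hQc hne
  obtain ⟨hp3, s, X, hs3, hXσ, hXL, hXc, hXQ, hXf⟩ :=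
    moving_cases hG hM hE hL hq3 hQE hQc hne hNL hqL hp1 hfE hfc hmove
  haveI := Fact.mk hs3.1
  have hQX : Q ≤ sigmaCore L ⊓ centralizer (X : Set G) := le_inf hQσ (le_centralizer_iff.1 hXQ)
  have hneX : sigmaCore L ⊓ centralizer (X : Set G) ≠ ⊥ := fun h0 =>
    ne_bot_of_prime_card hq.out hQc (le_bot_iff.1 (hQX.trans h0.le))
  have hfL : f ≤ L := hfE.trans ((compl_le_normalizer_tau3 hG hM hE hq3 hQE hQc).trans hNL)
  obtain ⟨EL, hEL, hYEL⟩ := exists_compl_ge hG hL (sup_le hfL hXL : f ⊔ X ≤ L) fun k hk hd => by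
    rcases prime_dvd_sup (hXf.trans (centralizer_le_normalizer _)) hk hd with h1 | h1
    · rw [eq_of_dvd_card_pgroup (isPGroup_of_prime_card hfc) hk h1]; exact hp3.2.1
    · rw [eq_of_dvd_card_pgroup (isPGroup_of_prime_card hXc) hk h1]; exact hs3.2.1
  have hXE : X ≤ EL := le_sup_right.trans hYEL
  have hfEL : f ≤ EL := le_sup_left.trans hYEL
  have hNX : normalizer (X : Set G) ≤ M :=
    normalizer_le_of_fixed hG hM hq3.2.1 hq3.2.2.2 hQM hQc hXσ hXc hXQ
  have hsM : s ∈ sigma M := isPiSub_sigmaCore M s hs3.1 (hXc ▸ card_dvd_of_le hXσ)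
  obtain ⟨e, he, ⟨r, n, hr1, heo, hn⟩, hemove⟩ := exists_mover_tau3 hG hL hEL hs3 hXE hXc hneX
  haveI := Fact.mk hr1.1
  obtain ⟨g, hge, hgc⟩ := exists_order_prime_line hr1.1 (show r ∣ Nat.card (zpowers e) by
    rw [Nat.card_zpowers, heo]; exact dvd_pow_self r hn)
  have hgE : g ≤ EL := hge.trans (zpowers_le.2 he)
  have hgn : g ≤ normalizer (f : Set G) :=
    hgE.trans (compl_le_normalizer_tau3 hG hL hEL hp3 hfEL hfc)
  have hEX := compl_le_normalizer_tau3 hG hL hEL hs3 hXE hXc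
  by_cases hfixX : g ≤ centralizer (X : Set G)
  · have heq := fixed_eq_of_fix hG hL hEL hs3 hXE hXc hneX hr1 hgE hgc hfixX
    set V := sigmaCore L ⊓ centralizer (X : Set G) with hV
    refine hmove (((?_ : f ≤ centralizer (V : Set G))).trans (centralizer_anti hQX))
    have hfV : f ≤ normalizer (V : Set G) := Coprime.le_normalizer_inf
      (hfL.trans (le_normalizer_sigmaCore L)) (Coprime.le_normalizer_centralizer
        ((le_centralizer_iff.1 hXf).trans (centralizer_le_normalizer _)))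
    by_cases hgf : g ≤ centralizer (f : Set G)
    · exact le_centralizer_iff.1 (heq.ge.trans (fixed_le_of_tau1 hG hL hr1
        (hgE.trans hEL.1) hgc hfL (le_centralizer_iff.1 hgf) hfc hp3.2.1))
    · rw [← commutator_eq_of_moved hp.out hfc hgn hgf]
      exact commutator_le_centralizer_of_centralizing hfV
        (le_centralizer_iff.1 (heq.ge.trans inf_le_right))
  · obtain ⟨hr3, -⟩ :=
      moving_cases hG hL hEL hM hs3 hXE hXc hneX hNX hsM hr1 hgE hgc hfixX
    have hgM : g ≤ M := (hgE.trans hEX).trans hNX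
    refine false_of_commuting_tau3 hG hM hE hq3 hQE hQc hp1 hfE hfc hmove hgM hgc hr3
      (le_centralizer_iff.1 (commutator_eq_bot_iff_le_centralizer.1 (le_bot_iff.1 ?_)))
    have hgd : g ≤ ⁅M, M⁆ := by
      obtain ⟨Z, hZd, hZc⟩ := exists_order_prime_line hr1.1 hr3.2.2.1
      obtain ⟨m, hm, hmZ⟩ :=
        exists_conj_line hG hr3.2.2.2 hgM hgc (hZd.trans (commutator_le_self M)) hZc
      rw [← hmZ]
      refine (map_mono hZd).trans (le_of_eq ?_)
      rw [map_commutator, map_conj_eq_self (le_normalizer hm)]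
    refine le_trans (le_inf (Coprime.commutator_le_of_le_normalizer hgn) ?_)
      (isPiSub_inf_eq_bot (π := {k | k = p}) (ρ := {k | k ∣ Nat.card ↥⁅M, M⁆}) ?_
        (fun k _ hd => hd) ?_).le
    · exact commutator_mono hfM hgM
    · exact fun k hk hd => eq_of_dvd_card_pgroup (isPGroup_of_prime_card hfc) hk hd
    · rintro k - rfl hd
      exact hp1.2.2.2.1 hd

/-- Every line of the complement has the fixed points of `Q`. -/
theorem fixed_eq_of_tau3 {M E Q R : Subgroup G} {q r : ℕ} [hq : Fact q.Prime] [hr : Fact r.Prime]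
    (hM : IsCoatom M) (hE : IsComplIn E (sigmaCore M) M) (hq3 : q ∈ tau3 M) (hQE : Q ≤ E)
    (hQc : Nat.card Q = q) (hne : sigmaCore M ⊓ centralizer (Q : Set G) ≠ ⊥) (hRE : R ≤ E)
    (hRc : Nat.card R = r) :
    sigmaCore M ⊓ centralizer (R : Set G) = sigmaCore M ⊓ centralizer (Q : Set G) := by
  have hrs : r ∉ sigma M :=
    BGTwelve.not_mem_sigma_of_dvd hG hM hE hr.out (hRc ▸ card_dvd_of_le hRE)
  have hτ := tau2_empty_of_tau3 hG hM hq3 (hQE.trans hE.1) hQc hne
  have hr1 : PRankLE r 1 M := by_contra fun hc =>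
    hτ r ⟨hr.out, hrs, not_sigma_rank_two hG (localInputs hG).uniq hM hr.out hrs, hc⟩
  rcases tau13_cases hG hr.out hrs (hRc ▸ card_dvd_of_le (hRE.trans hE.1)) hr1 with h1 | h3
  · exact fixed_eq_of_fix hG hM hE hq3 hQE hQc hne h1 hRE hRc
      (no_mover hG hM hE hq3 hQE hQc hne h1 hRE hRc)
  · obtain ⟨e, he, ⟨l, n, hl1, heo, hn⟩, -⟩ := exists_mover_tau3 hG hM hE hq3 hQE hQc hne
    haveI := Fact.mk hl1.1
    obtain ⟨f, hfe, hfc⟩ := exists_order_prime_line hl1.1 (show l ∣ Nat.card (zpowers e) by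
      rw [Nat.card_zpowers, heo]; exact dvd_pow_self l hn)
    have hfE : f ≤ E := hfe.trans (zpowers_le.2 he)
    have hfQ := fixed_eq_of_fix hG hM hE hq3 hQE hQc hne hl1 hfE hfc
      (no_mover hG hM hE hq3 hQE hQc hne hl1 hfE hfc)
    set Y := sigmaCore M ⊓ centralizer (Q : Set G) with hY
    have hYR : Y ≤ centralizer (R : Set G) := by
      by_cases hfR : f ≤ centralizer (R : Set G)
      · exact hfQ.ge.trans (fixed_le_of_tau1 hG hM hl1 (hfE.trans hE.1) hfc (hRE.trans hE.1)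
          (le_centralizer_iff.1 hfR) hRc h3.2.1)
      · rw [le_centralizer_iff, ← commutator_eq_of_moved hr.out hRc
          (hfE.trans (compl_le_normalizer_tau3 hG hM hE h3 hRE hRc)) hfR]
        have hRQ : R ≤ centralizer (Q : Set G) := le_centralizer_tau3 hG hM hE hRE hQE
          (fun k hk hd => by rw [eq_of_dvd_card_pgroup (isPGroup_of_prime_card hRc) hk hd]; exact h3)
          (fun k hk hd => by rw [eq_of_dvd_card_pgroup (isPGroup_of_prime_card hQc) hk hd]; exact hq3)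
        refine commutator_le_centralizer_of_centralizing (Coprime.le_normalizer_inf
          ((hRE.trans hE.1).trans (le_normalizer_sigmaCore M))
          (Coprime.le_normalizer_centralizer (hRQ.trans (centralizer_le_normalizer _))))
          (le_centralizer_iff.1 (hfQ.ge.trans inf_le_right))
    have hneR : sigmaCore M ⊓ centralizer (R : Set G) ≠ ⊥ := fun h0 =>
      hne (le_bot_iff.1 ((le_inf inf_le_left hYR).trans h0.le))
    rw [← fixed_eq_of_fix hG hM hE h3 hRE hRc hneR hl1 hfE hfc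
      (no_mover hG hM hE h3 hRE hRc hneR hl1 hfE hfc), hfQ]

end Cfsg.Agent.BGSigma
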