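import Cfsg.Agent.BGSigma.SigmaDisjoint
import Cfsg.Agent.BGSigma.ThirteenInputs
import Cfsg.Agent.BGTwelve.NonabelianTauTwo
import Cfsg.Agent.BGTwelve.SigmaInter

/-!
General lemmas for BG Section 14.
-/

set_option autoImplicit false

namespace Cfsg.Agent.BGSigma

open Cfsg Subgroup
open scoped commutatorElement Pointwise

universe u

variable {G : Type u} [Group G] [Finite G]

omit [Finite G] in
theorem conj_mem_centralizer_of_commutator {g y a : G}
    (hd : g * a * g⁻¹ ∈ centralizer ({⁅g, y⁆} : Set G)) (ha : a ∈ centralizer ({y} : Set G)) :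
    g * a * g⁻¹ ∈ centralizer ({y} : Set G) := by
  rw [mem_centralizer_singleton_iff] at hd ha ⊢
  have h1 : Commute (g * a * g⁻¹) (g * y * g⁻¹) := by
    show _ = _
    calc g * a * g⁻¹ * (g * y * g⁻¹) = g * (a * y) * g⁻¹ := by group
      _ = g * (y * a) * g⁻¹ := by rw [ha]
      _ = g * y * g⁻¹ * (g * a * g⁻¹) := by group
  have h2 : Commute (g * a * g⁻¹) ⁅g, y⁆ := hd
  have h3 := (h2.inv_right).mul_right h1
  rwa [show ⁅g, y⁆⁻¹ * (g * y * g⁻¹) = y by rw [commutatorElement_def]; group] at h3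

/-- Two elements normalising a cyclic group act on it as commuting automorphisms. -/
theorem commutator_mem_centralizer_cyclic {Z : Subgroup G} [IsCyclic Z] {a b : G}
    (ha : a ∈ normalizer (Z : Set G)) (hb : b ∈ normalizer (Z : Set G)) :
    ⁅a, b⁆ ∈ centralizer (Z : Set G) := by
  obtain ⟨g, hg⟩ := IsCyclic.exists_generator (α := Z)
  have hpow : ∀ {x : G}, x ∈ normalizer (Z : Set G) → ∃ i : ℤ, ∀ z ∈ Z, x * z * x⁻¹ = z ^ i := by
    intro x hx
    obtain ⟨i, hi⟩ := hg ⟨x * (g : G) * x⁻¹, (mem_normalizer_iff.1 hx g).1 g.2⟩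
    refine ⟨i, fun z hz => ?_⟩
    obtain ⟨j, hj⟩ := hg ⟨z, hz⟩
    have hi' : (g : G) ^ i = x * g * x⁻¹ := congrArg Subtype.val hi
    have hj' : (g : G) ^ j = z := congrArg Subtype.val hj
    rw [← hj', ← conj_zpow, ← hi', ← zpow_mul, ← zpow_mul, mul_comm]
  obtain ⟨i, hi⟩ := hpow ha
  obtain ⟨j, hj⟩ := hpow hb
  refine mem_centralizer_iff.2 fun z hz => ?_
  have hab : a * b * z * (a * b)⁻¹ = b * a * z * (b * a)⁻¹ := by
    calc a * b * z * (a * b)⁻¹ = a * (b * z * b⁻¹) * a⁻¹ := by group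
      _ = (z ^ j) ^ i := by rw [hj z hz, hi _ (Z.zpow_mem hz j)]
      _ = (z ^ i) ^ j := by rw [← zpow_mul, ← zpow_mul, mul_comm]
      _ = b * (a * z * a⁻¹) * b⁻¹ := by rw [hi z hz, hj _ (Z.zpow_mem hz i)]
      _ = b * a * z * (b * a)⁻¹ := by group
  have hw : a⁻¹ * (b⁻¹ * z * b) * a ∈ Z := by
    have h1 : b⁻¹ * z * b ∈ Z := by
      simpa using (mem_normalizer_iff.1 (inv_mem hb) z).1 hz
    simpa using (mem_normalizer_iff.1 (inv_mem ha) _).1 h1
  have e : ∀ w ∈ Z, a * b * w * (a * b)⁻¹ = b * a * w * (b * a)⁻¹ := fun w hw' => by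
    calc a * b * w * (a * b)⁻¹ = a * (b * w * b⁻¹) * a⁻¹ := by group
      _ = (w ^ j) ^ i := by rw [hj w hw', hi _ (Z.zpow_mem hw' j)]
      _ = (w ^ i) ^ j := by rw [← zpow_mul, ← zpow_mul, mul_comm]
      _ = b * (a * w * a⁻¹) * b⁻¹ := by rw [hi w hw', hj _ (Z.zpow_mem hw' i)]
      _ = b * a * w * (b * a)⁻¹ := by group
  have := e _ hw
  have h2 : a * b * (a⁻¹ * (b⁻¹ * z * b) * a) * (a * b)⁻¹ = z := by
    rw [this]; group
  rw [commutatorElement_def]
  calc z * (a * b * a⁻¹ * b⁻¹)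
      = a * b * (a⁻¹ * (b⁻¹ * z * b) * a) * (a * b)⁻¹ * (a * b * a⁻¹ * b⁻¹) := by rw [h2]
    _ = a * b * a⁻¹ * b⁻¹ * z := by group

/-- If one Sylow subgroup is abelian, all are. -/
theorem sylow_comm_of_comm {p : ℕ} [Fact p.Prime] (S T : Sylow p G)
    (h : IsMulCommutative (S : Subgroup G)) : IsMulCommutative (T : Subgroup G) := by
  refine ⟨⟨fun a b => ?_⟩⟩
  apply (Sylow.equiv T S).injective
  rw [map_mul, map_mul]
  exact mul_comm' _ _

theorem exists_order_prime_line {X : Subgroup G} {p : ℕ} (hp : p.Prime) (hd : p ∣ Nat.card X) :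
    ∃ W ≤ X, Nat.card W = p := by
  haveI := Fact.mk hp
  obtain ⟨x, hx⟩ := exists_prime_orderOf_dvd_card' p hd
  exact ⟨zpowers (x : G), zpowers_le.2 x.2, by rw [Nat.card_zpowers, Subgroup.orderOf_coe, hx]⟩

/-- In a group of `p`-rank one lines are conjugate. -/
theorem exists_conj_line (hG : IsMinSimpleOddOrder G) {M P X : Subgroup G} {p : ℕ} [hp : Fact p.Prime]
    (hr : PRankLE p 1 M) (hPM : P ≤ M) (hPc : Nat.card P = p) (hXM : X ≤ M) (hXc : Nat.card X = p) :
    ∃ m ∈ M, X.map (MulAut.conj m).toMonoidHom = P := by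
  obtain ⟨Q, hQ⟩ := ((isPGroup_of_prime_card hPc).comap_subtype (K := M)).exists_le_sylow
  obtain ⟨Q', hQ'⟩ := ((isPGroup_of_prime_card hXc).comap_subtype (K := M)).exists_le_sylow
  obtain ⟨m, hm⟩ := MulAction.exists_smul_eq M Q' Q
  haveI := isCyclic_of_prankLE_one hG hr (Q.isPGroup'.map M.subtype) (map_subtype_le _)
  have hXQ : X.map (MulAut.conj (m : G)).toMonoidHom ≤ (Q : Subgroup M).map M.subtype := by
    rintro _ ⟨y, hy, rfl⟩
    refine ⟨m * ⟨y, hXM hy⟩ * m⁻¹, ?_, by simp⟩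
    show _ ∈ (Q : Subgroup M)
    rw [← hm, Sylow.coe_subgroup_smul]
    exact smul_mem_pointwise_smul _ (MulAut.conj m) _ (hQ' hy)
  exact ⟨m, m.2, eq_of_le_cyclic hXQ (fun a ha => ⟨⟨a, hPM ha⟩, hQ ha, rfl⟩)
    ((card_map_conj X _).trans (hXc.trans hPc.symm))⟩

/-- `N(S) = S K` for a Hall `p'`-subgroup `K` of `N(S)`. -/
theorem le_sup_of_hall {p : ℕ} [hp : Fact p.Prime] (S : Sylow p G) {K : Subgroup G}
    (hK : IsPiHallOf {l | l ≠ p} K (normalizer ((S : Subgroup G) : Set G))) :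
    normalizer ((S : Subgroup G) : Set G) ≤ (S : Subgroup G) ⊔ K := by
  set N := normalizer ((S : Subgroup G) : Set G) with hN
  rw [← relIndex_eq_one, Nat.eq_one_iff_not_exists_prime_dvd]
  intro l hl hd
  by_cases hlp : l = p
  · subst hlp
    have h1 : (S : Subgroup G).relIndex N ∣ (S : Subgroup G).index :=
      ⟨N.index, (relIndex_mul_index le_normalizer).symm⟩
    exact S.not_dvd_index ((hd.trans ⟨_, (relIndex_mul_relIndex (S : Subgroup G) _ _ le_sup_left
      (sup_le le_normalizer hK.1)).symm.trans (mul_comm _ _)⟩).trans h1)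
  · exact hK.2.2 l hl hlp (hd.trans ⟨_, (relIndex_mul_relIndex K _ _ le_sup_right
      (sup_le le_normalizer hK.1)).symm.trans (mul_comm _ _)⟩)

variable (hG : IsMinSimpleOddOrder G)
include hG

/-- An element of `S` outside `S'` is moved modulo `S'` by some element of `N(S)` of order prime
to `p`. -/
theorem exists_moving_derived {p : ℕ} [hp : Fact p.Prime] (S : Sylow p G) {K : Subgroup G}
    (hKN : K ≤ normalizer ((S : Subgroup G) : Set G))
    (hcov : normalizer ((S : Subgroup G) : Set G) ≤ (S : Subgroup G) ⊔ K)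
    (hK : ¬ p ∣ Nat.card K) {u : G} (hu : u ∈ (S : Subgroup G))
    (hud : u ∉ ⁅(S : Subgroup G), (S : Subgroup G)⁆) :
    ∃ k ∈ K, (∃ q n : ℕ, q.Prime ∧ orderOf k = q ^ n) ∧
      k * u * k⁻¹ * u⁻¹ ∉ ⁅(S : Subgroup G), (S : Subgroup G)⁆ := by
  classical
  by_contra hno
  push Not at hno
  set D := ⁅(S : Subgroup G), (S : Subgroup G)⁆ with hD
  set NS := normalizer ((S : Subgroup G) : Set G) with hNS
  have hnD : NS ≤ normalizer (D : Set G) := OddLocal43.normalizes_commutator le_rfl le_rfl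
  let F : Subgroup G :=
    { carrier := {k | k ∈ NS ∧ k * u * k⁻¹ * u⁻¹ ∈ D}
      one_mem' := ⟨one_mem _, by simp⟩
      mul_mem' := fun {a b} ha hb => ⟨mul_mem ha.1 hb.1, by
        have e : a * b * u * (a * b)⁻¹ * u⁻¹ =
            a * (b * u * b⁻¹ * u⁻¹) * a⁻¹ * (a * u * a⁻¹ * u⁻¹) := by group
        rw [e]
        exact mul_mem ((mem_normalizer_iff.1 (hnD ha.1) _).1 hb.2) ha.2⟩
      inv_mem' := fun {a} ha => ⟨inv_mem ha.1, by
        have h1 := (mem_normalizer_iff.1 (hnD (inv_mem ha.1)) _).1 (inv_mem ha.2)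
        have e : a⁻¹ * u * a⁻¹⁻¹ * u⁻¹ = a⁻¹ * (a * u * a⁻¹ * u⁻¹)⁻¹ * a⁻¹⁻¹ := by group
        rw [e]; exact h1⟩ }
  have hKF : K ≤ F := le_of_sylow_le fun q hq _ => by
    haveI := Fact.mk hq
    refine ⟨default, fun k hk => ?_⟩
    obtain ⟨k', hk', rfl⟩ := hk
    obtain ⟨n, hn⟩ := IsPGroup.iff_orderOf.1 (default : Sylow q K).isPGroup' ⟨k', hk'⟩
    refine ⟨hKN k'.2, hno k' k'.2 ⟨q, n, hq, ?_⟩⟩
    rw [Subgroup.orderOf_mk] at hn
    rw [Subgroup.orderOf_coe, hn]
  haveI : Fintype K := Fintype.ofFinite K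
  let c : K → (↥(S : Subgroup G) →* ↥(S : Subgroup G)) := fun k =>
    ((S : Subgroup G).normalizerMonoidHom ⟨k, hKN k.2⟩).toMonoidHom
  have hc : ∀ (k : K) (x : ↥(S : Subgroup G)), (c k x : G) = k * x * (k : G)⁻¹ := fun _ _ => rfl
  let ψ : ↥(S : Subgroup G) →* Abelianization ↥(S : Subgroup G) :=
    ∏ k : K, (Abelianization.of).comp (c k)
  have hψ : ∀ x, ψ x = ∏ k : K, Abelianization.of (c k x) := fun x => by
    simp [ψ, MonoidHom.finsetProd_apply]
  have hinner : ∀ (s x : ↥(S : Subgroup G)), ψ (s * x * s⁻¹) = ψ x := fun s x => by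
    rw [map_mul, map_mul, map_inv, mul_comm (ψ s), mul_inv_cancel_right]
  have houter : ∀ (k₀ : K) (x : ↥(S : Subgroup G)), ψ (c k₀ x) = ψ x := fun k₀ x => by
    rw [hψ, hψ]
    refine Fintype.prod_equiv (Equiv.mulRight k₀) _ _ fun k => congrArg _ (Subtype.ext ?_)
    simp only [hc, Equiv.coe_mulRight, Subgroup.coe_mul]
    group
  have hinv : ∀ v ∈ NS, ∀ (x : ↥(S : Subgroup G)) (hx : v * x * v⁻¹ ∈ (S : Subgroup G)),
      ψ ⟨v * x * v⁻¹, hx⟩ = ψ x := by
    intro v hv x hx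
    obtain ⟨s, hs, k, hk, rfl⟩ := Coprime.exists_mul_of_mem_sup hKN (hcov hv)
    rw [← houter ⟨k, hk⟩ x, ← hinner ⟨s, hs⟩ (c ⟨k, hk⟩ x)]
    refine congrArg _ (Subtype.ext ?_)
    simp only [Subgroup.coe_mul, Subgroup.coe_inv, hc]
    group
  set T : Subgroup G := ψ.ker.map (S : Subgroup G).subtype with hT
  have hTn : NS ≤ normalizer (T : Set G) := Coprime.le_normalizer_of_conj_mem fun v hv x hx => by
    obtain ⟨y, hy, rfl⟩ := hx
    have hy' : v * (y : G) * v⁻¹ ∈ (S : Subgroup G) := (mem_normalizer_iff.1 hv y).1 y.2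
    exact ⟨⟨_, hy'⟩, by rw [SetLike.mem_coe, MonoidHom.mem_ker, hinv v hv y hy']; exact hy, rfl⟩
  have hker : ∀ z : ↥(S : Subgroup G), (z : G) ∈ D → Abelianization.of z = 1 := by
    intro z hz
    rw [hD, ← Subgroup.map_subtype_commutator] at hz
    obtain ⟨z', hz', he⟩ := hz
    obtain rfl : z' = z := Subtype.ext he
    rwa [← MonoidHom.mem_ker, Abelianization.ker_of]
  have huT : u ∉ T := by
    rintro ⟨y, hy, hyu⟩
    obtain rfl : y = ⟨u, hu⟩ := Subtype.ext hyu
    rw [SetLike.mem_coe, MonoidHom.mem_ker, hψ] at hy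
    have h1 : ∀ k : K, Abelianization.of (c k ⟨u, hu⟩) = Abelianization.of ⟨u, hu⟩ := fun k => by
      rw [← mul_inv_eq_one, ← map_inv, ← map_mul]
      exact hker _ (by simpa [hc] using (hKF k.2).2)
    simp only [h1, Finset.prod_const, Finset.card_univ, ← Nat.card_eq_fintype_card] at hy
    obtain ⟨n, hn⟩ := IsPGroup.iff_orderOf.1 S.isPGroup' ⟨u, hu⟩
    have h2 : Abelianization.of (⟨u, hu⟩ : ↥(S : Subgroup G)) = 1 := by
      rw [← orderOf_eq_one_iff]
      refine Nat.eq_one_of_dvd_coprimes ?_ ((orderOf_map_dvd Abelianization.of _).trans hn.dvd)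
        (orderOf_dvd_of_pow_eq_one hy)
      exact (hp.out.coprime_iff_not_dvd.2 hK).pow_left n
    refine hud ?_
    rw [← MonoidHom.mem_ker, Abelianization.ker_of] at h2
    rw [hD, ← Subgroup.map_subtype_commutator]
    exact ⟨_, h2, rfl⟩
  obtain ⟨v, hv, -, t, ht, hnt⟩ := exists_moving hG (localInputs hG) S
    (lt_of_le_of_ne (map_subtype_le _) fun h0 => huT (h0.ge hu)) hTn
  have ht' : v * t⁻¹ * v⁻¹ ∈ (S : Subgroup G) := (mem_normalizer_iff.1 hv _).1 (inv_mem ht)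
  refine hnt ⟨⟨t, ht⟩ * ⟨_, ht'⟩, ?_, by simp [mul_assoc]⟩
  rw [SetLike.mem_coe, MonoidHom.mem_ker, map_mul,
    show (⟨_, ht'⟩ : ↥(S : Subgroup G)) = ⟨v * ((⟨t, ht⟩⁻¹ : ↥(S : Subgroup G)) : G) * v⁻¹, ht'⟩ from rfl,
    hinv v hv _ ht', map_inv, mul_inv_cancel]

/-- With abelian Sylow `p`-subgroups `N(B)` acts on a `p`-group `B` of rank two as an abelian
group. -/
theorem conj_mem_centralizer_of_comm {p : ℕ} [hp : Fact p.Prime]
    (hab : ∀ S : Sylow p G, IsMulCommutative (S : Subgroup G)) {B : Subgroup G}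
    (hB : IsPGroup p B) (hp2 : p ≠ 2) (hr : PRankLE p 2 B) (hN : normalizer (B : Set G) ≠ ⊤)
    {g y a : G} (hg : g ∈ normalizer (B : Set G)) (hy : y ∈ normalizer (B : Set G)) (ha : a ∈ B)
    (hay : a ∈ centralizer ({y} : Set G)) : g * a * g⁻¹ ∈ centralizer ({y} : Set G) := by
  refine conj_mem_centralizer_of_commutator ?_ hay
  have hd : ⁅g, y⁆ ∈ ⁅normalizer (B : Set G), normalizer (B : Set G)⁆ := commutator_mem_commutator hg hy
  have hC : zpowers ⁅g, y⁆ ≤ centralizer (B : Set G) := le_of_sylow_le fun q hq _ => by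
    haveI := Fact.mk hq
    refine ⟨default, ?_⟩
    set T : Subgroup G := ((default : Sylow q (zpowers ⁅g, y⁆)) : Subgroup (zpowers ⁅g, y⁆)).map
      (zpowers ⁅g, y⁆).subtype with hT0
    have hTz : T ≤ zpowers ⁅g, y⁆ := map_subtype_le _
    have hTd : T ≤ ⁅normalizer (B : Set G), normalizer (B : Set G)⁆ :=
      hTz.trans (zpowers_le.2 hd)
    have hTp : IsPGroup q T := (default : Sylow q (zpowers ⁅g, y⁆)).isPGroup'.map _
    rcases eq_or_ne q p with rfl | hqp
    · have hTB : T ≤ normalizer (B : Set G) := hTd.trans (commutator_le_self _)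
      obtain ⟨S, hS⟩ := (IsPGroup.to_sup_of_normal_left' hB hTp hTB).exists_le_sylow
      exact (le_sup_right.trans hS).trans
        ((le_centralizer_self_of_comm (hab S)).trans (centralizer_anti (le_sup_left.trans hS)))
    · intro t ht
      refine OddLocal43.commutator_coprime_le_centralizer hp2 hB hr le_rfl
        (isSolvable_of_ne_top hG hN) (odd_card_subgroup hG _) (hTd ht) ?_
      obtain ⟨n, hn⟩ := IsPGroup.iff_orderOf.1 hTp ⟨t, ht⟩
      rw [Subgroup.orderOf_mk] at hn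
      rw [hn]
      exact ((Nat.coprime_primes hq hp.out).2 hqp).pow_left n
  refine mem_centralizer_singleton_iff.2 ?_
  exact (mem_centralizer_iff.1 (hC (mem_zpowers _)) _ ((mem_normalizer_iff.1 hg a).1 ha))

/-- A maximal subgroup whose `σ` holds the prime of a line and that contains its centralizer is
the only such maximal subgroup containing the line. -/
theorem eq_of_sigma_line {L H X : Subgroup G} {s : ℕ} [hs : Fact s.Prime] (hL : IsCoatom L)
    (hH : IsCoatom H) (hsL : s ∈ sigma L) (hsH : s ∈ sigma H) (hXc : Nat.card X = s)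
    (hCX : centralizer (X : Set G) ≤ L) (hXH : X ≤ H) : H = L := by
  have h := localInputs hG
  haveI := isCyclic_of_prime_card hXc
  have hXL : X ≤ L := (le_centralizer_self_of_comm inferInstance).trans hCX
  obtain ⟨g, rfl⟩ := conj_of_sigma hG h (twelveInputs hG) hL hH hsL hsH
  obtain ⟨n, hn, c, hc, hgc⟩ := (fusion_stmt hG h.uniq L hL s hsL X (isPGroup_of_prime_card hXc)
    (ne_bot_of_prime_card hs.out hXc) hXL).1 g⁻¹
    (map_conj_le_iff.2 fun x hx => by simpa using mem_map_conj.1 (hXH hx))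
  refine map_conj_eq_self (le_normalizer ?_)
  rw [← inv_mem_iff, hgc]
  exact L.mul_mem hn (hCX hc)

omit hG in
/-- If the centralizer of a line lies in one maximal subgroup only, so does the normalizer. -/
theorem normalizer_le_of_centralizer_uniq (hG : IsMinSimpleOddOrder G) {M X : Subgroup G}
    (hX : X ≠ ⊥) (hXt : X ≠ ⊤)
    (hu : ∀ L : Subgroup G, IsCoatom L → centralizer (X : Set G) ≤ L → L = M) :
    normalizer (X : Set G) ≤ M := by
  obtain ⟨L, hL, hNL⟩ := exists_coatom_ge hG (normalizer_ne_top hG hX hXt)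
  exact (hu L hL ((centralizer_le_normalizer _).trans hNL)) ▸ hNL

omit hG in
theorem fixed_le_of_tau1 (hG : IsMinSimpleOddOrder G) {M P R : Subgroup G} {p r : ℕ}
    [Fact p.Prime] [Fact r.Prime] (hM : IsCoatom M) (hp1 : p ∈ tau1 M) (hPM : P ≤ M)
    (hPc : Nat.card P = p) (hRM : R ≤ M) (hRP : R ≤ centralizer (P : Set G))
    (hRc : Nat.card R = r) (hrs : r ∉ sigma M) :
    sigmaCore M ⊓ centralizer (P : Set G) ≤ centralizer (R : Set G) :=
  le_centralizer_of_tau1 hG (localInputs hG) (twelveInputs hG) hM hp1 hPM hPc hRM hRP hRc hrs le_rfl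
    (hRM.trans (le_normalizer_sigmaCore M))
    fun s hs hd K hK hsK => conj_of_sigma hG (localInputs hG) (twelveInputs hG) hM hK
      (isPiSub_sigmaCore M s hs hd) hsK

/-- An element of `τ₃(M)` in a complement centralises every plane of `τ₂(M)` there. -/
theorem mem_centralizer_of_tau3 {M E A : Subgroup G} {p r : ℕ} [hp : Fact p.Prime]
    (hM : IsCoatom M) (hE : IsComplIn E (sigmaCore M) M) (hp2 : p ∈ tau2 M)
    (hA : A ≤ E ∧ IsElementaryAbelian p A ∧ Nat.card A = p ^ 2) (hr : r ∈ tau3 M) {e : G}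
    (he : e ∈ E) {n : ℕ} (heo : orderOf e = r ^ n) : e ∈ centralizer (A : Set G) := by
  haveI := BGTwelve.compl_isSolvable hG hM hE
  obtain ⟨F', hF', heF⟩ := Solvable.exists_isPiHall_ge (G := E) (π := tau3 M)
    ((zpowers e).subgroupOf E) (fun l hl hd => by
      rw [Nat.card_congr (subgroupOfEquivOfLe (zpowers_le.2 he)).toEquiv, Nat.card_zpowers, heo] at hd
      rw [(Nat.prime_dvd_prime_iff_eq hl hr.1).1 (hl.dvd_of_dvd_pow hd)]
      exact hr)
  set F := F'.map E.subtype with hF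
  have hFE : F ≤ E := map_subtype_le _
  obtain ⟨-, -, hnF⟩ := BGTwelve.hall_tau3 hG hM hE
    (Coprime.isPiHallOf_map_subtype hF')
  refine normal_coprime_le_centralizer (X := A) (Y := F) (N := E) hA.1 hFE
    (BGTwelve.compl_le_normalizer_sq hG (localInputs hG) hM hE hp2 hA) hnF ?_
    ⟨⟨e, he⟩, heF (mem_zpowers e), rfl⟩
  rw [hA.2.2]
  refine Nat.Coprime.pow_left 2 (hp.out.coprime_iff_not_dvd.2 fun hd => ?_)
  rw [hF, card_map_of_injective E.subtype_injective] at hd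
  exact hp2.2.2.2 (hF'.1 p hp.out hd).2.2.2

end Cfsg.Agent.BGSigma
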