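import Cfsg.Agent.BGTwelve.TauTwoCompl
import Cfsg.Agent.BGSigma.ActLemmas

/-!
Small facts about maximal subgroups used throughout BG Sections 13 and 14.
-/

set_option autoImplicit false

namespace Cfsg.Agent.BGSigma

open Cfsg Subgroup
open scoped commutatorElement Pointwise

universe u

variable {G : Type u} [Group G] [Finite G]

theorem dvd_card_of_ne_bot {p : ℕ} [Fact p.Prime] {X : Subgroup G} (hX : IsPGroup p X)
    (h1 : X ≠ ⊥) : p ∣ Nat.card X := by
  obtain ⟨j, hj⟩ := hX.exists_card_eq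
  rcases j with _ | j
  · exact absurd (eq_bot_of_card_eq _ hj) h1
  · exact hj ▸ dvd_pow_self p j.succ_ne_zero

theorem eq_of_dvd_card_pgroup {p q : ℕ} [Fact p.Prime] {X : Subgroup G} (hX : IsPGroup p X)
    (hq : q.Prime) (hd : q ∣ Nat.card X) : q = p := by
  obtain ⟨j, hj⟩ := hX.exists_card_eq
  rw [hj] at hd
  exact (Nat.prime_dvd_prime_iff_eq hq Fact.out).1 (hq.dvd_of_dvd_pow hd)

theorem ne_bot_of_prime_card {p : ℕ} (hp : p.Prime) {X : Subgroup G} (hX : Nat.card X = p) :
    X ≠ ⊥ := fun h => by rw [h, card_bot] at hX; exact hp.ne_one hX.symm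

theorem pow_eq_one_of_card {p : ℕ} {X : Subgroup G} (hX : Nat.card X = p) {x : G} (hx : x ∈ X) :
    x ^ p = 1 := by
  have := congrArg Subtype.val (pow_card_eq_one' (G := X) (x := ⟨x, hx⟩))
  simpa [hX] using this

theorem isPGroup_of_prime_card {p : ℕ} {X : Subgroup G} (hX : Nat.card X = p) : IsPGroup p X :=
  IsPGroup.of_card (n := 1) (by rw [hX, pow_one])

theorem elemAbelian_of_prime_card {p : ℕ} (hp : p.Prime) {X : Subgroup G} (hX : Nat.card X = p) :
    IsElementaryAbelian p X := by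
  haveI := Fact.mk hp
  haveI : IsCyclic X := isCyclic_of_prime_card hX
  exact ⟨inferInstance, fun x hx => pow_eq_one_of_card hX hx⟩

/-- A `p`-group of rank one is cyclic. -/
theorem isCyclic_of_prankLE_one (hG : IsMinSimpleOddOrder G) {p : ℕ} [hp : Fact p.Prime]
    {M T : Subgroup G} (hr : PRankLE p 1 M) (hT : IsPGroup p T) (hTM : T ≤ M) : IsCyclic T :=
  BGTwelve.isCyclic_of_nilpotent_rankLE_one hT.isNilpotent (odd_card_subgroup hG T) fun r hr' => by
    by_cases hd : r ∣ Nat.card T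
    · rw [eq_of_dvd_card_pgroup hT hr' hd]; exact prankLE_subgroup hTM hr
    · exact prankLE_of_not_dvd hr' hd

/-- A cyclic group has one subgroup of each order. -/
theorem eq_of_le_cyclic {C X Y : Subgroup G} [hC : IsCyclic C] (hX : X ≤ C) (hY : Y ≤ C)
    (h : Nat.card X = Nat.card Y) : X = Y := by
  have key : X.subgroupOf C = Y.subgroupOf C := by
    obtain ⟨g, hg⟩ := hC.exists_generator
    haveI : Fintype C := Fintype.ofFinite _
    classical
    have hmem : ∀ Z : Subgroup C, ∀ z : C, z ∈ Z ↔ z ^ Nat.card Z = 1 := by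
      intro Z z
      constructor
      · intro hz
        have := congrArg Subtype.val (pow_card_eq_one' (G := Z) (x := ⟨z, hz⟩))
        simpa only [SubmonoidClass.coe_pow, OneMemClass.coe_one] using this
      · intro hz
        have h1 : ({y : C | y ∈ Z} : Finset C) = ({y : C | y ^ Nat.card Z = 1} : Finset C) := by
          refine Finset.eq_of_subset_of_card_le (fun y hy => ?_) ?_
          · simp only [Finset.mem_filter, Finset.mem_univ, true_and] at hy ⊢
            have := congrArg Subtype.val (pow_card_eq_one' (G := Z) (x := ⟨y, hy⟩))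
            simpa only [SubmonoidClass.coe_pow, OneMemClass.coe_one] using this
          · refine (IsCyclic.card_pow_eq_one_le (α := C) Nat.card_pos).trans (le_of_eq ?_)
            rw [← Fintype.card_subtype, ← Nat.card_eq_fintype_card]
        have h2 := Finset.ext_iff.1 h1 z
        simp only [Finset.mem_filter, Finset.mem_univ, true_and] at h2
        exact h2.2 hz
    ext z
    rw [hmem, hmem, Nat.card_congr (subgroupOfEquivOfLe hX).toEquiv,
      Nat.card_congr (subgroupOfEquivOfLe hY).toEquiv, h]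
  calc X = (X.subgroupOf C).map C.subtype := (map_subgroupOf_eq_of_le hX).symm
    _ = (Y.subgroupOf C).map C.subtype := by rw [key]
    _ = Y := map_subgroupOf_eq_of_le hY

theorem isCoatom_ne_top {M X : Subgroup G} (hM : IsCoatom M) (h : X ≤ M) : X ≠ ⊤ :=
  fun h0 => hM.1 (top_le_iff.1 (h0 ▸ h))

theorem map_conj_le_of_mem {M X : Subgroup G} {g : G} (hg : g ∈ M) (h : X ≤ M) :
    X.map (MulAut.conj g).toMonoidHom ≤ M :=
  (map_mono h).trans (map_conj_eq_self (le_normalizer hg)).le

theorem prankLE_conj {p k : ℕ} (M : Subgroup G) (g : G) :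
    PRankLE p k ↥(M.map (MulAut.conj g).toMonoidHom) ↔ PRankLE p k M :=
  (prankLE_congr (M.equivMapOfInjective _ (MulAut.conj g).injective)).symm

/-- `σ` is a conjugacy invariant. -/
theorem sigma_of_conj {M : Subgroup G} {g : G} {p : ℕ}
    (h : p ∈ sigma (M.map (MulAut.conj g).toMonoidHom)) : p ∈ sigma M := by
  haveI := Fact.mk h.1
  obtain ⟨Q, hQ⟩ := exists_sylow_of_mem_sigma h
  refine mem_sigma_of_sylow h.1 (h.2.1.trans (card_subgroup_dvd_card _)) (g⁻¹ • Q) ?_
  rw [Sylow.coe_subgroup_smul, show (MulAut.conj g⁻¹ • (Q : Subgroup G)) =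
    (Q : Subgroup G).map (MulAut.conj g⁻¹).toMonoidHom from rfl, normalizer_map_conj]
  refine (map_mono hQ).trans (le_of_eq ?_)
  rw [map_conj_comp, inv_mul_cancel, map_conj_one]

theorem sigma_conj_iff {M : Subgroup G} {g : G} {p : ℕ} :
    p ∈ sigma (M.map (MulAut.conj g).toMonoidHom) ↔ p ∈ sigma M := by
  refine ⟨sigma_of_conj, fun h => sigma_of_conj (g := g⁻¹) ?_⟩
  rwa [map_conj_comp, inv_mul_cancel, map_conj_one]

variable (hG : IsMinSimpleOddOrder G) (h : LocalInputs G)
include hG h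

/-- A line of `M` outside `σ(M)` in rank one has its normaliser in no conjugate of `M`. -/
theorem normalizer_not_le_conj {M P : Subgroup G} {p : ℕ} [hp : Fact p.Prime] (hM : IsCoatom M)
    (hps : p ∉ sigma M) (hr : PRankLE p 1 M) (hPc : Nat.card P = p) {g : G} :
    ¬ normalizer (P : Set G) ≤ M.map (MulAut.conj g).toMonoidHom := fun hle =>
  (rank_two_of_normalizer_le hG h.uniq _ (isCoatom_map_conj hM g) p
    (fun hs => hps (sigma_of_conj hs)) P hPc hle).1.2 ((prankLE_conj M g).2 hr)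

/-- A maximal subgroup over the normaliser of such a line; it is not conjugate to `M`. -/
theorem exists_coatom_normalizer {M P : Subgroup G} {p : ℕ} [hp : Fact p.Prime] (hM : IsCoatom M)
    (hps : p ∉ sigma M) (hr : PRankLE p 1 M) (hPM : P ≤ M) (hPc : Nat.card P = p) :
    ∃ L : Subgroup G, IsCoatom L ∧ normalizer (P : Set G) ≤ L ∧
      ∀ g : G, L ≠ M.map (MulAut.conj g).toMonoidHom := by
  obtain ⟨L, hL, hNL⟩ := exists_coatom_ge hG
    (normalizer_ne_top hG (ne_bot_of_prime_card hp.out hPc) (isCoatom_ne_top hM hPM))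
  exact ⟨L, hL, hNL, fun g hg => normalizer_not_le_conj hG h hM hps hr hPc (hg ▸ hNL)⟩

/-- A prime of `α(M)` lies in `σ(N)` only for conjugates `N` of `M`. -/
theorem conj_of_alpha_sigma {M N : Subgroup G} (hM : IsCoatom M) (hN : IsCoatom N) {r : ℕ}
    (hα : r ∈ alpha M) (hσ : r ∈ sigma N) : ∃ g : G, N = M.map (MulAut.conj g).toMonoidHom := by
  haveI := Fact.mk hσ.1
  obtain ⟨Q, g, hQM, hQN⟩ :=
    exists_conj_normalizer_le (mem_sigma_of_mem_alpha hG h.uniq hM hα) hσ
  have hQ : (Q : Subgroup G) ≤ M := le_normalizer.trans hQM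
  have hrQ : ¬ PRankLE r 2 (Q : Subgroup G) := fun hr => hα.2 ((prankLE_iff_sylow (Q.subtype hQ)).2
    ((prankLE_congr (subgroupOfEquivOfLe hQ)).2 hr))
  refine ⟨g⁻¹, ?_⟩
  rw [uniq_of_pgroup h.uniq hσ.1 hrQ hM (isCoatom_map_conj hN g) hQ (le_normalizer.trans hQN),
    map_conj_comp, inv_mul_cancel, map_conj_one]

/-- Two maximal subgroups share a `σ`-prime only as conjugates when one `M_σ` is nilpotent. -/
theorem conj_of_nilpotent_sigma {M L : Subgroup G} (hM : IsCoatom M) (hL : IsCoatom L)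
    (hnil : Group.IsNilpotent (sigmaCore L)) {r : ℕ} (hrM : r ∈ sigma M) (hrL : r ∈ sigma L) :
    ∃ g : G, L = M.map (MulAut.conj g).toMonoidHom := by
  haveI := Fact.mk hrM.1
  obtain ⟨Q, -, hLQ, -⟩ := exists_normal_sylow hG h hL hrL hnil
  obtain ⟨g, hg⟩ := exists_conj_ge_of_isPGroup hrM Q.isPGroup'
  exact ⟨g, (hL.le_iff.1 (hLQ.trans (normalizer_le_of_sylow_le (sigma_conj_iff.2 hrM) Q
    hg))).resolve_left (isCoatom_map_conj hM g).1 |>.symm⟩

/-- The coprime form of commuting in a derived group: for `r ∉ β(L)` an `r'`-subgroup of `L'`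
centralises the `r`-subgroups of `L` it normalises. -/
theorem le_centralizer_of_derived {L B X : Subgroup G} (hL : IsCoatom L) {r : ℕ}
    [hr : Fact r.Prime] (hrb : r ∉ beta L) (hBL : B ≤ ⁅L, L⁆) (hB : ¬ r ∣ Nat.card B)
    (hXL : X ≤ L) (hX : IsPGroup r X) (hBX : B ≤ normalizer (X : Set G)) :
    X ≤ centralizer (B : Set G) := by
  have hle : ⁅X, B⁆ ≤ X := Coprime.commutator_le_of_le_normalizer hBX
  refine OddLocal43.le_centralizer_of_double_commutator hBX ?_
    (le_centralizer_of_not_mem_beta hG h hL hrb hBL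
      (commutator_mono hXL (hBL.trans (commutator_le_self L))) hB (hX.to_le hle)
      (Coprime.le_normalizer_commutator_right B X))
  obtain ⟨j, hj⟩ := hX.exists_card_eq
  rw [hj]
  exact ((hr.out.coprime_iff_not_dvd.2 hB).pow_left j).symm

omit h in
theorem le_derived_of_sigma {L X : Subgroup G} (hL : IsCoatom L) {p : ℕ} [Fact p.Prime]
    (hp : p ∈ sigma L) (hX : IsPGroup p X) (hXL : X ≤ L) : X ≤ ⁅L, L⁆ :=
  pgroup_le_derived hG (uniquenessTheorem hG) smallRankFrattini hL hp hX hXL

omit h in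
theorem le_sigmaCore_of_pgroup {L X : Subgroup G} (hL : IsCoatom L) {p : ℕ} [Fact p.Prime]
    (hp : p ∈ sigma L) (hX : IsPGroup p X) (hXL : X ≤ L) : X ≤ sigmaCore L :=
  le_of_normal_hall (sigmaCore_hall hG (uniquenessTheorem hG) smallRankFrattini
    fittingRankTwoDerived hL).1 (le_normalizer_sigmaCore L) hXL (isPiSub_of_isPGroup Fact.out hX hp)

omit h in
theorem sigmaCore_inf_eq_bot_of_sigma' {L Y : Subgroup G}
    (hY : ∀ q : ℕ, q.Prime → q ∣ Nat.card Y → q ∉ sigma L) : sigmaCore L ⊓ Y = ⊥ :=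
  Subgroup.eq_bot_of_card_eq _ (Nat.eq_one_iff_not_exists_prime_dvd.2 fun q hq hd =>
    hY q hq (hd.trans (card_dvd_of_le inf_le_right))
      (isPiSub_sigmaCore L q hq (hd.trans (card_dvd_of_le inf_le_left))))

omit h in
/-- A complement of `M_σ` containing a given `σ(M)'`-subgroup. -/
theorem exists_compl_ge {M Y : Subgroup G} (hM : IsCoatom M) (hY : Y ≤ M)
    (hYs : ∀ q : ℕ, q.Prime → q ∣ Nat.card Y → q ∉ sigma M) :
    ∃ E : Subgroup G, IsComplIn E (sigmaCore M) M ∧ Y ≤ E := by
  haveI : Group.IsSolvable M := coatom_isSolvable hG hM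
  obtain ⟨hHall, -, -⟩ := sigmaCore_hall hG (uniquenessTheorem hG) smallRankFrattini
    fittingRankTwoDerived hM
  obtain ⟨H, hH, hYH⟩ := Solvable.exists_isPiHall_ge (G := M) (π := {q | q ∉ sigma M})
    (Y.subgroupOf M) (fun q hq hd => hYs q hq
      (hd.trans (dvd_of_eq (Nat.card_congr (subgroupOfEquivOfLe hY).toEquiv))))
  refine ⟨H.map M.subtype, ⟨map_subtype_le _, sigmaCore_le M, ?_, fun m hm => ?_⟩,
    fun y hy => ⟨⟨y, hY hy⟩, hYH hy, rfl⟩⟩
  · rw [inf_comm]
    refine sigmaCore_inf_eq_bot_of_sigma' hG fun q hq hd => hH.1 q hq ?_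
    rwa [card_map_of_injective M.subtype_injective] at hd
  · have hco : Subgroup.IsComplement' H ((sigmaCore M).subgroupOf M) := by
      haveI : ((sigmaCore M).subgroupOf M).Normal :=
        (normal_subgroupOf_iff_le_normalizer (sigmaCore_le M)).2 (le_normalizer_sigmaCore M)
      set N := (sigmaCore M).subgroupOf M with hN
      have hNc : Nat.card N = Nat.card (sigmaCore M) :=
        Nat.card_congr (subgroupOfEquivOfLe (sigmaCore_le M)).toEquiv
      have hdj : (Nat.card H).Coprime (Nat.card N) := Nat.coprime_of_dvd fun r hr a b =>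
        hH.1 r hr a (isPiSub_sigmaCore M r hr (hNc ▸ b))
      refine Subgroup.isComplement'_of_coprime ?_ hdj
      refine Nat.dvd_antisymm (hdj.mul_dvd_of_dvd_of_dvd H.card_subgroup_dvd_card
        N.card_subgroup_dvd_card) ?_
      rw [mul_comm, ← N.card_mul_index]
      refine Nat.mul_dvd_mul_left _ ?_
      have h1 : N.index ∣ Nat.card H * H.index := by
        rw [H.card_mul_index]; exact index_dvd_card N
      refine Nat.Coprime.dvd_of_dvd_mul_right (Nat.coprime_of_dvd fun r hr a b => ?_) h1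
      by_cases hrs : r ∈ sigma M
      · exact hHall.2.2 r hr hrs a
      · exact hH.2 r hr hrs b
    obtain ⟨⟨a, b⟩, hab⟩ := hco.2 ⟨m, hm⟩
    exact ⟨a, ⟨a, a.2, rfl⟩, b, mem_subgroupOf.1 b.2, congrArg Subtype.val hab.symm⟩

/-- For `r ∈ τ₂(L)`, an `r`-line of `L` centralises the lines it normalises of other primes
outside `σ(L)`. -/
theorem le_centralizer_of_tau2 {L R W : Subgroup G} (hL : IsCoatom L) {r : ℕ} [hr : Fact r.Prime]
    (hr2 : r ∈ tau2 L) (hRL : R ≤ L) (hRc : Nat.card R = r) (hWL : W ≤ L) (hrW : ¬ r ∣ Nat.card W)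
    (hWs : ∀ q : ℕ, q.Prime → q ∣ Nat.card W → q ∉ sigma L) (hRW : R ≤ normalizer (W : Set G)) :
    W ≤ centralizer (R : Set G) := by
  have hY : ∀ q : ℕ, q.Prime → q ∣ Nat.card (W ⊔ R : Subgroup G) → q ∉ sigma L := by
    intro q hq hd
    rw [← relIndex_mul_card (le_sup_left : W ≤ W ⊔ R), sup_comm,
      Coprime.relIndex_sup_of_le_normalizer hRW] at hd
    rcases hq.dvd_mul.1 hd with h' | h'
    · rw [(Nat.prime_dvd_prime_iff_eq hq hr.out).1 (hRc ▸ h'.trans (relIndex_dvd_card _ _))]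
      exact hr2.2.1
    · exact hWs q hq h'
  obtain ⟨E, hE, hle⟩ := exists_compl_ge hG hL (sup_le hWL hRL) hY
  obtain ⟨A, hA⟩ := BGTwelve.exists_sq_le_compl hG hL hE (q := r) hr2
  have hWA : W ≤ normalizer (A : Set G) :=
    (le_sup_left.trans hle).trans (BGTwelve.compl_le_normalizer_sq hG h hL hE hr2 hA)
  have hRA : R ≤ A := BGTwelve.le_sq_of_card hG h hL hE hr2 hA (le_sup_right.trans hle) hRc
  have hbot : W ⊓ A = ⊥ := inf_eq_bot_of_coprime (by
    rw [hA.2.2]; exact ((hr.out.coprime_iff_not_dvd.2 hrW).pow_left 2).symm)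
  rw [← commutator_eq_bot_iff_le_centralizer, eq_bot_iff, ← hbot]
  refine le_inf (Coprime.commutator_le_of_le_normalizer hRW) ?_
  rw [commutator_comm]
  exact (commutator_mono hRA le_rfl).trans (Coprime.commutator_le_of_le_normalizer hWA)

/-- The normaliser of a nontrivial Sylow subgroup does more than centralise it modulo a proper
invariant subgroup. -/
theorem exists_moving {p : ℕ} [hp : Fact p.Prime] (S : Sylow p G) {T : Subgroup G}
    (hT : T < (S : Subgroup G))
    (hTn : normalizer ((S : Subgroup G) : Set G) ≤ normalizer (T : Set G)) :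
    ∃ v ∈ normalizer ((S : Subgroup G) : Set G), (∃ q k : ℕ, q.Prime ∧ q ≠ p ∧ orderOf v = q ^ k) ∧
      ∃ s ∈ (S : Subgroup G), s * v * s⁻¹ * v⁻¹ ∉ T := by
  by_contra hno
  simp only [not_exists, not_and, not_not, and_imp, forall_exists_index] at hno
  set N := normalizer ((S : Subgroup G) : Set G) with hN
  haveI : ((S : Subgroup G).subgroupOf N).Normal := Subgroup.normal_in_normalizer
  have hco : (Nat.card ((S : Subgroup G).subgroupOf N)).Coprime
      ((S : Subgroup G).subgroupOf N).index := by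
    obtain ⟨j, hj⟩ := S.isPGroup'.exists_card_eq
    rw [Nat.card_congr (subgroupOfEquivOfLe le_normalizer).toEquiv, hj]
    exact ((hp.out.coprime_iff_not_dvd).2 (S.subtype le_normalizer).not_dvd_index).pow_left j
  obtain ⟨V', hV'⟩ := exists_right_complement'_of_coprime hco
  set V : Subgroup G := V'.map N.subtype with hV
  have hcompl : IsComplIn (S : Subgroup G) V N := by
    refine ⟨le_normalizer, map_subtype_le _, ?_, fun m hm => ?_⟩
    · rw [eq_bot_iff]
      rintro _ ⟨hxP, v, hv, rfl⟩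
      have := disjoint_iff.1 hV'.disjoint
      have h1 : v ∈ (S : Subgroup G).subgroupOf N ⊓ V' := ⟨hxP, hv⟩
      rw [this, Subgroup.mem_bot] at h1
      simp [h1]
    · obtain ⟨⟨a, b⟩, hab⟩ := hV'.2 ⟨m, hm⟩
      exact ⟨a, a.2, b, ⟨b, b.2, rfl⟩, congrArg Subtype.val hab.symm⟩
  have hVp : ¬ p ∣ Nat.card V := fun hd => by
    refine (S.subtype (le_normalizer (H := (S : Subgroup G)))).not_dvd_index ?_
    rw [hV, card_map_of_injective N.subtype_injective] at hd
    rwa [Sylow.coe_subtype, hV'.symm.index_eq_card]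
  have hSV := (sylow_commutator_complement hG h.uniq h.plength p S V hcompl).1
  let W : Subgroup G :=
    { carrier := {v | v ∈ N ∧ ∀ s ∈ (S : Subgroup G), s * v * s⁻¹ * v⁻¹ ∈ T}
      one_mem' := ⟨one_mem _, fun s _ => by simp⟩
      mul_mem' := fun {a b} ha hb => ⟨mul_mem ha.1 hb.1, fun s hs => by
        have h1 := T.mul_mem (ha.2 s hs) ((mem_normalizer_iff.1 (hTn ha.1) _).1 (hb.2 s hs))
        convert h1 using 1
        group⟩
      inv_mem' := fun {a} ha => ⟨inv_mem ha.1, fun s hs => by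
        have h1 := (mem_normalizer_iff''.1 (hTn ha.1) _).1 (T.inv_mem (ha.2 s hs))
        convert h1 using 1
        group⟩ }
  have hVW : V ≤ W := le_of_sylow_le fun q hq hd => by
    haveI := Fact.mk hq
    refine ⟨(default : Sylow q V), fun v hv => ?_⟩
    have hvN : v ∈ N := hcompl.2.1 (map_subtype_le _ hv)
    obtain ⟨y, hy, rfl⟩ := hv
    obtain ⟨k, hk⟩ := IsPGroup.iff_orderOf.1 (default : Sylow q V).isPGroup' ⟨y, hy⟩
    refine ⟨hvN, fun s hs => hno _ hvN q k hq (fun h0 => hVp (h0 ▸ hd)) ?_ s hs⟩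
    show orderOf (y : G) = q ^ k
    rw [Subgroup.orderOf_coe]
    exact (Subgroup.orderOf_mk y hy).symm.trans hk
  refine not_le_of_gt hT (hSV.le.trans (commutator_le.2 fun s hs v hv => ?_))
  rw [commutatorElement_def]
  exact (hVW hv).2 s hs

end Cfsg.Agent.BGSigma
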