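import Cfsg.Agent.BGSigma.PLength

/-!
BG 10.6 (c)–(f): Sylow normalisers control fusion; `P ≤ N(P)'`.
-/

set_option autoImplicit false

namespace Cfsg.Agent.BGSigma

open Cfsg
open scoped commutatorElement

universe u

/-- The hypothesis "every proper subgroup has `p`-length one" (BG 10.6). -/
def ProperPLengthOne (G : Type u) [Group G] : Prop :=
  ∀ (p : ℕ) [Fact p.Prime] (H : Subgroup G), H ≠ ⊤ → PLengthLE p 1 H

variable {G : Type u} [Group G] [Finite G]

/-- In a `p`-length-one group a conjugation inside a Sylow subgroup is induced by its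
normaliser. -/
theorem exists_normalizer_mul_centralizer {X : Type*} [Group X] [Finite X] {p : ℕ} [Fact p.Prime]
    (h : ¬ p ∣ (pPrimePCore p X).index) (S : Sylow p X) {Y : Set X} {x : X}
    (hY : Y ⊆ (S : Subgroup X)) (hxY : ∀ y ∈ Y, x * y * x⁻¹ ∈ (S : Subgroup X)) :
    ∃ n ∈ Subgroup.normalizer ((S : Subgroup X) : Set X), ∃ c ∈ Subgroup.centralizer Y,
      x = n * c := by
  have hx : x ∈ Subgroup.normalizer ((S : Subgroup X) : Set X) ⊔ pPrimeCore p X := by
    rw [sup_comm, frattini_of_not_dvd_index h S]; exact Subgroup.mem_top x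
  obtain ⟨n, hn, a, ha, rfl⟩ := Subgroup.mem_sup_of_normal_right.1 hx
  refine ⟨n, hn, a, Subgroup.mem_centralizer_iff.2 fun y hy => ?_, rfl⟩
  have h1 : a * y * a⁻¹ ∈ (S : Subgroup X) := by
    refine (Subgroup.mem_normalizer_iff.1 hn _).2 ?_
    simpa [mul_assoc] using hxY y hy
  have h2 : a * y * a⁻¹ * y⁻¹ ∈ (S : Subgroup X) ⊓ pPrimeCore p X := by
    refine ⟨(S : Subgroup X).mul_mem h1 ((S : Subgroup X).inv_mem (hY hy)), ?_⟩
    have := (pPrimeCore p X).mul_mem ha
      ((Thompson.instPPrimeCoreNormal (p := p) (G := X)).conj_mem a⁻¹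
        ((pPrimeCore p X).inv_mem ha) y)
    simpa [mul_assoc] using this
  obtain ⟨j, hj⟩ := S.isPGroup'.exists_card_eq
  rw [Subgroup.inf_eq_bot_of_coprime (hj ▸ (((Fact.out : p.Prime).coprime_iff_not_dvd).2
    not_dvd_card_core).pow_left j), Subgroup.mem_bot] at h2
  calc y * a = 1 * (y * a) := (one_mul _).symm
    _ = a * y * a⁻¹ * y⁻¹ * (y * a) := by rw [h2]
    _ = a * y := by group

/-- In a `p`-length-one group, a Sylow subgroup inside the derived subgroup lies in the derived
subgroup of its normaliser. -/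
theorem sylow_le_commutator_normalizer {X : Type*} [Group X] [Finite X] {p : ℕ} [hp : Fact p.Prime]
    (h : ¬ p ∣ (pPrimePCore p X).index) (S : Sylow p X)
    (hS : (S : Subgroup X) ≤ commutator X) :
    (S : Subgroup X) ≤ ⁅Subgroup.normalizer ((S : Subgroup X) : Set X),
      Subgroup.normalizer ((S : Subgroup X) : Set X)⁆ := by
  set N := Subgroup.normalizer ((S : Subgroup X) : Set X) with hN
  set O := pPrimeCore p X with hO
  intro s hs
  have hsN : s ∈ N := Subgroup.le_normalizer hs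
  have htop : N.map (QuotientGroup.mk' O) = ⊤ := by
    have := congrArg (Subgroup.map (QuotientGroup.mk' O)) (frattini_of_not_dvd_index h S)
    rwa [Subgroup.map_sup, QuotientGroup.map_mk'_self, bot_sup_eq,
      Subgroup.map_top_of_surjective _ (QuotientGroup.mk'_surjective O)] at this
  have h1 : QuotientGroup.mk' O s ∈ ⁅N, N⁆.map (QuotientGroup.mk' O) := by
    rw [Subgroup.map_commutator, htop, ← Subgroup.map_top_of_surjective _
      (QuotientGroup.mk'_surjective O), ← Subgroup.map_commutator]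
    exact ⟨s, hS hs, rfl⟩
  obtain ⟨t, ht, hts⟩ := h1
  have htN : t ∈ N := Subgroup.commutator_le_self N ht
  -- `t⁻¹ s` lies in `N ∩ O`, of order prime to `p`
  set D : Subgroup N := ⁅N, N⁆.subgroupOf N with hD
  haveI : D.Normal := by
    rw [hD, ← Subgroup.map_subtype_commutator N, Subgroup.subgroupOf,
      Subgroup.comap_map_eq_self_of_injective N.subtype_injective]
    infer_instance
  have hsa : QuotientGroup.mk' D ⟨t⁻¹ * s, N.mul_mem (N.inv_mem htN) hsN⟩ =
      QuotientGroup.mk' D ⟨s, hsN⟩ := by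
    rw [QuotientGroup.mk'_eq_mk']
    refine ⟨⟨s⁻¹ * t * s, N.mul_mem (N.mul_mem (N.inv_mem hsN) htN) hsN⟩, ?_, ?_⟩
    · show s⁻¹ * t * s ∈ ⁅N, N⁆
      have hDn : (D : Subgroup N).Normal := inferInstance
      have := hDn.conj_mem ⟨t, htN⟩ (show (⟨t, htN⟩ : N) ∈ D from ht) ⟨s⁻¹, N.inv_mem hsN⟩
      simpa [hD, Subgroup.mem_subgroupOf] using this
    · ext; simp [mul_assoc]
  have hord1 : orderOf (QuotientGroup.mk' D ⟨s, hsN⟩) ∣ Nat.card O := by
    rw [← hsa]
    refine (orderOf_map_dvd _ _).trans ?_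
    rw [Subgroup.orderOf_mk]
    have hto : t⁻¹ * s ∈ O := by
      rw [← QuotientGroup.eq_one_iff]
      change QuotientGroup.mk' O (t⁻¹ * s) = 1
      rw [map_mul, map_inv, hts, inv_mul_cancel]
    exact Subgroup.orderOf_mk (t⁻¹ * s) hto ▸ orderOf_dvd_natCard (⟨t⁻¹ * s, hto⟩ : O)
  have hord2 : orderOf (QuotientGroup.mk' D ⟨s, hsN⟩) ∣ Nat.card (S : Subgroup X) := by
    refine (orderOf_map_dvd _ _).trans ?_
    rw [Subgroup.orderOf_mk]
    exact Subgroup.orderOf_mk s hs ▸ orderOf_dvd_natCard (⟨s, hs⟩ : (S : Subgroup X))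
  obtain ⟨j, hj⟩ := S.isPGroup'.exists_card_eq
  have h3 := Nat.eq_one_of_dvd_coprimes (hj ▸ ((hp.out.coprime_iff_not_dvd).2
    not_dvd_card_core).pow_left j : (Nat.card (S : Subgroup X)).Coprime (Nat.card O)) hord2 hord1
  exact Subgroup.mem_subgroupOf.1 ((QuotientGroup.eq_one_iff _).1 (orderOf_eq_one_iff.1 h3))

variable (hG : IsMinSimpleOddOrder G) (hU : UniquenessTheorem G) (hL : ProperPLengthOne G)
include hG hU hL

/-- BG 10.6(c): subgroups of a Sylow subgroup conjugate in `G` are so in its normaliser. -/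
theorem sylow_normalizer_controls {p : ℕ} [hp : Fact p.Prime] (P : Sylow p G) (Q : Subgroup G)
    (x : G) (hQ : Q ≤ (P : Subgroup G))
    (hx : Q.map (MulAut.conj x).toMonoidHom ≤ (P : Subgroup G)) :
    ∃ y ∈ Subgroup.normalizer ((P : Subgroup G) : Set G),
      Q.map (MulAut.conj x).toMonoidHom = Q.map (MulAut.conj y).toMonoidHom := by
  by_cases hQ1 : Q = ⊥
  · exact ⟨1, Subgroup.one_mem _, by simp [hQ1]⟩
  have hP1 : (P : Subgroup G) ≠ ⊥ := fun h => hQ1 (le_bot_iff.1 (h ▸ hQ))
  have hPd : p ∣ Nat.card G := by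
    obtain ⟨j, hj⟩ := P.isPGroup'.exists_card_eq
    rcases j with _ | j
    · exact absurd (Subgroup.eq_bot_of_card_eq _ hj) hP1
    · exact (hj ▸ dvd_pow_self p j.succ_ne_zero).trans (Subgroup.card_subgroup_dvd_card _)
  have hPtop : (P : Subgroup G) ≠ ⊤ := fun h => not_isSolvable hG (by
    haveI := (P.isPGroup'.of_equiv ((MulEquiv.subgroupCongr h).trans Subgroup.topEquiv)).isNilpotent
    infer_instance)
  obtain ⟨M, hM, hNM⟩ := exists_coatom_ge hG (normalizer_ne_top hG hP1 hPtop)
  have hPM : (P : Subgroup G) ≤ M := Subgroup.le_normalizer.trans hNM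
  obtain ⟨m, hm, c, hc, rfl⟩ := sigma_fusion hG hU smallRankFrattini hM
    (mem_sigma_of_sylow hp.out hPd P hNM) (P.isPGroup'.to_le hQ) hQ1 (hQ.trans hPM)
    (hx.trans hPM)
  have hsame : Q.map (MulAut.conj (m * c)).toMonoidHom = Q.map (MulAut.conj m).toMonoidHom := by
    rw [map_mul]
    conv_rhs => rw [← map_conj_eq_self (Subgroup.centralizer_le_normalizer _ hc)]
    rw [Subgroup.map_map]
    rfl
  rw [hsame] at hx ⊢
  obtain ⟨n, hn, a, ha, hma⟩ := exists_normalizer_mul_centralizer
    ((plengthLE_one_iff).1 (hL p M hM.1)) (P.subtype hPM)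
    (Y := {y : M | (y : G) ∈ Q}) (x := ⟨m, hm⟩) (fun y hy => hQ hy)
    (fun y hy => hx ⟨y, hy, rfl⟩)
  refine ⟨n, ?_, ?_⟩
  · rw [Subgroup.mem_normalizer_iff]
    intro z
    constructor
    · intro hz
      exact (Subgroup.mem_normalizer_iff.1 hn ⟨z, hPM hz⟩).1 hz
    · intro hz
      have hzM : z ∈ M := by
        have := M.mul_mem (M.mul_mem (M.inv_mem n.2) (hPM hz)) n.2
        simpa [mul_assoc] using this
      exact (Subgroup.mem_normalizer_iff.1 hn ⟨z, hzM⟩).2 hz
  · refine SetLike.ext' ?_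
    rw [Subgroup.coe_map, Subgroup.coe_map]
    refine Set.image_congr fun y hy => ?_
    have hc' := congrArg Subtype.val
      (Subgroup.mem_centralizer_iff.1 ha ⟨y, hPM (hQ hy)⟩ hy)
    have hm' : m = (n : G) * (a : G) := congrArg Subtype.val hma
    simp only [Subgroup.coe_mul] at hc'
    simp only [MulEquiv.coe_toMonoidHom, MulAut.conj_apply, hm']
    calc (n : G) * a * y * ((n : G) * a)⁻¹ = n * (a * y) * (a : G)⁻¹ * (n : G)⁻¹ := by group
      _ = n * (y * a) * (a : G)⁻¹ * (n : G)⁻¹ := by rw [hc']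
      _ = n * y * (n : G)⁻¹ := by group

/-- BG 10.6 (c), (d), (e). -/
theorem sylow_fusion_stmt (p : ℕ) [hp : Fact p.Prime] (P : Sylow p G) :
    (∀ (Q : Subgroup G) (x : G), Q ≤ (P : Subgroup G) → Q.map (MulAut.conj x).toMonoidHom ≤ (P : Subgroup G) →
        ∃ y ∈ Subgroup.normalizer ((P : Subgroup G) : Set G), Q.map (MulAut.conj x).toMonoidHom = Q.map (MulAut.conj y).toMonoidHom) ∧
      (∀ Q : Subgroup G, Q ≤ (P : Subgroup G) →
        ¬ p ∣ ((P : Subgroup G) ⊓ Subgroup.normalizer (Q : Set G)).relIndex (Subgroup.normalizer (Q : Set G))) ∧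
      (∀ (R Q : Subgroup G), IsPGroup p R → Q ≤ (P : Subgroup G) ⊓ R →
        Subgroup.normalizer ((P : Subgroup G) : Set G) ≤ Subgroup.normalizer (Q : Set G) →
        Subgroup.normalizer (R : Set G) ≤ Subgroup.normalizer (Q : Set G)) := by
  have hfus := sylow_normalizer_controls hG hU hL P
  have hmul : ∀ (S : Subgroup G) (a b : G), (S.map (MulAut.conj b).toMonoidHom).map
      (MulAut.conj a).toMonoidHom = S.map (MulAut.conj (a * b)).toMonoidHom := by
    intro S a b
    rw [Subgroup.map_map, map_mul]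
    rfl
  have hsyl : ∀ R : Subgroup G, IsPGroup p R →
      ∃ x : G, R.map (MulAut.conj x).toMonoidHom ≤ (P : Subgroup G) := by
    intro R hR
    obtain ⟨S, hS⟩ := hR.exists_le_sylow
    obtain ⟨x, hx⟩ := MulAction.exists_smul_eq G S P
    refine ⟨x, (Subgroup.map_mono hS).trans (le_of_eq ?_)⟩
    rw [← hx]
    rfl
  refine ⟨hfus, fun Q hQ hd => ?_, fun R Q hR hQ hN g hg => ?_⟩
  · set N := Subgroup.normalizer (Q : Set G) with hN
    let T : Sylow p N := default
    set T₀ : Subgroup G := (T : Subgroup N).map N.subtype with hT₀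
    have hQT : Q ≤ T₀ := by
      obtain ⟨S, hS⟩ := ((P.isPGroup'.to_le hQ).comap_subtype (K := N)).exists_le_sylow
      obtain ⟨g, hg⟩ := MulAction.exists_smul_eq N S T
      intro q hq
      refine ⟨⟨q, Subgroup.le_normalizer hq⟩, ?_, rfl⟩
      rw [← hg, Sylow.coe_subgroup_smul, SetLike.mem_coe, Subgroup.mem_pointwise_smul_iff_inv_smul_mem]
      refine hS ?_
      simpa [Subgroup.mem_subgroupOf] using (Subgroup.mem_normalizer_iff''.1 g.2 q).1 hq
    obtain ⟨x, hx⟩ := hsyl T₀ (T.isPGroup'.map _)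
    obtain ⟨y, hy, hxy⟩ := hfus Q x hQ ((Subgroup.map_mono hQT).trans hx)
    have hz : y⁻¹ * x ∈ N := by
      rw [hN, Subgroup.mem_normalizer_iff_map_conj_eq]
      change Q.map (MulAut.conj (y⁻¹ * x)).toMonoidHom = Q
      rw [← hmul, hxy, hmul, inv_mul_cancel, map_one]
      exact Q.map_id
    have hle : T₀.map (MulAut.conj (y⁻¹ * x)).toMonoidHom ≤ (P : Subgroup G) ⊓ N := by
      refine le_inf ?_ ((Subgroup.map_mono (Subgroup.map_subtype_le _)).trans
        (le_of_eq (map_conj_eq_self (Subgroup.le_normalizer hz))))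
      rw [← hmul]
      refine (Subgroup.map_mono hx).trans (le_of_eq ?_)
      exact map_conj_eq_self (Subgroup.inv_mem _ hy)
    have hd' : p ∣ T₀.relIndex N := by
      have h1 := Subgroup.card_mul_index (T₀.subgroupOf N)
      have h2 := Subgroup.card_mul_index (((P : Subgroup G) ⊓ N).subgroupOf N)
      rw [Nat.card_congr (Subgroup.subgroupOfEquivOfLe (Subgroup.map_subtype_le _)).toEquiv] at h1
      rw [Nat.card_congr (Subgroup.subgroupOfEquivOfLe inf_le_right).toEquiv] at h2
      have h3 := Nat.le_of_dvd Nat.card_pos (Subgroup.card_dvd_of_le hle)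
      rw [card_map_conj] at h3
      have h4 : Nat.card T₀ ∣ Nat.card ↥((P : Subgroup G) ⊓ N) := by
        rw [← card_map_conj T₀ (y⁻¹ * x)]; exact Subgroup.card_dvd_of_le hle
      obtain ⟨k, hk⟩ := h4
      change Nat.card T₀ * T₀.relIndex N = _ at h1
      change _ * ((P : Subgroup G) ⊓ N).relIndex N = _ at h2
      rw [hk, mul_assoc] at h2
      rw [Nat.eq_of_mul_eq_mul_left Nat.card_pos (h1.trans h2.symm)]
      exact hd.mul_left k
    refine T.not_dvd_index ?_
    rwa [Subgroup.relIndex, Subgroup.subgroupOf, hT₀,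
      Subgroup.comap_map_eq_self_of_injective N.subtype_injective] at hd'
  · obtain ⟨x, hx⟩ := hsyl R hR
    have hQP : Q ≤ (P : Subgroup G) := hQ.trans inf_le_left
    have hQR : Q ≤ R := hQ.trans inf_le_right
    have key : ∀ z : G, Q.map (MulAut.conj z).toMonoidHom ≤ (P : Subgroup G) →
        Q.map (MulAut.conj z).toMonoidHom = Q := by
      intro z hz
      obtain ⟨y, hy, hzy⟩ := hfus Q z hQP hz
      rw [hzy]
      exact map_conj_eq_self (hN hy)
    have h1 := key x ((Subgroup.map_mono hQR).trans hx)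
    have h2 := key (x * g) (by
      rw [← hmul]
      refine (Subgroup.map_mono ?_).trans hx
      exact (Subgroup.map_mono hQR).trans (le_of_eq (map_conj_eq_self hg)))
    rw [Subgroup.mem_normalizer_iff_map_conj_eq]
    change Q.map (MulAut.conj g).toMonoidHom = Q
    refine Subgroup.map_injective (f := (MulAut.conj x).toMonoidHom) (MulAut.conj x).injective ?_
    rw [hmul, h1, h2]

/-- BG 10.6 (a), (b). -/
theorem sylow_commutator_complement (p : ℕ) [hp : Fact p.Prime] (P : Sylow p G)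
    (V : Subgroup G) (hV : IsComplIn (P : Subgroup G) V (Subgroup.normalizer ((P : Subgroup G) : Set G))) :
    (P : Subgroup G) = ⁅(P : Subgroup G), V⁆ ∧
      (P : Subgroup G) ≤ ⁅Subgroup.normalizer ((P : Subgroup G) : Set G), Subgroup.normalizer ((P : Subgroup G) : Set G)⁆ := by
  by_cases hP1 : (P : Subgroup G) = ⊥
  · rw [hP1]
    exact ⟨(Subgroup.commutator_bot_left V).symm, bot_le⟩
  set N := Subgroup.normalizer ((P : Subgroup G) : Set G) with hN
  have hPd : p ∣ Nat.card G := by
    obtain ⟨j, hj⟩ := P.isPGroup'.exists_card_eq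
    rcases j with _ | j
    · exact absurd (Subgroup.eq_bot_of_card_eq _ hj) hP1
    · exact (hj ▸ dvd_pow_self p j.succ_ne_zero).trans (Subgroup.card_subgroup_dvd_card _)
  have hPtop : (P : Subgroup G) ≠ ⊤ := fun h => not_isSolvable hG (by
    haveI := (P.isPGroup'.of_equiv ((MulEquiv.subgroupCongr h).trans Subgroup.topEquiv)).isNilpotent
    infer_instance)
  have hNtop : N ≠ ⊤ := normalizer_ne_top hG hP1 hPtop
  obtain ⟨M, hM, hNM⟩ := exists_coatom_ge hG hNtop
  have hPM : (P : Subgroup G) ≤ M := Subgroup.le_normalizer.trans hNM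
  have hd := pgroup_le_derived hG hU smallRankFrattini hM (mem_sigma_of_sylow hp.out hPd P hNM)
    P.isPGroup' hPM
  have hd' : ((P.subtype hPM : Sylow p M) : Subgroup M) ≤ commutator M := by
    intro y hy
    have h1 := hd (show (y : G) ∈ (P : Subgroup G) from hy)
    rw [← Subgroup.map_subtype_commutator M] at h1
    obtain ⟨z, hz, hzy⟩ := h1
    rwa [M.subtype_injective hzy] at hz
  have hPN : (P : Subgroup G) ≤ ⁅N, N⁆ := by
    have h1 := Subgroup.map_mono (f := M.subtype) (sylow_le_commutator_normalizer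
      ((plengthLE_one_iff).1 (hL p M hM.1)) (P.subtype hPM) hd')
    rw [Sylow.coe_subtype, Subgroup.map_subgroupOf_eq_of_le hPM, Subgroup.map_commutator] at h1
    have hle : (Subgroup.normalizer (((P : Subgroup G).subgroupOf M : Subgroup M) : Set M)).map
        M.subtype ≤ N := by
      refine (Subgroup.le_normalizer_map _).trans (le_of_eq ?_)
      rw [Subgroup.map_subgroupOf_eq_of_le hPM]
    exact h1.trans (Subgroup.commutator_mono hle hle)
  refine ⟨?_, hPN⟩
  haveI : Group.IsSolvable N := isSolvable_of_ne_top hG hNtop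
  set P' : Subgroup N := (P : Subgroup G).subgroupOf N with hP'
  set V' : Subgroup N := V.subgroupOf N with hV'
  haveI : P'.Normal := Subgroup.normal_in_normalizer
  have hcompl : Subgroup.IsComplement' P' V' := by
    refine Subgroup.isComplement'_of_disjoint_and_mul_eq_univ ?_ ?_
    · rw [disjoint_iff, hP', hV', Subgroup.subgroupOf, Subgroup.subgroupOf, ← Subgroup.comap_inf, hV.2.2.1]
      exact Subgroup.bot_subgroupOf N
    · refine Set.eq_univ_of_forall fun z => ?_
      obtain ⟨a, ha, b, hb, hab⟩ := hV.2.2.2 z z.2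
      exact ⟨⟨a, hV.1 ha⟩, ha, ⟨b, hV.2.1 hb⟩, hb, Subtype.ext hab.symm⟩
  have hco : (Nat.card P').Coprime P'.index := by
    obtain ⟨j, hj⟩ := P.isPGroup'.exists_card_eq
    have hc : Nat.card P' = p ^ j := by
      rw [← hj]; exact Nat.card_congr (Subgroup.subgroupOfEquivOfLe Subgroup.le_normalizer).toEquiv
    rw [hc]
    exact ((hp.out.coprime_iff_not_dvd).2 (P.subtype Subgroup.le_normalizer).not_dvd_index).pow_left j
  have hP'd : P' ≤ commutator N := by
    intro y hy
    have h1 := hPN (show (y : G) ∈ (P : Subgroup G) from hy)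
    rw [← Subgroup.map_subtype_commutator N] at h1
    obtain ⟨z, hz, hzy⟩ := h1
    rwa [N.subtype_injective hzy] at hz
  have key := congrArg (Subgroup.map N.subtype)
    ((S1459.result (G := N)).1 P' V' inferInstance hco hcompl hP'd).1
  rwa [Subgroup.map_commutator, hP', hV', Subgroup.map_subgroupOf_eq_of_le hV.1,
    Subgroup.map_subgroupOf_eq_of_le hV.2.1] at key

end Cfsg.Agent.BGSigma
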