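import Cfsg.Agent.BGSigma.TauPoint

/-!
BG Section 13: for `p ∈ τ₁(M)`, the fixed points of a line `P` in `M_σ` are centralised by the
lines of `C_M(P)` outside `σ(M)`, as far as the `σ`-primes involved belong to `M` alone.
-/

set_option autoImplicit false

namespace Cfsg.Agent.BGSigma

open Cfsg Subgroup
open scoped commutatorElement Pointwise

universe u

variable {G : Type u} [Group G] [Finite G]
variable (hG : IsMinSimpleOddOrder G) (h : LocalInputs G) (hT : TwelveInputs G)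
include hG h hT

/-- A line of `M` with its normaliser in `L ≠ M` puts a plane of `τ₂(L)` inside `M`. -/
theorem inf_sigmaCore_eq_bot_of_meet {M L X : Subgroup G} {s : ℕ} [hs : Fact s.Prime]
    (hM : IsCoatom M) (hL : IsCoatom L) (hsM : s ∈ sigma M) (hs2 : s ∈ tau2 L)
    (hX : IsPGroup s X) (hX1 : X ≠ ⊥) (hXM : X ≤ M) (hne : L ≠ M)
    (hNX : normalizer (X : Set G) ≤ L) : sigmaCore L ⊓ M = ⊥ := by
  have hXL : X ≤ L := le_normalizer.trans hNX
  obtain ⟨S, hS⟩ := (hX.comap_subtype (K := M ⊓ L)).exists_le_sylow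
  obtain ⟨-, -, hidx⟩ := hT.sigmaNormalizer M hM s hsM X hX hX1 hXM L hL hne hNX S
    (fun y hy => ⟨⟨y, hXM hy, hXL hy⟩, hS hy, rfl⟩)
  set S₀ := (S : Subgroup ↥(M ⊓ L)).map (M ⊓ L).subtype with hS₀
  have hS₀L : S₀ ≤ L := (map_subtype_le _).trans inf_le_right
  have hr1 : ¬ PRankLE s 1 S₀ := fun hr => hs2.2.2.2 ((prankLE_iff_sylow
    (((S.isPGroup'.map _).comap_subtype).toSylow hidx)).2
      ((prankLE_congr (subgroupOfEquivOfLe hS₀L)).2 hr))
  obtain ⟨B, hBS, hBe, hBc⟩ := exists_elemAbelian_sq_le hr1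
  exact (tau_two_stmt hG h L hL hs2 B ⟨hBS.trans hS₀L, hBe, hBc⟩).2.2.2.2.1 M hM (Ne.symm hne)
    (hBS.trans ((map_subtype_le _).trans inf_le_left))

omit hT in
/-- Planes of two primes of `τ₂(L)` commute. -/
theorem exists_plane_centralizing {L A : Subgroup G} {p r : ℕ} [hp : Fact p.Prime]
    [hr : Fact r.Prime] (hL : IsCoatom L) (hp2 : p ∈ tau2 L) (hr2 : r ∈ tau2 L) (hrp : r ≠ p)
    (hAL : A ≤ L) (hA : IsElementaryAbelian p A) (hAc : Nat.card A = p ^ 2) :
    ∃ B : Subgroup G, B ≤ L ∧ IsElementaryAbelian r B ∧ Nat.card B = r ^ 2 ∧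
      B ≤ centralizer (A : Set G) := by
  have hAp : IsPGroup p A := isPGroup_of_pow_eq_one hp.out hA.2
  obtain ⟨E, hE, hle⟩ := exists_compl_ge hG hL hAL fun q hq hd => by
    rw [eq_of_dvd_card_pgroup hAp hq hd]; exact hp2.2.1
  obtain ⟨B, hB⟩ := BGTwelve.exists_sq_le_compl hG hL hE (q := r) hr2
  have hnA := BGTwelve.compl_le_normalizer_sq hG h hL hE hp2 ⟨hle, hA, hAc⟩
  have hnB := BGTwelve.compl_le_normalizer_sq hG h hL hE hr2 hB
  refine ⟨B, hB.1.trans hE.1, hB.2.1, hB.2.2, ?_⟩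
  have hbot : B ⊓ A = ⊥ := inf_eq_bot_of_coprime (by
    rw [hB.2.2, hAc]; exact ((Nat.coprime_primes hr.out hp.out).2 hrp).pow 2 2)
  rw [← commutator_eq_bot_iff_le_centralizer, eq_bot_iff, ← hbot]
  refine le_inf (Coprime.commutator_le_of_le_normalizer (hle.trans hnB)) ?_
  rw [commutator_comm]
  exact Coprime.commutator_le_of_le_normalizer (hB.1.trans hnA)

/-- An element normalising a line `W` of `C_{M_σ}(P)` and `P` centralises `P`. -/
theorem centralizes_line_of_normalizes {M L P W : Subgroup G} {p s : ℕ} [hp : Fact p.Prime]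
    [hs : Fact s.Prime] (hM : IsCoatom M) (hp1 : p ∈ tau1 M) (hPM : P ≤ M) (hPc : Nat.card P = p)
    (hNL : normalizer (P : Set G) ≤ L) (hsr : PRankLE s 1 L)
    (hWM : W ≤ sigmaCore M) (hWc : Nat.card W = s) (hWP : W ≤ centralizer (P : Set G))
    (hdisj : ∀ N : Subgroup G, IsCoatom N → s ∈ sigma N →
      ∃ g : G, N = M.map (MulAut.conj g).toMonoidHom) :
    normalizer (W : Set G) ⊓ normalizer (P : Set G) ≤ centralizer (P : Set G) := by
  have hsM : s ∈ sigma M := isPiSub_sigmaCore M s hs.out (hWc ▸ card_dvd_of_le hWM)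
  obtain ⟨L₂, hL₂, hNW⟩ := exists_coatom_ge hG (normalizer_ne_top hG
    (ne_bot_of_prime_card hs.out hWc) (isCoatom_ne_top hM (hWM.trans (sigmaCore_le M))))
  intro g hg
  by_cases hne : L₂ = M
  · rw [mem_centralizer_iff]
    intro x hx
    have h1 : g * x * g⁻¹ * x⁻¹ ∈ P ⊓ ⁅M, M⁆ := by
      refine ⟨P.mul_mem ((mem_normalizer_iff.1 hg.2 x).1 hx) (P.inv_mem hx), ?_⟩
      exact commutator_mem_commutator (hne ▸ hNW hg.1) (hPM hx)
    have h0 : P ⊓ ⁅M, M⁆ = ⊥ := inf_eq_bot_of_coprime (by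
      rw [hPc]; exact hp.out.coprime_iff_not_dvd.2 hp1.2.2.2.1)
    rw [h0, Subgroup.mem_bot, mul_inv_eq_one, mul_inv_eq_iff_eq_mul] at h1
    exact h1.symm
  have hWp := isPGroup_of_prime_card hWc
  have hWM' : W ≤ M := hWM.trans (sigmaCore_le M)
  have hW1 := ne_bot_of_prime_card hs.out hWc
  have hs0 : s ∉ sigma L₂ := fun hs0 => by
    obtain ⟨S, hS⟩ := (hWp.comap_subtype (K := M ⊓ L₂)).exists_le_sylow
    obtain ⟨hnc, -, -⟩ := hT.sigmaNormalizer M hM s hsM W hWp hW1 hWM' L₂ hL₂ hne hNW S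
      (fun y hy => ⟨⟨y, hWM' hy, (le_normalizer.trans hNW) hy⟩, hS hy, rfl⟩)
    obtain ⟨a, ha⟩ := hdisj L₂ hL₂ hs0
    exact hnc a ha
  obtain ⟨hrk, -, -⟩ := rank_two_of_normalizer_le hG h.uniq L₂ hL₂ s hs0 W hWc hNW
  have hs2 : s ∈ tau2 L₂ := ⟨hs.out, hs0, hrk.1, hrk.2⟩
  have hbot := inf_sigmaCore_eq_bot_of_meet hG h hT hM hL₂ hsM hs2 hWp hW1 hWM' hne hNW
  have hPL : P ≤ L₂ :=
    ((le_centralizer_iff.1 hWP).trans (centralizer_le_normalizer _)).trans hNW
  have hps : p ∉ sigma L₂ := fun hps => ne_bot_of_prime_card hp.out hPc (le_bot_iff.1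
    ((le_inf (le_sigmaCore_of_pgroup hG hL₂ hps (isPGroup_of_prime_card hPc) hPL) hPM).trans
      hbot.le))
  obtain ⟨E, hE, hPE⟩ := exists_compl_ge hG hL₂ hPL fun q hq hd => by
    rw [eq_of_dvd_card_pgroup (isPGroup_of_prime_card hPc) hq hd]; exact hps
  obtain ⟨A, hA⟩ := BGTwelve.exists_sq_le_compl hG hL₂ hE (q := s) hs2
  have hEA := BGTwelve.compl_le_normalizer_sq hG h hL₂ hE hs2 hA
  have hPA : ¬ A ≤ centralizer (P : Set G) := fun hle => by
    refine not_prankLE_of_elemAbelian hA.2.1 ((hle.trans (centralizer_le_normalizer _)).trans hNL)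
      ?_ hsr
    rw [hA.2.2, pow_one]; nlinarith [hs.out.two_le]
  have hsp : s ≠ p := fun h0 => hp1.2.1 (h0 ▸ hsM)
  obtain ⟨e, he, a, ha, hga⟩ := hE.2.2.2 g (hNW hg.1)
  have hfix : ∀ x ∈ P, a * x * a⁻¹ = x := by
    intro x hx
    have hx' : g * x * g⁻¹ ∈ P := (mem_normalizer_iff.1 hg.2 x).1 hx
    have h1 : a * x * a⁻¹ * x⁻¹ ∈ E ⊓ sigmaCore L₂ := by
      refine ⟨E.mul_mem ?_ (E.inv_mem (hPE hx)), ?_⟩
      · have h2 : a * x * a⁻¹ = e⁻¹ * (g * x * g⁻¹) * e := by rw [hga]; group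
        rw [h2]
        exact E.mul_mem (E.mul_mem (E.inv_mem he) (hPE hx')) he
      · rw [show a * x * a⁻¹ * x⁻¹ = a * (x * a⁻¹ * x⁻¹) by group]
        exact (sigmaCore L₂).mul_mem ha ((mem_normalizer_iff.1
          (le_normalizer_sigmaCore L₂ (hPL hx)) _).1 ((sigmaCore L₂).inv_mem ha))
    rwa [hE.2.2.1, Subgroup.mem_bot, mul_inv_eq_one] at h1
  rw [mem_centralizer_iff]
  intro x hx
  have hgx : g * x * g⁻¹ = e * x * e⁻¹ := by
    rw [hga, show e * a * x * (e * a)⁻¹ = e * (a * x * a⁻¹) * e⁻¹ by group, hfix x hx]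
  suffices hc : e * x * e⁻¹ * x⁻¹ = 1 by
    rw [mul_inv_eq_one, ← hgx, mul_inv_eq_iff_eq_mul] at hc
    exact hc.symm
  by_contra hc
  have hcP : e * x * e⁻¹ * x⁻¹ ∈ P :=
    hgx ▸ P.mul_mem ((mem_normalizer_iff.1 hg.2 x).1 hx) (P.inv_mem hx)
  have hPd : P ≤ ⁅E, E⁆ := by
    have hz : zpowers (e * x * e⁻¹ * x⁻¹) = P := by
      refine eq_of_le_of_card_ge (zpowers_le.2 hcP) ?_
      rw [hPc, Nat.card_zpowers]
      refine Nat.le_of_dvd (orderOf_pos _) ?_
      rcases (Nat.dvd_prime hp.out).1 (hPc ▸ Subgroup.orderOf_dvd_natCard P hcP) with h1 | h1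
      · exact absurd (orderOf_eq_one_iff.1 h1) hc
      · rw [h1]
    rw [← hz]
    exact zpowers_le.2 (commutator_mem_commutator he (hPE hx))
  refine hPA (OddLocal43.le_centralizer_of_double_commutator (hPE.trans hEA) ?_ ?_)
  · rw [hPc, hA.2.2]
    exact ((Nat.coprime_primes hp.out hs.out).2 (Ne.symm hsp)).pow_right 2
  · haveI := BGTwelve.isMulCommutative_derived_compl hG h hL₂ hE
    exact (commutator_mono hA.1 hPE).trans ((le_centralizer_self_of_comm inferInstance).trans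
      (centralizer_anti hPd))

/-- A line `W` of `C_{M_σ}(P)` does not centralise a cyclic Sylow subgroup over `P`. -/
theorem not_le_centralizer_cyclic_sylow {M L P W : Subgroup G} {p s : ℕ} [hp : Fact p.Prime]
    [hs : Fact s.Prime] (hM : IsCoatom M) (hp1 : p ∈ tau1 M) (hPM : P ≤ M) (hPc : Nat.card P = p)
    (hNL : normalizer (P : Set G) ≤ L) (hsr : PRankLE s 1 L) (S : Sylow p G)
    (hSc : IsCyclic (S : Subgroup G)) (hPS : P ≤ (S : Subgroup G))
    (hWM : W ≤ sigmaCore M) (hWc : Nat.card W = s) (hWS : W ≤ centralizer ((S : Subgroup G) : Set G))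
    (hdisj : ∀ N : Subgroup G, IsCoatom N → s ∈ sigma N →
      ∃ g : G, N = M.map (MulAut.conj g).toMonoidHom) : False := by
  haveI := hSc
  have hWP : W ≤ centralizer (P : Set G) := hWS.trans (centralizer_anti hPS)
  have hkey := centralizes_line_of_normalizes hG h hT hM hp1 hPM hPc hNL hsr hWM hWc hWP hdisj
  set C := centralizer ((S : Subgroup G) : Set G) with hC
  have hCP : C ≤ centralizer (P : Set G) := centralizer_anti hPS
  have hCL : C ≤ L := (hCP.trans (centralizer_le_normalizer _)).trans hNL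
  have hS1 : (S : Subgroup G) ≠ ⊥ := fun h0 =>
    ne_bot_of_prime_card hp.out hPc (le_bot_iff.1 (h0 ▸ hPS))
  obtain ⟨X, hXS, hXc, hnX, hfixX⟩ := exists_order_prime_of_cyclic S.isPGroup' hSc hS1
  have hXP : X = P := eq_of_le_cyclic hXS hPS (hXc.trans hPc.symm)
  rw [hXP] at hnX hfixX
  obtain ⟨Q, hQ⟩ := ((isPGroup_of_prime_card hWc).comap_subtype (K := C)).exists_le_sylow
  set Q₀ := (Q : Subgroup C).map C.subtype with hQ₀
  have hQ₀p : IsPGroup s Q₀ := Q.isPGroup'.map _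
  have hWQ : W ≤ Q₀ := fun w hw => ⟨⟨w, hWS hw⟩, hQ hw, rfl⟩
  haveI hQc : IsCyclic Q₀ :=
    isCyclic_of_prankLE_one hG hsr hQ₀p ((map_subtype_le _).trans hCL)
  have hQ1 : Q₀ ≠ ⊥ := fun h0 => ne_bot_of_prime_card hs.out hWc (le_bot_iff.1 (h0 ▸ hWQ))
  obtain ⟨X', hX'Q, hX'c, hnX', -⟩ := exists_order_prime_of_cyclic hQ₀p hQc hQ1
  rw [eq_of_le_cyclic hX'Q hWQ (hX'c.trans hWc.symm)] at hnX'
  have hNC : normalizer ((S : Subgroup G) : Set G) ≤ centralizer (P : Set G) := by
    intro g hg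
    have hgC : g ∈ normalizer (C : Set G) := Coprime.le_normalizer_centralizer
      (le_refl (normalizer ((S : Subgroup G) : Set G))) hg
    set T := Q₀.map (MulAut.conj g).toMonoidHom with hT'
    have hTC : T ≤ C := (map_mono (map_subtype_le _)).trans (map_conj_eq_self hgC).le
    have hTidx : ¬ s ∣ (T.subgroupOf C).index := by
      intro hd
      refine Q.not_dvd_index ?_
      have h1 : Nat.card (T.subgroupOf C) = Nat.card (Q : Subgroup C) := by
        rw [Nat.card_congr (subgroupOfEquivOfLe hTC).toEquiv, hT', card_map_conj, hQ₀,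
          card_map_of_injective C.subtype_injective]
      have h2 := (T.subgroupOf C).card_mul_index
      rw [← (Q : Subgroup C).card_mul_index, h1] at h2
      rwa [← Nat.eq_of_mul_eq_mul_left Nat.card_pos h2]
    obtain ⟨c, hc⟩ := MulAction.exists_smul_eq C
      (((hQ₀p.map _).comap_subtype (K := C)).toSylow hTidx) Q
    have hcg : (c : G) * g ∈ normalizer (Q₀ : Set G) := by
      rw [mem_normalizer_iff_map_conj_eq]
      refine eq_of_le_of_card_ge ?_ (card_map_conj Q₀ _).ge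
      rintro _ ⟨q, hq, rfl⟩
      have hq' : (⟨g * q * g⁻¹, hTC ⟨q, hq, rfl⟩⟩ : C) ∈
          ((((hQ₀p.map (MulAut.conj g).toMonoidHom).comap_subtype (K := C)).toSylow hTidx :
            Sylow s C) : Subgroup C) := ⟨q, hq, rfl⟩
      refine ⟨c * ⟨g * q * g⁻¹, hTC ⟨q, hq, rfl⟩⟩ * c⁻¹, ?_, by simp [mul_assoc]⟩
      rw [← hc, Sylow.coe_subgroup_smul]
      exact smul_mem_pointwise_smul _ (MulAut.conj c) _ hq'
    have hcgP : (c : G) * g ∈ centralizer (P : Set G) :=
      hkey ⟨hnX' hcg, mul_mem (centralizer_le_normalizer _ (hCP c.2)) (hnX hg)⟩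
    have := (centralizer (P : Set G)).mul_mem ((centralizer (P : Set G)).inv_mem (hCP c.2)) hcgP
    rwa [inv_mul_cancel_left] at this
  obtain ⟨v, hvN, ⟨q, k, hq, hqp, hvo⟩, t, ht, hnt⟩ := exists_moving hG h S
    (bot_lt_iff_ne_bot.2 hS1) (by rw [normalizer_eq_top_iff.2 (inferInstance : (⊥ : Subgroup G).Normal)]; exact le_top)
  refine hnt (Subgroup.mem_bot.2 ?_)
  have hvc : zpowers v ≤ centralizer ((S : Subgroup G) : Set G) := by
    refine hfixX _ (zpowers_le.2 hvN) ?_ inferInstance (zpowers_le.2 (hNC hvN))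
    rw [Nat.card_zpowers, hvo]
    exact fun hd => hqp ((Nat.prime_dvd_prime_iff_eq hp.out hq).1 (hp.out.dvd_of_dvd_pow hd)).symm
  rw [mem_centralizer_iff.1 (hvc (mem_zpowers v)) t ht]
  group

/-- BG 13.4, with the disjointness of `σ`-primes as a hypothesis on the primes involved. -/
theorem le_centralizer_of_tau1 {M P R Z : Subgroup G} {p r : ℕ} [hp : Fact p.Prime]
    [hr : Fact r.Prime] (hM : IsCoatom M) (hp1 : p ∈ tau1 M) (hPM : P ≤ M) (hPc : Nat.card P = p)
    (hRM : R ≤ M) (hRP : R ≤ centralizer (P : Set G)) (hRc : Nat.card R = r) (hrs : r ∉ sigma M)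
    (hZ : Z ≤ sigmaCore M) (hRZ : R ≤ normalizer (Z : Set G))
    (hdisj : ∀ s : ℕ, s.Prime → s ∣ Nat.card Z → ∀ N : Subgroup G, IsCoatom N → s ∈ sigma N →
      ∃ g : G, N = M.map (MulAut.conj g).toMonoidHom) :
    Z ⊓ centralizer (P : Set G) ≤ centralizer (R : Set G) := by
  obtain ⟨-, hps, -, -, hp1r⟩ := id hp1
  obtain ⟨L, hL, hNL, hnc⟩ := exists_coatom_normalizer hG h hM hps hp1r hPM hPc
  by_cases hpL : p ∈ sigma L
  swap
  · intro y hy
    refine mem_centralizer_iff.2 fun w hw => ?_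
    rcases (Nat.dvd_prime hr.out).1 (hRc ▸ Subgroup.orderOf_dvd_natCard R hw) with h1 | h1
    · rw [orderOf_eq_one_iff.1 h1]; group
    · exact (mem_centralizer_singleton_iff.1 (inf_centralizer_le_of_not_sigma hG h hT hr.out hM hps
        hp1r hPM hPc hL hNL hnc hpL (hRM hw) (hRP hw) (k := 1) (h1.trans (pow_one r).symm)
        ⟨hZ hy.1, hy.2⟩)).symm
  by_cases hrp : r = p
  · subst hrp
    have hPR : R = P := by
      haveI := isCyclic_of_prankLE_one hG hp1r
        (IsPGroup.to_sup_of_normal_left' (isPGroup_of_prime_card hPc) (isPGroup_of_prime_card hRc)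
          (hRP.trans (centralizer_le_normalizer _))) (sup_le hPM hRM)
      exact eq_of_le_cyclic le_sup_right le_sup_left (hRc.trans hPc.symm)
    rw [hPR]; exact inf_le_right
  set Y := Z ⊓ centralizer (P : Set G) with hY
  have hRY : R ≤ normalizer (Y : Set G) :=
    Coprime.le_normalizer_inf hRZ (hRP.trans le_normalizer)
  have hYσ : Y ≤ sigmaCore M := inf_le_left.trans hZ
  have hYP : Y ≤ centralizer (P : Set G) := inf_le_right
  have hYL : Y ≤ L := (hYP.trans (centralizer_le_normalizer _)).trans hNL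
  have hRL : R ≤ L := (hRP.trans (centralizer_le_normalizer _)).trans hNL
  have hPL : P ≤ L := le_normalizer.trans hNL
  have hPσ : P ≤ sigmaCore L :=
    le_sigmaCore_of_pgroup hG hL hpL (isPGroup_of_prime_card hPc) hPL
  have hYr : ¬ r ∣ Nat.card Y := fun hd =>
    hrs (isPiSub_sigmaCore M r hr.out (hd.trans (card_dvd_of_le hYσ)))
  refine le_of_sylow_le fun s hs' hsd => ?_
  haveI := Fact.mk hs'
  haveI : IsCyclic R := isCyclic_of_prime_card hRc
  obtain ⟨T, hTR⟩ := Coprime.exists_invariant_sylow R Y hRY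
    (by rw [hRc]; exact hr.out.coprime_iff_not_dvd.2 hYr) (Or.inl inferInstance) s
  set T₀ := (T : Subgroup Y).map Y.subtype with hT₀
  refine ⟨T, ?_⟩
  have hsM : s ∈ sigma M := isPiSub_sigmaCore M s hs' (hsd.trans (card_dvd_of_le hYσ))
  have hdisj' := hdisj s hs' (hsd.trans (card_dvd_of_le inf_le_left))
  have hsL : s ∉ sigma L := fun h0 => by
    obtain ⟨g, hg⟩ := hdisj' L hL h0; exact hnc g hg
  have hsr' : s ≠ r := fun h0 => hYr (h0 ▸ hsd)
  have hsp : s ≠ p := fun h0 => hps (h0 ▸ hsM)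
  have hsR : ¬ s ∣ Nat.card R := by
    rw [hRc]; exact fun hd => hsr' ((Nat.prime_dvd_prime_iff_eq hs' hr.out).1 hd)
  have hTp : IsPGroup s T₀ := T.isPGroup'.map _
  have hTY : T₀ ≤ Y := map_subtype_le _
  by_cases hrL : r ∈ sigma L
  · exact le_centralizer_of_derived hG h hL
      (fun hb => hsL (mem_sigma_of_mem_alpha hG h.uniq hL hb.1))
      (le_derived_of_sigma hG hL hrL (isPGroup_of_prime_card hRc) hRL) hsR (hTY.trans hYL) hTp hTR
  refine OddLocal43.le_centralizer_of_order_p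
    (ne_two_of_dvd hG (H := M) hsM.2.1) (hs'.coprime_iff_not_dvd.2 hsR).symm hTp hTR
    fun w hw hwo => ?_
  by_contra hwR
  set W := zpowers w with hW
  have hWc : Nat.card W = s := by rw [hW, Nat.card_zpowers, hwo]
  have hWT : W ≤ T₀ := zpowers_le.2 hw
  have hWσ : W ≤ sigmaCore M := (hWT.trans hTY).trans hYσ
  have hWM : W ≤ M := hWσ.trans (sigmaCore_le M)
  have hWP : W ≤ centralizer (P : Set G) := (hWT.trans hTY).trans hYP
  have hWL : W ≤ L := (hWT.trans hTY).trans hYL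
  have hW1 := ne_bot_of_prime_card hs' hWc
  -- `L` has `s`-rank one
  have hsr1 : PRankLE s 1 L := by
    by_contra hs1
    have hs2 : s ∈ tau2 L := ⟨hs', hsL, not_sigma_rank_two hG h.uniq hL hs' hsL, hs1⟩
    obtain ⟨E, hE, -⟩ := exists_compl_ge hG hL (bot_le : (⊥ : Subgroup G) ≤ L)
      (fun q hq hd => absurd (by simpa using hd) hq.ne_one)
    obtain ⟨x, hx⟩ := Subgroup.ne_bot_iff_exists_ne_one.1 (ne_bot_of_prime_card hp.out hPc)
    obtain ⟨hCw, hCu⟩ := BGTwelve.uniq_centralizer_tau2 hG h hL hE (hWL (mem_zpowers w))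
      (fun h0 => hwR (h0 ▸ one_mem _))
      (fun q hq hd => by
        rw [hwo, Nat.prime_dvd_prime_iff_eq hq hs'] at hd; exact hd ▸ hs2)
      ⟨hWL (mem_zpowers w), x, hPσ x.2, fun h0 => hx (Subtype.ext h0),
        (mem_centralizer_iff.1 (hWP (mem_zpowers w)) x x.2).symm⟩
    have hCW : centralizer (W : Set G) = centralizer ({w} : Set G) := by
      rw [hW, zpowers_eq_closure, centralizer_closure]
    have hNW : normalizer (W : Set G) ≤ L := fun g hg => by
      rw [← coatom_self_normalizing hG hL, mem_normalizer_iff_map_conj_eq]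
      refine hCu _ (isCoatom_map_conj hL g) ?_
      rw [← hCW]
      exact (map_conj_eq_self (Coprime.le_normalizer_centralizer
        (le_refl (normalizer (W : Set G))) hg)).ge.trans (map_mono (hCW.le.trans hCw))
    exact ne_bot_of_prime_card hp.out hPc (le_bot_iff.1 ((le_inf hPσ hPM).trans
      (inf_sigmaCore_eq_bot_of_meet hG h hT hM hL hsM hs2 (isPGroup_of_prime_card hWc) hW1 hWM
        (fun h0 => hsL (h0 ▸ hsM)) hNW).le))
  have hRW : R ≤ normalizer (W : Set G) := by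
    haveI := isCyclic_of_prankLE_one hG hsr1 hTp (hTY.trans hYL)
    obtain ⟨X, hXT, hXc, hnX, -⟩ := exists_order_prime_of_cyclic hTp inferInstance
      (fun h0 => hW1 (le_bot_iff.1 (h0 ▸ hWT)))
    rw [eq_of_le_cyclic hXT hWT (hXc.trans hWc.symm)] at hnX
    exact hTR.trans hnX
  have hnWR : ¬ W ≤ centralizer (R : Set G) := fun h0 => hwR (h0 (mem_zpowers w))
  have hWq : ∀ q : ℕ, q.Prime → q ∣ Nat.card W → q ∉ sigma L := fun q hq hd => by
    rw [eq_of_dvd_card_pgroup (isPGroup_of_prime_card hWc) hq hd]; exact hsL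
  have hrW : ¬ r ∣ Nat.card W := by
    rw [hWc]; exact fun hd => hsr' ((Nat.prime_dvd_prime_iff_eq hr.out hs').1 hd).symm
  have hr1 : PRankLE r 1 L := by
    by_contra hr1
    exact hnWR (le_centralizer_of_tau2 hG h hL
      ⟨hr.out, hrL, not_sigma_rank_two hG h.uniq hL hr.out hrL, hr1⟩ hRL hRc hWL hrW hWq hRW)
  -- an invariant Sylow `p`-subgroup of `L`
  have hA : W ⊔ R ≤ L := sup_le hWL hRL
  have hAco : (Nat.card (W ⊔ R : Subgroup G)).Coprime (Nat.card (sigmaCore L)) :=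
    Nat.coprime_of_dvd fun q hq h1 h2 => by
      rcases prime_dvd_sup hRW hq h1 with h3 | h3
      · exact hWq q hq h3 (isPiSub_sigmaCore L q hq h2)
      · rw [eq_of_dvd_card_pgroup (isPGroup_of_prime_card hRc) hq h3] at h2
        exact hrL (isPiSub_sigmaCore L r hr.out h2)
  have hAs : Group.IsSolvable (W ⊔ R : Subgroup G) :=
    Coprime.solvable_of_le hA (coatom_isSolvable hG hL)
  obtain ⟨S', hPS', hS'n⟩ := Coprime.exists_invariant_sylow_ge (W ⊔ R) (sigmaCore L)
    (hA.trans (le_normalizer_sigmaCore L)) hAco (Or.inl hAs) p P hPσ (isPGroup_of_prime_card hPc)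
    ((sup_le hWP hRP).trans (centralizer_le_normalizer _))
  have hidx : ¬ p ∣ ((S' : Subgroup (sigmaCore L)).map (sigmaCore L).subtype).index := by
    intro hd
    rw [← relIndex_mul_index (map_subtype_le (S' : Subgroup (sigmaCore L))),
      ← relIndex_mul_index (sigmaCore_le L)] at hd
    rcases hp.out.dvd_mul.1 hd with h' | h'
    · refine S'.not_dvd_index ?_
      rwa [Subgroup.relIndex, Subgroup.subgroupOf,
        comap_map_eq_self_of_injective (sigmaCore L).subtype_injective] at h'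
    · rcases hp.out.dvd_mul.1 h' with h'' | h''
      · exact (sigmaCore_hall hG h.uniq smallRankFrattini fittingRankTwoDerived hL).1.2.2 p hp.out
          hpL h''
      · exact not_dvd_index_of_mem_sigma hpL h''
  obtain ⟨S, hSdef⟩ : ∃ S : Sylow p G, (S : Subgroup G) =
      (S' : Subgroup (sigmaCore L)).map (sigmaCore L).subtype :=
    ⟨(S'.isPGroup'.map _).toSylow hidx, rfl⟩
  rw [← hSdef] at hPS' hS'n
  have hSL : (S : Subgroup G) ≤ L := hSdef ▸ (map_subtype_le _).trans (sigmaCore_le L)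
  have hWS : W ≤ normalizer ((S : Subgroup G) : Set G) := le_sup_left.trans hS'n
  have hRS : R ≤ normalizer ((S : Subgroup G) : Set G) := le_sup_right.trans hS'n
  have hp2 : p ≠ 2 := ne_two_of_dvd hG (H := L) hpL.2.1
  have hcube : ∀ {B : Subgroup G} {N : Subgroup G}, IsElementaryAbelian p B → p ^ 2 < Nat.card B →
      IsCoatom N → B ≤ L → B ≤ N → N = L := fun {B N} hBe hBc hN hBL hBN =>
    uniq_of_pgroup h.uniq hp.out (not_prankLE_of_elemAbelian hBe le_rfl hBc) hN hL hBN hBL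
  by_cases hfix : ∀ x ∈ (S : Subgroup G), x ^ p = 1 → x ∈ centralizer (R : Set G) →
      x ∈ centralizer (W : Set G)
  · -- `W` centralises `S`
    have hpW : ¬ p ∣ Nat.card W := by
      rw [hWc]; exact fun hd => hsp ((Nat.prime_dvd_prime_iff_eq hp.out hs').1 hd).symm
    have hpR : ¬ p ∣ Nat.card R := by
      rw [hRc]; exact fun hd => hrp ((Nat.prime_dvd_prime_iff_eq hp.out hr.out).1 hd).symm
    have hWR : ⁅W, R⁆ = W := by
      refine eq_of_le_of_card_ge (Coprime.commutator_le_of_le_normalizer hRW) ?_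
      rcases (Nat.dvd_prime hs').1 (hWc ▸ card_dvd_of_le
        (Coprime.commutator_le_of_le_normalizer hRW)) with h1 | h1
      · exact absurd (commutator_eq_bot_iff_le_centralizer.1 (eq_bot_of_card_eq _ h1)) hnWR
      · rw [h1, hWc]
    have hWCS : W ≤ centralizer ((S : Subgroup G) : Set G) := by
      rw [← hWR]
      exact commutator_le_centralizer_of_fixed_order_p h.fixedPoint hG.1 hp2 S.isPGroup' hWS hRS
        hRW (hRc ▸ hr.out) hpW hpR
        (by rw [hWc, hRc]; exact (Nat.coprime_primes hs' hr.out).2 hsr') hAs hfix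
    by_cases hSc : IsCyclic (S : Subgroup G)
    · exact not_le_centralizer_cyclic_sylow hG h hT hM hp1 hPM hPc hNL hsr1 S hSc hPS' hWσ hWc hWCS
        hdisj'
    obtain ⟨B, hBS, hBe, hBc, hPB⟩ := exists_elemAbelian_sq_ge hp2 S.isPGroup' hPS' hPc hSc
    by_cases hpi : IsIdealPrime p G
    · obtain ⟨B', hB'S, hB'e, hlt⟩ := hpi.2.2 S B hBS hBe hBc
      obtain ⟨L₂, hL₂, hNW⟩ := exists_coatom_ge hG
        (normalizer_ne_top hG hW1 (isCoatom_ne_top hM hWM))
      have hB'c : p ^ 2 < Nat.card B' := by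
        rw [← hBc]
        refine lt_of_le_of_ne (Nat.le_of_dvd Nat.card_pos (card_dvd_of_le hlt.le)) fun h0 => ?_
        exact hlt.ne (eq_of_le_of_card_ge hlt.le h0.ge)
      have hLL := hcube hB'e hB'c hL₂ (hB'S.trans hSL)
        (((hB'S.trans (le_centralizer_iff.1 hWCS)).trans (centralizer_le_normalizer _)).trans hNW)
      exact (rank_two_of_normalizer_le hG h.uniq L hL s hsL W hWc (hLL ▸ hNW)).1.2 hsr1
    · have hbot := inf_centralizer_plane_eq_bot hG h hT hM hps hp1r hPM hPc hPB hBe hBc hpi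
      exact hW1 (le_bot_iff.1 ((le_inf hWσ (hWCS.trans (centralizer_anti hBS))).trans hbot.le))
  -- `R` centralises a plane over `P`
  have hnc' : ¬ IsCyclic ↥((S : Subgroup G) ⊓ centralizer (R : Set G)) := by
    intro hc
    refine hfix fun x hx hxp hxR => ?_
    by_cases hx1 : x = 1
    · rw [hx1]; exact one_mem _
    haveI := hc
    have hxP : zpowers x = P := eq_of_le_cyclic (C := (S : Subgroup G) ⊓ centralizer (R : Set G))
      (zpowers_le.2 ⟨hx, hxR⟩) (le_inf hPS' (le_centralizer_iff.1 hRP))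
      (by rw [Nat.card_zpowers, orderOf_eq_prime hxp hx1, hPc])
    exact le_centralizer_iff.1 hWP (hxP ▸ mem_zpowers x)
  obtain ⟨B, hBS, hBe, hBc, -⟩ := exists_elemAbelian_sq_ge hp2
    (S.isPGroup'.to_le inf_le_left) (le_inf hPS' (le_centralizer_iff.1 hRP)) hPc hnc'
  have hBS' : B ≤ (S : Subgroup G) := hBS.trans inf_le_left
  have hBL : B ≤ L := hBS'.trans hSL
  have hRB : R ≤ centralizer (B : Set G) := le_centralizer_iff.1 (hBS.trans inf_le_right)
  obtain ⟨L', hL', hNR⟩ := exists_coatom_ge hG (normalizer_ne_top hG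
    (ne_bot_of_prime_card hr.out hRc) (isCoatom_ne_top hM hRM))
  have hne : L' ≠ L := fun h0 =>
    (rank_two_of_normalizer_le hG h.uniq L hL r hrL R hRc (h0 ▸ hNR)).1.2 hr1
  have hBL' : B ≤ L' := ((le_centralizer_iff.1 hRB).trans (centralizer_le_normalizer _)).trans hNR
  have hRL' : R ≤ L' := le_normalizer.trans hNR
  have hBp : IsPGroup p B := isPGroup_of_pow_eq_one hp.out hBe.2
  have hB2 : p ^ 1 < Nat.card B := by rw [hBc, pow_one]; nlinarith [hp.out.two_le]
  have hBnc : ¬ IsCyclic B := fun hc => not_prankLE_of_elemAbelian hBe le_rfl hB2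
    (prankLE_one_of_cyclic_sylow' ((hBp.to_subgroup ⊤).toSylow (by simp [hp.out.ne_one]))
      (haveI := hc; Subgroup.isCyclic _))
  have hNBL := BGTwelve.normalizer_le_of_not_isCyclic hG h hL hpL hBp hBL hBnc
  by_cases hpL' : p ∈ sigma L'
  swap
  · have hp2' : p ∈ tau2 L' := ⟨hp.out, hpL', not_sigma_rank_two hG h.uniq hL' hp.out hpL',
      not_prankLE_of_elemAbelian hBe hBL' hB2⟩
    have h5 := (tau_two_stmt hG h L' hL' hp2' B ⟨hBL', hBe, hBc⟩).2.2.2.2.1 L hL (Ne.symm hne) hBL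
    have hrL' : r ∉ sigma L' := fun h0 => ne_bot_of_prime_card hr.out hRc (le_bot_iff.1
      ((le_inf (le_sigmaCore_of_pgroup hG hL' h0 (isPGroup_of_prime_card hRc) hRL') hRL).trans
        h5.le))
    obtain ⟨hrk, -, -⟩ := rank_two_of_normalizer_le hG h.uniq L' hL' r hrL' R hRc hNR
    obtain ⟨A, -, hAe, hAc, hAB⟩ := exists_plane_centralizing hG h hL' hp2'
      (r := r) ⟨hr.out, hrL', hrk.1, hrk.2⟩ hrp hBL' hBe hBc
    exact not_prankLE_of_elemAbelian hAe
      ((hAB.trans (centralizer_le_normalizer _)).trans hNBL)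
      (by rw [hAc, pow_one]; nlinarith [hr.out.two_le]) hr1
  have hNBL' := BGTwelve.normalizer_le_of_not_isCyclic hG h hL' hpL' hBp hBL' hBnc
  -- `S` is abelian with `B` its elements of order `p`
  set C := (S : Subgroup G) ⊓ normalizer (B : Set G) with hC
  have hCp : IsPGroup p C := S.isPGroup'.to_le inf_le_left
  have hCab : IsMulCommutative C := by
    by_contra hna
    exact hne ((hT.nonabUniq p C hCp hna).unique ⟨hL', inf_le_right.trans hNBL'⟩
      ⟨hL, inf_le_right.trans hNBL⟩)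
  have hBC : B ≤ C := le_inf hBS' le_normalizer
  have hΩ : ∀ x ∈ C, x ^ p = 1 → x ∈ B := by
    intro x hx hxp
    by_contra hxB
    have hxC : zpowers x ≤ centralizer (B : Set G) := zpowers_le.2
      (centralizer_anti hBC (le_centralizer_self_of_comm hCab hx))
    set B' := B ⊔ zpowers x with hB'
    have hB'C : B' ≤ C := sup_le hBC (zpowers_le.2 hx)
    refine hne (hcube (elemAbelian_sup hBe (elemAbelian_zpowers hxp) hxC) ?_ hL'
      (hB'C.trans (inf_le_left.trans hSL)) (hB'C.trans (inf_le_right.trans hNBL')))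
    rw [← hBc]
    refine lt_of_le_of_ne (Nat.le_of_dvd Nat.card_pos (card_dvd_of_le le_sup_left)) fun h0 => hxB ?_
    rw [eq_of_le_of_card_ge le_sup_left h0.ge]
    exact mem_sup_right (mem_zpowers x)
  have hSB : (S : Subgroup G) ≤ normalizer (B : Set G) := by
    by_contra hnle
    have hlt : C.subgroupOf (S : Subgroup G) < ⊤ := by
      rw [lt_top_iff_ne_top, Ne, subgroupOf_eq_top]
      exact fun h0 => hnle (h0.trans inf_le_right)
    haveI := S.isPGroup'.isNilpotent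
    obtain ⟨x, hxn, hxC⟩ :=
      SetLike.exists_of_lt (Group.normalizerCondition_of_isNilpotent _ hlt)
    refine hxC ⟨x.2, ?_⟩
    refine mem_normalizer_iff_map_conj_eq.2 (eq_of_le_of_card_ge ?_ (card_map_conj B _).ge)
    rintro _ ⟨b, hb, rfl⟩
    refine hΩ _ ?_ ?_
    · exact (mem_normalizer_iff.1 hxn ⟨b, hBS' hb⟩).1 (mem_subgroupOf.2 (hBC hb))
    · rw [← map_pow, hBe.2 b hb, map_one]
  have hWB : W ≤ normalizer (B : Set G) := Coprime.le_normalizer_of_conj_mem fun a ha b hb => by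
    refine hΩ _ ⟨(mem_normalizer_iff.1 (hWS ha) b).1 (hBS' hb), hSB ?_⟩ ?_
    · exact (mem_normalizer_iff.1 (hWS ha) b).1 (hBS' hb)
    · rw [← MulAut.conj_apply, ← map_pow, hBe.2 b hb, map_one]
  have hWL' : W ≤ L' := hWB.trans hNBL'
  have hsL' : s ∉ sigma L' := fun h0 => by
    obtain ⟨g, hg⟩ := hdisj' L' hL' h0
    exact not_prankLE_of_elemAbelian hBe (hg ▸ hBL') hB2 ((prankLE_conj M g).2 hp1r)
  by_cases hrL' : r ∈ sigma L'
  · exact hnWR (le_centralizer_of_derived hG h hL'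
      (fun hb => hsL' (mem_sigma_of_mem_alpha hG h.uniq hL' hb.1))
      (le_derived_of_sigma hG hL' hrL' (isPGroup_of_prime_card hRc) hRL') hsR hWL'
      (isPGroup_of_prime_card hWc) hRW)
  · obtain ⟨hrk, -, -⟩ := rank_two_of_normalizer_le hG h.uniq L' hL' r hrL' R hRc hNR
    exact hnWR (le_centralizer_of_tau2 hG h hL' ⟨hr.out, hrL', hrk.1, hrk.2⟩ hRL' hRc hWL' hrW
      (fun q hq hd => by
        rw [eq_of_dvd_card_pgroup (isPGroup_of_prime_card hWc) hq hd]; exact hsL') hRW)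

end Cfsg.Agent.BGSigma
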