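import Cfsg.Agent.BGSigma.PartnerStmt

/-!
BG 14.8: every element is in some `M̃` or in a conjugate of `Ẑ`.
-/

set_option autoImplicit false

namespace Cfsg.Agent.BGSigma

open Cfsg Subgroup
open scoped commutatorElement Pointwise

universe u

variable {G : Type u} [Group G] [Finite G]

local notation:max "K⋆[" M ", " K "]" => sigmaCore M ⊓ centralizer (SetLike.coe K)

theorem mem_tilde_conj {M : Subgroup G} {A : Set G} {g : G} (c : G) (h : g ∈ tildeOf M A) :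
    c * g * c⁻¹ ∈ tildeOf M A := by
  obtain ⟨a, ha, r, hr, y, rfl⟩ := h
  exact ⟨a, ha, r, hr, c * y, by group⟩

variable (hG : IsMinSimpleOddOrder G)
include hG

/-- A `σ(M)'`-element centralising `x ∈ M_σ` is conjugate in `C(x)` to a commuting product of an
element of `R(x)` and one of `C_M(x)`. -/
theorem exists_normal_form {M : Subgroup G} (hM : IsCoatom M) {x : G} (hx : x ∈ sigmaCore M)
    (hx1 : x ≠ 1) {g : G} (hg : g ∈ centralizer ({x} : Set G))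
    (hgσ : ∀ p : ℕ, p.Prime → p ∣ orderOf g → p ∉ sigma M) :
    ∃ c ∈ centralizer ({x} : Set G), ∃ r ∈ supportR M x, ∃ e ∈ M ⊓ centralizer ({x} : Set G),
      c * g * c⁻¹ = r * e ∧ Commute r e ∧ ∀ p : ℕ, p.Prime → p ∣ orderOf e → p ∉ sigma M := by
  by_cases hC : centralizer ({x} : Set G) ≤ M
  · refine ⟨1, one_mem _, 1, one_mem _, g, ⟨hC hg, hg⟩, by group, Commute.one_left g, hgσ⟩
  obtain ⟨L, E, hL, hE, heq, hLM, hCL, -, hxE, hR⟩ := supportR_of_not_le hG hM hx hx1 hC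
  obtain ⟨r, e, hr, he, hge, hrσ, heσ⟩ := exists_parts (sigma L) g
  have hrC : r ∈ centralizer ({x} : Set G) := zpowers_le.2 hg hr
  have heC : e ∈ centralizer ({x} : Set G) := zpowers_le.2 hg he
  have hre : Commute r e := by
    obtain ⟨i, rfl⟩ := hr
    obtain ⟨j, rfl⟩ := he
    exact Commute.zpow_zpow_self _ i j
  have hrR : r ∈ sigmaCore L := le_of_normal_hall (BGSummary.Loc.hall hG hL)
    (le_normalizer_sigmaCore L) (zpowers_le.2 (hCL hrC))
    (fun q hq hd => hrσ q hq (Nat.card_zpowers r ▸ hd)) (mem_zpowers r)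
  have hc := compl_centralizer hG hE heq hLM hCL hxE
  have hH : IsPiHallOf {q | q ∉ sigma L} (M ⊓ centralizer ({x} : Set G))
      (centralizer ({x} : Set G)) := by
    refine ⟨inf_le_right, fun q hq hd => BGTwelve.not_mem_sigma_of_dvd hG hL hE hq
      (hd.trans (card_dvd_of_le ?_)), fun q hq hqπ hd => hqπ ?_⟩
    · exact heq ▸ le_inf inf_le_left (inf_le_right.trans hCL)
    · rw [relIndex_of_complIn hc] at hd
      exact isPiSub_sigmaCore L q hq (hd.trans (card_dvd_of_le inf_le_left))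
  obtain ⟨c, hcC, hce⟩ := exists_conj_le_hall (Coprime.solvable_of_le hCL (coatom_isSolvable hG hL))
    hH (zpowers_le.2 heC) fun q hq hd => heσ q hq (Nat.card_zpowers e ▸ hd)
  refine ⟨c, hcC, c * r * c⁻¹, ?_, c * e * c⁻¹, hce ⟨e, mem_zpowers e, rfl⟩, by rw [hge]; group,
    hre.map (MulAut.conj c), fun p hp hd => ?_⟩
  · rw [hR]
    exact ⟨(mem_normalizer_iff.1 (le_normalizer_sigmaCore L (hCL hcC)) r).1 hrR,
      Subgroup.mul_mem _ (Subgroup.mul_mem _ hcC hrC) (Subgroup.inv_mem _ hcC)⟩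
  · refine hgσ p hp (dvd_trans ?_ (orderOf_dvd_of_mem_zpowers he))
    exact (MulEquiv.orderOf_eq (MulAut.conj c) e) ▸ hd

/-- Elements of `Ẑ` seen from a conjugate. -/
theorem zhat_conj {M K H K' : Subgroup G} {g : G} (hM : IsCoatom M)
    (hH : H = M.map (MulAut.conj g).toMonoidHom) (hK : IsPiHallOf (kappa M) K M)
    (hK' : IsPiHallOf (kappa H) K' H) :
    ∃ c : G, ∀ z ∈ zhat H K', c * z * c⁻¹ ∈ zhat M K := by
  subst hH
  set K₁ := K'.map (MulAut.conj g⁻¹).toMonoidHom with hK₁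
  have hK₁M : K₁ ≤ M := by
    have h1 := map_mono (f := (MulAut.conj g⁻¹).toMonoidHom) hK'.1
    rwa [map_conj_comp, inv_mul_cancel, map_conj_one] at h1
  have hκ : ∀ q : ℕ, q ∈ kappa (M.map (MulAut.conj g).toMonoidHom) ↔ q ∈ kappa M := by
    have key : ∀ (N : Subgroup G) (_ : IsCoatom N) (a : G) (q : ℕ), q ∈ kappa N →
        q ∈ kappa (N.map (MulAut.conj a).toMonoidHom) := by
      intro N hN a q hq
      obtain ⟨hqp, hqs, hq1, X, hX, hXc, hX'⟩ := (mem_kappa_iff hG hN).1 hq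
      refine (mem_kappa_iff hG (isCoatom_map_conj hN a)).2 ⟨hqp, fun h0 => hqs (sigma_conj_iff.1 h0),
        (prankLE_conj N a).2 hq1, X.map (MulAut.conj a).toMonoidHom, map_mono hX,
        (card_map_conj X a).trans hXc, ?_⟩
      rw [sigmaCore_map_conj hG hN, map_conj_centralizer,
        ← Subgroup.map_inf _ _ _ (MulAut.conj a).injective]
      exact fun h0 => hX' ((map_eq_bot_iff_of_injective _ (MulAut.conj a).injective).1 h0)
    refine fun q => ⟨fun hq => ?_, key M hM g q⟩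
    have h1 := key _ (isCoatom_map_conj hM g) g⁻¹ q hq
    rwa [map_conj_comp, inv_mul_cancel, map_conj_one] at h1
  obtain ⟨m, hm, hmK⟩ := exists_conj_le_hall (coatom_isSolvable hG hM) hK hK₁M fun q hq hd =>
    (hκ q).1 (hK'.2.1 q hq (by rwa [hK₁, card_map_conj] at hd))
  have hmK' : K'.map (MulAut.conj (m * g⁻¹)).toMonoidHom = K := by
    refine eq_of_le_of_card_ge (by rwa [← map_conj_comp]) ?_
    rw [card_map_conj]
    obtain ⟨m', -, hm'⟩ := exists_conj_le_hall (coatom_isSolvable hG (isCoatom_map_conj hM g)) hK'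
      (map_mono hK.1 : K.map (MulAut.conj g).toMonoidHom ≤ M.map (MulAut.conj g).toMonoidHom)
      fun q hq hd => (hκ q).2 (hK.2.1 q hq (by rwa [card_map_conj] at hd))
    have h1 := Nat.le_of_dvd Nat.card_pos (card_dvd_of_le hm')
    rwa [card_map_conj, card_map_conj] at h1
  have hσ : (sigmaCore (M.map (MulAut.conj g).toMonoidHom)).map (MulAut.conj (m * g⁻¹)).toMonoidHom =
      sigmaCore M := by
    rw [← sigmaCore_map_conj hG (isCoatom_map_conj hM g), map_conj_comp, inv_mul_cancel_right,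
      map_conj_eq_self (le_normalizer hm)]
  have hY : (K⋆[M.map (MulAut.conj g).toMonoidHom, K']).map (MulAut.conj (m * g⁻¹)).toMonoidHom =
      K⋆[M, K] := by
    rw [Subgroup.map_inf _ _ _ (MulAut.conj (m * g⁻¹)).injective, hσ, ← map_conj_centralizer, hmK']
  refine ⟨m * g⁻¹, fun z hz => ?_⟩
  rw [hat_mem_iff] at hz ⊢
  have hmem : ∀ {S : Subgroup G}, m * g⁻¹ * z * (m * g⁻¹)⁻¹ ∈ S.map (MulAut.conj (m * g⁻¹)).toMonoidHom ↔
      z ∈ S := fun {S} => by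
    rw [mem_map_conj]; simp [mul_assoc]
  rw [← hY, ← hmK', ← Subgroup.map_sup, hmem, hmem, hmem]
  exact hz

/-- An element whose part in `M_σ` is nontrivial and has commuting partner. -/
theorem cover_step {M : Subgroup G} (hM : IsCoatom M) {x : G} (hx : x ∈ sigmaCore M) (hx1 : x ≠ 1)
    {e : G} (he : e ∈ M ⊓ centralizer ({x} : Set G)) (he1 : e ≠ 1)
    (heσ : ∀ p : ℕ, p.Prime → p ∣ orderOf e → p ∉ sigma M) {r : G} (hr : r ∈ supportR M x)
    (hre : Commute r e) :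
    (∃ N : Subgroup G, IsCoatom N ∧ x * (r * e) ∈ tildeOf N ((sigmaCore N : Set G) \ {1})) ∨
      (r = 1 ∧ ∃ K : Subgroup G, IsPiHallOf (kappa M) K M ∧ K ≠ ⊥ ∧
        ∃ m : G, m * (x * e) * m⁻¹ ∈ zhat M K) := by
  rcases dichotomy_stmt hG M hM x hx hx1 e he he1 heσ with ⟨hk, hC⟩ | ⟨-, ⟨L, hL, hLσ⟩, hCe, hu⟩
  · right
    refine ⟨by rwa [supportR_of_le hG hC, Subgroup.mem_bot] at hr, ?_⟩
    obtain ⟨K, hK⟩ := exists_kappa_hall hG hM
    obtain ⟨m, hm, hmK⟩ := exists_conj_le_hall (coatom_isSolvable hG hM) hK (zpowers_le.2 he.1)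
      fun q hq hd => hk q hq (Nat.card_zpowers e ▸ hd)
    have hkK : m * e * m⁻¹ ∈ K := hmK ⟨e, mem_zpowers e, rfl⟩
    have hk1 : m * e * m⁻¹ ≠ 1 := fun h0 => he1 (conj_eq_one_iff.1 h0)
    have hK1 : K ≠ ⊥ := fun h0 => hk1 (Subgroup.mem_bot.1 (h0 ▸ hkK))
    obtain ⟨E, U, s⟩ := exists_kappaShape_of_hall hG hM hK hK1
    have hwY : m * x * m⁻¹ ∈ K⋆[M, K] := by
      rw [← s.prime _ hkK hk1]
      exact ⟨(mem_normalizer_iff.1 (le_normalizer_sigmaCore M hm) x).1 hx,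
        mem_centralizer_singleton_iff.2
          ((Commute.symm (mem_centralizer_singleton_iff.1 he.2 : Commute e x)).map (MulAut.conj m)).eq⟩
    have hw1 : m * x * m⁻¹ ≠ 1 := fun h0 => hx1 (conj_eq_one_iff.1 h0)
    have hinf := s.inf_star hG hM
    refine ⟨K, hK, hK1, m, hat_mem_iff.2 ⟨?_, fun h0 => hw1 ?_, fun h0 => hk1 ?_⟩⟩
    · rw [show m * (x * e) * m⁻¹ = m * x * m⁻¹ * (m * e * m⁻¹) by group]
      exact mul_mem (mem_sup_right hwY) (mem_sup_left hkK)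
    · refine Subgroup.mem_bot.1 (hinf ▸ ⟨?_, hwY⟩)
      rw [show m * x * m⁻¹ = m * (x * e) * m⁻¹ * (m * e * m⁻¹)⁻¹ by group]
      exact K.mul_mem h0 (K.inv_mem hkK)
    · refine Subgroup.mem_bot.1 (hinf ▸ ⟨hkK, ?_⟩)
      rw [show m * e * m⁻¹ = (m * x * m⁻¹)⁻¹ * (m * (x * e) * m⁻¹) by group]
      exact (K⋆[M, K]).mul_mem ((K⋆[M, K]).inv_mem hwY) h0
  · left
    have hre1 : r = 1 := Subgroup.mem_bot.1 (supportR_inf hG hM hx hx1 ▸ ⟨hr,
      hCe (mem_centralizer_singleton_iff.2 hre.eq)⟩)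
    obtain ⟨c, hc⟩ := BGTwelve.sigma_conj_stmt hG (localInputs hG) hL
      (fun h0 => he1 (zpowers_eq_bot.1 h0) : zpowers e ≠ ⊥)
      (fun q hq hd => hLσ q hq (Nat.card_zpowers e ▸ hd))
    set N := L.map (MulAut.conj c⁻¹).toMonoidHom with hN
    have hNc : IsCoatom N := isCoatom_map_conj hL c⁻¹
    have heN : e ∈ sigmaCore N := by
      rw [hN, sigmaCore_map_conj hG hL, mem_map_conj, inv_inv]
      exact hc ⟨e, mem_zpowers e, rfl⟩
    obtain ⟨q, hq, hqd⟩ := Nat.exists_prime_and_dvd (fun h0 => he1 (orderOf_eq_one_iff.1 h0))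
    have hNM : N ≠ M := fun h0 => heσ q hq hqd
      (h0 ▸ isPiSub_sigmaCore N q hq (hqd.trans (Subgroup.orderOf_dvd_natCard _ heN)))
    have hnle : ¬ centralizer ({e} : Set G) ≤ N := fun h0 => hNM (hu N hNc h0)
    obtain ⟨L', E', hL', -, -, -, hCL', -, -, hR⟩ := supportR_of_not_le hG hNc heN he1 hnle
    rw [hu L' hL' hCL'] at hR
    have hxe : Commute e x := mem_centralizer_singleton_iff.1 he.2
    refine ⟨N, hNc, e, ⟨heN, he1⟩, x, ?_, 1, ?_⟩
    · rw [hR]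
      exact ⟨hx, mem_centralizer_singleton_iff.2 hxe.symm.eq⟩
    · rw [hre1, one_mul, one_mul, inv_one, mul_one, hxe.eq]

/-- BG 14.8: covering. -/
theorem cover_aux {g : G} (hg : g ≠ 1) :
    (∃ N : Subgroup G, IsCoatom N ∧ g ∈ tildeOf N ((sigmaCore N : Set G) \ {1})) ∨
      ∃ M K : Subgroup G, IsCoatom M ∧ IsPiHallOf (kappa M) K M ∧ K ≠ ⊥ ∧
        ∃ y : G, y * g * y⁻¹ ∈ zhat M K := by
  obtain ⟨p, hp, hpd⟩ := Nat.exists_prime_and_dvd (fun h0 => hg (orderOf_eq_one_iff.1 h0))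
  obtain ⟨M, hM, hpM⟩ := exists_coatom_sigma hG hp (hpd.trans (orderOf_dvd_natCard g))
  obtain ⟨a, b, ha, hb, hab, haσ, hbσ⟩ := exists_parts (sigma M) g
  have hcab : Commute a b := by
    obtain ⟨i, rfl⟩ := ha
    obtain ⟨j, rfl⟩ := hb
    exact Commute.zpow_zpow_self _ i j
  have ha1 : a ≠ 1 := by
    rintro rfl
    rw [one_mul] at hab
    exact hbσ p hp (hab ▸ hpd) hpM
  obtain ⟨c, hc⟩ := BGTwelve.sigma_conj_stmt hG (localInputs hG) hM
    (fun h0 => ha1 (zpowers_eq_bot.1 h0) : zpowers a ≠ ⊥)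
    (fun q hq hd => haσ q hq (Nat.card_zpowers a ▸ hd))
  set x := c * a * c⁻¹ with hx0
  have hx : x ∈ sigmaCore M := hc ⟨a, mem_zpowers a, rfl⟩
  have hx1 : x ≠ 1 := fun h0 => ha1 (conj_eq_one_iff.1 h0)
  obtain ⟨d, hd, r, hr, e, he, hde, hre, heσ⟩ := exists_normal_form hG hM hx hx1 (g := c * b * c⁻¹)
    (mem_centralizer_singleton_iff.2 (hcab.symm.map (MulAut.conj c)).eq)
    (fun q hq h1 => hbσ q hq ((MulEquiv.orderOf_eq (MulAut.conj c) b) ▸ h1))
  have hdx : d * x * d⁻¹ = x := mul_inv_eq_iff_eq_mul.2 (mem_centralizer_singleton_iff.1 hd)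
  have hg' : d * c * g * (d * c)⁻¹ = x * (r * e) := by
    rw [← hde, hab]
    calc d * c * (a * b) * (d * c)⁻¹ = (d * x * d⁻¹) * (d * (c * b * c⁻¹) * d⁻¹) := by rw [hx0]; group
      _ = x * (d * (c * b * c⁻¹) * d⁻¹) := by rw [hdx]
  by_cases he1 : e = 1
  · refine Or.inl ⟨M, hM, x, ⟨hx, hx1⟩, r, hr, (d * c)⁻¹, ?_⟩
    rw [he1, mul_one] at hg'
    rw [← hg']
    group
  · rcases cover_step hG hM hx hx1 he he1 heσ hr hre with ⟨N, hN, hmem⟩ | ⟨hr1, K, hK, hK1, m, hm⟩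
    · refine Or.inl ⟨N, hN, ?_⟩
      have h1 := mem_tilde_conj (d * c)⁻¹ hmem
      rwa [← hg', show (d * c)⁻¹ * (d * c * g * (d * c)⁻¹) * (d * c)⁻¹⁻¹ = g by group] at h1
    · refine Or.inr ⟨M, K, hM, hK, hK1, m * (d * c), ?_⟩
      rw [hr1, one_mul] at hg'
      rw [show m * (d * c) * g * (m * (d * c))⁻¹ = m * (d * c * g * (d * c)⁻¹) * m⁻¹ by group, hg']
      exact hm

/-- No element of `Ẑ` lies in any `Ñ`. -/
theorem Partners.not_mem_tilde {M K L : Subgroup G} (p : Partners M K L) {N : Subgroup G}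
    (hN : IsCoatom N) {z : G} (hz : z ∈ zhat M K) :
    z ∉ tildeOf N ((sigmaCore N : Set G) \ {1}) := by
  rintro ⟨a, ⟨ha, ha1⟩, r, hr, y, he⟩
  obtain ⟨hc, hr'⟩ := supportR_mem hG hN ha ha1 hr
  have haσ : ∀ q : ℕ, q.Prime → q ∣ orderOf a → q ∈ sigma N := fun q hq hd =>
    isPiSub_sigmaCore N q hq (hd.trans (Subgroup.orderOf_dvd_natCard _ ha))
  have ho : orderOf z = orderOf a * orderOf r := by
    rw [← hc.orderOf_mul_eq_mul_orderOf_of_coprime (Nat.coprime_of_dvd fun q hq h1 h2 =>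
      hr' q hq h2 (haσ q hq h1)), he]
    exact MulEquiv.orderOf_eq (MulAut.conj y) (a * r)
  obtain ⟨k, hk, w, hw, -, hk1, hw1, hwz, hkz⟩ := p.exists_mul hG hz
  obtain ⟨u, hu, hud⟩ := Nat.exists_prime_and_dvd (fun h0 => hk1 (orderOf_eq_one_iff.1 h0))
  obtain ⟨v, hv, hvd⟩ := Nat.exists_prime_and_dvd (fun h0 => hw1 (orderOf_eq_one_iff.1 h0))
  have huL : u ∈ sigma L := p.sigmaL u hu (hud.trans (Subgroup.orderOf_dvd_natCard K hk))
  have hvM : v ∈ sigma M := mem_sigma_of_star hw hv hvd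
  have hsides : ∀ q : ℕ, q.Prime → q ∣ orderOf z → q ∈ sigma M ∨ q ∈ sigma L := fun q hq hd => by
    obtain ⟨E, U, s⟩ := exists_kappaShape_of_hall hG p.hM p.hallK p.ne_bot
    have h1 := hd.trans (Subgroup.orderOf_dvd_natCard _ (hat_mem_iff.1 hz).1)
    rw [s.card_sup_star hG p.hM] at h1
    rcases hq.dvd_mul.1 h1 with h1 | h1
    · exact Or.inr (p.sigmaL q hq h1)
    · exact Or.inl (isPiSub_sigmaCore M q hq (h1.trans (card_dvd_of_le inf_le_left)))
  have hdis : ∀ {q : ℕ}, q ∈ sigma M → q ∉ sigma L := fun hq => p.sigma_disjoint hG hq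
  by_cases hr1 : r = 1
  · rw [hr1, orderOf_one, mul_one] at ho
    exact hdis (sigma_mem_of_common hG hN p.hM (haσ v hv (ho ▸ hvd.trans (orderOf_dvd_of_mem_zpowers hwz)))
      hvM (haσ u hu (ho ▸ hud.trans (orderOf_dvd_of_mem_zpowers hkz)))) huL
  have hC : ¬ centralizer ({a} : Set G) ≤ N := fun h0 =>
    hr1 (by rwa [supportR_of_le hG h0, Subgroup.mem_bot] at hr)
  obtain ⟨L', E', hL', -, -, -, hCL', hu', -, hR⟩ := supportR_of_not_le hG hN ha ha1 hC
  obtain ⟨L'', E'', hL'', -, -, -, hCL'', -, -, -, h2, -⟩ := exists_support hG hN ha ha1 hC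
  obtain rfl := hu' L'' hL'' hCL''
  rw [hR] at hr
  obtain ⟨q, hq, hqd⟩ := Nat.exists_prime_and_dvd (fun h0 => ha1 (orderOf_eq_one_iff.1 h0))
  obtain ⟨t, ht, htd⟩ := Nat.exists_prime_and_dvd (fun h0 => hr1 (orderOf_eq_one_iff.1 h0))
  have htL : t ∈ sigma L'' :=
    isPiSub_sigmaCore L'' t ht (htd.trans (Subgroup.orderOf_dvd_natCard _ hr.1))
  obtain ⟨-, hqs, -, hq1⟩ := h2 q hq hqd
  have key : ∀ {A B K₀ : Subgroup G}, Partners A K₀ B → t ∈ sigma B → q ∈ sigma A → False := by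
    intro A B K₀ p' htB hqA
    obtain ⟨c, rfl⟩ := conj_of_sigma hG (localInputs hG) (twelveInputs hG) p'.hL hL'' htB htL
    refine hq1 ((prankLE_conj B c).2 ((mem_kappa_iff hG p'.hL).1 (p'.kappa_of_sigma hG hq ?_ hqA)).2.2.1)
    rw [← card_map_conj B c]
    exact hqd.trans (Subgroup.orderOf_dvd_natCard _ (hCL'' (mem_centralizer_singleton_iff.2 rfl)))
  have hqz : q ∣ orderOf z := ho ▸ hqd.trans (dvd_mul_right _ _)
  have htz : t ∣ orderOf z := ho ▸ htd.trans (dvd_mul_left _ _)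
  rcases hsides q hq hqz with hqA | hqA <;> rcases hsides t ht htz with htB | htB
  · exact hqs (sigma_mem_of_common hG p.hM hL'' htB htL hqA)
  · exact key p htB hqA
  · exact key (p.symm hG) htB hqA
  · exact hqs (sigma_mem_of_common hG p.hL hL'' htB htL hqA)

/-- `S1379`. -/
theorem partition_stmt :
    (∀ M N : Subgroup G, IsCoatom M → IsCoatom N →
        (∀ g : G, N ≠ M.map (MulAut.conj g).toMonoidHom) →
        tildeOf M ((sigmaCore M : Set G) \ {1}) ∩ tildeOf N ((sigmaCore N : Set G) \ {1}) = ∅) ∧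
      ((∀ M : Subgroup G, IsCoatom M → kappa M = ∅) →
        ∀ g : G, g ≠ 1 → ∃ M : Subgroup G, IsCoatom M ∧ g ∈ tildeOf M ((sigmaCore M : Set G) \ {1})) ∧
      ∀ (M K U : Subgroup G), IsCoatom M → IsSigmaDecomposition M K U → K ≠ ⊥ →
        (∀ g : G, g ≠ 1 →
          (∃ N : Subgroup G, IsCoatom N ∧ g ∈ tildeOf N ((sigmaCore N : Set G) \ {1})) ∨
            ∃ y : G, ∃ z ∈ zhat M K, g = y * z * y⁻¹) ∧
        ∀ N : Subgroup G, IsCoatom N → ∀ y : G, ∀ z ∈ zhat M K,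
          y * z * y⁻¹ ∉ tildeOf N ((sigmaCore N : Set G) \ {1}) := by
  refine ⟨fun M N hM hN hne => tilde_disjoint hG hM hN hne, fun hall g hg => ?_,
    fun M K U hM hKU hK1 => ?_⟩
  · rcases cover_aux hG hg with h | ⟨M, K, hM, hK, hK1, -⟩
    · exact h
    · exact absurd ((kappa_hall_bot_iff hG hK).2 (hall M hM)) hK1
  obtain ⟨L, p⟩ := exists_partners hG hM hKU.hall hK1
  refine ⟨fun g hg => ?_, fun N hN y z hz h0 => p.not_mem_tilde hG hN hz ?_⟩
  · rcases cover_aux hG hg with h | ⟨H, K', hH, hK', hK'1, y, hy⟩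
    · exact Or.inl h
    right
    have hκ : (kappa H).Nonempty :=
      Set.nonempty_iff_ne_empty.2 fun h0 => hK'1 ((kappa_hall_bot_iff hG hK').2 h0)
    have hsame : zhat L (K⋆[M, K]) = zhat M K := by
      ext w
      rw [hat_mem_iff, hat_mem_iff, ← p.eq, sup_comm (a := K⋆[M, K])]
      tauto
    obtain ⟨c, hc | hc⟩ := p.two_classes hG hH hκ
    · obtain ⟨d, hd⟩ := zhat_conj hG hM hc hKU.hall hK'
      exact ⟨(d * y)⁻¹, _, hd _ hy, by group⟩
    · obtain ⟨d, hd⟩ := zhat_conj hG p.hL hc p.hallY hK'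
      exact ⟨(d * y)⁻¹, _, hsame ▸ hd _ hy, by group⟩
  · have h1 := mem_tilde_conj y⁻¹ h0
    rwa [show y⁻¹ * (y * z * y⁻¹) * y⁻¹⁻¹ = z by group] at h1

end Cfsg.Agent.BGSigma
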